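import Cfsg.Agent.Lib.TurullFit.Defs

/-!
# The commutator form of a piece of extraspecial type

`X` modulo scalars is a space over `ZMod s` with a nondegenerate alternating form, preserved by the
elements which keep the scalars.
-/

set_option autoImplicit false
set_option linter.style.haveILetI false

open Module
open scoped commutatorElement

namespace CfsgLib.TurullFit.SmallCommForm

universe u

variable {F : Type} [Field F] {Γ V : Type u} [Group Γ] [AddCommGroup V] [Module F V]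
  {ρ : Representation F Γ V} {X : Subgroup Γ} {a : Γ} {S : Submodule F V} {s r : ℕ}

theorem inv_apply (g : Γ) (v : V) : ρ g⁻¹ (ρ g v) = v := by
  rw [← End.mul_apply, ← map_mul, inv_mul_cancel, map_one, End.one_apply]

variable (ρ X S) in
/-- The elements keeping the scalars of `X` on `S`. -/
def keep [Finite Γ] : Subgroup Γ where
  carrier := {g | g ∈ Subgroup.normalizer (X : Set Γ) ∧
    ∀ x ∈ X, IsScalarOn ρ S x → ∀ v ∈ S, ρ (g * x * g⁻¹) v = ρ x v}
  one_mem' := ⟨one_mem _, fun x _ _ v _ => by rw [inv_one, one_mul, mul_one]⟩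
  mul_mem' := fun {g h} hg hh => ⟨mul_mem hg.1 hh.1, fun x hx ⟨c, hc⟩ v hv => by
    have hx' := (Subgroup.mem_normalizer_iff.mp hh.1 x).mp hx
    rw [show g * h * x * (g * h)⁻¹ = g * (h * x * h⁻¹) * g⁻¹ by group,
      hg.2 _ hx' ⟨c, fun w hw => (hh.2 x hx ⟨c, hc⟩ w hw).trans (hc w hw)⟩ v hv, hh.2 x hx ⟨c, hc⟩ v hv]⟩
  inv_mem' := fun {g} hg => by
    obtain ⟨k, hk : g ^ k = g⁻¹⟩ :=
      mem_powers_iff_mem_zpowers.mpr (Subgroup.inv_mem _ (Subgroup.mem_zpowers g))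
    rw [← hk]
    clear hk
    induction k with
    | zero =>
      rw [pow_zero]
      exact ⟨one_mem _, fun x _ _ v _ => by rw [inv_one, one_mul, mul_one]⟩
    | succ k ih =>
      refine ⟨(Subgroup.normalizer (X : Set Γ)).pow_mem hg.1 _, fun x hx ⟨c, hc⟩ v hv => ?_⟩
      have hx' := (Subgroup.mem_normalizer_iff.mp hg.1 x).mp hx
      rw [pow_succ, show g ^ k * g * x * (g ^ k * g)⁻¹ = g ^ k * (g * x * g⁻¹) * (g ^ k)⁻¹ by group,
        ih.2 _ hx' ⟨c, fun w hw => (hg.2 x hx ⟨c, hc⟩ w hw).trans (hc w hw)⟩ v hv,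
        hg.2 x hx ⟨c, hc⟩ v hv]

theorem mem_keep [Finite Γ] {g : Γ} : g ∈ keep ρ X S ↔ g ∈ Subgroup.normalizer (X : Set Γ) ∧
    ∀ x ∈ X, IsScalarOn ρ S x → ∀ v ∈ S, ρ (g * x * g⁻¹) v = ρ x v := Iff.rfl

/-- Commutators act as scalars. -/
theorem scalar_comm (h : Heis ρ s r X a S) {x y : Γ} (hx : x ∈ X) (hy : y ∈ X) :
    IsScalarOn ρ S ⁅x, y⁆ := by
  have hmem : ⁅x, y⁆ ∈ X := by
    rw [commutatorElement_def]
    exact X.mul_mem (X.mul_mem (X.mul_mem hx hy) (X.inv_mem hx)) (X.inv_mem hy)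
  refine h.scalar _ hmem fun z hz v _ => ?_
  rw [show ⁅x, y⁆ * z = ⁅⁅x, y⁆, z⁆ * (z * ⁅x, y⁆) by simp only [commutatorElement_def]; group,
    map_mul, h.layer.classTwo x hx y hy z hz, one_mul]

/-- A scalar commutes on `S` with `X`. -/
theorem commOn_of_scalar (h : Heis ρ s r X a S) {x y : Γ} (hx : IsScalarOn ρ S x) (hy : y ∈ X) :
    CommOn ρ S x y := by
  obtain ⟨c, hc⟩ := hx
  intro v hv
  rw [map_mul, map_mul, End.mul_apply, End.mul_apply, hc v hv, hc _ (h.inv.1 y hy v hv), map_smul]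

/-- `⁅x, y⁆` fixes `S` iff `x` and `y` commute there. -/
theorem fixes_comm_iff (h : Heis ρ s r X a S) {x y : Γ} (hx : x ∈ X) (hy : y ∈ X) :
    (∀ v ∈ S, ρ ⁅x, y⁆ v = v) ↔ CommOn ρ S x y := by
  constructor
  · intro h1 v hv
    rw [show x * y = ⁅x, y⁆ * (y * x) by simp only [commutatorElement_def]; group, map_mul,
      End.mul_apply]
    refine h1 _ ?_
    rw [map_mul, End.mul_apply]
    exact h.inv.1 y hy _ (h.inv.1 x hx v hv)
  · intro h1 v hv
    have hw : ρ (y * x)⁻¹ v ∈ S := h.inv.1 _ (X.inv_mem (X.mul_mem hy hx)) v hv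
    rw [show ⁅x, y⁆ = x * y * (y * x)⁻¹ by simp only [commutatorElement_def]; group, map_mul,
      End.mul_apply, h1 _ hw, ← End.mul_apply, ← map_mul, mul_inv_cancel, map_one, End.one_apply]

variable (ρ X S) in
/-- The scalars of `X` on `S`. -/
def rad : Subgroup ↥X where
  carrier := {x | IsScalarOn ρ S (x : Γ)}
  one_mem' := ⟨1, fun v _ => by simp⟩
  mul_mem' := fun {x y} ⟨c, hc⟩ ⟨e, he⟩ => ⟨e * c, fun v hv => by
    rw [Subgroup.coe_mul, map_mul, End.mul_apply, he v hv, map_smul, hc v hv, smul_smul]⟩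
  inv_mem' := fun {x} ⟨c, hc⟩ => ⟨c⁻¹, fun v hv => by
    rw [Subgroup.coe_inv]
    rcases eq_or_ne c 0 with rfl | hc0
    · have h0 := hc v hv
      rw [zero_smul] at h0
      rw [← inv_apply (ρ := ρ) (x : Γ) v, h0, map_zero, map_zero, smul_zero]
    · conv_rhs => rw [← inv_apply (ρ := ρ) (x : Γ) v, hc v hv, map_smul, smul_smul,
        inv_mul_cancel₀ hc0, one_smul]⟩

theorem rad_normal (h : Heis ρ s r X a S) : (rad ρ X S).Normal :=
  ⟨fun x ⟨c, hc⟩ y => ⟨c, fun v hv => by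
    rw [Subgroup.coe_mul, Subgroup.coe_mul, Subgroup.coe_inv, map_mul, map_mul, End.mul_apply,
      End.mul_apply, hc _ (h.inv.1 _ (X.inv_mem y.2) v hv), map_smul, ← End.mul_apply, ← map_mul,
      mul_inv_cancel, map_one, End.one_apply]⟩⟩

/-- A biadditive function is bilinear over `ZMod s`. -/
theorem exists_bilin {s : ℕ} {M : Type*} [AddCommGroup M] [Module (ZMod s) M]
    (f : M → M → ZMod s) (hl : ∀ p q m, f (p + q) m = f p m + f q m)
    (hr : ∀ m p q, f m (p + q) = f m p + f m q) :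
    ∃ B : M →ₗ[ZMod s] M →ₗ[ZMod s] ZMod s, ∀ m m', B m m' = f m m' :=
  ⟨LinearMap.mk₂ (ZMod s) f hl
    (fun c p m => ZMod.map_smul (AddMonoidHom.mk' (fun p => f p m) (hl · · m)) c p) hr
    (fun c m p => ZMod.map_smul (AddMonoidHom.mk' (f m) (hr m)) c p), fun _ _ => rfl⟩

/-- An abelian quotient of exponent `s` as a space over `ZMod s`. -/
theorem exists_quot {H : Type u} [Group H] [Finite H] (N : Subgroup H) [N.Normal] (s : ℕ)
    (hc : ∀ x y : H, (x * y)⁻¹ * (y * x) ∈ N) (hp : ∀ x : H, x ^ s ∈ N) :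
    ∃ (M : Type u) (_ : AddCommGroup M) (_ : Module (ZMod s) M) (_ : Finite M) (π : H → M),
      Function.Surjective π ∧ (∀ x y, π (x * y) = π x + π y) ∧ (∀ x, π x = 0 ↔ x ∈ N) ∧
      Nat.card M = N.index := by
  letI : CommGroup (H ⧸ N) := { (inferInstance : Group (H ⧸ N)) with
    mul_comm := fun p q => by
      obtain ⟨x, rfl⟩ := QuotientGroup.mk_surjective p
      obtain ⟨y, rfl⟩ := QuotientGroup.mk_surjective q
      rw [← QuotientGroup.mk_mul, ← QuotientGroup.mk_mul, QuotientGroup.eq]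
      exact hc x y }
  letI : Module (ZMod s) (Additive (H ⧸ N)) := AddCommGroup.zmodModule fun m => by
    obtain ⟨x, hx⟩ := QuotientGroup.mk_surjective (Additive.toMul m)
    apply Additive.toMul.injective
    rw [toMul_nsmul, toMul_zero, ← hx, ← QuotientGroup.mk_pow, QuotientGroup.eq_one_iff]
    exact hp x
  exact ⟨Additive (H ⧸ N), inferInstance, inferInstance, inferInstance,
    fun x => Additive.ofMul (x : H ⧸ N), fun m => QuotientGroup.mk_surjective (Additive.toMul m),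
    fun x y => rfl, fun x => QuotientGroup.eq_one_iff x, Nat.card_congr Additive.toMul⟩

/-- The package. -/
theorem exists_form [Finite Γ] [IsAlgClosed F] (h : Heis ρ s r X a S)
    (hs : ∀ x ∈ X, IsScalarOn ρ S (x ^ s)) :
    ∃ (M : Type u) (_ : AddCommGroup M) (_ : Module (ZMod s) M) (_ : Finite M) (π : ↥X → M)
      (B : M →ₗ[ZMod s] M →ₗ[ZMod s] ZMod s),
      Function.Surjective π ∧ (∀ x y, π (x * y) = π x + π y) ∧
      (∀ x, π x = 0 ↔ IsScalarOn ρ S (x : Γ)) ∧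
      (∀ x y : ↥X, B (π x) (π y) = 0 ↔ ∀ v ∈ S, ρ ⁅(x : Γ), (y : Γ)⁆ v = v) ∧
      (∀ m, B m m = 0) ∧ (∀ m, (∀ m', B m m' = 0) → m = 0) ∧
      (∀ Zs : Subgroup Γ, (∀ x, x ∈ Zs ↔ x ∈ X ∧ IsScalarOn ρ S x) →
        Nat.card M = Zs.relIndex X) ∧
      ∃ θ : ↥(keep ρ X S) →* Module.End (ZMod s) M,
        (∀ (g : ↥(keep ρ X S)) (x : ↥X), θ g (π x) = π ⟨(g : Γ) * x * (g : Γ)⁻¹,
          (Subgroup.mem_normalizer_iff.mp g.2.1 x).mp x.2⟩) ∧
        ∀ g m m', B (θ g m) (θ g m') = B m m' := by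
  classical
  haveI := Fact.mk h.layer.prime_s
  haveI : NeZero (s : F) := ⟨h.layer.s_ne_zero⟩
  haveI := rad_normal h
  obtain ⟨v₀, hv₀, hv₀0⟩ := Submodule.exists_mem_ne_zero_of_ne_bot h.ne_bot
  have huniq : ∀ c e : F, c • v₀ = e • v₀ → c = e := fun c e he => smul_left_injective F hv₀0 he
  -- the scalars of commutators
  choose c hc using fun x y : ↥X => scalar_comm h x.2 y.2
  have hcv : ∀ x y : ↥X, ρ ⁅(x : Γ), (y : Γ)⁆ v₀ = c x y • v₀ := fun x y => hc x y v₀ hv₀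
  have cmulL : ∀ x x' y, c (x * x') y = c x y * c x' y := fun x x' y => by
    refine huniq _ _ ((hcv _ _).symm.trans ?_)
    rw [show ⁅((x * x' : ↥X) : Γ), (y : Γ)⁆ =
      (x : Γ) * ⁅(x' : Γ), (y : Γ)⁆ * (x : Γ)⁻¹ * ⁅(x : Γ), (y : Γ)⁆ by
        rw [Subgroup.coe_mul]; simp only [commutatorElement_def]; group]
    rw [map_mul, map_mul, map_mul, End.mul_apply, End.mul_apply, End.mul_apply, hcv x y, map_smul,
      map_smul, map_smul, hc x' y _ (h.inv.1 _ (X.inv_mem x.2) _ hv₀), map_smul, ← End.mul_apply,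
      ← map_mul, mul_inv_cancel, map_one, End.one_apply, smul_smul]
  have canti : ∀ x y, c y x * c x y = 1 := fun x y => by
    refine huniq _ _ ?_
    rw [← smul_smul, ← hcv x y, ← hc y x _ (h.inv.1 _ (by
      rw [commutatorElement_def]
      exact X.mul_mem (X.mul_mem (X.mul_mem x.2 y.2) (X.inv_mem x.2)) (X.inv_mem y.2)) _ hv₀),
      ← End.mul_apply, ← map_mul, show ⁅(y : Γ), (x : Γ)⁆ * ⁅(x : Γ), (y : Γ)⁆ = 1 by
        simp only [commutatorElement_def]; group, map_one, End.one_apply, one_smul]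
  have crad : ∀ x : ↥X, IsScalarOn ρ S (x : Γ) → ∀ y, c x y = 1 := fun x hx y => by
    refine huniq _ _ ?_
    rw [one_smul, ← hcv, (fixes_comm_iff h x.2 y.2).mpr (commOn_of_scalar h hx y.2) v₀ hv₀]
  have cmulR : ∀ x y y', c x (y * y') = c x y * c x y' := fun x y y' => by
    have e : c x (y * y') * c (y * y') x = c x y * c x y' * (c y x * c y' x) := by
      rw [canti, mul_mul_mul_comm, canti, canti, one_mul]
    rw [cmulL] at e
    refine mul_right_cancel₀ (fun h0 => ?_) e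
    have := canti x (y * y')
    rw [cmulL, h0, zero_mul] at this
    exact zero_ne_one this
  have cpow : ∀ x y, c x y ^ s = 1 := fun x y => by
    have : ∀ n : ℕ, c (x ^ n) y = c x y ^ n := fun n => by
      induction n with
      | zero => rw [pow_zero, pow_zero]; exact crad 1 ⟨1, fun v _ => by simp⟩ y
      | succ n ih => rw [pow_succ, cmulL, ih, pow_succ]
    rw [← this]
    exact crad (x ^ s) (by rw [Subgroup.coe_pow]; exact hs x x.2) y
  -- the discrete logarithm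
  obtain ⟨μ, hμ⟩ := HasEnoughRootsOfUnity.exists_primitiveRoot F s
  choose e hes he using fun x y => hμ.eq_pow_of_pow_eq_one (cpow x y)
  have hμadd : ∀ i j : ZMod s, μ ^ (i + j).val = μ ^ i.val * μ ^ j.val := fun i j => by
    rw [ZMod.val_add, ← pow_add, ← pow_eq_pow_mod _ hμ.pow_eq_one]
  have hμinj : ∀ i j : ZMod s, μ ^ i.val = μ ^ j.val → i = j := fun i j hij =>
    ZMod.val_injective s (hμ.pow_inj (ZMod.val_lt i) (ZMod.val_lt j) hij)
  let b : ↥X → ↥X → ZMod s := fun x y => (e x y : ZMod s)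
  have hb : ∀ x y, μ ^ (b x y).val = c x y := fun x y => by
    rw [ZMod.val_natCast, Nat.mod_eq_of_lt (hes x y), he]
  have baddL : ∀ x x' y, b (x * x') y = b x y + b x' y := fun x x' y => hμinj _ _ (by
    rw [hμadd, hb, hb, hb, cmulL])
  have baddR : ∀ x y y', b x (y * y') = b x y + b x y' := fun x y y' => hμinj _ _ (by
    rw [hμadd, hb, hb, hb, cmulR])
  have bzero : ∀ x y, b x y = 0 ↔ c x y = 1 := fun x y => by
    constructor
    · intro h0; rw [← hb, h0, ZMod.val_zero, pow_zero]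
    · intro h1; exact hμinj _ _ (by rw [hb, h1, ZMod.val_zero, pow_zero])
  -- the space
  obtain ⟨M, iA, iM, iF, π, hπs, hπ, hπN, hMcard⟩ := exists_quot (rad ρ X S) s
    (fun x y => by
      show IsScalarOn ρ S (((x * y)⁻¹ * (y * x) : ↥X) : Γ)
      rw [show (((x * y)⁻¹ * (y * x) : ↥X) : Γ) = ⁅(y : Γ)⁻¹, (x : Γ)⁻¹⁆ by
        simp only [Subgroup.coe_mul, Subgroup.coe_inv, commutatorElement_def]; group]
      exact scalar_comm h (X.inv_mem y.2) (X.inv_mem x.2))
    (fun x => by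
      show IsScalarOn ρ S ((x ^ s : ↥X) : Γ)
      rw [Subgroup.coe_pow]
      exact hs x x.2)
  have hπ0 : ∀ x, π x = 0 ↔ IsScalarOn ρ S (x : Γ) := hπN
  have hπe : ∀ x y : ↥X, π x = π y → ∃ z : ↥X, IsScalarOn ρ S (z : Γ) ∧ y = x * z :=
    fun x y hxy => ⟨x⁻¹ * y, (hπ0 _).mp (add_left_cancel (a := π x) (by
      rw [← hπ, mul_inv_cancel_left, add_zero, hxy])), (mul_inv_cancel_left x y).symm⟩
  have bz0 : ∀ x : ↥X, IsScalarOn ρ S (x : Γ) → ∀ y, b x y = 0 ∧ b y x = 0 := fun x hx y => by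
    have h1 := crad x hx y
    refine ⟨(bzero _ _).mpr h1, (bzero _ _).mpr ?_⟩
    have := canti x y
    rwa [h1, mul_one] at this
  let o := Function.surjInv hπs
  have bw : ∀ x y, b (o (π x)) (o (π y)) = b x y := fun x y => by
    obtain ⟨z, hz, hx⟩ := hπe x _ (Function.surjInv_eq hπs (π x)).symm
    obtain ⟨w, hw, hy⟩ := hπe y _ (Function.surjInv_eq hπs (π y)).symm
    show b (Function.surjInv hπs (π x)) (Function.surjInv hπs (π y)) = _
    rw [hx, hy, baddL, baddR, baddR, (bz0 z hz _).1, (bz0 z hz _).1, (bz0 w hw x).2, add_zero,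
      add_zero, add_zero]
  obtain ⟨B, hBb⟩ := exists_bilin (s := s) (fun m m' => b (o m) (o m'))
    (fun p q m' => by
      obtain ⟨x, rfl⟩ := hπs p
      obtain ⟨y, rfl⟩ := hπs q
      obtain ⟨z, rfl⟩ := hπs m'
      rw [← hπ, bw, bw, bw, baddL])
    (fun m p q => by
      obtain ⟨x, rfl⟩ := hπs p
      obtain ⟨y, rfl⟩ := hπs q
      obtain ⟨z, rfl⟩ := hπs m
      rw [← hπ, bw, bw, bw, baddR])
  have hB : ∀ x y, B (π x) (π y) = b x y := fun x y => (hBb _ _).trans (bw x y)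
  have hBfix : ∀ x y : ↥X, B (π x) (π y) = 0 ↔ ∀ v ∈ S, ρ ⁅(x : Γ), (y : Γ)⁆ v = v := fun x y => by
    rw [hB, bzero]
    constructor
    · intro h1 v hv; rw [hc x y v hv, h1, one_smul]
    · intro h1; exact huniq _ _ (by rw [← hcv, h1 v₀ hv₀, one_smul])
  refine ⟨M, iA, iM, iF, π, B, hπs, hπ, hπ0, hBfix, fun m => ?_,
    fun m hm => ?_, fun Zs hZs => ?_, ?_⟩
  · obtain ⟨x, rfl⟩ := hπs m
    rw [hBfix, commutatorElement_self, map_one]
    exact fun v _ => rfl
  · obtain ⟨x, rfl⟩ := hπs m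
    rw [hπ0]
    exact h.scalar _ x.2 fun y hy => (fixes_comm_iff h x.2 hy).mp ((hBfix x ⟨y, hy⟩).mp (hm _))
  · rw [Subgroup.relIndex, show Zs.subgroupOf X = rad ρ X S from by
      ext x
      rw [Subgroup.mem_subgroupOf, hZs]
      exact ⟨fun h1 => h1.2, fun h1 => ⟨x.2, h1⟩⟩]
    exact hMcard
  · have hwd : ∀ (g : ↥(keep ρ X S)) (x y : ↥X), π x = π y →
        π (⟨(g : Γ) * x * (g : Γ)⁻¹,
          (Subgroup.mem_normalizer_iff.mp g.2.1 x).mp x.2⟩) =
        π ⟨(g : Γ) * y * (g : Γ)⁻¹, (Subgroup.mem_normalizer_iff.mp g.2.1 y).mp y.2⟩ := by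
      intro g x y hxy
      obtain ⟨z, ⟨k, hk⟩, rfl⟩ := hπe x y hxy
      rw [show (⟨(g : Γ) * ((x * z : ↥X) : Γ) * (g : Γ)⁻¹,
            (Subgroup.mem_normalizer_iff.mp g.2.1 _).mp (x * z).2⟩ : ↥X) =
          ⟨(g : Γ) * x * (g : Γ)⁻¹, (Subgroup.mem_normalizer_iff.mp g.2.1 x).mp x.2⟩ *
          ⟨(g : Γ) * z * (g : Γ)⁻¹, (Subgroup.mem_normalizer_iff.mp g.2.1 z).mp z.2⟩ from
          Subtype.ext (by simp only [Subgroup.coe_mul]; group), hπ,
        (hπ0 ⟨(g : Γ) * z * (g : Γ)⁻¹, (Subgroup.mem_normalizer_iff.mp g.2.1 z).mp z.2⟩).mpr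
          ⟨k, fun v hv => (g.2.2 z z.2 ⟨k, hk⟩ v hv).trans (hk v hv)⟩, add_zero]
    let T : ↥(keep ρ X S) → Module.End (ZMod s) (M) := fun g =>
      AddMonoidHom.toZModLinearMap s (AddMonoidHom.mk'
        (fun m => π ⟨(g : Γ) * (o m : ↥X) * (g : Γ)⁻¹,
          (Subgroup.mem_normalizer_iff.mp g.2.1 _).mp (o m).2⟩) fun p q => by
          rw [← hπ]
          refine (hwd g _ (o p * o q) ?_).trans (congrArg π (Subtype.ext ?_))
          · rw [hπ, Function.surjInv_eq hπs, Function.surjInv_eq hπs, Function.surjInv_eq hπs]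
          · simp only [Subgroup.coe_mul]; group)
    have hT : ∀ (g : ↥(keep ρ X S)) (x : ↥X), T g (π x) = π ⟨(g : Γ) * x * (g : Γ)⁻¹,
        (Subgroup.mem_normalizer_iff.mp g.2.1 x).mp x.2⟩ := fun g x =>
      hwd g _ x (Function.surjInv_eq hπs _)
    refine ⟨{ toFun := T, map_one' := ?_, map_mul' := fun g k => ?_ }, hT, fun g m m' => ?_⟩
    · refine LinearMap.ext fun m => ?_
      obtain ⟨x, rfl⟩ := hπs m
      rw [hT, End.one_apply]
      exact congrArg π (Subtype.ext (by simp))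
    · refine LinearMap.ext fun m => ?_
      obtain ⟨x, rfl⟩ := hπs m
      rw [End.mul_apply, hT, hT, hT]
      exact congrArg π (Subtype.ext (by simp only [Subgroup.coe_mul]; group))
    · obtain ⟨x, rfl⟩ := hπs m
      obtain ⟨y, rfl⟩ := hπs m'
      show B (T g (π x)) (T g (π y)) = _
      rw [hT, hT, hB, hB]
      refine hμinj _ _ ?_
      rw [hb, hb]
      refine huniq _ _ ?_
      rw [← hcv, ← hcv, show ⁅(g : Γ) * x * (g : Γ)⁻¹, (g : Γ) * y * (g : Γ)⁻¹⁆ =
        (g : Γ) * ⁅(x : Γ), (y : Γ)⁆ * (g : Γ)⁻¹ by simp only [commutatorElement_def]; group]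
      refine g.2.2 _ ?_ (scalar_comm h x.2 y.2) v₀ hv₀
      rw [commutatorElement_def]
      exact X.mul_mem (X.mul_mem (X.mul_mem x.2 y.2) (X.inv_mem x.2)) (X.inv_mem y.2)

end CfsgLib.TurullFit.SmallCommForm
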