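import Cfsg.Agent.Lib.TurullFit.Step

/-!
# Turull's bound for the Fitting height: bad radicals of a layer
-/

set_option autoImplicit false
set_option linter.style.haveILetI false

open Subgroup Module
open scoped commutatorElement

namespace CfsgLib.TurullFit

universe u

section Layer

variable {F : Type} [Field F] {Γ V : Type u} [Group Γ] [AddCommGroup V] [Module F V]
  {ρ : Representation F Γ V}

theorem StableUnder.commOn_iff {X : Subgroup Γ} {S : Submodule F V} (hS : StableUnder ρ X S)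
    {x y : Γ} (hx : x ∈ X) (hy : y ∈ X) : CommOn ρ S x y ↔ ⁅x, y⁆ ∈ fixer ρ S := by
  constructor
  · intro h v hv
    have hv' : ρ (y * x)⁻¹ v ∈ S := hS _ (X.inv_mem (X.mul_mem hy hx)) v hv
    rw [show ⁅x, y⁆ = x * y * (y * x)⁻¹ by rw [commutatorElement_def]; group, map_mul,
      End.mul_apply, h _ hv', ← End.mul_apply, ← map_mul, mul_inv_cancel, map_one, End.one_apply]
  · intro h v hv
    rw [show x * y = ⁅x, y⁆ * (y * x) by rw [commutatorElement_def]; group, map_mul, End.mul_apply,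
      h _ (hS _ (X.mul_mem hy hx) v hv)]

/-- The centre of `X` on an invariant subspace, as a subgroup. -/
def centerSub (ρ : Representation F Γ V) (X : Subgroup Γ) (S : Submodule F V) : Subgroup Γ :=
  moverKer X X (fixer ρ S ⊓ X)

theorem mem_centerSub {X : Subgroup Γ} {S : Submodule F V} (hS : StableUnder ρ X S) {x : Γ} :
    x ∈ centerSub ρ X S ↔ CenterOn ρ X S x := by
  rw [centerSub, mem_moverKer]
  refine ⟨fun h => ⟨h.1, fun y hy => (hS.commOn_iff h.1 hy).mpr (h.2.2 y hy).1⟩,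
    fun h => ⟨h.1, le_normalizer h.1, fun y hy => ⟨(hS.commOn_iff h.1 hy).mp (h.2 y hy), ?_⟩⟩⟩
  rw [commutatorElement_def]
  exact X.mul_mem (X.mul_mem (X.mul_mem h.1 hy) (X.inv_mem h.1)) (X.inv_mem hy)

theorem fixer_conj_mem {S : Submodule F V} {g x : Γ} (hg : ∀ v ∈ S, ρ g⁻¹ v ∈ S)
    (hx : x ∈ fixer ρ S) : g * x * g⁻¹ ∈ fixer ρ S := fun v hv => by
  rw [map_mul, map_mul, End.mul_apply, End.mul_apply, hx _ (hg v hv), ← End.mul_apply, ← map_mul,
    mul_inv_cancel, map_one, End.one_apply]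

variable [Finite Γ]

theorem Inv.pow_mem {X : Subgroup Γ} {a : Γ} {S : Submodule F V} (hS : Inv ρ X a S) (n : ℕ)
    {v : V} (hv : v ∈ S) : ρ (a ^ n) v ∈ S := by
  induction n with
  | zero => rwa [pow_zero, map_one, End.one_apply]
  | succ n ih => rw [pow_succ', map_mul, End.mul_apply]; exact hS.2 _ ih

theorem Inv.inv_a_mem {X : Subgroup Γ} {a : Γ} {S : Submodule F V} (hS : Inv ρ X a S)
    {v : V} (hv : v ∈ S) : ρ a⁻¹ v ∈ S := by
  obtain ⟨n, hn⟩ : ∃ n : ℕ, a ^ n = a⁻¹ :=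
    (isOfFinOrder_of_finite a).mem_powers_iff_mem_zpowers.mpr
      ((zpowers a).inv_mem (mem_zpowers a))
  rw [← hn]
  exact hS.pow_mem n hv

theorem Inv.normalizer_fixer {X : Subgroup Γ} {a : Γ} (haX : a ∈ normalizer (X : Set Γ))
    {S : Submodule F V} (hS : Inv ρ X a S) :
    a ∈ normalizer ((fixer ρ S ⊓ X : Subgroup Γ) : Set Γ) := by
  refine mem_normalizer_iff.mpr fun x => ⟨fun hx => ⟨fixer_conj_mem (fun v hv => hS.inv_a_mem hv)
    hx.1, (mem_normalizer_iff.mp haX x).mp hx.2⟩, fun hx => ⟨?_, (mem_normalizer_iff.mp haX x).mpr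
    hx.2⟩⟩
  have h1 := fixer_conj_mem (g := a⁻¹) (fun v hv => by rw [inv_inv]; exact hS.2 v hv) hx.1
  simpa [mul_assoc] using h1

theorem Inv.normalizer_centerSub {X : Subgroup Γ} {a : Γ} (haX : a ∈ normalizer (X : Set Γ))
    {S : Submodule F V} (hS : Inv ρ X a S) :
    a ∈ normalizer (centerSub ρ X S : Set Γ) := by
  have key : ∀ g : Γ, g ∈ normalizer (X : Set Γ) →
      g ∈ normalizer ((fixer ρ S ⊓ X : Subgroup Γ) : Set Γ) → ∀ x ∈ centerSub ρ X S,
      g * x * g⁻¹ ∈ centerSub ρ X S := by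
    intro g hgX hgN x hx
    rw [centerSub, mem_moverKer] at hx ⊢
    refine ⟨(mem_normalizer_iff.mp hgX x).mp hx.1, le_normalizer ((mem_normalizer_iff.mp hgX x).mp
      hx.1), fun d hd => ?_⟩
    have h1 := (mem_normalizer_iff.mp (inv_mem hgX) d).mp hd
    rw [inv_inv] at h1
    have h2 := (mem_normalizer_iff.mp hgN _).mp (hx.2.2 _ h1)
    rwa [show g * ⁅x, g⁻¹ * d * g⁆ * g⁻¹ = ⁅g * x * g⁻¹, d⁆ by
      simp only [commutatorElement_def]; group] at h2
  refine mem_normalizer_iff.mpr fun x => ⟨key a haX (hS.normalizer_fixer haX) x, fun hx => ?_⟩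
  have h1 := key a⁻¹ (inv_mem haX) (inv_mem (hS.normalizer_fixer haX)) _ hx
  simpa [mul_assoc] using h1

theorem exists_nongood_projection [FiniteDimensional F V] (hSemi : StmtSemisimple.{u}) {s r : ℕ}
    {X : Subgroup Γ} {a : Γ} (L : Layer ρ s r X a) {M U : Submodule F V} (hM : Inv ρ X a M)
    (hU : ¬ U ≤ M) (hgood : ∀ S, Good ρ X a S → S ≤ M) :
    ∃ (S : Submodule F V) (π : End F V), Comp ρ X a S ∧ ¬ Good ρ X a S ∧ (∀ v, π v ∈ S) ∧
      (∃ v ∈ U, π v ≠ 0) ∧ ∀ x ∈ X, π * ρ x = ρ x * π := by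
  classical
  obtain ⟨B, ⟨hMB, hB, hUB⟩, hmax⟩ := wellFounded_gt.has_min
    {B : Submodule F V | M ≤ B ∧ Inv ρ X a B ∧ ¬ U ≤ B} ⟨M, le_rfl, hM, hU⟩
  obtain ⟨S, hS, hBS⟩ := (hSemi F Γ V ρ s r X a L).1 B hB
  have hsup : ∀ {W W' : Submodule F V}, Inv ρ X a W → Inv ρ X a W' → Inv ρ X a (W ⊔ W') := by
    intro W W' h1 h2
    constructor
    · intro x hx v hv
      obtain ⟨w, hw, w', hw', rfl⟩ := Submodule.mem_sup.mp hv
      rw [map_add]
      exact Submodule.add_mem_sup (h1.1 x hx w hw) (h2.1 x hx w' hw')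
    · intro v hv
      obtain ⟨w, hw, w', hw', rfl⟩ := Submodule.mem_sup.mp hv
      rw [map_add]
      exact Submodule.add_mem_sup (h1.2 w hw) (h2.2 w' hw')
  have hbig : ∀ W ≤ S, W ≠ ⊥ → Inv ρ X a W → U ≤ B ⊔ W := by
    intro W hWS hW0 hW
    by_contra hcon
    refine hmax (B ⊔ W) ⟨hMB.trans le_sup_left, hsup hB hW, hcon⟩ (lt_of_le_of_ne le_sup_left
      fun he => hW0 ?_)
    rw [eq_bot_iff, ← hBS.inf_eq_bot]
    exact le_inf (he ▸ le_sup_right) hWS
  have hS0 : S ≠ ⊥ := by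
    rintro rfl
    exact hUB (by have := hBS.sup_eq_top; rw [sup_bot_eq] at this; rw [this]; exact le_top)
  have hcomp : Comp ρ X a S := by
    refine ⟨hS0, hS, fun W hWS hW0 hW => ?_⟩
    obtain ⟨W', hW', hWW'⟩ := (hSemi F Γ V ρ s r X a L).1 W hW
    have hi : Inv ρ X a (W' ⊓ S) := ⟨fun x hx v hv => ⟨hW'.1 x hx v hv.1, hS.1 x hx v hv.2⟩,
      fun v hv => ⟨hW'.2 v hv.1, hS.2 v hv.2⟩⟩
    have hsplit : W ⊔ W' ⊓ S = S := by
      rw [← sup_inf_assoc_of_le W' hWS, hWW'.sup_eq_top, top_inf_eq]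
    by_cases h0 : W' ⊓ S = ⊥
    · rwa [h0, sup_bot_eq] at hsplit
    exfalso
    refine hUB fun u hu => ?_
    obtain ⟨b, hb, w, hw, e1⟩ := Submodule.mem_sup.mp (hbig W hWS hW0 hW hu)
    obtain ⟨b', hb', w', hw', e2⟩ := Submodule.mem_sup.mp (hbig _ inf_le_right h0 hi hu)
    have hbb : b - b' = w' - w := by rw [sub_eq_sub_iff_add_eq_add, e1, add_comm w' b', e2]
    have h1 : w' - w ∈ B ⊓ S := ⟨hbb ▸ B.sub_mem hb hb', S.sub_mem hw'.2 (hWS hw)⟩
    rw [hBS.inf_eq_bot, Submodule.mem_bot, sub_eq_zero] at h1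
    have h2 : w ∈ W ⊓ W' := ⟨hw, h1 ▸ hw'.1⟩
    rw [hWW'.inf_eq_bot, Submodule.mem_bot] at h2
    rw [← e1, h2, add_zero]
    exact hb
  refine ⟨S, S.projection B hBS.symm, hcomp, fun hg => hS0 ?_, fun v => ?_, ?_, fun x hx => ?_⟩
  · rw [eq_bot_iff, ← hBS.inf_eq_bot]
    exact le_inf ((hgood S hg).trans hMB) le_rfl
  · exact Submodule.projection_apply_mem hBS.symm v
  · obtain ⟨u, hu, huB⟩ := SetLike.not_le_iff_exists.mp hUB
    exact ⟨u, hu, fun h => huB ((Submodule.projection_apply_eq_zero_iff hBS.symm).mp h)⟩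
  · refine LinearMap.ext fun v => ?_
    obtain ⟨b, hb, w, hw, rfl⟩ := Submodule.mem_sup.mp
      (hBS.sup_eq_top.symm ▸ Submodule.mem_top : v ∈ B ⊔ S)
    simp only [End.mul_apply, map_add]
    rw [Submodule.projection_apply_eq_zero_iff hBS.symm |>.mpr (hB.1 x hx b hb),
      Submodule.projection_apply_eq_zero_iff hBS.symm |>.mpr hb,
      Submodule.projection_apply_left hBS.symm ⟨ρ x w, hS.1 x hx w hw⟩,
      Submodule.projection_apply_left hBS.symm ⟨w, hw⟩, map_zero]

end Layer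

section Bad

variable {Γ : Type u} [Group Γ] [Finite Γ] {P Q : ℕ → Subgroup Γ} {p : ℕ → ℕ} {G : Subgroup Γ}
  {a : Γ} {r h : ℕ}

open Classical in
/-- The radicals of the components of a layer: the fixers when the radical of level `j` is trivial
on the next level, the centres otherwise. -/
noncomputable def radOf {F : Type} [Field F] {Δ V : Type u} [Group Δ] [AddCommGroup V]
    [Module F V] (ρ : Representation F Δ V) (X : Subgroup Δ) (abelian : Prop) (S : Submodule F V) :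
    Subgroup Δ :=
  if abelian then fixer ρ S ⊓ X else centerSub ρ X S

/-- The data for level `j` from the fixing property of the kernel at level `j + 1`. -/
theorem Tower.badData_step (hSemi : StmtSemisimple.{u}) (hMoved : StmtMovedFix.{u})
    (hUni : StmtUniformFixer.{u}) (hExc : StmtExcFacts.{u}) (hStab : StmtExcStab.{u})
    (hCore : StmtCore.{u}) (T : Tower G a r h P Q p) (hr : r.Prime) (har : a ^ r = 1) {j : ℕ}
    (hj : j + 2 < h) {F : Type} [Field F] [IsAlgClosed F] [CharP F (p (j + 2))]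
    (hB : BadData P Q a h (j + 1)) : BadData P Q a h j := by
  classical
  set H := lvlGroup P Q (j + 2) with hH
  set ρ := lvlRep F P Q (j + 2) with hρ
  set X := (P (j + 1)).subgroupOf H with hX
  set aH : ↥H := ⟨a, T.a_mem_lvlGroup hj⟩ with haH
  have L : Layer ρ (p (j + 1)) r X aH := T.layer hr har hj
  have hPH : P (j + 1) ≤ H := fun x hx => T.mem_lvlGroup (by omega) hj hx
  have hQH : Q (j + 1) ≤ H := (T.Q_le _ (by omega)).trans hPH
  have hK : ∀ S, Good ρ X aH S → (kerAt P Q a h (j + 1)).subgroupOf H ≤ fixer ρ S :=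
    T.kerAt_fix hCore hr har hj hB
  have hKX : kerAt P Q a h (j + 1) ≤ P (j + 1) := (T.kerAt_le_fix (by omega)).trans inf_le_left
  set ab : Prop := ∀ x ∈ Q (j + 1), InKer P Q (j + 1) x with hab
  let Rad := radOf ρ X ab
  have hone : ∀ x : ↥H, InKer P Q (j + 1) (x : Γ) → ρ x = 1 := fun x hx =>
    (T.lvlRep_eq_one hj x).mpr hx
  have hQc : ∀ x ∈ X, (x : Γ) ∈ Q (j + 1) → ∀ S, Inv ρ X aH S → x ∈ centerSub ρ X S := by
    intro x hx hxQ S hS
    refine (mem_centerSub hS.1).mpr ⟨hx, fun y hy => (hS.1.commOn_iff hx hy).mpr fun v _ => ?_⟩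
    have h1 := T.cent (j + 1) hj (x : Γ) hxQ (y : Γ) (mem_subgroupOf.mp hy)
    rw [hone ⁅x, y⁆ (by simpa [commutatorElement_def] using h1), End.one_apply]
  have hRadX : ∀ S, Rad S ≤ X := by
    intro S
    simp only [Rad, radOf]
    split
    · exact inf_le_right
    · exact fun x hx => hx.1
  have hNRad : ∀ S, Inv ρ X aH S → fixer ρ S ⊓ X ≤ Rad S := by
    intro S hS x hx
    simp only [Rad, radOf]
    split
    · exact hx
    · refine (mem_centerSub hS.1).mpr ⟨hx.2, fun y hy v hv => ?_⟩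
      rw [map_mul, map_mul, End.mul_apply, End.mul_apply, hx.1 _ (hS.1 y hy v hv), hx.1 v hv]
  have hQRad : ∀ S, Inv ρ X aH S → (Q (j + 1)).subgroupOf H ≤ Rad S := by
    intro S hS x hx
    have hxX : x ∈ X := T.Q_le _ (by omega) hx
    simp only [Rad, radOf]
    split
    · rename_i hc
      exact ⟨fun v _ => by rw [hone x (hc _ hx), End.one_apply], hxX⟩
    · exact hQc x hxX hx S hS
  have haRad : ∀ S, Inv ρ X aH S → aH ∈ normalizer (Rad S : Set ↥H) := by
    intro S hS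
    simp only [Rad, radOf]
    split
    · exact hS.normalizer_fixer L.mem_normalizer
    · exact hS.normalizer_centerSub L.mem_normalizer
  have hall : ∀ x ∈ X, (∀ S, Comp ρ X aH S → x ∈ Rad S) → (x : Γ) ∈ Q (j + 1) := by
    intro x hx hxR
    have htriv : ∀ z : ↥H, (∀ S, Comp ρ X aH S → z ∈ fixer ρ S) → InKer P Q (j + 1) (z : Γ) := by
      intro z hz
      refine (T.lvlRep_eq_one (F := F) hj z).mp (LinearMap.ext fun v => ?_)
      have h1 : (⊤ : Submodule F _) ≤ fixSub ρ z := by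
        rw [← (hSemi F _ _ ρ _ r X aH L).2]
        exact sSup_le fun S hS v hv => hz S hS v hv
      rw [End.one_apply]
      exact h1 (Submodule.mem_top : v ∈ ⊤)
    by_cases hc : ab
    · refine T.ker_le (j + 1) hj _ hx (htriv x fun S hS => ?_)
      have h1 := hxR S hS
      simp only [Rad, radOf, if_pos hc] at h1
      exact h1.1
    · refine ((T.spec (j + 1) hj).resolve_left hc) _ hx fun y hy => ?_
      have h2 := htriv ⁅x, (⟨y, hPH hy⟩ : ↥H)⁆ fun S hS => ?_
      · simpa [commutatorElement_def] using h2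
      · have h1 := hxR S hS
        simp only [Rad, radOf, if_neg hc] at h1
        exact (h1.2.2 _ (mem_subgroupOf.mpr hy)).1
  have hmapN : ∀ R : Subgroup ↥H, aH ∈ normalizer (R : Set ↥H) →
      a ∈ normalizer (R.map H.subtype : Set Γ) := fun R hR =>
    le_normalizer_map H.subtype ⟨aH, hR, rfl⟩
  refine ⟨P (j + 1) ⊓ ⨅ S : {S // Good ρ X aH S}, (Rad S.1).map H.subtype,
    {R | ∃ S, Comp ρ X aH S ∧ ¬ Good ρ X aH S ∧ R = (Rad S).map H.subtype}, ?_, ?_, inf_le_left,
    ?_, ?_, ?_, ?_⟩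
  · refine le_inf hKX (le_iInf fun S x hx => ?_)
    exact ⟨⟨x, hPH (hKX hx)⟩, hNRad S.1 S.2.1.2.1
      ⟨hK S.1 S.2 (mem_subgroupOf.mpr hx), mem_subgroupOf.mpr (hKX hx)⟩, rfl⟩
  · refine le_inf (T.Q_le _ (by omega)) (le_iInf fun S x hx => ?_)
    exact ⟨⟨x, hQH hx⟩, hQRad S.1 S.2.1.2.1 (mem_subgroupOf.mpr hx), rfl⟩
  · refine mem_normalizer_iff.mpr fun x => ?_
    rw [Subgroup.mem_inf, Subgroup.mem_inf, Subgroup.mem_iInf, Subgroup.mem_iInf]
    exact and_congr (mem_normalizer_iff.mp (T.a_norm _ (by omega)) x)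
      (forall_congr' fun S => mem_normalizer_iff.mp (hmapN _ (haRad S.1 S.2.1.2.1)) x)
  · rintro R ⟨S, hS, -, rfl⟩
    refine ⟨fun x hx => ⟨⟨x, hQH hx⟩, hQRad S hS.2.1 (mem_subgroupOf.mpr hx), rfl⟩, ?_,
      hmapN _ (haRad S hS.2.1)⟩
    rintro _ ⟨x, hx, rfl⟩
    exact mem_subgroupOf.mp (hRadX S hx)
  · refine le_antisymm (fun x hx => ?_) (le_inf (le_inf (T.Q_le _ (by omega))
      (le_iInf fun S x hx => ⟨⟨x, hQH hx⟩, hQRad S.1 S.2.1.2.1 (mem_subgroupOf.mpr hx), rfl⟩))
      (le_sInf ?_))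
    · refine hall ⟨x, hPH hx.1.1⟩ (mem_subgroupOf.mpr hx.1.1) fun S hS => ?_
      by_cases hg : Good ρ X aH S
      · obtain ⟨y, hy, he⟩ := Subgroup.mem_iInf.mp hx.1.2 ⟨S, hg⟩
        exact (show y = ⟨x, hPH hx.1.1⟩ from Subtype.ext he) ▸ hy
      · obtain ⟨y, hy, he⟩ := Subgroup.mem_sInf.mp hx.2 _ ⟨S, hS, hg, rfl⟩
        exact (show y = ⟨x, hPH hx.1.1⟩ from Subtype.ext he) ▸ hy
    · rintro R ⟨S, hS, -, rfl⟩ x hx
      exact ⟨⟨x, hQH hx⟩, hQRad S hS.2.1 (mem_subgroupOf.mpr hx), rfl⟩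
  rintro R ⟨S, hS, hSg, rfl⟩ y hy
  set yH : ↥H := ⟨y, T.mem_lvlGroup (by omega : j ≤ j + 2) hj hy⟩ with hyH
  have hyX : yH ∈ normalizer (X : Set ↥H) :=
    subgroupOf_normalizer (T.norm j (j + 1) (by omega) (by omega) hy)
  have hUnif : FixedType ρ X S ∨ ¬ Noncentral ρ X aH S := by
    by_contra hcon
    push Not at hcon
    exact hSg (hMoved F _ _ ρ _ r X aH S L hS hcon.1)
  by_cases hfixed : ∀ k ∈ (kerAt P Q a h (j + 1)).subgroupOf H,
      S.map (ρ yH) ≤ fixSub ρ k
  · left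
    intro x hx
    refine ⟨yH⁻¹ * ⟨x, hPH (hKX hx)⟩ * yH, hNRad S hS.2.1 ⟨fun v hv => ?_, ?_⟩, ?_⟩
    · rw [map_mul, map_mul, End.mul_apply, End.mul_apply,
        (mem_fixSub.mp (hfixed ⟨x, hPH (hKX hx)⟩ (mem_subgroupOf.mpr hx)
          (Submodule.mem_map_of_mem hv))), ← End.mul_apply, ← map_mul, inv_mul_cancel, map_one,
        End.one_apply]
    · have h1 := (mem_normalizer_iff.mp (inv_mem hyX) ⟨x, hPH (hKX hx)⟩).mp
        (mem_subgroupOf.mpr (hKX hx))
      simpa using h1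
    · simp [hyH]
  right
  push Not at hfixed
  obtain ⟨k, hk, hkS⟩ := hfixed
  -- the fixed points of the kernel
  set M := (⨆ T' : {T' // Good ρ X aH T'}, (T'.1 : Submodule F _)) with hM
  have hMinv : Inv ρ X aH M := by
    constructor
    · intro x hx v hv
      have hle : M ≤ M.comap (ρ x) := iSup_le fun T' u hu =>
        Submodule.mem_iSup_of_mem T' (T'.2.1.2.1.1 x hx u hu)
      exact hle hv
    · intro v hv
      have hle : M ≤ M.comap (ρ aH) := iSup_le fun T' u hu =>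
        Submodule.mem_iSup_of_mem T' (T'.2.1.2.1.2 u hu)
      exact hle hv
  have hMk : M ≤ fixSub ρ k := iSup_le fun T' v hv => hK T'.1 T'.2 hk v hv
  obtain ⟨S', π, hS', hS'g, hπS, ⟨u, hu, hπu⟩, hπX⟩ :=
    exists_nongood_projection hSemi L (M := M) hMinv (U := S.map (ρ yH))
      (fun hle => hkS (hle.trans hMk)) fun T' hT' => le_iSup_of_le ⟨T', hT'⟩ le_rfl
  have hUnif' : FixedType ρ X S' ∨ ¬ Noncentral ρ X aH S' := by
    by_contra hcon
    push Not at hcon
    exact hS'g (hMoved F _ _ ρ _ r X aH S' L hS' hcon.1)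
  have hyconj : ∀ x ∈ X, yH⁻¹ * x * yH ∈ X := fun x hx => by
    simpa using (mem_normalizer_iff.mp (inv_mem hyX) x).mp hx
  have hySinv : StableUnder ρ X (S.map (ρ yH)) := by
    rintro x hx _ ⟨v, hv, rfl⟩
    refine ⟨ρ (yH⁻¹ * x * yH) v, hS.2.1.1 _ (hyconj x hx) v hv, ?_⟩
    rw [← End.mul_apply, ← map_mul, ← End.mul_apply, ← map_mul]
    congr 2
    group
  -- a complement of the kernel of the projection
  have L1 : Layer ρ (p (j + 1)) r X 1 :=
    { L with mem_normalizer := one_mem _, pow_eq_one := one_pow r }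
  have hK0 : Inv ρ X 1 (S.map (ρ yH) ⊓ LinearMap.ker π) := ⟨fun x hx v hv => ⟨hySinv x hx v hv.1,
    by rw [SetLike.mem_coe, LinearMap.mem_ker, ← End.mul_apply, hπX x hx, End.mul_apply,
      LinearMap.mem_ker.mp hv.2, map_zero]⟩, fun v hv => by rwa [map_one, End.one_apply]⟩
  obtain ⟨W0, hW0, hcompl⟩ := (hSemi F _ _ ρ _ r X 1 L1).1 _ hK0
  set W := W0 ⊓ S.map (ρ yH) with hW
  have hWX : StableUnder ρ X W := fun x hx v hv => ⟨hW0.1 x hx v hv.1, hySinv x hx v hv.2⟩
  have hWne : W ≠ ⊥ := by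
    intro h0
    apply hπu
    have h1 : S.map (ρ yH) ⊓ LinearMap.ker π ⊔ W = S.map (ρ yH) := by
      rw [hW, ← sup_inf_assoc_of_le W0 inf_le_left, hcompl.sup_eq_top, top_inf_eq]
    rw [h0, sup_bot_eq] at h1
    exact LinearMap.mem_ker.mp (h1.symm.le hu).2
  have hinj : ∀ v ∈ W, π v = 0 → v = 0 := fun v hv h0 => by
    have h1 : v ∈ (S.map (ρ yH) ⊓ LinearMap.ker π) ⊓ W0 := ⟨⟨hv.2, LinearMap.mem_ker.mpr h0⟩, hv.1⟩
    rwa [hcompl.inf_eq_bot, Submodule.mem_bot] at h1
  -- the fixer of the translate is the fixer of `S'`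
  have hNN : ∀ x ∈ X, (x ∈ fixer ρ S' ↔ yH⁻¹ * x * yH ∈ fixer ρ S) := by
    intro x hx
    constructor
    · intro hxS'
      have hxW : x ∈ fixer ρ W := fun v hv => by
        have h1 : π (ρ x v - v) = 0 := by
          rw [map_sub, ← End.mul_apply, hπX x hx, End.mul_apply, hxS' _ (hπS v), sub_self]
        exact sub_eq_zero.mp (hinj _ (W.sub_mem (hWX x hx v hv) hv) h1)
      refine hUni F _ _ ρ _ r X aH S (W.map (ρ yH⁻¹)) L hS hUnif ?_ ?_ ?_ _ (hyconj x hx) ?_
      · rintro _ ⟨w, hw, rfl⟩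
        obtain ⟨v, hv, rfl⟩ := hw.2
        rwa [← End.mul_apply, ← map_mul, inv_mul_cancel, map_one, End.one_apply]
      · intro h0
        obtain ⟨w, hw, hw0⟩ := Submodule.exists_mem_ne_zero_of_ne_bot hWne
        have h1 : ρ yH⁻¹ w = 0 := by
          rw [← Submodule.mem_bot (R := F), ← h0]; exact Submodule.mem_map_of_mem hw
        exact FgsC.HallHigman.rho_ne_zero hw0 h1
      · rintro x' hx' _ ⟨w, hw, rfl⟩
        refine ⟨ρ (yH * x' * yH⁻¹) w, hWX _ ((mem_normalizer_iff.mp hyX x').mp hx') w hw, ?_⟩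
        rw [← End.mul_apply, ← map_mul, ← End.mul_apply, ← map_mul]
        congr 2
        group
      · rintro _ ⟨w, hw, rfl⟩
        rw [← End.mul_apply, ← map_mul, show yH⁻¹ * x * yH * yH⁻¹ = yH⁻¹ * x by group, map_mul,
          End.mul_apply, hxW w hw]
    · intro hxS
      have hxU : x ∈ fixer ρ (S.map (ρ yH)) := by
        rintro _ ⟨v, hv, rfl⟩
        rw [← End.mul_apply, ← map_mul, show x * yH = yH * (yH⁻¹ * x * yH) by group, map_mul,
          End.mul_apply, hxS v hv]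
      refine hUni F _ _ ρ _ r X aH S' (W.map π) L hS' hUnif' ?_ ?_ ?_ x hx ?_
      · rintro _ ⟨w, _, rfl⟩; exact hπS w
      · intro h0
        obtain ⟨w, hw, hw0⟩ := Submodule.exists_mem_ne_zero_of_ne_bot hWne
        refine hw0 (hinj w hw ?_)
        rw [← Submodule.mem_bot (R := F), ← h0]
        exact Submodule.mem_map_of_mem hw
      · rintro x' hx' _ ⟨w, hw, rfl⟩
        exact ⟨ρ x' w, hWX x' hx' w hw, by rw [← End.mul_apply, hπX x' hx', End.mul_apply]⟩
      · rintro _ ⟨w, hw, rfl⟩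
        rw [← End.mul_apply, ← hπX x hx, End.mul_apply, hxU w hw.2]
  set N := fixer ρ S ⊓ X with hN
  have haN : aH ∈ normalizer (N : Set ↥H) := hS.2.1.normalizer_fixer L.mem_normalizer
  have haN' : aH ∈ normalizer ((fixer ρ S' ⊓ X : Subgroup ↥H) : Set ↥H) :=
    hS'.2.1.normalizer_fixer L.mem_normalizer
  have hgN : yH⁻¹ * (aH * yH * aH⁻¹) ∈ normalizer (N : Set ↥H) := by
    have h1 : yH⁻¹ * aH * yH ∈ normalizer (N : Set ↥H) := by
      refine mem_normalizer_iff.mpr fun x => ?_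
      have key : ∀ z, z ∈ N ↔ yH * z * yH⁻¹ ∈ fixer ρ S' ⊓ X := by
        intro z
        constructor
        · intro hz
          have hzX := (mem_normalizer_iff.mp hyX z).mp hz.2
          exact ⟨(hNN _ hzX).mpr (by simpa [mul_assoc] using hz.1), hzX⟩
        · intro hz
          have hzX := (mem_normalizer_iff.mp hyX z).mpr hz.2
          exact ⟨by simpa [mul_assoc] using (hNN _ hz.2).mp hz.1, hzX⟩
      rw [key x, key, mem_normalizer_iff.mp haN' (yH * x * yH⁻¹)]
      simp [mul_assoc]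
    rw [show yH⁻¹ * (aH * yH * aH⁻¹) = yH⁻¹ * aH * yH * aH⁻¹ by group]
    exact mul_mem h1 (inv_mem haN)
  -- the stabiliser in `P j`
  set Y := (P j).subgroupOf H with hY
  set H' := Y ⊓ normalizer (N : Set ↥H) with hH'
  have haY : aH ∈ normalizer (Y : Set ↥H) := subgroupOf_normalizer (T.a_norm j (by omega))
  have haH' : aH ∈ normalizer (H' : Set ↥H) := by
    refine mem_normalizer_iff.mpr fun x => ⟨fun hx => ⟨(mem_normalizer_iff.mp haY x).mp hx.1,
      (normalizer (N : Set ↥H)).mul_mem ((normalizer (N : Set ↥H)).mul_mem haN hx.2)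
        (inv_mem haN)⟩, fun hx => ⟨(mem_normalizer_iff.mp haY x).mpr hx.1, ?_⟩⟩
    have h1 := (normalizer (N : Set ↥H)).mul_mem
      ((normalizer (N : Set ↥H)).mul_mem (inv_mem haN) hx.2) haN
    simpa [mul_assoc] using h1
  have hyY : yH ∈ Y := mem_subgroupOf.mpr hy
  have hg : yH⁻¹ * (aH * yH * aH⁻¹) ∈ H' :=
    ⟨Y.mul_mem (Y.inv_mem hyY) ((mem_normalizer_iff.mp haY yH).mp hyY), hgN⟩
  have hgall : ∀ b ∈ zpowers aH, yH⁻¹ * (b * yH * b⁻¹) ∈ H' := by
    intro b hb
    obtain ⟨n, rfl⟩ := (isOfFinOrder_of_finite aH).mem_powers_iff_mem_zpowers.mpr hb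
    induction n with
    | zero => simp
    | succ n ih =>
      have h1 := mul_mem hg ((mem_normalizer_iff.mp haH' _).mp (ih (pow_mem (mem_zpowers aH) n)))
      convert h1 using 1
      simp only [pow_succ']
      group
  haveI := Fact.mk (T.prime j (by omega))
  have hYp : IsPGroup (p j) H' :=
    ((T.isPGroup j (by omega)).comap_of_injective _ H.subtype_injective).to_le inf_le_left
  have hcop : (Nat.card (zpowers aH)).Coprime (Nat.card H') := by
    obtain ⟨n, hn⟩ := IsPGroup.iff_card.mp hYp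
    rw [hn, Nat.card_zpowers]
    exact Nat.Coprime.pow_right _ (Nat.Coprime.coprime_dvd_left
      (orderOf_dvd_of_pow_eq_one L.pow_eq_one)
      ((Nat.coprime_primes hr (T.prime j (by omega))).mpr (T.ne_r j (by omega)).symm))
  obtain ⟨c, hc, hch⟩ := Coprime.exists_centralizing_in_coset (zpowers_le.mpr haH') hcop
    (Or.inl inferInstance) hgall
  set hh := yH⁻¹ * c with hhh
  have hgh : yH⁻¹ * (aH * yH * aH⁻¹) = ⁅hh, aH⁆ := by
    have h1 : Commute aH c := mem_centralizer_iff.mp hc aH (mem_zpowers aH)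
    rw [hhh, commutatorElement_def, mul_inv_rev, inv_inv]
    calc yH⁻¹ * (aH * yH * aH⁻¹) = yH⁻¹ * (aH * c * c⁻¹ * yH * aH⁻¹) := by group
      _ = yH⁻¹ * (c * aH * c⁻¹ * yH * aH⁻¹) := by rw [h1.eq]
      _ = _ := by group
  have hgoal : ∀ x ∈ X, ⁅⁅hh, aH⁆, x⁆ ∈ Rad S := by
    by_cases hnc : Noncentral ρ X aH S
    · -- exceptional
      have hexc : Exc ρ X aH S := ⟨hS, hnc, by
        by_contra hne
        exact hSg ⟨hS, hnc, hne⟩⟩
      have hft : FixedType ρ X S := hUnif.resolve_right (not_not.mpr hnc)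
      have hpow : ∀ x ∈ X, CenterOn ρ X S (x ^ p (j + 1)) := fun x hx =>
        (mem_centerSub hS.2.1.1).mp (hQc _ (X.pow_mem hx _)
          (by simpa using T.pow (j + 1) (by omega) (x : Γ) (mem_subgroupOf.mp hx)) S hS.2.1)
      obtain ⟨hs2, -, hpm, m, hm, hrm, hindex⟩ := hExc F _ _ ρ _ r X aH S L hexc hpow
      have hnab : ¬ ab := by
        intro hc
        obtain ⟨x, hx, v, hv, hne⟩ := hnc
        have hcen : CenterOn ρ X S x := by
          refine ⟨hx, fun z hz => (hS.2.1.1.commOn_iff hx hz).mpr fun w _ => ?_⟩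
          have h1 := hc _ (T.comm (j + 1) (by omega) (x : Γ) hx (z : Γ) hz)
          rw [hone ⁅x, z⁆ (by simpa [commutatorElement_def] using h1), End.one_apply]
        obtain ⟨c0, hc0⟩ := hft x hcen
        apply hne
        rw [map_mul, map_mul, End.mul_apply, End.mul_apply, hc0 _ (hS.2.1.inv_a_mem hv), map_smul,
          ← End.mul_apply, ← map_mul, mul_inv_cancel, map_one, End.one_apply, hc0 v hv]
      have hRad : Rad S = centerSub ρ X S := by simp only [Rad, radOf, if_neg hnab]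
      rw [hRad]
      have hXN : X ≤ normalizer (N : Set ↥H) := by
        intro g hg'
        refine mem_normalizer_iff.mpr fun x => ⟨fun hx => ⟨fixer_conj_mem
          (hS.2.1.1 _ (X.inv_mem hg')) hx.1, X.mul_mem (X.mul_mem hg' hx.2) (X.inv_mem hg')⟩,
          fun hx => ⟨?_, ?_⟩⟩
        · have h1 := fixer_conj_mem (g := g⁻¹) (by rw [inv_inv]; exact hS.2.1.1 g hg') hx.1
          simpa [mul_assoc] using h1
        · have h1 := X.mul_mem (X.mul_mem (X.inv_mem hg') hx.2) hg'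
          simpa [mul_assoc] using h1
      have hNC : ∀ g : ↥H, g ∈ normalizer (X : Set ↥H) → g ∈ normalizer (N : Set ↥H) →
          g ∈ normalizer (centerSub ρ X S : Set ↥H) := by
        intro g hgX hgN2
        refine mem_normalizer_iff.mpr fun x => ?_
        have key : ∀ g : ↥H, g ∈ normalizer (X : Set ↥H) → g ∈ normalizer (N : Set ↥H) →
            ∀ x ∈ centerSub ρ X S, g * x * g⁻¹ ∈ centerSub ρ X S := by
          intro g hgX hgN x hx
          rw [centerSub, mem_moverKer] at hx ⊢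
          refine ⟨(mem_normalizer_iff.mp hgX x).mp hx.1, le_normalizer
            ((mem_normalizer_iff.mp hgX x).mp hx.1), fun d hd => ?_⟩
          have h1 := (mem_normalizer_iff.mp (inv_mem hgX) d).mp hd
          rw [inv_inv] at h1
          have h2 := (mem_normalizer_iff.mp hgN _).mp (hx.2.2 _ h1)
          rwa [show g * ⁅x, g⁻¹ * d * g⁆ * g⁻¹ = ⁅g * x * g⁻¹, d⁆ by
            simp only [commutatorElement_def]; group] at h2
        refine ⟨key g hgX hgN2 x, fun hx => ?_⟩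
        have h1 := key g⁻¹ (inv_mem hgX) (inv_mem hgN2) _ hx
        simpa [mul_assoc] using h1
      have hp2 : p j ≠ 2 := fun h2 => T.p_ne j (by omega) (h2.trans hs2.symm)
      refine hStab _ X (centerSub ρ X S) N H' aH r m (p j) hr hm hrm L.pow_eq_one
        (fun x hx => (mem_centerSub hS.2.1.1).mpr ⟨hx.2, fun z hz v hv => by
          rw [map_mul, map_mul, End.mul_apply, End.mul_apply, hx.1 _ (hS.2.1.1 z hz v hv),
            hx.1 v hv]⟩)
        (fun x hx => hx.1) (hs2 ▸ L.isPGroup) hXN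
        (fun g hg' => hNC g (le_normalizer hg') (hXN hg'))
        (fun g hg' => subgroupOf_normalizer (T.norm j (j + 1) (by omega) (by omega) hg'.1))
        (fun g hg' => hNC g (subgroupOf_normalizer (T.norm j (j + 1) (by omega) (by omega) hg'.1))
          hg'.2)
        (fun g hg' => hg'.2) L.mem_normalizer (hS.2.1.normalizer_centerSub L.mem_normalizer) haN
        haH' (fun x hx => (mem_centerSub hS.2.1.1).mpr (by simpa [hs2] using hpow x hx))
        (fun x hx z hz => hQc _ (mem_subgroupOf.mpr ?_) ?_ S hS.2.1)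
        (fun x hx z hz => hx.2.2 z hz)
        (fun x hx hall' => ⟨hx, le_normalizer hx, hall'⟩) ?_
        (hindex _ (fun x => mem_centerSub hS.2.1.1)) (T.prime j (by omega)) hp2
        (T.ne_r j (by omega)) hYp ?_ hh hch
      · exact T.Q_le _ (by omega) (by
          simpa [commutatorElement_def] using T.comm (j + 1) (by omega) (x : Γ) hx (z : Γ) hz)
      · simpa [commutatorElement_def] using T.comm (j + 1) (by omega) (x : Γ) hx (z : Γ) hz
      · intro x hx z hz x' hx' z' hz' h1 h2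
        have hin : ∀ x ∈ X, ∀ z ∈ X, ⁅x, z⁆ ∈ X := fun x hx z hz => by
          rw [commutatorElement_def]
          exact X.mul_mem (X.mul_mem (X.mul_mem hx hz) (X.inv_mem hx)) (X.inv_mem hz)
        refine ⟨fun v hv => ?_, X.mul_mem (X.inv_mem (hin x hx z hz)) (hin x' hx' z' hz')⟩
        have e1 := (hpm x hx z hz).resolve_left fun he => h1 ⟨he, hin x hx z hz⟩
        have e2 := (hpm x' hx' z' hz').resolve_left fun he => h2 ⟨he, hin x' hx' z' hz'⟩
        rw [map_mul, End.mul_apply, e2 v hv, ← e1 v hv, ← End.mul_apply, ← map_mul, inv_mul_cancel,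
          map_one, End.one_apply]
      · intro h1 hh1 h2 hh2 h3 hh3 x hx
        have hc1 := T.cent j (by omega) _ (T.comm j (by omega) (h1 : Γ) hh1.1 (h2 : Γ) hh2.1)
          (h3 : Γ) hh3.1 (x : Γ) (mem_subgroupOf.mp hx)
        exact hQc _ (mem_subgroupOf.mpr (T.Q_le _ (by omega) (by
          simpa [commutatorElement_def] using hc1))) (by simpa [commutatorElement_def] using hc1)
          S hS.2.1
    · -- central
      intro x hx
      set Z := moverKer ⊤ X N with hZ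
      have haZ : aH ∈ Z := by
        refine ⟨mem_top _, L.mem_normalizer, fun d hd => ⟨fun v hv => ?_, ?_⟩⟩
        · have hc : ∀ w ∈ S, ρ (aH * d * aH⁻¹) w = ρ d w := fun w hw => by
            by_contra hne
            exact hnc ⟨d, hd, w, hw, hne⟩
          rw [show ⁅aH, d⁆ = aH * d * aH⁻¹ * d⁻¹ by rw [commutatorElement_def], map_mul,
            End.mul_apply, hc _ (hS.2.1.1 _ (X.inv_mem hd) v hv), ← End.mul_apply, ← map_mul,
            mul_inv_cancel, map_one, End.one_apply]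
        · rw [show ⁅aH, d⁆ = aH * d * aH⁻¹ * d⁻¹ by rw [commutatorElement_def]]
          exact X.mul_mem ((mem_normalizer_iff.mp L.mem_normalizer d).mp hd) (X.inv_mem hd)
      have hhX : hh ∈ normalizer (X : Set ↥H) :=
        subgroupOf_normalizer (T.norm j (j + 1) (by omega) (by omega) hch.1)
      have hconj : hh * aH * hh⁻¹ ∈ Z := by
        refine ⟨mem_top _, mul_mem (mul_mem hhX L.mem_normalizer) (inv_mem hhX), fun d hd => ?_⟩
        have h1 := (mem_normalizer_iff.mp (inv_mem hhX) d).mp hd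
        rw [inv_inv] at h1
        have h2 := (mem_normalizer_iff.mp hch.2 _).mp (haZ.2.2 _ h1)
        rwa [show hh * ⁅aH, hh⁻¹ * d * hh⁆ * hh⁻¹ = ⁅hh * aH * hh⁻¹, d⁆ by
          simp only [commutatorElement_def]; group] at h2
      have hZm : ⁅hh, aH⁆ ∈ Z := by
        rw [commutatorElement_def]
        exact Z.mul_mem hconj (Z.inv_mem haZ)
      exact hNRad S hS.2.1 (hZm.2.2 x hx)
  intro x hx
  refine ⟨⁅yH⁻¹ * (aH * yH * aH⁻¹), (⟨x, hPH hx⟩ : ↥H)⁆, hgh ▸ hgoal _ (mem_subgroupOf.mpr hx), ?_⟩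
  simp [commutatorElement_def, hyH, haH]

end Bad

end CfsgLib.TurullFit
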