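import Cfsg.Agent.Lib.TurullFit.Stmts
import Cfsg.Agent.Lib.FgsC.PrimePowerStable

/-!
# Turull's bound for the Fitting height: tools for the structure of the components
-/

set_option autoImplicit false
set_option linter.style.haveILetI false
set_option linter.unusedSectionVars false

open Module
open scoped commutatorElement

namespace CfsgLib.TurullFit.Struct

open CfsgLib.FgsC.HallHigman CfsgLib.FgsC.CoprimeWeights

variable {F : Type*} [Field F] {Γ : Type*} [Group Γ] {V : Type*} [AddCommGroup V] [Module F V]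
  {ρ : Representation F Γ V}

theorem scal_one (U : Submodule F V) : IsScalarOn ρ U 1 :=
  ⟨1, fun v _ => by rw [map_one, End.one_apply, one_smul]⟩

theorem scal_mul {U : Submodule F V} {x y : Γ} (hx : IsScalarOn ρ U x) (hy : IsScalarOn ρ U y) :
    IsScalarOn ρ U (x * y) := by
  obtain ⟨c, hc⟩ := hx
  obtain ⟨d, hd⟩ := hy
  exact ⟨d * c, fun v hv => by rw [map_mul, End.mul_apply, hd v hv, map_smul, hc v hv, smul_smul]⟩

theorem scal_inv {U : Submodule F V} {x : Γ} (hx : IsScalarOn ρ U x) : IsScalarOn ρ U x⁻¹ := by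
  obtain ⟨c, hc⟩ := hx
  refine ⟨c⁻¹, fun v hv => ?_⟩
  rcases eq_or_ne c 0 with rfl | hc0
  · have h0 : ρ x v = 0 := by rw [hc v hv, zero_smul]
    have hv0 : v = 0 := by rw [← rho_apply_inv (ρ := ρ) x v, h0, map_zero]
    simp [hv0]
  · conv_rhs => rw [← rho_apply_inv (ρ := ρ) x v, hc v hv, map_smul, smul_smul,
      inv_mul_cancel₀ hc0, one_smul]

theorem scal_conj {U : Submodule F V} {g x : Γ} (hx : IsScalarOn ρ U x)
    (hg : ∀ v ∈ U, ρ g⁻¹ v ∈ U) : IsScalarOn ρ U (g * x * g⁻¹) := by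
  obtain ⟨c, hc⟩ := hx
  exact ⟨c, fun v hv => by
    rw [map_mul, map_mul, End.mul_apply, End.mul_apply, hc _ (hg v hv), map_smul, rho_inv_apply]⟩

/-- The elements of `E` acting on `U` as scalars. -/
def scalSub (ρ : Representation F Γ V) (E : Subgroup Γ) (U : Submodule F V) : Subgroup Γ where
  carrier := {x | x ∈ E ∧ IsScalarOn ρ U x}
  mul_mem' := fun ⟨hx, hx'⟩ ⟨hy, hy'⟩ => ⟨mul_mem hx hy, scal_mul hx' hy'⟩
  one_mem' := ⟨one_mem _, scal_one U⟩
  inv_mem' := fun ⟨hx, hx'⟩ => ⟨inv_mem hx, scal_inv hx'⟩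

theorem commOn_iff {S : Submodule F V} {x y : Γ} :
    CommOn ρ S x y ↔ ∀ v ∈ S, ρ x (ρ y v) = ρ y (ρ x v) :=
  forall_congr' fun v => forall_congr' fun _ => by rw [rho_mul_apply, rho_mul_apply]

theorem commOn_symm {S : Submodule F V} {x y : Γ} (h : CommOn ρ S x y) : CommOn ρ S y x :=
  fun v hv => (h v hv).symm

theorem commOn_mono {S U : Submodule F V} {x y : Γ} (h : CommOn ρ S x y) (hU : U ≤ S) :
    CommOn ρ U x y := fun v hv => h v (hU hv)

theorem commOn_of_scal {S : Submodule F V} {x y : Γ} (hx : IsScalarOn ρ S x)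
    (hy : ∀ v ∈ S, ρ y v ∈ S) : CommOn ρ S x y := by
  obtain ⟨c, hc⟩ := hx
  exact commOn_iff.2 fun v hv => by rw [hc _ (hy v hv), hc v hv, map_smul]

theorem commOn_of_commute {S : Submodule F V} {x y : Γ} (h : x * y = y * x) : CommOn ρ S x y :=
  fun v _ => by rw [h]

theorem commOn_mul {S : Submodule F V} {x y z : Γ} (hy : CommOn ρ S x y) (hz : CommOn ρ S x z)
    (hzS : ∀ v ∈ S, ρ z v ∈ S) : CommOn ρ S x (y * z) := by
  rw [commOn_iff] at hy hz ⊢
  intro v hv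
  rw [← rho_mul_apply y z, ← rho_mul_apply y z, hy _ (hzS v hv), hz v hv]

theorem commOn_inv {S : Submodule F V} {x y : Γ} (hy : CommOn ρ S x y)
    (hyS : ∀ v ∈ S, ρ y⁻¹ v ∈ S) : CommOn ρ S x y⁻¹ := by
  rw [commOn_iff] at hy ⊢
  intro v hv
  have h := congrArg (ρ y⁻¹) (hy _ (hyS v hv))
  rw [rho_inv_apply, rho_apply_inv] at h
  exact h.symm

/-- The elements of `X` commuting with `x` on a stable subspace. -/
def commSub {X : Subgroup Γ} {S : Submodule F V} (hS : StableUnder ρ X S) (x : Γ) :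
    Subgroup Γ where
  carrier := {y | y ∈ X ∧ CommOn ρ S x y}
  mul_mem' := fun ⟨hy, hy'⟩ ⟨hz, hz'⟩ => ⟨mul_mem hy hz, commOn_mul hy' hz' (hS _ hz)⟩
  one_mem' := ⟨one_mem _, commOn_of_commute (by rw [one_mul, mul_one])⟩
  inv_mem' := fun ⟨hy, hy'⟩ => ⟨inv_mem hy, commOn_inv hy' (hS _ (inv_mem hy))⟩

theorem commOn_iff_fix {S : Submodule F V} {X : Subgroup Γ} (hS : StableUnder ρ X S) {x y : Γ}
    (hx : x ∈ X) (hy : y ∈ X) : CommOn ρ S x y ↔ ∀ v ∈ S, ρ ⁅x, y⁆ v = v := by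
  constructor
  · intro h v hv
    have h1 := h _ (hS _ (inv_mem (mul_mem hy hx)) v hv)
    rw [rho_mul_apply, rho_mul_apply, mul_inv_cancel, map_one, End.one_apply] at h1
    rwa [commutatorElement_def, show x * y * x⁻¹ * y⁻¹ = x * y * (y * x)⁻¹ by group]
  · intro h v hv
    conv_lhs => rw [show x * y = ⁅x, y⁆ * (y * x) by rw [commutatorElement_def]; group,
      ← rho_mul_apply]
    exact h _ (hS _ (mul_mem hy hx) v hv)

section Layer

variable [Finite Γ] {s r : ℕ} {X : Subgroup Γ} {a : Γ} {S : Submodule F V}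

theorem rho_pow_mem {g : Γ} (h : ∀ v ∈ S, ρ g v ∈ S) (n : ℕ) : ∀ v ∈ S, ρ (g ^ n) v ∈ S := by
  induction n with
  | zero => intro v hv; rwa [pow_zero, map_one, End.one_apply]
  | succ n ih => intro v hv; rw [pow_succ, ← rho_mul_apply]; exact ih _ (h v hv)

theorem rho_inv_mem {g : Γ} (h : ∀ v ∈ S, ρ g v ∈ S) : ∀ v ∈ S, ρ g⁻¹ v ∈ S := by
  obtain ⟨n, hn⟩ := mem_powers_iff_mem_zpowers.2 (inv_mem (Subgroup.mem_zpowers g))
  rw [← show g ^ n = g⁻¹ from hn]
  exact rho_pow_mem h n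

variable (L : Layer ρ s r X a)
include L

theorem conj_a_mem {x : Γ} (hx : x ∈ X) : a * x * a⁻¹ ∈ X :=
  (Subgroup.mem_normalizer_iff.mp L.mem_normalizer x).mp hx

theorem orderOf_a : ∃ i, orderOf a = r ^ i := by
  obtain ⟨i, -, hi⟩ := (Nat.dvd_prime_pow L.prime_r).mp
    (show orderOf a ∣ r ^ 1 by rw [pow_one]; exact orderOf_dvd_of_pow_eq_one L.pow_eq_one)
  exact ⟨i, hi⟩

theorem card_X_ne_zero {E : Subgroup Γ} (hE : E ≤ X) : (Nat.card E : F) ≠ 0 := by
  haveI := Fact.mk L.prime_s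
  obtain ⟨k, hk⟩ := IsPGroup.iff_card.mp (L.isPGroup.to_le hE)
  rw [hk, Nat.cast_pow]
  exact pow_ne_zero _ L.s_ne_zero

theorem coprime_a : (Nat.card (Subgroup.zpowers a)).Coprime (Nat.card X) := by
  haveI := Fact.mk L.prime_s
  obtain ⟨i, hi⟩ := orderOf_a L
  obtain ⟨k, hk⟩ := IsPGroup.iff_card.mp L.isPGroup
  rw [Nat.card_zpowers, hi, hk]
  exact Nat.coprime_pow_primes i k L.prime_r L.prime_s L.s_ne_r.symm

theorem solvable_zpowers : Group.IsSolvable (Subgroup.zpowers a) := Group.isSolvable_of_comm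
  fun x y => by
    obtain ⟨x, i, rfl⟩ := x
    obtain ⟨y, j, rfl⟩ := y
    exact Subtype.ext ((Commute.refl a).zpow_zpow i j)

theorem E_le : ⁅X, Subgroup.zpowers a⁆ ≤ X :=
  Coprime.commutator_le_of_le_normalizer (Subgroup.zpowers_le.2 L.mem_normalizer)

theorem a_norm_E :
    a ∈ Subgroup.normalizer ((⁅X, Subgroup.zpowers a⁆ : Subgroup Γ) : Set Γ) :=
  Subgroup.normalizer_commutator_ge_right X (Subgroup.zpowers a) (Subgroup.mem_zpowers a)

theorem layer_E : Layer ρ s r ⁅X, Subgroup.zpowers a⁆ a := L.mono (E_le L) (a_norm_E L)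

theorem exists_split {x : Γ} (hx : x ∈ X) :
    ∃ c ∈ X, a * c = c * a ∧ x * c⁻¹ ∈ ⁅X, Subgroup.zpowers a⁆ := by
  obtain ⟨c, hc, h⟩ := Coprime.exists_commutator_mul_centralizer
    (Subgroup.zpowers_le.2 L.mem_normalizer) (coprime_a L) (Or.inl (solvable_zpowers L)) hx
  exact ⟨c, hc.1, Subgroup.mem_centralizer_iff.mp hc.2 a (Subgroup.mem_zpowers a), h⟩

theorem centerOn_comm (hS : StableUnder ρ X S) {x y : Γ} (hx : x ∈ X) (hy : y ∈ X) :
    CenterOn ρ X S ⁅x, y⁆ := by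
  have hc : ⁅x, y⁆ ∈ X := by
    rw [commutatorElement_def]
    exact mul_mem (mul_mem (mul_mem hx hy) (inv_mem hx)) (inv_mem hy)
  refine ⟨hc, fun z hz => (commOn_iff_fix hS hc hz).2 fun v _ => ?_⟩
  rw [L.classTwo x hx y hy z hz, End.one_apply]

/-- On a component with scalar centre commuting on a nonzero stable subspace is commuting. -/
theorem commOn_up (hS : StableUnder ρ X S) (hfix : FixedType ρ X S) {U : Submodule F V}
    (hUS : U ≤ S) (hU : U ≠ ⊥) {E : Subgroup Γ} (hE : E ≤ X) (hUE : StableUnder ρ E U)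
    {x y : Γ} (hx : x ∈ E) (hy : y ∈ E) (h : CommOn ρ U x y) : CommOn ρ S x y := by
  obtain ⟨c, hc⟩ := hfix _ (centerOn_comm L hS (hE hx) (hE hy))
  obtain ⟨u, hu, hu0⟩ := Submodule.exists_mem_ne_zero_of_ne_bot hU
  have h1 := (commOn_iff_fix hUE hx hy).1 h u hu
  rw [hc u (hUS hu)] at h1
  have hc1 : c = 1 := smul_left_injective F hu0 (show c • u = (1 : F) • u by rw [h1, one_smul])
  exact (commOn_iff_fix hS (hE hx) (hE hy)).2 fun v hv => by rw [hc v hv, hc1, one_smul]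

/-- An element fixed by `a` commutes with `[X, a]` on a component with scalar centre. -/
theorem fixed_commute (hS : Inv ρ X a S) (hfix : FixedType ρ X S) {x : Γ} (hx : x ∈ X)
    (hxa : a * x = x * a) : ∀ e ∈ ⁅X, Subgroup.zpowers a⁆, CommOn ρ S x e := by
  suffices h : ⁅X, Subgroup.zpowers a⁆ ≤ commSub hS.1 x from fun e he => (h he).2
  refine Subgroup.commutator_le.mpr fun z hz g hg => ?_
  obtain ⟨n, rfl⟩ := mem_powers_iff_mem_zpowers.2 hg
  show ⁅z, a ^ n⁆ ∈ X ∧ CommOn ρ S x ⁅z, a ^ n⁆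
  set u := a ^ n * z⁻¹ * (a ^ n)⁻¹ with hu
  have huX : u ∈ X :=
    (Subgroup.mem_normalizer_iff.mp (pow_mem L.mem_normalizer n) _).mp (inv_mem hz)
  have e1 : ⁅z, a ^ n⁆ = z * u := by rw [commutatorElement_def, hu]; group
  rw [e1]
  refine ⟨mul_mem hz huX, (commOn_iff_fix hS.1 hx (mul_mem hz huX)).2 fun v hv => ?_⟩
  have hcx : Commute (a ^ n) x := (show Commute a x from hxa).pow_left n
  have e2 : ⁅x, u⁆ = a ^ n * ⁅x, z⁻¹⁆ * (a ^ n)⁻¹ := by
    have hx' : a ^ n * x * (a ^ n)⁻¹ = x := by rw [hcx.eq, mul_inv_cancel_right]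
    conv_lhs => rw [← hx', hu]
    simp only [commutatorElement_def]
    group
  have e3 : ⁅x, z * u⁆ = ⁅x, z⁆ * (z * ⁅x, u⁆ * z⁻¹) := by
    simp only [commutatorElement_def]; group
  have e4 : ⁅x, z⁆ * (z * ⁅x, z⁻¹⁆ * z⁻¹) = 1 := by
    simp only [commutatorElement_def]; group
  obtain ⟨c, hc⟩ := hfix _ (centerOn_comm L hS.1 hx (inv_mem hz))
  obtain ⟨d, hd⟩ := hfix _ (centerOn_comm L hS.1 hx hz)
  have han : ∀ w ∈ S, ρ (a ^ n)⁻¹ w ∈ S := rho_inv_mem (rho_pow_mem hS.2 n)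
  have h1 : ∀ w ∈ S, ρ (z * ⁅x, u⁆ * z⁻¹) w = c • w := by
    intro w hw
    rw [e2, map_mul, map_mul, End.mul_apply, End.mul_apply, map_mul, map_mul, End.mul_apply,
      End.mul_apply, hc _ (han _ (hS.1 _ (inv_mem hz) w hw)), map_smul, rho_inv_apply, map_smul,
      rho_inv_apply]
  have h2 : ∀ w ∈ S, ρ (z * ⁅x, z⁻¹⁆ * z⁻¹) w = c • w := by
    intro w hw
    rw [map_mul, map_mul, End.mul_apply, End.mul_apply, hc _ (hS.1 _ (inv_mem hz) w hw), map_smul,
      rho_inv_apply]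
  have h3 : ρ (⁅x, z⁆ * (z * ⁅x, z⁻¹⁆ * z⁻¹)) v = v := by rw [e4, map_one, End.one_apply]
  rw [map_mul, End.mul_apply, h2 v hv, map_smul, hd v hv] at h3
  rw [e3, map_mul, End.mul_apply, h1 v hv, map_smul, hd v hv]
  exact h3

/-- Commuting with `[X, a]` on a piece makes an element of it scalar on the component. -/
theorem scal_of_commOn (hS : Inv ρ X a S) (hfix : FixedType ρ X S) {U : Submodule F V}
    (hUS : U ≤ S) (hU : U ≠ ⊥) (hUE : StableUnder ρ ⁅X, Subgroup.zpowers a⁆ U) {x : Γ}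
    (hx : x ∈ ⁅X, Subgroup.zpowers a⁆)
    (h : ∀ y ∈ ⁅X, Subgroup.zpowers a⁆, CommOn ρ U x y) : IsScalarOn ρ S x := by
  refine hfix x ⟨E_le L hx, fun y hy => ?_⟩
  obtain ⟨c, hc, hca, hyc⟩ := exists_split L hy
  have h1 := commOn_up L hS.1 hfix hUS hU (E_le L) hUE hx hyc (h _ hyc)
  have h2 : CommOn ρ S x c := commOn_symm (fixed_commute L hS hfix hc hca x hx)
  simpa using commOn_mul h1 h2 (hS.1 c hc)

theorem scal_up (hS : Inv ρ X a S) (hfix : FixedType ρ X S) {U : Submodule F V}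
    (hUS : U ≤ S) (hU : U ≠ ⊥) (hUE : StableUnder ρ ⁅X, Subgroup.zpowers a⁆ U) {x : Γ}
    (hx : x ∈ ⁅X, Subgroup.zpowers a⁆) (h : IsScalarOn ρ U x) : IsScalarOn ρ S x :=
  scal_of_commOn L hS hfix hUS hU hUE hx fun y hy => commOn_of_scal h (hUE y hy)

/-- A nonzero intertwiner between two stable subspaces of a component with scalar centre. -/
theorem exists_intertwiner (hS : Inv ρ X a S) (hfix : FixedType ρ X S) {W₁ W₂ : Submodule F V}
    (h₁S : W₁ ≤ S) (h₂S : W₂ ≤ S) (h₁0 : W₁ ≠ ⊥) (h₂0 : W₂ ≠ ⊥)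
    (h₂ : StableUnder ρ ⁅X, Subgroup.zpowers a⁆ W₂) :
    ∃ T : End F V, (∀ w, T w ∈ W₂) ∧ (∃ w ∈ W₁, T w ≠ 0) ∧
      ∀ k ∈ ⁅X, Subgroup.zpowers a⁆, ∀ w, T (ρ k w) = ρ k (T w) := by
  classical
  set E := ⁅X, Subgroup.zpowers a⁆ with hE
  haveI : Fintype E := Fintype.ofFinite _
  obtain ⟨v, hv, hv0⟩ := Submodule.exists_mem_ne_zero_of_ne_bot h₁0
  obtain ⟨u₀, hu₀, hu₀0⟩ := Submodule.exists_mem_ne_zero_of_ne_bot h₂0
  obtain ⟨f, hf⟩ := LinearMap.exists_leftInverse_of_injective (LinearMap.toSpanSingleton F V v)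
    (LinearMap.ker_eq_bot.mpr (smul_left_injective F hv0))
  have hfv : f v = 1 := by
    simpa using LinearMap.congr_fun hf (1 : F)
  let T : V → End F V := fun u => ∑ k : E, (f.comp (ρ ((k : Γ)⁻¹))).smulRight (ρ (k : Γ) u)
  have hT : ∀ u w, T u w = ∑ k : E, f (ρ ((k : Γ)⁻¹) w) • ρ (k : Γ) u := fun u w => by
    simp only [T, LinearMap.sum_apply, LinearMap.smulRight_apply, LinearMap.comp_apply]
  suffices h : ∃ u ∈ W₂, T u v ≠ 0 by
    obtain ⟨u, hu, hne⟩ := h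
    refine ⟨T u, fun w => ?_, ⟨v, hv, hne⟩, fun g hg w => ?_⟩
    · rw [hT]
      exact sum_mem fun k _ => Submodule.smul_mem _ _ (h₂ _ k.2 u hu)
    · rw [hT, hT, map_sum]
      refine (Fintype.sum_equiv (Equiv.mulLeft (⟨g, hg⟩ : E)) _ _ fun k => ?_).symm
      rw [map_smul, rho_mul_apply g, rho_mul_apply ((Equiv.mulLeft (⟨g, hg⟩ : E) k : E) : Γ)⁻¹ g]
      simp [mul_assoc]
  by_contra hall
  push Not at hall
  -- average over the conjugates
  have hzero : ∑ t : E, ∑ k : E, f (ρ ((k : Γ)⁻¹) v) • ρ ((t : Γ) * k * (t : Γ)⁻¹) u₀ = 0 := by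
    refine Finset.sum_eq_zero fun t _ => ?_
    have h1 := congrArg (ρ (t : Γ)) (hall _ (h₂ _ (inv_mem t.2) u₀ hu₀))
    rw [hT, map_sum, map_zero] at h1
    refine Eq.trans (Finset.sum_congr rfl fun k _ => ?_) h1
    rw [map_smul, rho_mul_apply, rho_mul_apply, mul_assoc]
  rw [Finset.sum_comm] at hzero
  simp only [← Finset.smul_sum] at hzero
  set Z := Finset.univ.filter fun k : E => IsScalarOn ρ S (k : Γ) with hZ
  have hcase : ∀ k : E, f (ρ ((k : Γ)⁻¹) v) • ∑ t : E, ρ ((t : Γ) * k * (t : Γ)⁻¹) u₀ =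
      if IsScalarOn ρ S (k : Γ) then (Nat.card E : F) • u₀ else 0 := by
    intro k
    by_cases hk : IsScalarOn ρ S (k : Γ)
    · rw [if_pos hk]
      obtain ⟨c, hc⟩ := hk
      have hsum : ∀ t : E, ρ ((t : Γ) * k * (t : Γ)⁻¹) u₀ = c • u₀ := fun t => by
        rw [map_mul, map_mul, End.mul_apply, End.mul_apply,
          hc _ (h₂S (h₂ _ (inv_mem t.2) u₀ hu₀)), map_smul, rho_inv_apply]
      have hc0 : c ≠ 0 := fun h0 =>
        rho_ne_zero (ρ := ρ) (g := (k : Γ)) hu₀0 (by rw [hc _ (h₂S hu₀), h0, zero_smul])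
      have hkv : ρ ((k : Γ)⁻¹) v = c⁻¹ • v := by
        conv_rhs => rw [← rho_apply_inv (ρ := ρ) (k : Γ) v, hc v (h₁S hv), map_smul, smul_smul,
          inv_mul_cancel₀ hc0, one_smul]
      rw [Finset.sum_congr rfl (fun t _ => hsum t), Finset.sum_const, Finset.card_univ,
        ← Nat.card_eq_fintype_card, ← Nat.cast_smul_eq_nsmul F, hkv, map_smul, hfv, smul_smul,
        smul_smul, smul_eq_mul, mul_one]
      congr 1
      field_simp
    · rw [if_neg hk]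
      obtain ⟨t₀, ht₀, hne⟩ : ∃ t₀ ∈ E, ¬ CommOn ρ S t₀ (k : Γ) := by
        by_contra hh
        push Not at hh
        exact hk (scal_of_commOn L hS hfix le_rfl (fun e => h₁0 (le_bot_iff.mp (e ▸ h₁S)))
          (fun y hy => hS.1 y (E_le L hy)) k.2 fun y hy => commOn_symm (hh y hy))
      obtain ⟨c, hc⟩ := hfix _ (centerOn_comm L hS.1 (E_le L ht₀) (E_le L k.2))
      have hc1 : c ≠ 1 := fun e => hne ((commOn_iff_fix hS.1 (E_le L ht₀) (E_le L k.2)).2
        fun w hw => by rw [hc w hw, e, one_smul])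
      set σ := ∑ t : E, ρ ((t : Γ) * k * (t : Γ)⁻¹) u₀ with hσ
      have h1 : σ = c • σ := by
        conv_lhs => rw [hσ]
        rw [hσ, Finset.smul_sum]
        refine (Fintype.sum_equiv (Equiv.mulLeft (⟨t₀, ht₀⟩ : E)) _ _ fun t => ?_).symm
        obtain ⟨d, hd⟩ := hfix _ (centerOn_comm L hS.1 (E_le L t.2) (E_le L k.2))
        have hku : ρ (k : Γ) u₀ ∈ S := hS.1 _ (E_le L k.2) _ (h₂S hu₀)
        have e1 : ρ ((t : Γ) * k * (t : Γ)⁻¹) u₀ = d • ρ (k : Γ) u₀ := by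
          rw [show (t : Γ) * k * (t : Γ)⁻¹ = ⁅(t : Γ), (k : Γ)⁆ * k by
            rw [commutatorElement_def]; group, ← rho_mul_apply, hd _ hku]
        show c • ρ ((t : Γ) * k * (t : Γ)⁻¹) u₀ =
          ρ (t₀ * (t : Γ) * k * (t₀ * (t : Γ))⁻¹) u₀
        have hw : ρ t₀⁻¹ u₀ ∈ S := hS.1 _ (inv_mem (E_le L ht₀)) _ (h₂S hu₀)
        have e2 : ρ (t₀ * (t : Γ) * k * (t₀ * (t : Γ))⁻¹) u₀ =
            d • ρ (t₀ * (k : Γ) * t₀⁻¹) u₀ := by
          rw [show t₀ * (t : Γ) * k * (t₀ * (t : Γ))⁻¹ =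
            t₀ * (⁅(t : Γ), (k : Γ)⁆ * k) * t₀⁻¹ by rw [commutatorElement_def]; group,
            map_mul, map_mul, map_mul, End.mul_apply, End.mul_apply, End.mul_apply,
            hd _ (hS.1 _ (E_le L k.2) _ hw), map_smul]
          simp only [map_mul, End.mul_apply]
        rw [e1, e2, show t₀ * (k : Γ) * t₀⁻¹ = ⁅t₀, (k : Γ)⁆ * k by
          rw [commutatorElement_def]; group, ← rho_mul_apply, hc _ hku, smul_smul, smul_smul,
          mul_comm]
      have h2 : (c - 1) • σ = 0 := by rw [sub_smul, one_smul, ← h1, sub_self]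
      rw [(smul_eq_zero.mp h2).resolve_left (sub_ne_zero.mpr hc1), smul_zero]
  rw [Finset.sum_congr rfl (fun k _ => hcase k), ← Finset.sum_filter, Finset.sum_const,
    ← Nat.cast_smul_eq_nsmul F, smul_smul, smul_eq_zero] at hzero
  rcases hzero with h | h
  · rcases mul_eq_zero.mp h with h' | h'
    · refine card_X_ne_zero L (E := scalSub ρ E S) (fun x hx => E_le L hx.1) ?_
      rw [← h']
      congr 1
      rw [← Nat.card_eq_finsetCard]
      exact Nat.card_congr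
        { toFun := fun x => ⟨⟨x.1, x.2.1⟩, by simp [x.2.2]⟩
          invFun := fun x => ⟨x.1.1, x.1.2, (Finset.mem_filter.mp x.2).2⟩
          left_inv := fun x => rfl
          right_inv := fun x => rfl }
    · exact card_X_ne_zero L (E_le L) h'
  · exact hu₀0 h

end Layer

end CfsgLib.TurullFit.Struct
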