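import Cfsg.Agent.Lib.TurullFit.Common

/-!
# Turull's bound for the Fitting height: preserved central characters

If the commutators of `g` with the fixed points of `a` in the radical fix the good components, `g`
preserves their fixers and central characters.
-/

set_option autoImplicit false
set_option linter.style.haveILetI false

open Subgroup Module
open scoped commutatorElement

namespace CfsgLib.TurullFit

universe u

variable {F : Type} [Field F] {Δ V : Type u} [Group Δ] [Finite Δ] [AddCommGroup V] [Module F V]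
  {ρ : Representation F Δ V}

theorem preserves_of_fix {s r : ℕ} {X Q : Subgroup Δ} {a g : Δ} (L : Layer ρ s r X a) (hQX : Q ≤ X)
    (hQc : ∀ q ∈ Q, ∀ y ∈ X, ρ (q * y) = ρ (y * q)) (hcomm : ∀ x ∈ X, ∀ y ∈ X, ⁅x, y⁆ ∈ Q)
    (haQ : a ∈ normalizer (Q : Set Δ)) (hgQ : g ∈ normalizer (Q : Set Δ))
    (hgX : g ∈ normalizer (X : Set Δ)) (hga : a * g = g * a)
    (hfpf : ∀ x ∈ X, a * x = x * a → x ∈ Q)
    (hfix : ∀ c ∈ Q, a * c = c * a → ∀ S, Good ρ X a S → S ≤ fixSub ρ ⁅g, c⁆) :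
    Preserves ρ X a g := by
  intro S hS hft
  have hI := hS.1.2.1
  have hst : ∀ b ∈ zpowers a, ∀ v ∈ S, ρ b v ∈ S := fun b hb v hv => by
    obtain ⟨n, rfl⟩ := (isOfFinOrder_of_finite a).mem_powers_iff_mem_zpowers.mpr hb
    exact hI.pow_mem n hv
  -- commutators with `a` of central elements are trivial on `S`
  have htriv : ∀ u, CenterOn ρ X S u → ∀ b ∈ zpowers a, ∀ v ∈ S, ρ ⁅u, b⁆ v = v := by
    intro u hu b hb v hv
    obtain ⟨c, hc⟩ := hft u hu
    have hub : b * u⁻¹ * b⁻¹ ∈ X :=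
      (mem_normalizer_iff.mp (zpowers_le.mpr L.mem_normalizer hb) u⁻¹).mp (X.inv_mem hu.1)
    rw [show ⁅u, b⁆ = u * (b * u⁻¹ * b⁻¹) by rw [commutatorElement_def]; group, map_mul,
      End.mul_apply, hc _ (hI.1 _ hub v hv)]
    have h1 : ρ (b * u⁻¹ * b⁻¹) v = ρ b (ρ u⁻¹ (ρ b⁻¹ v)) := by
      rw [map_mul, map_mul]; rfl
    rw [h1, ← map_smul, ← hc _ (hI.1 _ (X.inv_mem hu.1) _ (hst _ (inv_mem hb) v hv)),
      ← End.mul_apply (ρ u), ← map_mul, mul_inv_cancel, map_one, End.one_apply,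
      ← End.mul_apply (ρ b), ← map_mul, mul_inv_cancel, map_one, End.one_apply]
  -- the elements with preserved character
  have key : ∀ K : Subgroup Δ, a ∈ normalizer (K : Set Δ) →
      (∀ u ∈ K, CenterOn ρ X S u ∧ CenterOn ρ X S (g * u * g⁻¹)) →
      ∀ w ∈ K, ∀ v ∈ S, ρ (g * w * g⁻¹) v = ρ w v := by
    intro K haK hK w hw
    let W : Subgroup Δ :=
      { carrier := {u | u ∈ K ∧ ∀ v ∈ S, ρ (g * u * g⁻¹) v = ρ u v}
        one_mem' := ⟨K.one_mem, fun v _ => by rw [mul_one, mul_inv_cancel]⟩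
        mul_mem' := fun {u u'} hu hu' => ⟨K.mul_mem hu.1 hu'.1, fun v hv => by
          rw [show g * (u * u') * g⁻¹ = (g * u * g⁻¹) * (g * u' * g⁻¹) by group, map_mul,
            End.mul_apply, hu'.2 v hv, hu.2 _ (hI.1 _ (hK _ hu'.1).1.1 v hv), map_mul ρ u u',
            End.mul_apply]⟩
        inv_mem' := fun {u} hu => ⟨K.inv_mem hu.1, fun v hv => by
          have h1 := hu.2 _ (hI.1 _ (X.inv_mem (hK _ hu.1).1.1) v hv)
          rw [← End.mul_apply (ρ u), ← map_mul, mul_inv_cancel, map_one, End.one_apply] at h1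
          have h2 := congrArg (ρ (g * u * g⁻¹)⁻¹) h1
          rw [← End.mul_apply, ← map_mul, inv_mul_cancel, map_one, End.one_apply] at h2
          rw [show g * u⁻¹ * g⁻¹ = (g * u * g⁻¹)⁻¹ by group, ← h2]⟩ }
    have hgen : ⁅K, zpowers a⁆ ≤ W := by
      refine commutator_le.mpr fun u hu b hb => ⟨?_, fun v hv => ?_⟩
      · exact Coprime.commutator_le_of_le_normalizer (zpowers_le.mpr haK)
          (commutator_mem_commutator hu hb)
      have hgb : g * b * g⁻¹ = b := by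
        obtain ⟨n, rfl⟩ := mem_zpowers_iff.mp hb
        rw [((show Commute g a from hga.symm).zpow_right n).eq, mul_inv_cancel_right]
      rw [htriv u (hK u hu).1 b hb v hv, show g * ⁅u, b⁆ * g⁻¹ = ⁅g * u * g⁻¹, g * b * g⁻¹⁆ by
        simp only [commutatorElement_def]; group, hgb, htriv _ (hK u hu).2 b hb v hv]
    have hcop : (Nat.card (zpowers a)).Coprime (Nat.card K) := by
      haveI := Fact.mk L.prime_s
      obtain ⟨n, hn⟩ := IsPGroup.iff_card.mp (L.isPGroup.to_le fun u hu => (hK u hu).1.1)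
      rw [hn, Nat.card_zpowers]
      exact Nat.Coprime.pow_right _ (Nat.Coprime.coprime_dvd_left
        (orderOf_dvd_of_pow_eq_one L.pow_eq_one)
        ((Nat.coprime_primes L.prime_r L.prime_s).mpr L.s_ne_r.symm))
    obtain ⟨c, hc, hn⟩ := Coprime.exists_commutator_mul_centralizer (zpowers_le.mpr haK) hcop
      (Or.inl inferInstance) hw
    have hca : a * c = c * a := mem_centralizer_iff.mp hc.2 a (mem_zpowers a)
    have hcQ : c ∈ Q := hfpf c (hK c hc.1).1.1 hca
    have hcW : c ∈ W := ⟨hc.1, fun v hv => by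
      rw [show g * c * g⁻¹ = ⁅g, c⁆ * c by rw [commutatorElement_def]; group, map_mul,
        End.mul_apply, hfix c hcQ hca S hS (hI.1 _ (hK c hc.1).1.1 v hv)]⟩
    have hwW : w ∈ W := by
      rw [show w = w * c⁻¹ * c by group]
      exact W.mul_mem (hgen hn) hcW
    exact hwW.2
  have hQcen : ∀ q ∈ Q, CenterOn ρ X S q := fun q hq =>
    ⟨hQX hq, fun y hy v _ => by rw [hQc q hq y hy]⟩
  have hQw := key Q haQ fun u hu => ⟨hQcen u hu, hQcen _ ((mem_normalizer_iff.mp hgQ u).mp hu)⟩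
  have hconj : ∀ w, CenterOn ρ X S w → CenterOn ρ X S (g * w * g⁻¹) := by
    intro w hw
    refine ⟨(mem_normalizer_iff.mp hgX w).mp hw.1, fun y hy => ?_⟩
    have hy' : g⁻¹ * y * g ∈ X := by
      simpa using (mem_normalizer_iff.mp (inv_mem hgX) y).mp hy
    refine (hI.1.commOn_iff ((mem_normalizer_iff.mp hgX w).mp hw.1) hy).mpr fun v hv => ?_
    rw [show ⁅g * w * g⁻¹, y⁆ = g * ⁅w, g⁻¹ * y * g⁆ * g⁻¹ by
      simp only [commutatorElement_def]; group, hQw _ (hcomm w hw.1 _ hy') v hv]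
    exact (hI.1.commOn_iff hw.1 hy').mp (hw.2 _ hy') v hv
  have hall : ∀ w, CenterOn ρ X S w → ∀ v ∈ S, ρ (g * w * g⁻¹) v = ρ w v := fun w hw =>
    key (centerSub ρ X S) (hI.normalizer_centerSub L.mem_normalizer) (fun u hu =>
      ⟨(mem_centerSub hI.1).mp hu, hconj u ((mem_centerSub hI.1).mp hu)⟩) w
      ((mem_centerSub hI.1).mpr hw)
  refine ⟨fun x hx hxS v hv => ?_, hall⟩
  have hcen : CenterOn ρ X S x := ⟨hx, fun y hy v hv => by
    rw [map_mul, map_mul, End.mul_apply, End.mul_apply, hxS _ (hI.1 y hy v hv), hxS v hv]⟩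
  rw [hall x hcen v hv, hxS v hv]

end CfsgLib.TurullFit
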