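import Cfsg.Agent.Lib.TurullFit.Common
import Cfsg.Agent.Lib.TurullFit.StructTools
import Cfsg.Agent.Lib.TurullFit.Weights

/-!
# Turull's bound for the Fitting height: no good component above the first nontrivial level
-/

set_option autoImplicit false
set_option linter.style.haveILetI false
set_option linter.unusedSectionVars false

open Subgroup Module
open scoped commutatorElement

namespace CfsgLib.TurullFit

open CfsgLib.FgsB.FixedPointHeight CfsgLib.FgsC.CoprimeWeights

universe u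

namespace CaseExc

variable {F : Type} [Field F] {Δ V : Type u} [Group Δ] [Finite Δ] [AddCommGroup V] [Module F V]
  {ρ : Representation F Δ V}

theorem normEnd_fixed {a : Δ} {r : ℕ} (har : a ^ r = 1) (v : V) :
    normEnd ρ a r v ∈ fixSub ρ a := by
  have := LinearMap.congr_fun (pow_mul_normEnd (ρ := ρ) har 1) v
  rw [mem_fixSub]
  simpa using this

/-- Without fixed points on the components there are none at all. -/
theorem fixSub_eq_bot {s r : ℕ} {X : Subgroup Δ} {a : Δ} (L : Layer ρ s r X a)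
    (hsup : sSup {S | Comp ρ X a S} = ⊤) (h : ∀ S, Comp ρ X a S → S ⊓ fixSub ρ a = ⊥) :
    fixSub ρ a = ⊥ := by
  have hN : (⊤ : Submodule F V) ≤ LinearMap.ker (normEnd ρ a r) := by
    rw [← hsup]
    refine sSup_le fun S hS v hv => LinearMap.mem_ker.mpr ((Submodule.mem_bot F).mp (h S hS ▸ ?_))
    refine ⟨?_, normEnd_fixed L.pow_eq_one v⟩
    rw [normEnd_apply]
    exact sum_mem fun i _ => hS.2.1.pow_mem _ hv
  refine (Submodule.eq_bot_iff _).mpr fun v hv => ?_
  have h1 := LinearMap.mem_ker.mp (hN (Submodule.mem_top : v ∈ ⊤))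
  have hp : ∀ i : ℕ, ρ (a ^ i) v = v := by
    intro i
    induction i with
    | zero => rw [pow_zero, map_one, End.one_apply]
    | succ i ih => rw [pow_succ, map_mul, End.mul_apply, (mem_fixSub.mp hv : ρ a v = v), ih]
  rw [normEnd_apply] at h1
  simp only [hp, Finset.sum_const, Finset.card_univ, Fintype.card_fin,
    ← Nat.cast_smul_eq_nsmul F, smul_eq_zero] at h1
  exact h1.resolve_left L.r_ne_zero

/-- A nontrivial action has a noncentral component. -/
theorem exists_noncentral {X : Subgroup Δ} {a : Δ}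
    (hsup : sSup {S | Comp ρ X a S} = ⊤) (hnt : ∃ x ∈ X, ρ ⁅a, x⁆ ≠ 1) :
    ∃ S, Comp ρ X a S ∧ Noncentral ρ X a S := by
  by_contra hno
  push Not at hno
  obtain ⟨x, hx, hne⟩ := hnt
  refine hne (LinearMap.ext fun v => ?_)
  have h1 : (⊤ : Submodule F V) ≤ fixSub ρ ⁅a, x⁆ := by
    rw [← hsup]
    refine sSup_le fun S hS w hw => ?_
    have h2 : ∀ u ∈ S, ρ (a * x * a⁻¹) u = ρ x u := fun u hu => by
      by_contra h3
      exact hno S hS ⟨x, hx, u, hu, h3⟩
    rw [mem_fixSub, commutatorElement_def, map_mul, End.mul_apply,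
      h2 _ (hS.2.1.1 _ (inv_mem hx) w hw), ← End.mul_apply, ← map_mul, mul_inv_cancel, map_one,
      End.one_apply]
  rw [End.one_apply]
  exact h1 (Submodule.mem_top : v ∈ ⊤)

variable {Z Q : Subgroup Δ} [Z.Normal] [Q.Normal] {q r : ℕ} {a : Δ}

/-- No fixed functionals: no fixed points modulo the radical. -/
theorem fpf_of_fixSub (E : ElemSection F q Z Q) (har : a ^ r = 1) (hr : (r : F) ≠ 0)
    (hfix : fixSub (dualRep F Z Q) a = ⊥) {z : Δ} (hz : z ∈ Z) (hza : ⁅a, z⁆ ∈ Q) : z ∈ Q := by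
  by_contra hzQ
  obtain ⟨f, -, hf⟩ := E.exists_annih le_rfl E.le hz hzQ
  refine hf ?_
  have h1 : ∀ g : ↥(dualSub F Z Q),
      (dualRep F Z Q a g : ↥Z → F) ⟨z, hz⟩ = (g : ↥Z → F) ⟨z, hz⟩ := by
    intro g
    have hw : a⁻¹ * ⁅a, z⁆⁻¹ * a ∈ Q := by
      simpa using (inferInstance : Q.Normal).conj_mem _ (inv_mem hza) a⁻¹
    rw [dualRep_apply, ← zero_add ((g : ↥Z → F) ⟨z, hz⟩),
      ← g.2.2 ⟨a⁻¹ * ⁅a, z⁆⁻¹ * a, E.le hw⟩ hw, ← g.2.1]
    refine congrArg (g : ↥Z → F) (Subtype.ext ?_)
    simp [commutatorElement_def, mul_assoc]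
  have h2 : ∀ (i : ℕ) (g : ↥(dualSub F Z Q)),
      (dualRep F Z Q (a ^ i) g : ↥Z → F) ⟨z, hz⟩ = (g : ↥Z → F) ⟨z, hz⟩ := by
    intro i
    induction i with
    | zero => intro g; rw [pow_zero, map_one, End.one_apply]
    | succ i ih => intro g; rw [pow_succ, map_mul, End.mul_apply, ih, h1]
  have h3 : normEnd (dualRep F Z Q) a r f = 0 :=
    (Submodule.mem_bot F).mp (hfix ▸ normEnd_fixed har f)
  have h4 := congrArg (fun g : ↥(dualSub F Z Q) => (g : ↥Z → F) ⟨z, hz⟩) h3
  simp only [normEnd_apply, AddSubmonoidClass.coe_finsetSum, Finset.sum_apply, h2,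
    Finset.sum_const, Finset.card_univ, Fintype.card_fin, nsmul_eq_mul, ZeroMemClass.coe_zero,
    Pi.zero_apply, mul_eq_zero] at h4
  exact h4.resolve_left hr

/-- No fixed points modulo the radical: no fixed functionals. -/
theorem fixSub_of_fpf (ha : a ∈ Subgroup.normalizer (Z : Set Δ))
    (hcop : (Nat.card (zpowers a)).Coprime (Nat.card Z)) (hfpf : ∀ z ∈ Z, ⁅a, z⁆ ∈ Q → z ∈ Q) :
    fixSub (dualRep F Z Q) a = ⊥ := by
  refine (Submodule.eq_bot_iff _).mpr fun f hf => Subtype.ext (funext fun z => ?_)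
  obtain ⟨c, hc, hw⟩ := Coprime.exists_commutator_mul_centralizer
    (zpowers_le.mpr ha) hcop (Or.inl inferInstance) z.2
  have hca : a * c = c * a := mem_centralizer_iff.mp hc.2 a (mem_zpowers a)
  have hcQ : c ∈ Q := hfpf c hc.1 (by
    rw [commutatorElement_def, hca, mul_inv_cancel_right, mul_inv_cancel]; exact one_mem _)
  rw [fixSub_eq_annih] at hf
  obtain ⟨_, h0⟩ : (z : Δ) ∈ zeros f := by
    rw [show (z : Δ) = (z : Δ) * c⁻¹ * c by group]
    exact mul_mem ⟨commutator_le_left Z (zpowers a) hw, hf _ hw⟩ ⟨hc.1, f.2.2 ⟨c, hc.1⟩ hcQ⟩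
  exact h0

end CaseExc

open CaseExc

variable {Γ : Type u} [Group Γ] [Finite Γ] {P Q : ℕ → Subgroup Γ} {p : ℕ → ℕ} {G : Subgroup Γ}
  {a : Γ} {r h : ℕ}

/-- Above the first nontrivial level without good components: it is a `2`-level and `a` has no
fixed points on the next one. -/
theorem Tower.exc_facts_first (hP : Parts.{u}) (T : Tower G a r h P Q p) (hr : r.Prime)
    (har : a ^ r = 1) {k : ℕ} (hk : k + 2 < h) (hbelow : ∀ i, i < k + 1 → TrivAt P Q a i)
    (hnt : ¬ TrivAt P Q a (k + 1)) [Fact (p (k + 2)).Prime]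
    (hng : ∀ S, ¬ Good (lvlRep (AlgebraicClosure (ZMod (p (k + 2)))) P Q (k + 2))
      ((P (k + 1)).subgroupOf _) ⟨a, T.a_mem_lvlGroup hk⟩ S) :
    p (k + 1) = 2 ∧ ∀ x ∈ P (k + 2), a * x * a⁻¹ * x⁻¹ ∈ Q (k + 2) → x ∈ Q (k + 2) := by
  set F₁ := AlgebraicClosure (ZMod (p (k + 2)))
  set H := lvlGroup P Q (k + 2) with hH
  set ρ := lvlRep F₁ P Q (k + 2) with hρ
  set X := (P (k + 1)).subgroupOf H with hX
  set aH : ↥H := ⟨a, T.a_mem_lvlGroup hk⟩ with haH
  have L : Layer ρ (p (k + 1)) r X aH := T.layer hr har hk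
  have hcentA : ∀ i, i < k + 1 → P i ≤ centralizer {a} := fun i hi =>
    T.le_centralizer hr har i (by omega) fun l hl => hbelow l (by omega)
  -- `P (k + 1)` is generated by commutators with `a`
  have hU : ⁅P (k + 1), zpowers a⁆ = P (k + 1) := by
    have hn : ∀ g : Γ, g ∈ normalizer (P (k + 1) : Set Γ) → a * g = g * a →
        g ∈ normalizer (⁅P (k + 1), zpowers a⁆ : Subgroup Γ) := by
      intro g h1 h2
      rw [mem_normalizer_iff_map_conj_eq, map_commutator, mem_normalizer_iff_map_conj_eq.mp h1,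
        MonoidHom.map_zpowers]
      congr 2
      show g * a * g⁻¹ = a
      rw [← h2, mul_inv_cancel_right]
    rcases T.minimal (k + 1) hk _
      (Coprime.commutator_le_of_le_normalizer (T.zpowers_le_norm (by omega)))
      (hn a (T.a_norm _ (by omega)) rfl) (fun i hi g hg => hn g (T.norm i (k + 1) hi.le (by omega) hg)
        (mem_centralizer_singleton_iff.mp (hcentA i hi hg)).symm) with h1 | h1
    · refine absurd (fun x hx => ?_) hnt
      have h2 := h1 (commutator_mem_commutator hx (mem_zpowers a))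
      rw [commutatorElement_def] at h2
      have := inv_mem h2
      simpa [mul_assoc] using this
    · exact h1
  have hall : ∀ S, Comp ρ X aH S → Noncentral ρ X aH S := by
    intro S hS
    by_contra hc
    unfold Noncentral at hc
    push Not at hc
    -- the elements fixing `S`
    let K : Subgroup Γ := (fixer ρ S).map H.subtype
    have hK : ⁅P (k + 1), zpowers a⁆ ≤ K := by
      rw [commutator_comm, commutator_le]
      intro b hb x hx
      have hxH : x ∈ H := T.mem_lvlGroup (by omega) hk hx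
      obtain ⟨n, rfl⟩ := (isOfFinOrder_of_finite a).mem_powers_iff_mem_zpowers.mpr hb
      refine ⟨⁅aH ^ n, (⟨x, hxH⟩ : ↥H)⁆, fun v hv => ?_, by simp [haH, commutatorElement_def]⟩
      have hn : ∀ (m : ℕ), ∀ y ∈ X, ∀ w ∈ S, ρ (aH ^ m * y * (aH ^ m)⁻¹) w = ρ y w := by
        intro m
        induction m with
        | zero => intro y _ w _; simp
        | succ m ih =>
          intro y hy w hw
          have hy' : aH ^ m * y * (aH ^ m)⁻¹ ∈ X :=
            (mem_normalizer_iff.mp (pow_mem L.mem_normalizer m) y).mp hy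
          rw [show aH ^ (m + 1) * y * (aH ^ (m + 1))⁻¹ =
            aH * (aH ^ m * y * (aH ^ m)⁻¹) * aH⁻¹ by rw [pow_succ']; group, hc _ hy' w hw,
            ih y hy w hw]
      rw [commutatorElement_def, map_mul, End.mul_apply,
        hn n _ hx _ (hS.2.1.1 _ (X.inv_mem hx) v hv), ← End.mul_apply, ← map_mul, mul_inv_cancel,
        map_one, End.one_apply]
    rw [hU] at hK
    refine hS.1 ((Submodule.eq_bot_iff S).mpr fun f hf => T.eq_zero_of_fixed hk fun x hx => ?_)
    obtain ⟨y, hy, e⟩ := hK (mem_subgroupOf.mp hx)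
    rw [Subtype.coe_injective e] at hy
    exact hy f hf
  have hexc : ∀ S, Comp ρ X aH S → S ⊓ fixSub ρ aH = ⊥ := fun S hS => by
    by_contra h0
    exact hng S ⟨hS, hall S hS, h0⟩
  have hsup := (hP.semi F₁ _ _ ρ _ r X aH L).2
  refine ⟨?_, ?_⟩
  · obtain ⟨S, hS, hSn⟩ := T.exists_noncentral hP.semi hr har (j := k + 1) hk hnt F₁
    refine (hP.exc F₁ _ _ ρ (p (k + 1)) r X aH S L ⟨hS, hSn, hexc S hS⟩ fun x hx =>
      ⟨pow_mem hx _, fun y hy v _ => ?_⟩).1
    have h1 : ρ ⁅x ^ p (k + 1), y⁆ = 1 := (T.lvlRep_eq_one hk _).mpr (by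
      simpa [InKer, commutatorElement_def] using
        T.cent (k + 1) hk _ (T.pow (k + 1) (by omega) (x : Γ) hx) (y : Γ) hy)
    rw [show x ^ p (k + 1) * y = ⁅x ^ p (k + 1), y⁆ * (y * x ^ p (k + 1)) by
      rw [commutatorElement_def]; group, map_mul, h1, one_mul]
  · intro x hx hax
    have hxH : x ∈ H := T.mem_lvlGroup le_rfl hk hx
    refine mem_subgroupOf.mp (fpf_of_fixSub (T.elemSection (F := F₁) hk) L.pow_eq_one L.r_ne_zero
      (fixSub_eq_bot L hsup hexc) (z := ⟨x, hxH⟩) hx (mem_subgroupOf.mpr ?_))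
    simpa [haH, commutatorElement_def] using hax

/-- No good component above the first nontrivial level: the fixed points have depth `h - 3`. -/
theorem Tower.case_exc (hP : Parts.{u}) (T : Tower G a r h P Q p) (hr : r.Prime) (har : a ^ r = 1)
    {k : ℕ} (hk : k + 3 < h) (hbelow : ∀ i, i < k + 1 → TrivAt P Q a i)
    (hnt : ¬ TrivAt P Q a (k + 1)) [Fact (p (k + 2)).Prime]
    (hng : ∀ S, ¬ Good (lvlRep (AlgebraicClosure (ZMod (p (k + 2)))) P Q (k + 2))
      ((P (k + 1)).subgroupOf _) ⟨a, T.a_mem_lvlGroup (by omega)⟩ S) :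
    res (G ⊓ centralizer {a}) (h - 3) ≠ ⊥ := by
  intro hres
  obtain ⟨h2, hfpfZ⟩ := T.exc_facts_first hP hr har (by omega) hbelow hnt hng
  set C := G ⊓ centralizer {a} with hC
  have hC' : ∀ j, j < h → fixPart a (P j) ≤ C := fun j hj =>
    inf_le_inf_right _ (T.le j hj)
  have hcentA : ∀ i, i ≤ k → P i ≤ centralizer {a} := fun i hi =>
    T.le_centralizer hr har i (by omega) fun l hl => hbelow l (by omega)
  have hcomA : ∀ y ∈ P k, a * y = y * a := fun y hy =>
    (mem_centralizer_singleton_iff.mp (hcentA k le_rfl hy)).symm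
  have hYres : P k ≤ res C k :=
    T.le_res k (by omega) fun i hi => le_inf (T.le i (by omega)) (hcentA i hi)
  haveI := Fact.mk (T.prime (k + 3) hk)
  set F := AlgebraicClosure (ZMod (p (k + 3)))
  set F₁ := AlgebraicClosure (ZMod (p (k + 2)))
  -- elements moving level `k + 3` give depth `h - 3`
  have hmove1 : ∀ x : Γ, a * x = x * a → x ∈ normalizer (P (k + 3) : Set Γ) →
      x ∈ res C (k + 1) → ∀ d ∈ P (k + 3), ⁅x, d⁆ ∈ wAt P Q a h (k + 3) := by
    intro x hx hxP hxi d hd
    by_contra hne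
    have h1 := T.res_ne_bot hr har hC' (h - 4 - k) (k + 3) (k + 1) (by omega)
      (T.exists_moved hr har hk (hC' _ hk) hx hxP hd hne hxi)
    rw [show k + 1 + (h - 4 - k) = h - 3 by omega] at h1
    exact h1 hres
  have hmove0 : p k ≠ p (k + 3) → ∀ y ∈ P k, ∀ d ∈ P (k + 3), ⁅y, d⁆ ∈ wAt P Q a h (k + 3) := by
    intro hne y hy d hd
    by_contra hnm
    have hord : (orderOf y).Coprime (p (k + 3)) := by
      haveI := Fact.mk (T.prime k (by omega))
      obtain ⟨n, hn⟩ := IsPGroup.iff_card.mp (T.isPGroup k (by omega))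
      exact Nat.Coprime.coprime_dvd_left (hn ▸ (P k).orderOf_dvd_natCard hy)
        (((Nat.coprime_primes (T.prime k (by omega)) (T.prime (k + 3) hk)).mpr hne).pow_left n)
    have h1 := T.res_ne_bot hr har hC' (h - 4 - k) (k + 3) (k + 1) (by omega)
      (T.exists_moved_succ hr har hk (hC' _ hk) (hcomA y hy) (T.norm k (k + 3) (by omega) hk hy)
        hord hd hnm (hYres hy))
    rw [show k + 1 + (h - 4 - k) = h - 3 by omega] at h1
    exact h1 hres
  -- commutators of fixed points with `P k`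
  have hdeep : ∀ D : Subgroup Γ, D ≤ C → P k ≤ normalizer (D : Set Γ) →
      D ≤ normalizer (P (k + 3) : Set Γ) → (Nat.card (P k)).Coprime (Nat.card D) →
      ∀ x ∈ ⁅D, P k⁆, ∀ d ∈ P (k + 3), ⁅x, d⁆ ∈ wAt P Q a h (k + 3) := by
    intro D hD hn hDP hcop x hx
    haveI := Fact.mk (T.prime k (by omega))
    haveI := (T.isPGroup k (by omega)).isNilpotent
    have h1 : ⁅D, P k⁆ ≤ centralizer {a} ⊓ normalizer (P (k + 3) : Set Γ) := by
      refine commutator_le.mpr fun u hu y hy => ?_
      have hu' : u ∈ centralizer {a} ⊓ normalizer (P (k + 3) : Set Γ) := ⟨(hD hu).2, hDP hu⟩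
      have hy' : y ∈ centralizer {a} ⊓ normalizer (P (k + 3) : Set Γ) :=
        ⟨hcentA k le_rfl hy, T.norm k (k + 3) (by omega) hk hy⟩
      exact mul_mem (mul_mem (mul_mem hu' hy') (inv_mem hu')) (inv_mem hy')
    exact hmove1 x (mem_centralizer_singleton_iff.mp (h1 hx).1).symm (h1 hx).2
      (commutator_le_res hD hYres hn hcop (Or.inl inferInstance) hx)
  have hcop : ∀ (j : ℕ), j < h → p k ≠ p j → ∀ D : Subgroup Γ, D ≤ P j →
      (Nat.card (P k)).Coprime (Nat.card D) := by
    intro j hj hne D hD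
    haveI := Fact.mk (T.prime k (by omega))
    haveI := Fact.mk (T.prime j hj)
    obtain ⟨n, hn⟩ := IsPGroup.iff_card.mp (T.isPGroup k (by omega))
    obtain ⟨m, hm⟩ := IsPGroup.iff_card.mp ((T.isPGroup j hj).to_le hD)
    rw [hn, hm]
    exact Nat.coprime_pow_primes n m (T.prime k (by omega)) (T.prime j hj) hne
  have hnormfix : ∀ {A : Subgroup Γ}, P k ≤ normalizer (A : Set Γ) →
      P k ≤ normalizer (fixPart a A : Set Γ) := fun hA y hy =>
    mem_normalizer_fixPart (hA hy) (hcomA y hy)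
  -- the common normaliser of the levels `k + 2` and `k + 3`
  set H : Subgroup Γ := lvlGroup P Q (k + 2) ⊓ lvlGroup P Q (k + 3) with hH
  have hPH : ∀ i, i ≤ k + 2 → P i ≤ H := fun i hi x hx =>
    ⟨T.mem_lvlGroup hi (by omega) hx, T.mem_lvlGroup (by omega) hk hx⟩
  set ZH : Subgroup ↥H := (P (k + 2)).subgroupOf H with hZH
  set QH : Subgroup ↥H := (Q (k + 2)).subgroupOf H with hQH
  set XH : Subgroup ↥H := (P (k + 1)).subgroupOf H with hXH
  set YH : Subgroup ↥H := (P k).subgroupOf H with hYH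
  haveI : ZH.Normal :=
    ⟨fun x hx g => mem_subgroupOf.mpr ((mem_normalizer_iff.mp g.2.1.1 x).mp hx)⟩
  haveI : QH.Normal :=
    ⟨fun x hx g => mem_subgroupOf.mpr ((mem_normalizer_iff.mp g.2.1.2 x).mp hx)⟩
  set aH : ↥H := ⟨a, ⟨T.a_mem_lvlGroup (by omega), T.a_mem_lvlGroup hk⟩⟩ with haH
  have har' : aH ^ r = 1 := Subtype.ext (by simpa [haH] using har)
  set φ : ↥H →* ↥(lvlGroup P Q (k + 3)) := Subgroup.inclusion inf_le_right with hφ
  set ρ₀ := lvlRep F P Q (k + 3) with hρ₀
  set ρ : Representation F ↥H _ := MonoidHom.comp ρ₀ φ with hρ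
  have hone : ∀ x : ↥H, ρ x = 1 ↔ InKer P Q (k + 2) (x : Γ) := fun x =>
    T.lvlRep_eq_one hk (φ x)
  have L₀ := T.layer (F := F) hr har hk
  have hq2 : p (k + 2) ≠ 2 := fun e => T.p_ne (k + 1) (by omega) (h2.trans e.symm)
  have hp2 : p k ≠ 2 := fun e => T.p_ne k (by omega) (e.trans h2.symm)
  have LZ : Layer ρ (p (k + 2)) r ZH aH :=
    { prime_s := L₀.prime_s
      prime_r := hr
      s_ne_r := L₀.s_ne_r
      s_ne_zero := L₀.s_ne_zero
      r_ne_zero := L₀.r_ne_zero
      isPGroup := (T.isPGroup _ (by omega)).comap_of_injective _ Subtype.coe_injective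
      mem_normalizer := subgroupOf_normalizer (T.a_norm _ (by omega))
      pow_eq_one := har'
      classTwo := fun x hx y hy z hz => by
        show ρ₀ (φ ⁅⁅x, y⁆, z⁆) = 1
        exact (congrArg ρ₀ (show φ ⁅⁅x, y⁆, z⁆ = ⁅⁅φ x, φ y⁆, φ z⁆ by
          simp only [map_commutatorElement])).trans (L₀.classTwo (φ x) hx (φ y) hy (φ z) hz) }
  have hCZ : CentralFix ρ ZH aH := by
    intro x hx hax y hy
    exact (T.centralFix (F := F) (j := k + 2) hk hfpfZ) (φ x) hx
      (Subtype.ext (congrArg Subtype.val hax :)) (φ y) hy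
  obtain ⟨Ω, hT₀⟩ := T.hypT (F := F) hr har hk (T.badData hP hr har (h - 4 - k) (k + 2) (by omega))
  have hnorm : normEnd ρ aH r = normEnd ρ₀ ⟨a, T.a_mem_lvlGroup hk⟩ r := by
    unfold normEnd
    refine Finset.sum_congr rfl fun i _ => ?_
    show ρ₀ (φ (aH ^ i)) = _
    rw [map_pow]
    rfl
  have hT : HypT ρ r ZH aH (lvlT F P Q a h (k + 3)) Ω :=
    { le_fix := fun v hv => hT₀.le_fix hv
      omega_fix := fun v hv => hT₀.omega_fix hv
      span := fun v hv => hT₀.span hv
      moved := fun χ hχ y hy hne => by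
        rw [hnorm]
        exact hT₀.moved χ hχ (φ y) hy hne }
  have hspec : PhiSpec ρ ZH QH :=
    { le := fun x hx => T.Q_le (k + 2) (by omega) hx
      central := fun x hx y hy => by
        have h1 : ρ ⁅x, y⁆ = 1 := (hone _).mpr (by
          simpa [commutatorElement_def] using T.cent (k + 2) hk (x : Γ) hx (y : Γ) hy)
        rw [show x * y = ⁅x, y⁆ * (y * x) by rw [commutatorElement_def]; group, map_mul, h1,
          one_mul]
      ker := fun x hx h1 => T.ker_le (k + 2) hk _ hx ((hone x).mp h1)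
      spec := by
        rcases T.spec (k + 2) hk with h1 | h1
        · refine Or.inl ⟨fun x hx y hy => ?_, fun x hx => (hone x).mpr (h1 _ hx)⟩
          have h3 : ρ ⁅x, y⁆ = 1 := (hone _).mpr (by
            simpa [commutatorElement_def] using
              h1 _ (T.comm (k + 2) (by omega) (x : Γ) hx (y : Γ) hy))
          rw [show x * y = ⁅x, y⁆ * (y * x) by rw [commutatorElement_def]; group, map_mul, h3,
            one_mul]
        · refine Or.inr fun x hx hc => h1 _ hx fun y hy => ?_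
          have hyH : y ∈ H := hPH _ le_rfl hy
          have h3 : ρ ⁅x, (⟨y, hyH⟩ : ↥H)⁆ = 1 := by
            rw [show ⁅x, (⟨y, hyH⟩ : ↥H)⁆ = x * ⟨y, hyH⟩ * ((⟨y, hyH⟩ : ↥H) * x)⁻¹ by
              rw [commutatorElement_def]; group, map_mul, hc ⟨y, hyH⟩ hy, ← map_mul,
              mul_inv_cancel, map_one]
          simpa [commutatorElement_def] using (hone _).mp h3 }
  have hfpfH : ∀ z ∈ ZH, aH * z * aH⁻¹ * z⁻¹ ∈ QH → z ∈ QH := fun z hz h1 =>
    hfpfZ (z : Γ) hz (by simpa [hQH, mem_subgroupOf, haH] using h1)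
  -- the layer on the dual of level `k + 2`
  have E : ElemSection F₁ (p (k + 2)) ZH QH :=
    { prime := T.prime _ (by omega)
      char := inferInstance
      le := fun x hx => T.Q_le (k + 2) (by omega) hx
      pow := fun z hz => mem_subgroupOf.mpr (by simpa using T.pow (k + 2) (by omega) (z : Γ) hz)
      comm := fun z hz w hw => mem_subgroupOf.mpr (by
        simpa [commutatorElement_def] using T.comm (k + 2) (by omega) (z : Γ) hz (w : Γ) hw) }
  set σ := dualRep F₁ ZH QH with hσ
  have hσone : ∀ x : ↥H, σ x = 1 ↔ InKer P Q (k + 1) (x : Γ) := by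
    intro x
    rw [hσ, rho_eq_one_iff E]
    constructor
    · intro h1 d hd
      simpa [hQH, mem_subgroupOf, commutatorElement_def] using h1 ⟨d, hPH _ le_rfl hd⟩ hd
    · intro h1 d hd
      simpa [hQH, mem_subgroupOf, commutatorElement_def] using h1 (d : Γ) (mem_subgroupOf.mp hd)
  have hσcent : ∀ x : ↥H, (x : Γ) ∈ Q (k + 1) → ∀ y ∈ XH, σ ⁅x, y⁆ = 1 := fun x hx y hy =>
    (hσone _).mpr (by
      simpa [commutatorElement_def] using T.cent (k + 1) (by omega) (x : Γ) hx (y : Γ) hy)
  have LX : Layer σ 2 r XH aH :=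
    { prime_s := Nat.prime_two
      prime_r := hr
      s_ne_r := h2 ▸ T.ne_r (k + 1) (by omega)
      s_ne_zero := natCast_ne_zero_of_ne (T.prime _ (by omega)) Nat.prime_two hq2.symm
      r_ne_zero := natCast_ne_zero_of_ne (T.prime _ (by omega)) hr (T.ne_r (k + 2) (by omega)).symm
      isPGroup := (h2 ▸ T.isPGroup (k + 1) (by omega) : IsPGroup 2 (P (k + 1))).comap_of_injective
        _ Subtype.coe_injective
      mem_normalizer := subgroupOf_normalizer (T.a_norm _ (by omega))
      pow_eq_one := har'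
      classTwo := fun x hx y hy z hz => hσcent _ (by
        simpa [commutatorElement_def] using T.comm (k + 1) (by omega) (x : Γ) hx (y : Γ) hy) z hz }
  have hfixσ : fixSub σ aH = ⊥ := fixSub_of_fpf LZ.mem_normalizer (Struct.coprime_a LZ) fun z hz h1 =>
    hfpfH z hz (by rwa [commutatorElement_def] at h1)
  have hngH : ∀ S, ¬ Good σ XH aH S := fun S hS => hS.2.2 (by rw [hfixσ, inf_bot_eq])
  have hCX : CentralFix σ XH aH := by
    intro x hx hax y hy
    have hxQ : (x : Γ) ∈ Q (k + 1) :=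
      T.fpf_first hr har (by omega) hbelow hnt _ hx (by
        rw [show a * (x : Γ) = (x : Γ) * a from congrArg Subtype.val hax, mul_inv_cancel_right,
          mul_inv_cancel]
        exact one_mem _)
    rw [show x * y = ⁅x, y⁆ * (y * x) by rw [commutatorElement_def]; group, map_mul,
      hσcent x hxQ y hy, one_mul]
  have hnc : ∃ S, Comp σ XH aH S ∧ Noncentral σ XH aH S := by
    refine CaseExc.exists_noncentral (hP.semi F₁ _ _ σ _ r XH aH LX).2 ?_
    by_contra hcon
    push Not at hcon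
    refine hnt fun x hx => T.ker_le (k + 1) (by omega) _
      (mul_mem ((mem_normalizer_iff.mp (T.a_norm (k + 1) (by omega)) x).mp hx) (inv_mem hx)) ?_
    simpa [haH, commutatorElement_def] using (hσone _).mp (hcon ⟨x, hPH _ (by omega) hx⟩ hx)
  have hXY : XH ≤ ⁅XH, YH⁆ ⊔ (fixer σ ⊤ ⊓ XH) := by
    refine le_trans (le_of_eq ?_) le_sup_left
    refine Subgroup.map_injective H.subtype_injective ?_
    rw [map_commutator, map_subgroupOf_eq_of_le (hPH _ (by omega)),
      map_subgroupOf_eq_of_le (hPH _ (by omega)), T.commutator_eq (j := k) (by omega)]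
  -- elements of level `k` and their commutators
  have hTle : ∀ g : ↥H, (∀ d ∈ P (k + 3), ⁅(g : Γ), d⁆ ∈ wAt P Q a h (k + 3)) →
      lvlT F P Q a h (k + 3) ≤ fixSub ρ g := fun g hg v hv =>
    (T.lvlT_le_fixSub hk (φ g)).mpr hg hv
  have hpres : ∀ g ∈ YH, Preserves ρ ZH aH g := by
    intro g hg
    have hga : aH * g = g * aH := Subtype.ext (hcomA _ hg)
    have hgZ : g ∈ normalizer (ZH : Set ↥H) :=
      subgroupOf_normalizer (T.norm k (k + 2) (by omega) (by omega) hg)
    by_cases hchar : p k = p (k + 3)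
    · have hne : p k ≠ p (k + 2) := fun e => T.p_ne (k + 2) hk (e.symm.trans hchar)
      refine preserves_of_fix LZ hspec.le hspec.central (fun x hx y hy => E.comm x hx y hy)
        (subgroupOf_normalizer (T.a_normQ _ (by omega)))
        (subgroupOf_normalizer (T.normQ k (k + 2) (by omega) (by omega) hg)) hgZ hga
        (fun x hx hax => hfpfH x hx (by
          rw [hax, mul_inv_cancel_right, mul_inv_cancel]; exact one_mem _))
        fun c hc hca S hS => ?_
      have hcf : (c : Γ) ∈ fixPart a (Q (k + 2)) :=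
        mem_fixPart.mpr ⟨hc, congrArg Subtype.val hca⟩
      have hD : fixPart a (Q (k + 2)) ≤ C :=
        inf_le_inf_right _ ((T.Q_le _ (by omega)).trans (T.le _ (by omega)))
      have hx : (⁅(g : Γ), (c : Γ)⁆ : Γ) ∈ ⁅fixPart a (Q (k + 2)), P k⁆ := by
        rw [← commutatorElement_inv]
        exact inv_mem (commutator_mem_commutator hcf hg)
      refine hP.core F _ _ ρ (p (k + 2)) r ZH aH _ Ω LZ hT ⁅g, c⁆ ?_ ?_ (hTle _ ?_) S hS
      · exact comm_mem g (hspec.le hc)
      · exact ((show Commute aH g from hga).mul_right (show Commute aH c from hca) |>.mul_right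
          (show Commute aH g from hga).inv_right |>.mul_right (show Commute aH c from hca).inv_right).eq
      · intro d hd
        have := hdeep _ hD (hnormfix (T.normQ k (k + 2) (by omega) (by omega)))
          (inf_le_left.trans ((T.Q_le _ (by omega)).trans (T.norm (k + 2) (k + 3) (by omega) hk)))
          (hcop (k + 2) (by omega) hne _ (inf_le_left.trans (T.Q_le _ (by omega)))) _ hx d hd
        simpa [commutatorElement_def] using this
    · have hcopr : (orderOf g).Coprime r := by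
        haveI := Fact.mk (T.prime k (by omega))
        obtain ⟨n, hn⟩ := IsPGroup.iff_card.mp (T.isPGroup k (by omega))
        rw [← Subgroup.orderOf_coe]
        exact Nat.Coprime.coprime_dvd_left (hn ▸ (P k).orderOf_dvd_natCard hg)
          (((Nat.coprime_primes (T.prime k (by omega)) hr).mpr (T.ne_r k (by omega))).pow_left n)
      intro S hS _
      exact (hP.hyper F _ _ ρ (p (k + 2)) r ZH aH _ Ω g LZ hT hCZ hgZ hga
        (hTle g (hmove0 hchar _ hg)) hcopr S hS).1
  refine hP.smallFix F F₁ _ _ ρ (p (k + 2)) r (p k) ZH QH XH YH aH _ Ω LZ hT hCZ hspec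
    inferInstance hq2 E.pow E.comm hfpfH LX hCX (fun x hx y hy => ?_) hngH hnc
    (T.prime k (by omega)) hp2 (T.ne_r k (by omega))
    ((T.isPGroup k (by omega)).comap_of_injective _ Subtype.coe_injective)
    (fun g hg => subgroupOf_normalizer (T.norm k (k + 1) (by omega) (by omega) hg))
    (fun g hg => Subtype.ext (hcomA _ hg)) hXY hpres (fun _ g hg => hTle g ?_) ?_
  · exact hσcent _ (by
      rw [SubgroupClass.coe_pow]
      simpa [h2] using T.pow (k + 1) (by omega) (x : Γ) hx) y hy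
  · have hg' : (g : Γ) ∈ ⁅fixPart a (P (k + 1)), P k⁆ := by
      have h1 := Subgroup.mem_map_of_mem H.subtype hg
      rw [map_commutator] at h1
      refine commutator_mono ?_ ?_ h1
      · rintro _ ⟨x, hx, rfl⟩
        exact mem_fixPart.mpr ⟨hx.1,
          congrArg Subtype.val (mem_centralizer_singleton_iff.mp hx.2).symm⟩
      · rintro _ ⟨y, hy, rfl⟩
        exact hy
    exact hdeep _ (hC' _ (by omega)) (hnormfix (T.norm k (k + 1) (by omega) (by omega)))
      (inf_le_left.trans (T.norm (k + 1) (k + 3) (by omega) hk))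
      (hcop (k + 1) (by omega) (T.p_ne k (by omega)) _ inf_le_left) _ hg'
  · intro h20 g hg
    have hc2 : p (k + 3) = 2 := (Nat.prime_dvd_prime_iff_eq (T.prime _ hk) Nat.prime_two).mp
      ((CharP.cast_eq_zero_iff F (p (k + 3)) 2).mp (by exact_mod_cast h20))
    exact hTle g (hmove0 (fun e => hp2 (e.trans hc2)) _ hg)

end CfsgLib.TurullFit
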