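import Cfsg.Agent.Lib.TurullFit.Weights

/-!
# Turull's bound for the Fitting height: the cases other than exceptional ones
-/

set_option autoImplicit false
set_option linter.style.haveILetI false

open Subgroup Module
open scoped commutatorElement

namespace CfsgLib.TurullFit

open CfsgLib.FgsB.FixedPointHeight

universe u

variable {Γ : Type u} [Group Γ] [Finite Γ] {P Q : ℕ → Subgroup Γ} {p : ℕ → ℕ} {G : Subgroup Γ}
  {a : Γ} {r h : ℕ}

omit [Finite Γ] in
theorem Tower.fixPart_le (T : Tower G a r h P Q p) {j : ℕ} (hj : j < h) :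
    fixPart a (P j) ≤ G ⊓ centralizer {a} :=
  inf_le_inf_right _ (T.le j hj)

/-- From an element outside the kernel to the bound. -/
theorem Tower.reach (T : Tower G a r h P Q p) (hr : r.Prime) (har : a ^ r = 1) {j i : ℕ}
    (hj : j < h) (hij : j ≤ i + 2)
    (hx : ∃ x ∈ fixPart a (P j), x ∈ res (G ⊓ centralizer {a}) i ∧ x ∉ kerAt P Q a h j) :
    res (G ⊓ centralizer {a}) (h - 3) ≠ ⊥ :=
  res_ne_bot_of_le (by omega)
    (T.res_ne_bot hr har (fun _ hl => T.fixPart_le hl) (h - 1 - j) j i (by omega) hx)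

/-- The bound when the fixed tail is long. -/
theorem Tower.case_tail (T : Tower G a r h P Q p) (hr : r.Prime) (har : a ^ r = 1) (hh : 3 ≤ h)
    (hbelow : ∀ i, i ≤ h - 3 → TrivAt P Q a i) : res (G ⊓ centralizer {a}) (h - 3) ≠ ⊥ := by
  intro h0
  have hle : ∀ i, i ≤ h - 3 → P i ≤ G ⊓ centralizer {a} := fun i hi =>
    le_inf (T.le i (by omega))
      (T.le_centralizer hr har i (by omega) fun l hl => hbelow l (by omega))
  have h1 := T.le_res (C := G ⊓ centralizer {a}) (h - 3) (by omega) hle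
  rw [h0] at h1
  exact T.ne (h - 3) (by omega) (h1.trans bot_le)

/-- The bound when a component one of the first three levels is good. -/
theorem Tower.case_low (hP : Parts.{u}) (T : Tower G a r h P Q p) (hr : r.Prime) (har : a ^ r = 1)
    {j : ℕ} (hj : j + 1 < h) (hj2 : j ≤ 1) [Fact (p (j + 1)).Prime]
    (hgood : ∃ S, Good (lvlRep (AlgebraicClosure (ZMod (p (j + 1)))) P Q (j + 1))
      ((P j).subgroupOf (lvlGroup P Q (j + 1))) ⟨a, T.a_mem_lvlGroup hj⟩ S) :
    res (G ⊓ centralizer {a}) (h - 3) ≠ ⊥ := by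
  obtain ⟨Ω, hT⟩ := T.hypT (F := AlgebraicClosure (ZMod (p (j + 1)))) hr har hj
    (T.badData hP hr har (h - 2 - j) j (by omega))
  have hne := hP.tne _ _ _ _ (p j) r _ _ _ Ω (T.layer hr har hj) hT hgood
  obtain ⟨x, hx, hxK⟩ := T.exists_not_mem_kerAt hr har hj hne
  exact T.reach hr har hj (i := 0) (by omega) ⟨x, hx, T.fixPart_le hj hx, hxK⟩

/-- The bound when some component at the first nontrivial level is good. -/
theorem Tower.case_good (hP : Parts.{u}) (T : Tower G a r h P Q p) (hr : r.Prime) (har : a ^ r = 1)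
    (hG : ¬ r ∣ Nat.card G) {k : ℕ} (hk : k + 3 < h)
    (hbelow : ∀ i, i < k + 2 → TrivAt P Q a i) (hnt : ¬ TrivAt P Q a (k + 2))
    [Fact (p (k + 3)).Prime]
    (hgood : ∃ S, Good (lvlRep (AlgebraicClosure (ZMod (p (k + 3)))) P Q (k + 3))
      ((P (k + 2)).subgroupOf (lvlGroup P Q (k + 3))) ⟨a, T.a_mem_lvlGroup hk⟩ S) :
    res (G ⊓ centralizer {a}) (h - 3) ≠ ⊥ := by
  classical
  by_contra hres
  set C := G ⊓ centralizer ({a} : Set Γ) with hC
  set F := AlgebraicClosure (ZMod (p (k + 3)))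
  set H := lvlGroup P Q (k + 3) with hH
  set ρ := lvlRep F P Q (k + 3) with hρ
  set X := (P (k + 2)).subgroupOf H with hX
  set aH : ↥H := ⟨a, T.a_mem_lvlGroup hk⟩ with haH
  have L : Layer ρ (p (k + 2)) r X aH := T.layer hr har hk
  obtain ⟨Ω, hT⟩ := T.hypT (F := F) hr har hk (T.badData hP hr har (h - 4 - k) (k + 2) (by omega))
  have hfpf := T.fpf_first hr har (by omega : k + 2 < h) hbelow hnt
  have hCF : CentralFix ρ X aH := T.centralFix hk hfpf
  have hPC : ∀ i, i < k + 2 → P i ≤ C := fun i hi => le_inf (T.le i (by omega))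
    (T.le_centralizer hr har i (by omega) fun l hl => hbelow l (by omega))
  have hcomm : ∀ i, i < k + 2 → ∀ x ∈ P i, a * x = x * a := fun i hi x hx =>
    (mem_centralizer_singleton_iff.mp (hPC i hi hx).2).symm
  have hdepth : ∀ i, i < k + 2 → P i ≤ res C i := fun i hi =>
    T.le_res i (by omega) fun l hl => hPC l (by omega)
  -- an element of depth `k + 1` cannot move the top functionals
  have hno1 : ∀ x : ↥H, a * (x : Γ) = x * a → (x : Γ) ∈ res C (k + 1) →
      lvlT F P Q a h (k + 3) ≤ fixSub ρ x := by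
    intro x hxa hxi
    rw [T.lvlT_le_fixSub hk]
    intro d hd
    by_contra hmove
    exact (T.reach hr har hk (by omega) (T.exists_moved hr har hk (T.fixPart_le hk) hxa x.2.1
      hd hmove hxi)) hres
  set Y := (P (k + 1)).subgroupOf H with hY
  set Z := (P k).subgroupOf H with hZ
  have hYT : ∀ y ∈ Y, lvlT F P Q a h (k + 3) ≤ fixSub ρ y := fun y hy =>
    hno1 y (hcomm _ (by omega) _ hy) (hdepth _ (by omega) hy)
  have hord : ∀ g : ↥H, (g : Γ) ∈ G → (orderOf g).Coprime r := fun g hg => by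
    rw [← Subgroup.orderOf_coe]
    exact (Nat.Coprime.symm ((hr.coprime_iff_not_dvd).mpr hG)).coprime_dvd_left
      (Subgroup.orderOf_dvd_natCard G hg)
  have hZnorm : ∀ z ∈ Z, z ∈ normalizer (X : Set ↥H) := fun z hz =>
    subgroupOf_normalizer (T.norm k (k + 2) (by omega) (by omega) hz)
  have hZa : ∀ z ∈ Z, aH * z = z * aH := fun z hz => Subtype.ext (hcomm k (by omega) _ hz)
  have hZT : p k ≠ p (k + 3) → ∀ z ∈ Z, lvlT F P Q a h (k + 3) ≤ fixSub ρ z := by
    intro hne z hz
    rw [T.lvlT_le_fixSub hk]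
    intro d hd
    by_contra hmove
    haveI := Fact.mk (T.prime k (by omega))
    have hcop : (orderOf (z : Γ)).Coprime (p (k + 3)) := by
      obtain ⟨n, hn⟩ := IsPGroup.iff_card.mp (T.isPGroup k (by omega))
      exact Nat.Coprime.coprime_dvd_left (hn ▸ (P k).orderOf_dvd_natCard hz)
        ((Nat.coprime_primes (T.prime k (by omega)) (T.prime (k + 3) hk)).mpr hne |>.pow_left n)
    exact (T.reach hr har hk (by omega) (T.exists_moved_succ hr har hk (T.fixPart_le hk)
      (hcomm k (by omega) _ hz) z.2.1 hcop hd hmove (hdepth k (by omega) hz))) hres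
  have hQX : (Q (k + 2)).subgroupOf H ≤ X := fun x hx => T.Q_le _ (by omega) hx
  have hker : ∀ x : ↥H, InKer P Q (k + 2) (x : Γ) → ρ x = 1 := fun x hx =>
    (T.lvlRep_eq_one hk x).mpr hx
  have hQc : ∀ q ∈ (Q (k + 2)).subgroupOf H, ∀ y ∈ X, ρ (q * y) = ρ (y * q) := fun q hq y hy => by
    rw [show q * y = ⁅q, y⁆ * (y * q) by rw [commutatorElement_def]; group, map_mul,
      hker ⁅q, y⁆ (by simpa [commutatorElement_def] using T.cent (k + 2) hk (q : Γ) hq (y : Γ) hy),
      one_mul]
  have hpres : ∀ z ∈ Z, Preserves ρ X aH z := by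
    intro z hz
    by_cases hne : p k = p (k + 3)
    · have hne2 : p k ≠ p (k + 2) := fun e => T.p_ne (k + 2) hk (e.symm.trans hne)
      refine preserves_of_fix L hQX hQc (fun x hx y hy => mem_subgroupOf.mpr (by
          simpa [commutatorElement_def] using T.comm (k + 2) (by omega) (x : Γ) hx (y : Γ) hy))
        (subgroupOf_normalizer (T.a_normQ _ (by omega)))
        (subgroupOf_normalizer (T.normQ k (k + 2) (by omega) (by omega) hz)) (hZnorm z hz)
        (hZa z hz) (fun x hx hax => mem_subgroupOf.mpr (hfpf _ hx ?_)) fun c hc hca S hS => ?_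
      · rw [show a * (x : Γ) = (x : Γ) * a from congrArg Subtype.val hax, mul_inv_cancel_right,
          mul_inv_cancel]
        exact one_mem _
      set Z0 := fixPart a (Q (k + 2)) with hZ0
      have hZ0n : P k ≤ normalizer (Z0 : Set Γ) := fun g hg => mem_normalizer_fixPart
        (T.normQ k (k + 2) (by omega) (by omega) hg) (hcomm k (by omega) g hg)
      haveI := Fact.mk (T.prime k (by omega))
      haveI := Fact.mk (T.prime (k + 2) (by omega))
      have hcop : (Nat.card (P k)).Coprime (Nat.card Z0) := by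
        obtain ⟨n, hn⟩ := IsPGroup.iff_card.mp (T.isPGroup k (by omega))
        obtain ⟨l, hl⟩ := IsPGroup.iff_card.mp ((T.isPGroup (k + 2) (by omega)).to_le
          (inf_le_left.trans (T.Q_le _ (by omega)) : Z0 ≤ P (k + 2)))
        rw [hn, show Nat.card Z0 = _ from hl]
        exact Nat.coprime_pow_primes n l (T.prime k (by omega)) (T.prime _ (by omega)) hne2
      haveI := (T.isPGroup k (by omega)).isNilpotent
      have hA : ⁅Z0, P k⁆ ≤ res C (k + 1) := commutator_le_res
        (le_inf ((inf_le_left.trans (T.Q_le _ (by omega))).trans (T.le _ (by omega))) inf_le_right)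
        (hdepth k (by omega)) hZ0n hcop (Or.inl inferInstance)
      have hcZ0 : (c : Γ) ∈ Z0 := mem_fixPart.mpr ⟨hc, congrArg Subtype.val hca⟩
      have hmem : (⁅z, c⁆ : ↥H).1 ∈ ⁅Z0, P k⁆ := by
        rw [show (⁅z, c⁆ : ↥H).1 = ⁅(c : Γ), (z : Γ)⁆⁻¹ by simp [commutatorElement_def, mul_assoc]]
        exact inv_mem (commutator_mem_commutator hcZ0 hz)
      have hmem' := Coprime.commutator_le_of_le_normalizer hZ0n hmem
      exact hP.core _ _ _ _ _ r X aH _ Ω L hT ⁅z, c⁆ (T.Q_le _ (by omega) hmem'.1)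
        (Subtype.ext (mem_fixPart.mp hmem').2) (hno1 _ (mem_fixPart.mp hmem').2 (hA hmem)) S hS
    · intro S hS hft
      exact (hP.hyper _ _ _ _ _ r X aH _ Ω z L hT hCF (hZnorm z hz) (hZa z hz) (hZT hne z hz)
        (hord z (T.le k (by omega) hz)) S hS).1
  haveI := Fact.mk (T.prime k (by omega))
  have hcommS := hP.smallComm F ↥H _ ρ (p (k + 2)) r (p (k + 1)) (p k) X Y Z aH
    (lvlT F P Q a h (k + 3)) Ω L hT hCF (fun x hx y hy => by
      refine hker ⁅x ^ p (k + 2), y⁆ ?_
      simpa [commutatorElement_def] using T.cent (k + 2) hk _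
        (T.pow (k + 2) (by omega) (x : Γ) hx) (y : Γ) hy)
    (T.prime _ (by omega)) (T.prime k (by omega)) (T.p_ne k (by omega)).symm
    (T.p_ne (k + 1) (by omega)) (T.ne_r _ (by omega)) (T.ne_r k (by omega))
    ((T.isPGroup _ (by omega)).comap_of_injective _ H.subtype_injective)
    ((T.isPGroup k (by omega)).comap_of_injective _ H.subtype_injective)
    (fun g hg => subgroupOf_normalizer (T.norm (k + 1) (k + 2) (by omega) (by omega) hg)) hZnorm
    (fun g hg => subgroupOf_normalizer (T.norm k (k + 1) (by omega) (by omega) hg))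
    (fun g hg => ⟨Subtype.ext (hcomm _ (by omega) _ hg), hYT g hg⟩)
    (fun g hg => ⟨hZa g hg, hpres g hg, fun hne => hZT (fun e => hne (by
      rw [e]; exact CharP.cast_eq_zero F (p (k + 3)))) g hg⟩)
  -- an element fixing all good components is trivial on the top level
  set M := (⨆ S : {S // Good ρ X aH S}, (S.1 : Submodule F _)) with hM
  have hMinv : ∀ g : ↥H, ((g : Γ) = a ∨ ∃ i < k + 3, (g : Γ) ∈ P i) → ∀ v ∈ M, ρ g v ∈ M := by
    intro g hg v hv
    suffices hle : M ≤ M.comap (ρ g) from hle hv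
    refine iSup_le fun S u hu => ?_
    rw [Submodule.mem_comap]
    rcases hg with hga | ⟨i, hi, hgi⟩
    · rw [show g = aH from Subtype.ext hga]
      exact Submodule.mem_iSup_of_mem S (S.2.1.2.1.2 u hu)
    rcases Nat.lt_or_ge i (k + 2) with hi2 | hi2
    · -- transport by an element commuting with `a`
      have hgX : g ∈ normalizer (X : Set ↥H) :=
        subgroupOf_normalizer (T.norm i (k + 2) (by omega) (by omega) hgi)
      have hga : Commute aH g := Subtype.ext (hcomm i hi2 _ hgi)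
      have hback : ∀ w, ρ g⁻¹ (ρ g w) = w := fun w => by
        rw [← End.mul_apply, ← map_mul, inv_mul_cancel, map_one, End.one_apply]
      have hfwd : ∀ w, ρ g (ρ g⁻¹ w) = w := fun w => by
        rw [← End.mul_apply, ← map_mul, mul_inv_cancel, map_one, End.one_apply]
      have hxg : ∀ x ∈ X, ∀ w, ρ x (ρ g w) = ρ g (ρ (g⁻¹ * x * g) w) := fun x _ w => by
        rw [← End.mul_apply, ← map_mul, ← End.mul_apply, ← map_mul]
        congr 2
        group
      have hxgi : ∀ x ∈ X, ∀ w, ρ x (ρ g⁻¹ w) = ρ g⁻¹ (ρ (g * x * g⁻¹) w) := fun x _ w => by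
        rw [← End.mul_apply, ← map_mul, ← End.mul_apply, ← map_mul]
        congr 2
        group
      have hag : ∀ w, ρ aH (ρ g w) = ρ g (ρ aH w) := fun w => by
        rw [← End.mul_apply, ← map_mul, hga.eq, map_mul, End.mul_apply]
      have hagi : ∀ w, ρ aH (ρ g⁻¹ w) = ρ g⁻¹ (ρ aH w) := fun w => by
        rw [← End.mul_apply, ← map_mul, hga.inv_right.eq, map_mul, End.mul_apply]
      have hinvm : ∀ x ∈ X, g⁻¹ * x * g ∈ X := fun x hx => by
        simpa using (mem_normalizer_iff.mp (inv_mem hgX) x).mp hx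
      obtain ⟨⟨hS0, hSI, hSmin⟩, ⟨x, hx, w, hw, hne⟩, hfix⟩ := S.2
      have hgood' : Good ρ X aH ((S.1).map (ρ g)) := by
        refine ⟨⟨?_, ⟨?_, ?_⟩, fun W hW hW0 hWI => ?_⟩, ?_, ?_⟩
        · obtain ⟨w, hw, hw0⟩ := Submodule.exists_mem_ne_zero_of_ne_bot hS0
          intro h0
          refine FgsC.HallHigman.rho_ne_zero (ρ := ρ) (g := g) hw0 ?_
          rw [← Submodule.mem_bot (R := F), ← h0]
          exact Submodule.mem_map_of_mem hw
        · rintro x hx _ ⟨w, hw, rfl⟩
          rw [hxg x hx]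
          exact Submodule.mem_map_of_mem (hSI.1 _ (hinvm x hx) w hw)
        · rintro _ ⟨w, hw, rfl⟩
          rw [hag]
          exact Submodule.mem_map_of_mem (hSI.2 w hw)
        · have h1 : W.map (ρ g⁻¹) = S.1 := by
            refine hSmin _ ?_ ?_ ⟨?_, ?_⟩
            · rintro _ ⟨w, hw, rfl⟩
              obtain ⟨u, hu, rfl⟩ := hW hw
              rwa [hback]
            · obtain ⟨w, hw, hw0⟩ := Submodule.exists_mem_ne_zero_of_ne_bot hW0
              intro h0
              refine FgsC.HallHigman.rho_ne_zero (ρ := ρ) (g := g⁻¹) hw0 ?_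
              rw [← Submodule.mem_bot (R := F), ← h0]
              exact Submodule.mem_map_of_mem hw
            · rintro x hx _ ⟨w, hw, rfl⟩
              rw [hxgi x hx]
              exact Submodule.mem_map_of_mem (hWI.1 _ ((mem_normalizer_iff.mp hgX x).mp hx) w hw)
            · rintro _ ⟨w, hw, rfl⟩
              rw [hagi]
              exact Submodule.mem_map_of_mem (hWI.2 w hw)
          refine le_antisymm hW ?_
          rintro _ ⟨u, hu, rfl⟩
          rw [← h1] at hu
          obtain ⟨w, hw, rfl⟩ := hu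
          rwa [hfwd]
        · refine ⟨g * x * g⁻¹, (mem_normalizer_iff.mp hgX x).mp hx, _, Submodule.mem_map_of_mem hw,
            fun e => hne ?_⟩
          have h2 := congrArg (ρ g⁻¹) e
          simp only [← End.mul_apply, ← map_mul] at h2
          rwa [show g⁻¹ * (aH * (g * x * g⁻¹) * aH⁻¹ * g) = aH * x * aH⁻¹ by
              rw [show g⁻¹ * (aH * (g * x * g⁻¹) * aH⁻¹ * g) =
                (g⁻¹ * aH * g) * x * (g⁻¹ * aH * g)⁻¹ by group,
                show g⁻¹ * aH * g = aH by rw [mul_assoc, hga.eq, inv_mul_cancel_left]],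
            show g⁻¹ * (g * x * g⁻¹ * g) = x by group] at h2
        · obtain ⟨w, hw, hw0⟩ := Submodule.exists_mem_ne_zero_of_ne_bot hfix
          intro h0
          refine FgsC.HallHigman.rho_ne_zero (ρ := ρ) (g := g) hw0 ?_
          rw [← Submodule.mem_bot (R := F), ← h0]
          exact ⟨Submodule.mem_map_of_mem hw.1, by rw [SetLike.mem_coe, mem_fixSub, hag,
            mem_fixSub.mp hw.2]⟩
      exact Submodule.mem_iSup_of_mem ⟨_, hgood'⟩ (Submodule.mem_map_of_mem hu)
    · obtain rfl : i = k + 2 := by omega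
      exact Submodule.mem_iSup_of_mem S (S.2.1.2.1.1 g hgi u hu)
  have hfixall : ∀ x : ↥H, (∀ S, Good ρ X aH S → x ∈ fixer ρ S) → InKer P Q (k + 2) (x : Γ) := by
    intro x hx
    -- the subgroup killed by the good components
    let U : Subgroup Γ :=
      { carrier := {d | ∃ hd : d ∈ P (k + 3), ∀ f ∈ M, (f : ↥(lvlP P Q (k + 3)) → F)
          ⟨⟨d, T.mem_lvlGroup le_rfl hk hd⟩, hd⟩ = 0}
        one_mem' := ⟨one_mem _, fun f _ => f.2.2 _ (one_mem _)⟩
        mul_mem' := fun {x y} hx hy => by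
          obtain ⟨hx, hx0⟩ := hx
          obtain ⟨hy, hy0⟩ := hy
          refine ⟨mul_mem hx hy, fun f hf => ?_⟩
          have := f.2.1 ⟨⟨x, T.mem_lvlGroup le_rfl hk hx⟩, hx⟩ ⟨⟨y, T.mem_lvlGroup le_rfl hk hy⟩, hy⟩
          rw [hx0 f hf, hy0 f hf, add_zero] at this
          exact this
        inv_mem' := fun {x} hx => by
          obtain ⟨hx, hx0⟩ := hx
          refine ⟨inv_mem hx, fun f hf => ?_⟩
          have := f.2.1 ⟨⟨x, T.mem_lvlGroup le_rfl hk hx⟩, hx⟩
            ⟨⟨x⁻¹, T.mem_lvlGroup le_rfl hk (inv_mem hx)⟩, inv_mem hx⟩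
          rw [hx0 f hf, zero_add] at this
          rw [← this]
          exact (congrArg _ (Subtype.ext (Subtype.ext (mul_inv_cancel x)))).trans
            (f.2.2 1 (one_mem _)) }
    have hUg : ∀ g : ↥H, ((g : Γ) = a ∨ ∃ i < k + 3, (g : Γ) ∈ P i) →
        (g : Γ) ∈ normalizer (U : Set Γ) := by
      intro g hg
      have hmem : ∀ n : ℕ, ∀ v ∈ M, ρ (g ^ n) v ∈ M := by
        intro n v hv
        induction n with
        | zero => rwa [pow_zero, map_one, End.one_apply]
        | succ n ih => rw [pow_succ', map_mul, End.mul_apply]; exact hMinv g hg _ ih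
      have hback : ∀ v ∈ M, ρ g⁻¹ v ∈ M := by
        intro v hv
        obtain ⟨n, hn⟩ : ∃ n : ℕ, g ^ n = g⁻¹ := (isOfFinOrder_of_finite g).mem_powers_iff_mem_zpowers.mpr
          ((zpowers g).inv_mem (mem_zpowers g))
        rw [← hn]; exact hmem n v hv
      have hPg := g.2.1
      refine mem_normalizer_iff.mpr fun d => ⟨?_, ?_⟩
      · rintro ⟨hd, hd0⟩
        refine ⟨(mem_normalizer_iff.mp hPg d).mp hd, fun f hf => ?_⟩
        have h1 := hd0 _ (hback f hf)
        rw [dualRep_apply] at h1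
        rw [← h1]
        refine congrArg _ (Subtype.ext (Subtype.ext ?_))
        simp
      · rintro ⟨hd, hd0⟩
        refine ⟨(mem_normalizer_iff.mp hPg d).mpr hd, fun f hf => ?_⟩
        have h1 := hd0 _ (hMinv g hg f hf)
        rw [dualRep_apply] at h1
        rw [← h1]
        refine congrArg _ (Subtype.ext (Subtype.ext ?_))
        simp [mul_assoc]
    rcases T.irred (k + 3) hk U (fun d hd => ⟨T.Q_le _ hk hd, fun f _ => f.2.2 _ hd⟩)
        (fun d hd => hd.1) (hUg aH (Or.inl rfl))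
        (fun i hi g hg => hUg ⟨g, T.mem_lvlGroup hi.le hk hg⟩ (Or.inr ⟨i, hi, hg⟩)) with hU | hU
    · intro d hd
      have hfixM : M ≤ fixSub ρ x := iSup_le fun S v hv => hx S.1 S.2 v hv
      rw [← hU]
      have hxd : (x : Γ) * d * (x : Γ)⁻¹ ∈ P (k + 3) := (mem_normalizer_iff.mp x.2.1 d).mp hd
      refine ⟨mul_mem hxd (inv_mem hd), fun f hf => ?_⟩
      set dd : ↥(lvlP P Q (k + 3)) := ⟨⟨d, T.mem_lvlGroup le_rfl hk hd⟩, hd⟩ with hdd
      set ee : ↥(lvlP P Q (k + 3)) :=
        ⟨⟨(x : Γ) * d * (x : Γ)⁻¹, T.mem_lvlGroup le_rfl hk hxd⟩, hxd⟩ with hee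
      have he : (f : ↥(lvlP P Q (k + 3)) → F) ee = (f : ↥(lvlP P Q (k + 3)) → F) dd := by
        conv_lhs => rw [← mem_fixSub.mp (hfixM hf)]
        rw [dualRep_apply]
        refine congrArg _ (Subtype.ext (Subtype.ext ?_))
        simp [hee, hdd, mul_assoc]
      have h2 := f.2.1 ee dd⁻¹
      rw [he, ← f.2.1 dd dd⁻¹, mul_inv_cancel, f.2.2 1 (one_mem _)] at h2
      rw [← h2]
      refine congrArg _ (Subtype.ext (Subtype.ext ?_))
      simp [hdd, hee, commutatorElement_def, mul_assoc]
    · obtain ⟨S, hS⟩ := hgood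
      exfalso
      apply hS.1.1
      rw [eq_bot_iff]
      intro f hf
      rw [Submodule.mem_bot]
      refine Subtype.ext (funext fun z => ?_)
      obtain ⟨_, h1⟩ : (((z : ↥H)) : Γ) ∈ U := hU.symm ▸ mem_subgroupOf.mp z.2
      exact h1 f (Submodule.mem_iSup_of_mem ⟨S, hS⟩ hf)
  -- commutators of the two tail levels are trivial
  have hg : ∀ z ∈ Z, ∀ y ∈ Y, InKer P Q (k + 1) ((⁅z, y⁆ : ↥H) : Γ) := by
    intro z hz y hy d hd
    set g : ↥H := ⁅z, y⁆ with hgdef
    set dH : ↥H := ⟨d, T.mem_lvlGroup (by omega) hk hd⟩ with hdH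
    have hgX : g ∈ normalizer (X : Set ↥H) := by
      rw [hgdef, commutatorElement_def]
      have hyX : y ∈ normalizer (X : Set ↥H) :=
        subgroupOf_normalizer (T.norm (k + 1) (k + 2) (by omega) (by omega) hy)
      exact mul_mem (mul_mem (mul_mem (hZnorm z hz) hyX) (inv_mem (hZnorm z hz))) (inv_mem hyX)
    set c : ↥H := ⁅g, dH⁆ with hc
    have hcX : c ∈ X := by
      rw [hc, commutatorElement_def]
      exact X.mul_mem ((mem_normalizer_iff.mp hgX dH).mp hd) (X.inv_mem hd)
    have hcfix : ∀ S, Good ρ X aH S → ¬ FixedType ρ X S → c ∈ fixer ρ S := by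
      intro S hS hft v hv
      have h1 := (hcommS S hS z hz y hy).2 hft
      have hd' : dH⁻¹ ∈ X := X.inv_mem hd
      have hg1 : ∀ w ∈ S, ρ g w = w := fun w hw => mem_fixSub.mp (h1 hw)
      have hg2 : ∀ w ∈ S, ρ g⁻¹ w = w := fun w hw => by
        conv_lhs => rw [← hg1 w hw]
        rw [← End.mul_apply, ← map_mul, inv_mul_cancel, map_one, End.one_apply]
      rw [hc, commutatorElement_def, map_mul, map_mul, map_mul, End.mul_apply, End.mul_apply,
        End.mul_apply, hg2 _ (hS.1.2.1.1 _ hd' v hv),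
        hg1 _ (hS.1.2.1.1 _ (mem_subgroupOf.mpr hd) _ (hS.1.2.1.1 _ hd' v hv)),
        ← End.mul_apply, ← map_mul, mul_inv_cancel, map_one, End.one_apply]
    have hgoal : (c : Γ) ∈ Q (k + 2) := by
      by_cases hab : ∀ x ∈ Q (k + 2), InKer P Q (k + 2) x
      · refine T.ker_le (k + 2) hk _ hcX (hfixall c fun S hS => hcfix S hS fun hft => ?_)
        obtain ⟨x, hx, v, hv, hne⟩ := hS.2.1
        have hcen : CenterOn ρ X S x := ⟨hx, fun w hw => (hS.1.2.1.1.commOn_iff hx hw).mpr
          fun u _ => by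
            have h1 := hab _ (T.comm (k + 2) (by omega) (x : Γ) hx (w : Γ) hw)
            rw [hker ⁅x, w⁆ (by simpa [commutatorElement_def] using h1), End.one_apply]⟩
        obtain ⟨c0, hc0⟩ := hft x hcen
        apply hne
        rw [map_mul, map_mul, End.mul_apply, End.mul_apply, hc0 _ (hS.1.2.1.inv_a_mem hv), map_smul,
          ← End.mul_apply, ← map_mul, mul_inv_cancel, map_one, End.one_apply, hc0 v hv]
      · refine ((T.spec (k + 2) hk).resolve_left hab) _ hcX fun w hw => ?_
        set wH : ↥H := ⟨w, T.mem_lvlGroup (by omega) hk hw⟩ with hwH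
        have h1 := hfixall ⁅c, wH⁆ fun S hS => ?_
        · simpa [commutatorElement_def, hwH] using h1
        by_cases hft : FixedType ρ X S
        · exact (hS.1.2.1.1.commOn_iff hcX hw).mp (((hcommS S hS z hz y hy).1 hft dH hd).2 wH hw)
        · intro v hv
          have hcf := hcfix S hS hft
          rw [commutatorElement_def, map_mul, map_mul, map_mul, End.mul_apply, End.mul_apply,
            End.mul_apply, (fixer ρ S).inv_mem hcf _ (hS.1.2.1.1 _ (X.inv_mem hw) v hv),
            hcf _ (hS.1.2.1.1 _ hw _ (hS.1.2.1.1 _ (X.inv_mem hw) v hv)),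
            ← End.mul_apply, ← map_mul, mul_inv_cancel, map_one, End.one_apply]
    simpa [hc, hdH, commutatorElement_def] using hgoal
  refine T.ne (k + 1) (by omega) ?_
  rw [← T.commutator_eq (j := k) (by omega)]
  refine commutator_le.mpr fun y hy z hz => ?_
  set yH : ↥H := ⟨y, T.mem_lvlGroup (by omega) hk hy⟩
  set zH : ↥H := ⟨z, T.mem_lvlGroup (by omega) hk hz⟩
  have h1 : InKer P Q (k + 1) ⁅z, y⁆ := by
    simpa [commutatorElement_def, zH, yH] using hg zH hz yH hy
  rw [← commutatorElement_inv]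
  refine inv_mem (T.ker_le (k + 1) (by omega) _ ?_ h1)
  rw [commutatorElement_def]
  exact mul_mem ((mem_normalizer_iff.mp (T.norm k (k + 1) (by omega) (by omega) hz) y).mp hy)
    (inv_mem hy)

end CfsgLib.TurullFit
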