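import Cfsg.Agent.Lib.TurullFit.TowerDef

/-!
# Turull's bound for the Fitting height: towers of fixed points
-/

set_option autoImplicit false
set_option linter.style.haveILetI false

open Subgroup
open scoped commutatorElement

namespace CfsgLib.TurullFit

open CfsgLib.FgsB.FixedPointHeight

universe u

variable {Γ : Type u} [Group Γ]

/-- The fixed points of `a` in `P`. -/
def fixPart (a : Γ) (P : Subgroup Γ) : Subgroup Γ := P ⊓ centralizer {a}

theorem mem_fixPart {a x : Γ} {P : Subgroup Γ} : x ∈ fixPart a P ↔ x ∈ P ∧ a * x = x * a := by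
  rw [fixPart, Subgroup.mem_inf, Subgroup.mem_centralizer_singleton_iff]
  exact and_congr_right fun _ => eq_comm

theorem mem_centralizer_zpowers {a x : Γ} (h : a * x = x * a) :
    x ∈ centralizer (zpowers a : Set Γ) := by
  rw [mem_centralizer_iff]
  intro b hb
  obtain ⟨k, rfl⟩ := mem_zpowers_iff.mp hb
  exact ((show Commute a x from h).zpow_left k).eq

/-- The elements of `A` fixing `P` modulo `W`. -/
def moverKer (A P W : Subgroup Γ) : Subgroup Γ where
  carrier := {x | x ∈ A ∧ x ∈ normalizer (P : Set Γ) ∧ ∀ d ∈ P, ⁅x, d⁆ ∈ W}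
  one_mem' := ⟨A.one_mem, one_mem _, fun d _ => by rw [commutatorElement_one_left]; exact W.one_mem⟩
  mul_mem' := fun {x y} hx hy => ⟨A.mul_mem hx.1 hy.1, mul_mem hx.2.1 hy.2.1, fun d hd => by
    rw [show ⁅x * y, d⁆ = ⁅x, y * d * y⁻¹⁆ * ⁅y, d⁆ by simp only [commutatorElement_def]; group]
    exact W.mul_mem (hx.2.2 _ ((mem_normalizer_iff.mp hy.2.1 d).mp hd)) (hy.2.2 d hd)⟩
  inv_mem' := fun {x} hx => ⟨A.inv_mem hx.1, inv_mem hx.2.1, fun d hd => by
    rw [show ⁅x⁻¹, d⁆ = ⁅x, x⁻¹ * d * x⁆⁻¹ by simp only [commutatorElement_def]; group]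
    refine W.inv_mem (hx.2.2 _ ?_)
    have := (mem_normalizer_iff.mp (inv_mem hx.2.1) d).mp hd
    simpa using this⟩

theorem mem_moverKer {A P W : Subgroup Γ} {x : Γ} :
    x ∈ moverKer A P W ↔ x ∈ A ∧ x ∈ normalizer (P : Set Γ) ∧ ∀ d ∈ P, ⁅x, d⁆ ∈ W := Iff.rfl

/-- `kerSeq n` is the kernel at level `h - 1 - n`. -/
def kerSeq (P Q : ℕ → Subgroup Γ) (a : Γ) (h : ℕ) : ℕ → Subgroup Γ
  | 0 => ⊥
  | n + 1 => moverKer (fixPart a (P (h - 2 - n))) (P (h - 1 - n))
      (kerSeq P Q a h n ⊔ ⁅P (h - 1 - n), zpowers a⁆ ⊔ Q (h - 1 - n))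

/-- The kernel at level `j`. -/
def kerAt (P Q : ℕ → Subgroup Γ) (a : Γ) (h j : ℕ) : Subgroup Γ := kerSeq P Q a h (h - 1 - j)

/-- The subgroup killed by the distinguished functionals at level `j`. -/
def wAt (P Q : ℕ → Subgroup Γ) (a : Γ) (h j : ℕ) : Subgroup Γ :=
  kerAt P Q a h j ⊔ ⁅P j, zpowers a⁆ ⊔ Q j

variable {P Q : ℕ → Subgroup Γ} {p : ℕ → ℕ} {G : Subgroup Γ} {a : Γ} {r h : ℕ}

theorem kerAt_top : kerAt P Q a h (h - 1) = ⊥ := by
  rw [kerAt, show h - 1 - (h - 1) = 0 by omega]
  rfl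

theorem kerAt_eq {j : ℕ} (hj : j + 1 < h) :
    kerAt P Q a h j = moverKer (fixPart a (P j)) (P (j + 1)) (wAt P Q a h (j + 1)) := by
  rw [wAt, kerAt, kerAt, show h - 1 - j = (h - 1 - (j + 1)) + 1 by omega, kerSeq,
    show h - 2 - (h - 1 - (j + 1)) = j by omega, show h - 1 - (h - 1 - (j + 1)) = j + 1 by omega]

theorem kerAt_le {j : ℕ} : kerAt P Q a h j ≤ centralizer {a} := by
  rw [kerAt]
  cases h - 1 - j with
  | zero => exact bot_le
  | succ n => exact fun x hx => hx.1.2

theorem Tower.kerAt_le_fix (T : Tower G a r h P Q p) {j : ℕ} (hj : j < h) :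
    kerAt P Q a h j ≤ fixPart a (P j) := by
  rcases Nat.lt_or_ge (j + 1) h with h1 | h1
  · rw [kerAt_eq h1]; exact fun x hx => hx.1
  · rw [show j = h - 1 by omega, kerAt_top]; exact bot_le

variable [Finite Γ]

theorem Tower.coprime_a (T : Tower G a r h P Q p) (hr : r.Prime) (har : a ^ r = 1) {j : ℕ}
    (hj : j < h) : (Nat.card (zpowers a)).Coprime (Nat.card (P j)) := by
  haveI := Fact.mk (T.prime j hj)
  obtain ⟨k, hk⟩ := IsPGroup.iff_card.mp (T.isPGroup j hj)
  rw [hk, Nat.card_zpowers]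
  refine Nat.Coprime.pow_right _ (Nat.Coprime.coprime_dvd_left (orderOf_dvd_of_pow_eq_one har) ?_)
  exact (Nat.coprime_primes hr (T.prime j hj)).mpr (T.ne_r j hj).symm

theorem Tower.zpowers_le_norm (T : Tower G a r h P Q p) {j : ℕ} (hj : j < h) :
    zpowers a ≤ normalizer (P j : Set Γ) := zpowers_le.mpr (T.a_norm j hj)

theorem Tower.wAt_le (T : Tower G a r h P Q p) {j : ℕ} (hj : j < h) : wAt P Q a h j ≤ P j :=
  sup_le (sup_le ((T.kerAt_le_fix hj).trans inf_le_left)
    (Coprime.commutator_le_of_le_normalizer (T.zpowers_le_norm hj))) (T.Q_le j hj)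

theorem Tower.Q_le_wAt (T : Tower G a r h P Q p) {j : ℕ} : Q j ≤ wAt P Q a h j := le_sup_right

theorem Tower.conj_mem_wAt (T : Tower G a r h P Q p) {j : ℕ} (hj : j < h) {w u : Γ}
    (hw : w ∈ P j) (hu : u ∈ wAt P Q a h j) : w * u * w⁻¹ ∈ wAt P Q a h j := by
  rw [show w * u * w⁻¹ = ⁅w, u⁆ * u by simp only [commutatorElement_def]; group]
  exact mul_mem (le_sup_right (a := kerAt P Q a h j ⊔ ⁅P j, zpowers a⁆)
    (T.comm j hj w hw u (T.wAt_le hj hu))) hu

/-- An element commuting with `a` fixes `P j` modulo `wAt` as soon as it fixes the fixed points. -/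
theorem Tower.mem_wAt_of_fix (T : Tower G a r h P Q p) (hr : r.Prime) (har : a ^ r = 1) {j : ℕ}
    (hj : j < h) {x : Γ} (hx : a * x = x * a) (hxP : x ∈ normalizer (P j : Set Γ))
    (hfix : ∀ c ∈ fixPart a (P j), ⁅x, c⁆ ∈ wAt P Q a h j) :
    ∀ d ∈ P j, ⁅x, d⁆ ∈ wAt P Q a h j := by
  intro d hd
  obtain ⟨c, hc, hw⟩ := Coprime.exists_commutator_mul_centralizer (T.zpowers_le_norm hj)
    (T.coprime_a hr har hj) (Or.inl inferInstance) hd
  have hcf : c ∈ fixPart a (P j) := mem_fixPart.mpr
    ⟨hc.1, (mem_centralizer_iff.mp hc.2 a (mem_zpowers a))⟩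
  have hWle : ⁅P j, zpowers a⁆ ≤ wAt P Q a h j := le_sup_right.trans le_sup_left
  have hwP : d * c⁻¹ ∈ P j := mul_mem hd (inv_mem hc.1)
  rw [show ⁅x, d⁆ = (x * (d * c⁻¹) * x⁻¹ * (d * c⁻¹)⁻¹) *
    ((d * c⁻¹) * ⁅x, c⁆ * (d * c⁻¹)⁻¹) by simp only [commutatorElement_def]; group]
  refine mul_mem (mul_mem ?_ (inv_mem (hWle hw))) (T.conj_mem_wAt hj hwP (hfix c hcf))
  refine hWle ?_
  have h1 : (⁅P j, zpowers a⁆).map (MulAut.conj x).toMonoidHom = ⁅P j, zpowers a⁆ := by
    rw [map_commutator, show (P j).map (MulAut.conj x).toMonoidHom = P j from mem_normalizer_iff_map_conj_eq.mp hxP, MonoidHom.map_zpowers]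
    congr 1
    congr 1
    show x * a * x⁻¹ = a
    rw [← hx, mul_inv_cancel_right]
  exact h1.le ⟨_, hw, rfl⟩

omit [Finite Γ] in
/-- A commutator with an element of depth `i` has depth `i`. -/
theorem commutator_mem_res [Finite Γ] {C : Subgroup Γ} {i : ℕ} {x d : Γ} (hx : x ∈ res C i)
    (hd : d ∈ C) : ⁅x, d⁆ ∈ res C i := by
  rw [show ⁅x, d⁆ = x * (d * x⁻¹ * d⁻¹) by simp only [commutatorElement_def]; group]
  exact mul_mem hx (conj_mem_res (le_normalizer hd) (inv_mem hx))

/-- Coprime commutators with elements of depth `i` have depth `i + 1`. -/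
theorem commutator_le_res {C D A : Subgroup Γ} {i : ℕ} (hD : D ≤ C) (hA : A ≤ res C i)
    (hAD : A ≤ normalizer (D : Set Γ)) (hcop : (Nat.card A).Coprime (Nat.card D))
    (hsolv : Group.IsSolvable A ∨ Group.IsSolvable D) : ⁅D, A⁆ ≤ res C (i + 1) := by
  refine le_iInf fun k => ?_
  induction k with
  | zero =>
    rw [Subgroup.lowerCentralSeries_zero, commutator_comm]
    refine commutator_le.mpr fun x hx d hd => ?_
    exact commutator_mem_res (hA hx) (hD hd)
  | succ k ih =>
    rw [← Coprime.commutator_commutator_eq hAD hcop hsolv, Subgroup.lowerCentralSeries_succ]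
    exact commutator_mono ih hA

/-- An element of depth `i` moving level `j` gives an element of depth `i` below it. -/
theorem Tower.exists_moved (T : Tower G a r h P Q p) (hr : r.Prime) (har : a ^ r = 1) {C : Subgroup Γ}
    {j : ℕ} (hj : j < h) (hC : fixPart a (P j) ≤ C) {x : Γ} (hx : a * x = x * a)
    (hxP : x ∈ normalizer (P j : Set Γ)) {d : Γ} (hd : d ∈ P j) (hmove : ⁅x, d⁆ ∉ wAt P Q a h j)
    {i : ℕ} (hxi : x ∈ res C i) :
    ∃ c ∈ fixPart a (P j), c ∈ res C i ∧ c ∉ kerAt P Q a h j := by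
  by_contra hno
  push Not at hno
  refine hmove (T.mem_wAt_of_fix hr har hj hx hxP (fun c hc => ?_) d hd)
  refine (show kerAt P Q a h j ≤ wAt P Q a h j from le_sup_left.trans le_sup_left) (hno _ ?_ (commutator_mem_res hxi (hC hc)))
  refine mem_fixPart.mpr ⟨?_, ?_⟩
  · rw [show ⁅x, c⁆ = (x * c * x⁻¹) * c⁻¹ from commutatorElement_def x c]
    exact mul_mem ((mem_normalizer_iff.mp hxP c).mp hc.1) (inv_mem hc.1)
  · rw [commutatorElement_def]
    exact (((show Commute a x from hx).mul_right (mem_fixPart.mp hc).2).mul_right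
      (show Commute a x from hx).inv_right).mul_right
      (show Commute a c from (mem_fixPart.mp hc).2).inv_right

/-- The same with coprime orders: the depth grows. -/
theorem Tower.exists_moved_succ (T : Tower G a r h P Q p) (hr : r.Prime) (har : a ^ r = 1)
    {C : Subgroup Γ} {j : ℕ} (hj : j < h) (hC : fixPart a (P j) ≤ C) {x : Γ} (hx : a * x = x * a)
    (hxP : x ∈ normalizer (P j : Set Γ)) (hcop : (orderOf x).Coprime (p j)) {d : Γ} (hd : d ∈ P j)
    (hmove : ⁅x, d⁆ ∉ wAt P Q a h j) {i : ℕ} (hxi : x ∈ res C i) :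
    ∃ c ∈ fixPart a (P j), c ∈ res C (i + 1) ∧ c ∉ kerAt P Q a h j := by
  haveI := Fact.mk (T.prime j hj)
  have hn : zpowers x ≤ normalizer (fixPart a (P j) : Set Γ) := by
    refine zpowers_le.mpr (mem_normalizer_iff.mpr fun c => ?_)
    rw [mem_fixPart, mem_fixPart]
    refine and_congr (mem_normalizer_iff.mp hxP c) ⟨fun hc => ?_, fun hc => ?_⟩
    · exact (((show Commute a x from hx).mul_right hc).mul_right
        (show Commute a x from hx).inv_right).eq
    · have := (((show Commute a x from hx).inv_right).mul_right hc).mul_right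
        (show Commute a x from hx)
      simpa [mul_assoc] using this.eq
  have hcop' : (Nat.card (zpowers x)).Coprime (Nat.card (fixPart a (P j))) := by
    obtain ⟨k, hk⟩ := IsPGroup.iff_card.mp ((T.isPGroup j hj).to_le
      (inf_le_left : fixPart a (P j) ≤ P j))
    rw [show Nat.card (fixPart a (P j)) = p j ^ k from hk, Nat.card_zpowers]
    exact hcop.pow_right k
  have hle := commutator_le_res hC (zpowers_le.mpr hxi) hn hcop' (Or.inl inferInstance)
  by_contra hno
  push Not at hno
  refine hmove (T.mem_wAt_of_fix hr har hj hx hxP (fun c hc => ?_) d hd)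
  have h1 : ⁅c, x⁆ ∈ ⁅fixPart a (P j), zpowers x⁆ := commutator_mem_commutator hc (mem_zpowers x)
  rw [← commutatorElement_inv]
  exact inv_mem ((show kerAt P Q a h j ≤ wAt P Q a h j from le_sup_left.trans le_sup_left)
    (hno _ (Coprime.commutator_le_of_le_normalizer hn h1) (hle h1)))

/-- From an element of depth `i` outside the kernel at level `j` to the top. -/
theorem Tower.res_ne_bot (T : Tower G a r h P Q p) (hr : r.Prime) (har : a ^ r = 1) {C : Subgroup Γ}
    (hC : ∀ j, j < h → fixPart a (P j) ≤ C) :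
    ∀ n j i : ℕ, j + n + 1 = h → (∃ x ∈ fixPart a (P j), x ∈ res C i ∧ x ∉ kerAt P Q a h j) →
      res C (i + n) ≠ ⊥
  | 0, j, i, hn, ⟨x, _, hxi, hxK⟩ => fun hbot => hxK (by
      rw [Nat.add_zero] at hbot
      rw [hbot, Subgroup.mem_bot] at hxi
      rw [hxi]
      exact one_mem _)
  | n + 1, j, i, hn, ⟨x, hx, hxi, hxK⟩ => by
    have hj : j + 1 < h := by omega
    rw [kerAt_eq hj, mem_moverKer] at hxK
    push Not at hxK
    obtain ⟨d, hd, hmove⟩ := hxK hx (T.norm j (j + 1) (by omega) hj hx.1)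
    have hord : (orderOf x).Coprime (p (j + 1)) := by
      haveI := Fact.mk (T.prime j (by omega))
      obtain ⟨k, hk⟩ := IsPGroup.iff_card.mp (T.isPGroup j (by omega))
      exact Nat.Coprime.coprime_dvd_left (hk ▸ (P j).orderOf_dvd_natCard hx.1)
        ((Nat.coprime_primes (T.prime j (by omega)) (T.prime (j + 1) hj)).mpr (T.p_ne j hj)
          |>.pow_left k)
    rw [show i + (n + 1) = (i + 1) + n by omega]
    exact res_ne_bot T hr har hC n (j + 1) (i + 1) (by omega)
      (T.exists_moved_succ hr har hj (hC _ hj) (mem_fixPart.mp hx).2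
        (T.norm j (j + 1) (by omega) hj hx.1) hord hd hmove hxi)

/-- `a` is trivial on level `j` modulo `Q j`. -/
def TrivAt (P Q : ℕ → Subgroup Γ) (a : Γ) (j : ℕ) : Prop :=
  ∀ x ∈ P j, a * x * a⁻¹ * x⁻¹ ∈ Q j

/-- Below the first nontrivial level the tower consists of fixed points. -/
theorem Tower.le_centralizer (T : Tower G a r h P Q p) (hr : r.Prime) (har : a ^ r = 1) :
    ∀ j, j + 1 < h → (∀ i, i ≤ j → TrivAt P Q a i) → P j ≤ centralizer {a} := by
  intro j
  induction j using Nat.strong_induction_on with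
  | _ j ih =>
    intro hj htriv
    have hUa : a ∈ normalizer (fixPart a (P j) : Set Γ) := by
      refine mem_normalizer_iff.mpr fun c => ?_
      rw [mem_fixPart, mem_fixPart, ← mem_normalizer_iff.mp (T.a_norm j (by omega)) c]
      refine and_congr_right fun _ => ⟨fun hc => ?_, fun hc => ?_⟩
      · rw [show a * c * a⁻¹ = c by rw [hc, mul_inv_cancel_right]]; exact hc
      · have := congrArg (fun t => a⁻¹ * t * a) hc
        simpa [mul_assoc] using this
    have hUP : ∀ i, i < j → P i ≤ normalizer (fixPart a (P j) : Set Γ) := by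
      intro i hi g hg
      have hga : Commute a g := (mem_centralizer_singleton_iff.mp
        (ih i hi (by omega) (fun k hk => htriv k (by omega)) hg)).symm
      refine mem_normalizer_iff.mpr fun c => ?_
      rw [mem_fixPart, mem_fixPart, ← mem_normalizer_iff.mp (T.norm i j hi.le (by omega) hg) c]
      refine and_congr_right fun _ => ⟨fun hc => ((hga.mul_right hc).mul_right hga.inv_right).eq,
        fun hc => ?_⟩
      have := ((hga.inv_right).mul_right hc).mul_right hga
      simpa [mul_assoc] using this.eq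
    rcases T.minimal j hj _ inf_le_left hUa hUP with h1 | h1
    · exfalso
      refine T.ne j (by omega) fun x hx => ?_
      obtain ⟨c, hc, hw⟩ := Coprime.exists_commutator_mul_centralizer (T.zpowers_le_norm (by omega))
        (T.coprime_a hr har (by omega : j < h)) (Or.inl inferInstance) hx
      have hQa : ⁅P j, zpowers a⁆ ≤ Q j := by
        rw [commutator_le]
        intro y hy b hb
        obtain ⟨k, rfl⟩ := mem_zpowers_iff.mp hb
        have hS : ∀ b ∈ zpowers a, b ∈ moverKer ⊤ (P j) (Q j) := fun b hb =>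
          (zpowers_le (H := moverKer ⊤ (P j) (Q j))).mpr ⟨mem_top _, T.a_norm j (by omega),
            fun d hd => by simpa [commutatorElement_def] using htriv j le_rfl d hd⟩ hb
        rw [← commutatorElement_inv]
        exact inv_mem ((hS _ (zpow_mem_zpowers a k)).2.2 y hy)
      have hcQ : c ∈ Q j := h1 (mem_fixPart.mpr ⟨hc.1, mem_centralizer_iff.mp hc.2 a (mem_zpowers a)⟩)
      rw [show x = x * c⁻¹ * c by group]
      exact mul_mem (hQa hw) hcQ
    · rw [← h1]
      exact inf_le_right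

omit [Finite Γ] in
/-- Each level is generated by commutators with the previous one. -/
theorem Tower.commutator_eq (T : Tower G a r h P Q p) {j : ℕ} (hj : j + 2 < h) :
    ⁅P (j + 1), P j⁆ = P (j + 1) := by
  have hle : ⁅P (j + 1), P j⁆ ≤ P (j + 1) :=
    Coprime.commutator_le_of_le_normalizer (T.norm j (j + 1) (by omega) (by omega))
  have hn : ∀ g : Γ, g ∈ normalizer (P (j + 1) : Set Γ) → g ∈ normalizer (P j : Set Γ) →
      g ∈ normalizer (⁅P (j + 1), P j⁆ : Subgroup Γ) := by
    intro g h1 h2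
    rw [mem_normalizer_iff_map_conj_eq, map_commutator, mem_normalizer_iff_map_conj_eq.mp h1,
      mem_normalizer_iff_map_conj_eq.mp h2]
  rcases T.minimal (j + 1) (by omega) _ hle (hn a (T.a_norm _ (by omega)) (T.a_norm _ (by omega)))
    (fun i hi g hg => hn g (T.norm i (j + 1) hi.le (by omega) hg)
      (T.norm i j (by omega) (by omega) hg)) with h1 | h1
  · exfalso
    refine T.ne j (by omega) fun x hx => T.ker_le j (by omega) x hx fun d hd => ?_
    rw [← commutatorElement_inv]
    exact inv_mem (h1 (commutator_mem_commutator hd hx))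
  · exact h1

/-- The fixed tail has full depth. -/
theorem Tower.le_res (T : Tower G a r h P Q p) {C : Subgroup Γ} :
    ∀ j, j + 1 < h → (∀ i, i ≤ j → P i ≤ C) → P j ≤ res C j
  | 0, _, hC => hC 0 le_rfl
  | j + 1, hj, hC => by
    have hprev := le_res T j (by omega) (fun i hi => hC i (by omega))
    haveI := Fact.mk (T.prime j (by omega))
    haveI := Fact.mk (T.prime (j + 1) (by omega))
    obtain ⟨k, hk⟩ := IsPGroup.iff_card.mp (T.isPGroup j (by omega))
    obtain ⟨l, hl⟩ := IsPGroup.iff_card.mp (T.isPGroup (j + 1) (by omega))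
    have hcop : (Nat.card (P j)).Coprime (Nat.card (P (j + 1))) := by
      rw [hk, hl]
      exact Nat.coprime_pow_primes k l (T.prime j (by omega)) (T.prime (j + 1) (by omega))
        (T.p_ne j (by omega))
    haveI := (T.isPGroup j (by omega)).isNilpotent
    rw [← T.commutator_eq (j := j) (by omega)]
    exact commutator_le_res (hC (j + 1) le_rfl) hprev (T.norm j (j + 1) (by omega) (by omega)) hcop
      (Or.inl inferInstance)

end CfsgLib.TurullFit
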