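import Cfsg.Agent.Lib.TurullFit.Bad

/-!
# Turull's bound for the Fitting height: facts at the first nontrivial level
-/

set_option autoImplicit false
set_option linter.style.haveILetI false

open Subgroup Module
open scoped commutatorElement

namespace CfsgLib.TurullFit

open CfsgLib.FgsB.FixedPointHeight

universe u

/-- The parts of the proof. -/
structure Parts : Prop where
  semi : StmtSemisimple.{u}
  moved : StmtMovedFix.{u}
  uniform : StmtUniformFixer.{u}
  exc : StmtExcFacts.{u}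
  stab : StmtExcStab.{u}
  core : StmtCore.{u}
  tne : StmtTne.{u}
  hyper : StmtHyper.{u}
  smallComm : StmtSmallComm.{u}
  smallFix : StmtSmallFix.{u}

variable {Γ : Type u} [Group Γ] [Finite Γ] {P Q : ℕ → Subgroup Γ} {p : ℕ → ℕ} {G : Subgroup Γ}
  {a : Γ} {r h : ℕ}

/-- The invariant holds at every level. -/
theorem Tower.badData (hP : Parts.{u}) (T : Tower G a r h P Q p) (hr : r.Prime) (har : a ^ r = 1) :
    ∀ n j, j + n + 2 = h → BadData P Q a h j
  | 0, j, hj => T.badData_top (by omega)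
  | n + 1, j, hj => by
    haveI := Fact.mk (T.prime (j + 2) (by omega))
    exact T.badData_step (F := AlgebraicClosure (ZMod (p (j + 2)))) hP.semi hP.moved hP.uniform
      hP.exc hP.stab hP.core hr har (by omega) (Tower.badData hP T hr har n (j + 1) (by omega))

omit [Finite Γ] in
theorem res_ne_bot_of_le {C : Subgroup Γ} [Finite Γ] {i k : ℕ} (hik : i ≤ k) (hk : res C k ≠ ⊥) :
    res C i ≠ ⊥ := by
  induction k with
  | zero => rwa [Nat.le_zero.mp hik]
  | succ k ih =>
    rcases Nat.eq_or_lt_of_le hik with e | h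
    · rwa [e]
    · exact ih (by omega) fun h0 => hk (le_bot_iff.mp ((res_succ_le C k).trans h0.le))

/-- `a` stays nontrivial above a nontrivial level. -/
theorem Tower.trivAt_of_succ (T : Tower G a r h P Q p) {j : ℕ} (hj : j + 1 < h)
    (ht : TrivAt P Q a (j + 1)) : TrivAt P Q a j := by
  intro x hx
  have haP := T.a_norm j (by omega)
  have hxP : a * x * a⁻¹ * x⁻¹ ∈ P j := mul_mem ((mem_normalizer_iff.mp haP x).mp hx) (inv_mem hx)
  refine T.ker_le j hj _ hxP fun d hd => ?_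
  -- conjugation by `a` is trivial on the next level
  set S := moverKer (⊤ : Subgroup Γ) (P (j + 1)) (Q (j + 1)) with hS
  have haS : a ∈ S := ⟨mem_top _, T.a_norm _ hj, fun e he => by
    rw [commutatorElement_def]; exact ht e he⟩
  have hxS : ∀ e ∈ P (j + 1), x * e * x⁻¹ ∈ P (j + 1) := fun e he =>
    (mem_normalizer_iff.mp (T.norm j (j + 1) (by omega) hj hx) e).mp he
  have hconj : x * a⁻¹ * x⁻¹ ∈ S := by
    refine ⟨mem_top _, mul_mem (mul_mem (T.norm j (j + 1) (by omega) hj hx)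
      (inv_mem (T.a_norm _ hj))) (inv_mem (T.norm j (j + 1) (by omega) hj hx)), fun e he => ?_⟩
    have h1 : x⁻¹ * e * x ∈ P (j + 1) := by
      have := (mem_normalizer_iff.mp (inv_mem (T.norm j (j + 1) (by omega) hj hx)) e).mp he
      simpa using this
    have h2 := (mem_normalizer_iff.mp (T.normQ j (j + 1) (by omega) hj hx) _).mp
      ((S.inv_mem haS).2.2 _ h1)
    rwa [show x * ⁅a⁻¹, x⁻¹ * e * x⁆ * x⁻¹ = ⁅x * a⁻¹ * x⁻¹, e⁆ by
      simp only [commutatorElement_def]; group] at h2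
  have h3 : a * x * a⁻¹ * x⁻¹ ∈ S := by
    rw [show a * x * a⁻¹ * x⁻¹ = a * (x * a⁻¹ * x⁻¹) by group]
    exact S.mul_mem haS hconj
  exact h3.2.2 d hd

omit [Finite Γ] in
theorem mem_normalizer_fixPart {A : Subgroup Γ} {g : Γ} (hg : g ∈ normalizer (A : Set Γ))
    (hga : a * g = g * a) : g ∈ normalizer (fixPart a A : Set Γ) := by
  refine mem_normalizer_iff.mpr fun c => ?_
  rw [mem_fixPart, mem_fixPart, ← mem_normalizer_iff.mp hg c]
  refine and_congr_right fun _ => ⟨fun hc =>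
    (((show Commute a g from hga).mul_right hc).mul_right (show Commute a g from hga).inv_right).eq,
    fun hc => ?_⟩
  have := (((show Commute a g from hga).inv_right).mul_right hc).mul_right
    (show Commute a g from hga)
  simpa [mul_assoc] using this.eq

/-- At the first nontrivial level `a` has no fixed points modulo `Q`. -/
theorem Tower.fpf_first (T : Tower G a r h P Q p) (hr : r.Prime) (har : a ^ r = 1) {i : ℕ}
    (hi : i < h) (hbelow : ∀ k, k < i → TrivAt P Q a k) (hnt : ¬ TrivAt P Q a i) :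
    ∀ x ∈ P i, a * x * a⁻¹ * x⁻¹ ∈ Q i → x ∈ Q i := by
  have hfixQ : fixPart a (P i) ≤ normalizer (Q i : Set Γ) := fun g hg =>
    T.normQ i i le_rfl hi hg.1
  set U := fixPart a (P i) ⊔ Q i with hU
  have hmem : ∀ u ∈ U, ∃ c ∈ fixPart a (P i), ∃ q ∈ Q i, c * q = u := by
    intro u hu
    rw [hU, ← SetLike.mem_coe, coe_mul_of_left_le_normalizer_right _ _ hfixQ] at hu
    exact Set.mem_mul.mp hu
  have hUn : ∀ g : Γ, g ∈ normalizer (fixPart a (P i) : Set Γ) → g ∈ normalizer (Q i : Set Γ) →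
      g ∈ normalizer (U : Set Γ) := by
    intro g h1 h2
    rw [mem_normalizer_iff_map_conj_eq, hU, Subgroup.map_sup, mem_normalizer_iff_map_conj_eq.mp h1,
      mem_normalizer_iff_map_conj_eq.mp h2]
  rcases T.irred i hi U le_sup_right (sup_le inf_le_left (T.Q_le i hi))
    (hUn a (mem_normalizer_fixPart (T.a_norm i hi) rfl) (T.a_normQ i hi))
    (fun k hk g hg => hUn g (mem_normalizer_fixPart (T.norm k i hk.le hi hg)
      (mem_centralizer_singleton_iff.mp (T.le_centralizer hr har k (by omega)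
        (fun l hl => hbelow l (by omega)) hg)).symm) (T.normQ k i hk.le hi hg)) with h1 | h1
  · intro x hx hax
    have hfix : ∀ b ∈ zpowers a, x⁻¹ * (b * x * b⁻¹) ∈ Q i := by
      intro b hb
      have hxn : x ∈ normalizer (Q i : Set Γ) := T.normQ i i le_rfl hi hx
      have hbn : b ∈ normalizer (Q i : Set Γ) := zpowers_le.mpr (T.a_normQ i hi) hb
      have hS : ∀ n : ℕ, x⁻¹ * (a ^ n * x * (a ^ n)⁻¹) ∈ Q i := by
        intro n
        induction n with
        | zero => simp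
        | succ n ih =>
          have e1 : x⁻¹ * (a * x * a⁻¹) ∈ Q i := by
            have := (mem_normalizer_iff.mp (inv_mem hxn) _).mp hax
            simpa [mul_assoc] using this
          have e2 := mul_mem e1 ((mem_normalizer_iff.mp (T.a_normQ i hi) _).mp ih)
          convert e2 using 1
          rw [pow_succ']
          group
      obtain ⟨n, rfl⟩ := (isOfFinOrder_of_finite a).mem_powers_iff_mem_zpowers.mpr hb
      exact hS n
    obtain ⟨c, hc, hxc⟩ := Coprime.exists_centralizing_in_coset (zpowers_le.mpr (T.a_normQ i hi))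
      ((T.coprime_a hr har hi).coprime_dvd_right (card_dvd_of_le (T.Q_le i hi))) (Or.inl inferInstance)
      hfix
    have hcP : c ∈ P i := by
      have := mul_mem hx (T.Q_le i hi hxc)
      rwa [mul_inv_cancel_left] at this
    have hcQ : c ∈ Q i := (le_sup_left.trans h1.le : fixPart a (P i) ≤ Q i) (mem_fixPart.mpr
      ⟨hcP, mem_centralizer_iff.mp hc a (mem_zpowers a)⟩)
    have := mul_mem hcQ (inv_mem hxc)
    rwa [mul_inv_rev, inv_inv, mul_inv_cancel_left] at this
  · refine absurd (fun x hx => ?_) hnt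
    obtain ⟨c, hc, q, hq, rfl⟩ := hmem x (h1.symm ▸ hx)
    have hca : Commute a c := (mem_fixPart.mp hc).2
    rw [show a * (c * q) * a⁻¹ * (c * q)⁻¹ = (a * c) * (q * a⁻¹ * q⁻¹) * c⁻¹ by group, hca.eq,
      show c * a * (q * a⁻¹ * q⁻¹) * c⁻¹ = c * (a * q * a⁻¹ * q⁻¹) * c⁻¹ by group]
    exact (mem_normalizer_iff.mp (hfixQ hc) _).mp
      (mul_mem ((mem_normalizer_iff.mp (T.a_normQ i hi) q).mp hq) (inv_mem hq))

/-- Without fixed points modulo `Q` the fixed points are central. -/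
theorem Tower.centralFix (T : Tower G a r h P Q p) {j : ℕ} (hj : j + 1 < h) {F : Type} [Field F]
    [CharP F (p (j + 1))] (hfpf : ∀ x ∈ P j, a * x * a⁻¹ * x⁻¹ ∈ Q j → x ∈ Q j) :
    CentralFix (lvlRep F P Q (j + 1)) ((P j).subgroupOf (lvlGroup P Q (j + 1)))
      ⟨a, T.a_mem_lvlGroup hj⟩ := by
  intro x hx hax y hy
  have hxQ : (x : Γ) ∈ Q j := hfpf _ hx (by
    rw [show a * (x : Γ) = (x : Γ) * a from congrArg Subtype.val hax, mul_inv_cancel_right,
      mul_inv_cancel]
    exact one_mem _)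
  have h1 : lvlRep F P Q (j + 1) ⁅x, y⁆ = 1 := (T.lvlRep_eq_one hj _).mpr (by
    simpa [InKer, commutatorElement_def] using T.cent j hj (x : Γ) hxQ (y : Γ) hy)
  rw [show x * y = ⁅x, y⁆ * (y * x) by rw [commutatorElement_def]; group, map_mul, h1, one_mul]

/-- No functional on level `j + 1` is fixed by level `j`. -/
theorem Tower.eq_zero_of_fixed (T : Tower G a r h P Q p) {j : ℕ} (hj : j + 1 < h) {F : Type}
    [Field F] [CharP F (p (j + 1))] {f : ↥(dualSub F (lvlP P Q (j + 1)) (lvlQ P Q (j + 1)))}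
    (hf : ∀ x ∈ (P j).subgroupOf (lvlGroup P Q (j + 1)), lvlRep F P Q (j + 1) x f = f) : f = 0 := by
  set H := lvlGroup P Q (j + 1) with hH
  have hadd := f.2.1
  have hone : (f : ↥(lvlP P Q (j + 1)) → F) 1 = 0 := by
    have := hadd 1 1
    rw [mul_one] at this
    exact left_eq_add.mp this
  let Kf : Subgroup Γ :=
    { carrier := {d | ∃ hd : d ∈ P (j + 1), (f : ↥(lvlP P Q (j + 1)) → F)
        ⟨⟨d, T.mem_lvlGroup le_rfl hj hd⟩, hd⟩ = 0}
      one_mem' := ⟨one_mem _, hone⟩
      mul_mem' := fun {x y} hx hy => by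
        obtain ⟨hx, hx0⟩ := hx
        obtain ⟨hy, hy0⟩ := hy
        refine ⟨mul_mem hx hy, ?_⟩
        have := hadd ⟨⟨x, T.mem_lvlGroup le_rfl hj hx⟩, hx⟩ ⟨⟨y, T.mem_lvlGroup le_rfl hj hy⟩, hy⟩
        rw [hx0, hy0, add_zero] at this
        exact this
      inv_mem' := fun {x} hx => by
        obtain ⟨hx, hx0⟩ := hx
        refine ⟨inv_mem hx, ?_⟩
        have := hadd ⟨⟨x, T.mem_lvlGroup le_rfl hj hx⟩, hx⟩
          ⟨⟨x⁻¹, T.mem_lvlGroup le_rfl hj (inv_mem hx)⟩, inv_mem hx⟩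
        rw [hx0, zero_add] at this
        rw [← this]
        refine (congrArg _ ?_).trans hone
        exact Subtype.ext (Subtype.ext (mul_inv_cancel x)) }
  have hU : ⁅P (j + 1), P j⁆ ⊔ Q (j + 1) ≤ Kf := by
    refine sup_le (commutator_le.mpr fun d hd x hx => ?_) fun q hq =>
      ⟨T.Q_le _ hj hq, f.2.2 _ hq⟩
    have hxd : x * d⁻¹ * x⁻¹ ∈ P (j + 1) :=
      (mem_normalizer_iff.mp (T.norm j (j + 1) (by omega) hj hx) _).mp (inv_mem hd)
    refine ⟨by rw [commutatorElement_def, mul_assoc, mul_assoc, ← mul_assoc x]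
               exact mul_mem hd hxd, ?_⟩
    set dd : ↥(lvlP P Q (j + 1)) := ⟨⟨d, T.mem_lvlGroup le_rfl hj hd⟩, hd⟩ with hdd
    set ee : ↥(lvlP P Q (j + 1)) := ⟨⟨x * d⁻¹ * x⁻¹, T.mem_lvlGroup le_rfl hj hxd⟩, hxd⟩ with hee
    have he : (f : ↥(lvlP P Q (j + 1)) → F) ee = (f : ↥(lvlP P Q (j + 1)) → F) dd⁻¹ := by
      have h1 := congrArg (fun g : ↥(dualSub F (lvlP P Q (j + 1)) (lvlQ P Q (j + 1))) =>
          (g : ↥(lvlP P Q (j + 1)) → F) dd⁻¹)
        (hf (⟨x, T.mem_lvlGroup (by omega) hj hx⟩⁻¹ : ↥H) (inv_mem hx))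
      simp only [dualRep_apply] at h1
      rw [← h1]
      refine congrArg _ (Subtype.ext (Subtype.ext ?_))
      simp [hee, hdd]
    have h2 := hadd dd ee
    rw [he, ← hadd dd dd⁻¹, mul_inv_cancel, hone] at h2
    rw [← h2]
    refine congrArg _ (Subtype.ext (Subtype.ext ?_))
    simp [hdd, hee, commutatorElement_def, mul_assoc]
  have hn : ∀ g : Γ, g ∈ normalizer (P (j + 1) : Set Γ) → g ∈ normalizer (P j : Set Γ) →
      g ∈ normalizer (Q (j + 1) : Set Γ) →
      g ∈ normalizer ((⁅P (j + 1), P j⁆ ⊔ Q (j + 1) : Subgroup Γ) : Set Γ) := by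
    intro g h1 h2 h3
    rw [mem_normalizer_iff_map_conj_eq, Subgroup.map_sup, map_commutator,
      mem_normalizer_iff_map_conj_eq.mp h1, mem_normalizer_iff_map_conj_eq.mp h2,
      mem_normalizer_iff_map_conj_eq.mp h3]
  rcases T.irred (j + 1) hj _ le_sup_right (sup_le (Coprime.commutator_le_of_le_normalizer
      (T.norm j (j + 1) (by omega) hj)) (T.Q_le _ hj))
    (hn a (T.a_norm _ hj) (T.a_norm _ (by omega)) (T.a_normQ _ hj))
    (fun k hk g hg => hn g (T.norm k (j + 1) (by omega) hj hg) (T.norm k j (by omega) (by omega) hg)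
      (T.normQ k (j + 1) (by omega) hj hg)) with h1 | h1
  · exfalso
    refine T.ne j (by omega) fun x hx => T.ker_le j hj x hx fun d hd => ?_
    rw [← commutatorElement_inv]
    exact inv_mem ((le_sup_left.trans h1.le : ⁅P (j + 1), P j⁆ ≤ Q (j + 1))
      (commutator_mem_commutator hd hx))
  · refine Subtype.ext (funext fun z => ?_)
    obtain ⟨_, hz⟩ := hU (h1.symm ▸ mem_subgroupOf.mp z.2)
    exact hz

/-- A nontrivial level has a noncentral component on the next one. -/
theorem Tower.exists_noncentral (hSemi : StmtSemisimple.{u}) (T : Tower G a r h P Q p)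
    (hr : r.Prime) (har : a ^ r = 1) {j : ℕ} (hj : j + 1 < h) (hnt : ¬ TrivAt P Q a j)
    (F : Type) [Field F] [CharP F (p (j + 1))] :
    ∃ S, Comp (lvlRep F P Q (j + 1)) ((P j).subgroupOf (lvlGroup P Q (j + 1)))
        ⟨a, T.a_mem_lvlGroup hj⟩ S ∧
      Noncentral (lvlRep F P Q (j + 1)) ((P j).subgroupOf (lvlGroup P Q (j + 1)))
        ⟨a, T.a_mem_lvlGroup hj⟩ S := by
  by_contra hno
  push Not at hno
  refine hnt fun x hx => T.ker_le j hj _ (mul_mem ((mem_normalizer_iff.mp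
    (T.a_norm j (by omega)) x).mp hx) (inv_mem hx)) ?_
  set H := lvlGroup P Q (j + 1) with hH
  set aH : ↥H := ⟨a, T.a_mem_lvlGroup hj⟩
  set xH : ↥H := ⟨x, T.mem_lvlGroup (by omega) hj hx⟩
  set ρ := lvlRep F P Q (j + 1)
  have h1 : (⊤ : Submodule F _) ≤ fixSub ρ (aH * xH * aH⁻¹ * xH⁻¹) := by
    rw [← (hSemi F _ _ ρ _ r _ aH (T.layer hr har hj)).2]
    refine sSup_le fun S hS v hv => ?_
    have h2 : ∀ w ∈ S, ρ (aH * xH * aH⁻¹) w = ρ xH w := fun w hw => by
      by_contra hne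
      exact hno S hS ⟨xH, hx, w, hw, hne⟩
    rw [mem_fixSub, map_mul, End.mul_apply, h2 _ (hS.2.1.1 _ (inv_mem hx) v hv), ← End.mul_apply,
      ← map_mul, mul_inv_cancel, map_one, End.one_apply]
  exact (T.lvlRep_eq_one (F := F) hj (aH * xH * aH⁻¹ * xH⁻¹)).mp
    (LinearMap.ext fun v => by rw [End.one_apply]; exact h1 (Submodule.mem_top : v ∈ ⊤))

/-- A nonzero `T` gives a fixed point outside the kernel. -/
theorem Tower.exists_not_mem_kerAt (T : Tower G a r h P Q p) (hr : r.Prime) (har : a ^ r = 1)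
    {j : ℕ} (hj : j < h) {F : Type} [Field F] [CharP F (p j)] (hne : lvlT F P Q a h j ≠ ⊥) :
    ∃ x ∈ fixPart a (P j), x ∉ kerAt P Q a h j := by
  by_contra hno
  push Not at hno
  refine hne (((T.elemSection hj).annih_eq_bot (fun x hx => T.Q_le_wAt hx)
    (fun x hx => T.wAt_le hj hx)).mpr (le_antisymm (fun x hx => T.wAt_le hj hx) fun x hx => ?_))
  obtain ⟨c, hc, hw⟩ := Coprime.exists_commutator_mul_centralizer (T.zpowers_le_norm hj)
    (T.coprime_a hr har hj) (Or.inl inferInstance) (mem_subgroupOf.mp hx)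
  rw [mem_subgroupOf, show ((x : ↥(lvlGroup P Q j)) : Γ) = (x : Γ) * c⁻¹ * c by group]
  exact mul_mem ((le_sup_right.trans le_sup_left : ⁅P j, zpowers a⁆ ≤ wAt P Q a h j) hw)
    ((le_sup_left.trans le_sup_left : kerAt P Q a h j ≤ wAt P Q a h j)
      (hno c (mem_fixPart.mpr ⟨hc.1, mem_centralizer_iff.mp hc.2 a (mem_zpowers a)⟩)))

end CfsgLib.TurullFit
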