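import Cfsg.Agent.Lib.TurullFit.Stmts

/-!
# Turull's bound for the Fitting height: fixed points of `a` fixing `T` fix the good components

If `π` commutes with `a` and with a subgroup `B` whose commutators are scalar on the range, and
kills `T`, then some nonzero fixed vector `χ` in the range has `ρ (a y a⁻¹) χ = ρ y χ` on `B`:
otherwise apply the norm to the sum of the translates of `ρ y χ`. With `π` the projection to the
component followed by `ρ x - 1` this makes `X`, or its centre, commute with `a` on the component.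
-/

set_option autoImplicit false
set_option linter.style.haveILetI false
set_option linter.unusedSectionVars false

open Module
open scoped commutatorElement

namespace CfsgLib.TurullFit

universe u

open CfsgLib.FgsC.CoprimeWeights CfsgLib.FgsC.HallHigman

namespace Core

variable {F : Type} [Field F] {Γ V : Type u} [Group Γ] [AddCommGroup V] [Module F V]
  {ρ : Representation F Γ V} {s r : ℕ} {X : Subgroup Γ} {a : Γ} {S : Submodule F V}

theorem orderOf_coprime [Finite Γ] (L : Layer ρ s r X a) {z : Γ} (hz : z ∈ X) :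
    (orderOf z).Coprime r := by
  obtain ⟨k, hk⟩ := L.isPGroup ⟨z, hz⟩
  have h1 : z ^ s ^ k = 1 := congrArg Subtype.val hk
  exact Nat.Coprime.coprime_dvd_left (orderOf_dvd_of_pow_eq_one h1)
    (Nat.Coprime.pow_left k ((Nat.coprime_primes L.prime_s L.prime_r).mpr L.s_ne_r))

theorem fix_pow {g : Γ} {v : V} (h : ρ g v = v) (j : ℕ) : ρ (g ^ j) v = v := by
  induction j with
  | zero => rw [pow_zero, map_one, End.one_apply]
  | succ j ih => rw [pow_succ, ← rho_mul_apply, h, ih]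

theorem norm_fixed {v : V} (h : ρ a v = v) : normEnd ρ a r v = (r : F) • v := by
  rw [normEnd_apply, Finset.sum_congr rfl (fun (i : Fin r) _ => fix_pow h (i : ℕ)),
    Finset.sum_const, Finset.card_univ, Fintype.card_fin, Nat.cast_smul_eq_nsmul]

theorem a_norm (har : a ^ r = 1) (v : V) : ρ a (normEnd ρ a r v) = normEnd ρ a r v := by
  have e1 := Finset.sum_range_succ' (fun i => ρ (a ^ i) v) r
  have e2 := Finset.sum_range_succ (fun i => ρ (a ^ i) v) r
  simp only [pow_zero] at e1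
  rw [har] at e2
  rw [normEnd, LinearMap.sum_apply, map_sum]
  refine Eq.trans (Finset.sum_congr rfl fun i _ => ?_) (add_right_cancel (e1.symm.trans e2))
  rw [rho_mul_apply, ← pow_succ']

theorem commute_pow {π : End F V} (hπa : π * ρ a = ρ a * π) (i : ℕ) (v : V) :
    π (ρ (a ^ i) v) = ρ (a ^ i) (π v) := by
  induction i with
  | zero => simp
  | succ i ih =>
    rw [pow_succ', ← rho_mul_apply, ← End.mul_apply π, hπa, End.mul_apply, ih, rho_mul_apply]

theorem commute_norm {π : End F V} (hπa : π * ρ a = ρ a * π) (v : V) :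
    π (normEnd ρ a r v) = normEnd ρ a r (π v) := by
  simp only [normEnd, LinearMap.sum_apply, map_sum, commute_pow hπa]

theorem conj_mem (L : Layer ρ s r X a) {y : Γ} (hy : y ∈ X) : a * y * a⁻¹ ∈ X :=
  (Subgroup.mem_normalizer_iff.mp L.mem_normalizer y).mp hy

/-- An element of `B` sending the fixed vector `v` to a fixed vector, of the form `y⁻¹ (b y b⁻¹)`,
fixes it. -/
theorem fix_of_fixed [Finite Γ] (L : Layer ρ s r X a) {B : Subgroup Γ} (hBX : B ≤ X)
    (hBa : a ∈ Subgroup.normalizer (B : Set Γ)) {S' : Submodule F V}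
    (hsc : ∀ y ∈ B, ∀ z ∈ B, ∃ c : F, ∀ w ∈ S', ρ (y * z) w = c • ρ (z * y) w)
    {v : V} (hv : v ∈ S') (hv0 : v ≠ 0) (hav : ρ a v = v) {y : Γ} (hy : y ∈ B) (i : ℕ) {z : Γ}
    (hzdef : z = y⁻¹ * (a ^ i * y * (a ^ i)⁻¹)) (hz : ρ a (ρ z v) = ρ z v) : ρ z v = v := by
  set b := a ^ i with hb
  have hbN : b ∈ Subgroup.normalizer (B : Set Γ) := pow_mem hBa i
  let P : ℕ → Γ := fun k => y⁻¹ * (b ^ k * y * (b ^ k)⁻¹)
  have hP : ∀ k, P k ∈ B := fun k =>
    mul_mem (inv_mem hy) ((Subgroup.mem_normalizer_iff.mp (pow_mem hbN k) y).mp hy)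
  have hzB : z ∈ B := by
    have := hP 1
    rwa [show P 1 = z by simp only [P, pow_one, hzdef]] at this
  have hbinv : ∀ k, ρ ((b ^ k)⁻¹) v = v := fun k => by
    conv_lhs => rw [← fix_pow (fix_pow hav i) k]
    rw [← hb, rho_apply_inv]
  have hzt : ∀ k, ρ (b ^ k * z * (b ^ k)⁻¹) v = ρ z v := fun k => by
    rw [← rho_mul_apply, hbinv k, ← rho_mul_apply, fix_pow (fix_pow hz i) k]
  have hPs : ∀ k, P (k + 1) = P k * (b ^ k * z * (b ^ k)⁻¹) := fun k => by
    simp only [P, hzdef, pow_succ]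
    group
  have key : ∀ k, ∃ c : F, ρ (P k) v = c • ρ (z ^ k) v := by
    intro k
    induction k with
    | zero => exact ⟨1, by simp [P]⟩
    | succ k ih =>
      obtain ⟨c, hc⟩ := ih
      obtain ⟨d, hd⟩ := hsc (P k) (hP k) z hzB
      refine ⟨d * c, ?_⟩
      rw [hPs k, ← rho_mul_apply, hzt k, rho_mul_apply, hd v hv, ← rho_mul_apply, hc, map_smul,
        rho_mul_apply, ← pow_succ', smul_smul]
  have hbr : b ^ r = 1 := by rw [hb, ← pow_mul, mul_comm, pow_mul, L.pow_eq_one, one_pow]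
  have hPr : P r = 1 := by simp [P, hbr]
  obtain ⟨c, hc⟩ := key r
  rw [hPr, map_one, End.one_apply] at hc
  have hc0 : c ≠ 0 := fun h => hv0 (by rw [hc, h, zero_smul])
  have hzr : ρ (z ^ r) v = c⁻¹ • v := by
    conv_rhs => rw [hc, smul_smul, inv_mul_cancel₀ hc0, one_smul]
  have hcop := orderOf_coprime L (hBX hzB)
  obtain ⟨u, hu⟩ : ∃ u, (z ^ r) ^ u = z := by
    obtain ⟨u, hu⟩ := exists_pow_eq_self_of_coprime (hcop.symm)
    exact ⟨u, hu⟩
  have hiter : ∀ {g : Γ} {μ : F}, ρ g v = μ • v → ∀ k : ℕ, ρ (g ^ k) v = μ ^ k • v := by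
    intro g μ h k
    induction k with
    | zero => simp
    | succ k ih => rw [pow_succ, ← rho_mul_apply, h, map_smul, ih, smul_smul, ← pow_succ']
  have hμ : ρ z v = c⁻¹ ^ u • v := by
    conv_lhs => rw [← hu]
    exact hiter hzr u
  set μ := c⁻¹ ^ u with hμdef
  have hP' : ∀ k, ρ (P k) v = μ ^ k • v := by
    intro k
    induction k with
    | zero => simp [P]
    | succ k ih =>
      rw [hPs k, ← rho_mul_apply, hzt k, hμ, map_smul, ih, smul_smul, ← pow_succ']
  have hμr : μ ^ r = 1 := by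
    have h := hP' r
    rw [hPr, map_one, End.one_apply] at h
    exact smul_left_injective F hv0 (h.symm.trans (one_smul F v).symm)
  have hμn : μ ^ orderOf z = 1 := by
    have h := hiter hμ (orderOf z)
    rw [pow_orderOf_eq_one, map_one, End.one_apply] at h
    exact smul_left_injective F hv0 (h.symm.trans (one_smul F v).symm)
  have hμ1 : μ = 1 := by
    have h := pow_gcd_eq_one.mpr ⟨hμn, hμr⟩
    rwa [hcop, pow_one] at h
  rw [hμ, hμ1, one_smul]

/-- The main lemma. -/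
theorem exists_twist_fixed [Finite Γ] (L : Layer ρ s r X a) {T : Submodule F V} {Ω : Set V}
    (H : HypT ρ r X a T Ω) {B : Subgroup Γ} (hBX : B ≤ X)
    (hBa : a ∈ Subgroup.normalizer (B : Set Γ)) {π : End F V} (hπa : π * ρ a = ρ a * π)
    (hπB : ∀ y ∈ B, π * ρ y = ρ y * π)
    (hπT : ∀ t ∈ T, π t = 0)
    (hsc : ∀ y ∈ B, ∀ z ∈ B, ∃ c : F, ∀ w ∈ LinearMap.range π, ρ (y * z) w = c • ρ (z * y) w)
    (hne : LinearMap.range π ⊓ fixSub ρ a ≠ ⊥) :
    ∃ v ∈ LinearMap.range π, v ≠ 0 ∧ ∀ y ∈ B, ρ (a * y * a⁻¹) v = ρ y v := by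
  obtain ⟨v, ⟨⟨v', rfl⟩, hv⟩, hv0⟩ := Submodule.exists_mem_ne_zero_of_ne_bot hne
  obtain ⟨χ, hχ, hχ0⟩ : ∃ χ ∈ Ω, π χ ≠ 0 := by
    by_contra hall
    push Not at hall
    have h1 : T ⊔ Submodule.span F Ω ≤ LinearMap.ker π :=
      sup_le (fun t ht => hπT t ht) (Submodule.span_le.mpr hall)
    have h2 : π (normEnd ρ a r v') = 0 := h1 (H.span (mem_fixSub.mpr (a_norm L.pow_eq_one v')))
    rw [commute_norm hπa, norm_fixed hv] at h2
    exact hv0 ((smul_eq_zero.mp h2).resolve_left L.r_ne_zero)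
  have haχ : ρ a χ = χ := H.omega_fix hχ
  set w := π χ with hw
  have hwS : w ∈ LinearMap.range π := ⟨χ, rfl⟩
  have haw : ρ a w = w := by rw [hw, ← End.mul_apply, ← hπa, End.mul_apply, haχ]
  have dich : ∀ y ∈ B, normEnd ρ a r (ρ y w) = 0 ∨ ρ a (ρ y w) = ρ y w := by
    intro y hy
    have hπy : π (ρ y χ) = ρ y w := by rw [← End.mul_apply, hπB y hy, End.mul_apply]
    by_cases h : ρ a (ρ y χ) = ρ y χ
    · right
      rw [← hπy, ← End.mul_apply, ← hπa, End.mul_apply, h]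
    · left
      rw [← hπy, ← commute_norm hπa]
      exact hπT _ (H.moved χ hχ y (hBX hy) h)
  refine ⟨w, hwS, hχ0, fun y hy => ?_⟩
  have hconj : ∀ i : ℕ, ρ (a ^ i * y * (a ^ i)⁻¹) w = ρ (a ^ i) (ρ y w) := fun i => by
    conv_lhs => rw [← fix_pow haw i]
    rw [rho_mul_apply, inv_mul_cancel_right, rho_mul_apply]
  suffices h : ρ a (ρ y w) = ρ y w by
    have := hconj 1
    rw [pow_one] at this
    rw [this, h]
  by_contra hmove
  have hz : ∀ i : Fin r, (i : ℕ) ≠ 0 →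
      normEnd ρ a r (ρ (y⁻¹ * (a ^ (i : ℕ) * y * (a ^ (i : ℕ))⁻¹)) w) = 0 := by
    intro i hi
    have hzB : y⁻¹ * (a ^ (i : ℕ) * y * (a ^ (i : ℕ))⁻¹) ∈ B :=
      mul_mem (inv_mem hy) ((Subgroup.mem_normalizer_iff.mp (pow_mem hBa _) y).mp hy)
    refine (dich _ hzB).resolve_right fun hfix => hmove ?_
    have h1 := fix_of_fixed L hBX hBa hsc hwS hχ0 haw hy (i : ℕ) rfl hfix
    rw [← rho_mul_apply, hconj] at h1
    have h2 : ρ (a ^ (i : ℕ)) (ρ y w) = ρ y w := by
      conv_lhs => rw [← rho_inv_apply (ρ := ρ) y (ρ (a ^ (i : ℕ)) (ρ y w)), h1]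
    obtain ⟨k, hk⟩ := Nat.exists_mul_mod_eq_one_of_coprime
      ((L.prime_r.coprime_iff_not_dvd.mpr (Nat.not_dvd_of_pos_of_lt
        (Nat.pos_of_ne_zero hi) i.isLt)).symm) L.prime_r.one_lt
    have h3 := fix_pow h2 k
    rwa [← pow_mul, pow_eq_pow_mod _ L.pow_eq_one, hk.2, pow_one] at h3
  have h0 : ∑ i : Fin r, ρ (y⁻¹ * (a ^ (i : ℕ) * y * (a ^ (i : ℕ))⁻¹)) w = 0 := by
    have h := congrArg (ρ y⁻¹) ((normEnd_apply (ρ := ρ) a r (ρ y w)).symm.trans
      ((dich y hy).resolve_right hmove))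
    rw [map_sum, map_zero] at h
    simpa only [← rho_mul_apply, hconj] using h
  have h := congrArg (normEnd ρ a r) h0
  rw [map_sum, map_zero, Finset.sum_eq_single (⟨0, L.prime_r.pos⟩ : Fin r)] at h
  · simp only [pow_zero, one_mul, inv_one, mul_one, inv_mul_cancel, map_one, End.one_apply] at h
    rw [norm_fixed haw] at h
    exact hχ0 ((smul_eq_zero.mp h).resolve_left L.r_ne_zero)
  · exact fun i _ hi => hz i fun e => hi (Fin.ext e)
  · exact fun h' => absurd (Finset.mem_univ _) h'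

theorem commOn_mul {x y z : Γ} (hS : StableUnder ρ X S) (hx : CommOn ρ S x y)
    (hz : CommOn ρ S x z) (hzX : z ∈ X) : CommOn ρ S x (y * z) := fun v hv => by
  calc ρ (x * (y * z)) v = ρ (x * y) (ρ z v) := by rw [rho_mul_apply, mul_assoc]
    _ = ρ y (ρ (x * z) v) := by rw [hx _ (hS z hzX v hv), rho_mul_apply, rho_mul_apply, mul_assoc]
    _ = ρ (y * z * x) v := by rw [hz v hv, rho_mul_apply, mul_assoc]

theorem commOn_inv {x y : Γ} (hS : StableUnder ρ X S) (hx : CommOn ρ S x y) (hy : y⁻¹ ∈ X) :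
    CommOn ρ S x y⁻¹ := fun v hv => by
  have h := congrArg (ρ y⁻¹) (hx _ (hS y⁻¹ hy v hv))
  simp only [rho_mul_apply] at h
  rw [show y⁻¹ * (x * y * y⁻¹) = y⁻¹ * x by group,
    show y⁻¹ * (y * x * y⁻¹) = x * y⁻¹ by group] at h
  exact h.symm

/-- The elements of `X` commuting with `x` on `S`. -/
def commSub (hS : StableUnder ρ X S) (x : Γ) : Subgroup Γ where
  carrier := {y | y ∈ X ∧ CommOn ρ S x y}
  mul_mem' := fun {y z} hy hz => ⟨mul_mem hy.1 hz.1, commOn_mul hS hy.2 hz.2 hz.1⟩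
  one_mem' := ⟨one_mem _, fun v _ => by rw [mul_one, one_mul]⟩
  inv_mem' := fun {y} hy => ⟨inv_mem hy.1, commOn_inv hS hy.2 (inv_mem hy.1)⟩

/-- The centre of `X` on `S`. -/
def centSub (hS : StableUnder ρ X S) : Subgroup Γ where
  carrier := {x | CenterOn ρ X S x}
  mul_mem' := fun {y z} hy hz => ⟨mul_mem hy.1 hz.1, fun w hw v hv => by
    have h1 : CommOn ρ S w y := fun u hu => (hy.2 w hw u hu).symm
    have h2 : CommOn ρ S w z := fun u hu => (hz.2 w hw u hu).symm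
    exact (commOn_mul hS h1 h2 hz.1 v hv).symm⟩
  one_mem' := ⟨one_mem _, fun _ _ v _ => by rw [mul_one, one_mul]⟩
  inv_mem' := fun {y} hy => ⟨inv_mem hy.1, fun w hw v hv =>
    (commOn_inv hS (fun u hu => (hy.2 w hw u hu).symm) (inv_mem hy.1) v hv).symm⟩

theorem commutator_central (L : Layer ρ s r X a) {y z : Γ} (hy : y ∈ X) (hz : z ∈ X) :
    CenterOn ρ X S ⁅y, z⁆ := by
  refine ⟨?_, fun w hw v _ => ?_⟩
  · rw [commutatorElement_def]
    exact mul_mem (mul_mem (mul_mem hy hz) (inv_mem hy)) (inv_mem hz)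
  · rw [show ⁅y, z⁆ * w = ⁅⁅y, z⁆, w⁆ * (w * ⁅y, z⁆) by
      rw [commutatorElement_def (g₁ := ⁅y, z⁆)]; group, map_mul, L.classTwo y hy z hz w hw,
      one_mul]

/-- Commutators are scalar on a component of fixed type. -/
theorem exists_scalar_comm (L : Layer ρ s r X a) (hS : StableUnder ρ X S)
    (hF : FixedType ρ X S) {y z : Γ} (hy : y ∈ X) (hz : z ∈ X) :
    ∃ c : F, ∀ v ∈ S, ρ (y * z) v = c • ρ (z * y) v := by
  obtain ⟨c, hc⟩ := hF _ (commutator_central (S := S) L hy hz)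
  refine ⟨c, fun v hv => ?_⟩
  rw [show y * z = ⁅y, z⁆ * (z * y) by rw [commutatorElement_def]; group, ← rho_mul_apply]
  exact hc _ (hS _ (mul_mem hz hy) v hv)

/-- The centre is normalised by `a`. -/
theorem centSub_norm [Finite Γ] (L : Layer ρ s r X a) (hS : Inv ρ X a S) :
    a ∈ Subgroup.normalizer (centSub hS.1 : Set Γ) := by
  refine Subgroup.mem_normalizer_fintype fun z hz => ?_
  refine ⟨conj_mem L hz.1, fun w hw v hv => ?_⟩
  have hw' : a⁻¹ * w * a ∈ X := (Subgroup.mem_normalizer_iff''.mp L.mem_normalizer w).mp hw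
  have hv' : ρ a⁻¹ v ∈ S := by
    obtain ⟨k, hk⟩ : ∃ k : ℕ, a ^ k = a⁻¹ := mem_powers_iff_mem_zpowers.mpr
      (Subgroup.inv_mem _ (Subgroup.mem_zpowers a))
    rw [← hk]
    clear hk
    induction k with
    | zero => simpa using hv
    | succ k ih => rw [pow_succ', ← rho_mul_apply]; exact hS.2 _ ih
  have h := congrArg (ρ a) (hz.2 _ hw' _ hv')
  simp only [rho_mul_apply] at h
  rwa [show a * (z * (a⁻¹ * w * a) * a⁻¹) = a * z * a⁻¹ * w by group,
    show a * (a⁻¹ * w * a * z * a⁻¹) = w * (a * z * a⁻¹) by group] at h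

/-- The vectors on which `a` and `B` commute. -/
def twistFix (ρ : Representation F Γ V) (a : Γ) (B : Subgroup Γ) (S : Submodule F V) :
    Submodule F V where
  carrier := {v | v ∈ S ∧ ∀ y ∈ B, ρ (a * y * a⁻¹) v = ρ y v}
  add_mem' := fun {u v} hu hv => ⟨add_mem hu.1 hv.1, fun y hy => by
    rw [map_add, map_add, hu.2 y hy, hv.2 y hy]⟩
  zero_mem' := ⟨zero_mem _, fun y _ => by rw [map_zero, map_zero]⟩
  smul_mem' := fun c v hv => ⟨Submodule.smul_mem _ c hv.1, fun y hy => by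
    rw [map_smul, map_smul, hv.2 y hy]⟩

theorem twistFix_a (hS : Inv ρ X a S) {B : Subgroup Γ} (hBa : a ∈ Subgroup.normalizer (B : Set Γ))
    {v : V} (hv : v ∈ twistFix ρ a B S) : ρ a v ∈ twistFix ρ a B S := by
  refine ⟨hS.2 v hv.1, fun y hy => ?_⟩
  have h := hv.2 (a⁻¹ * y * a) ((Subgroup.mem_normalizer_iff''.mp hBa y).mp hy)
  rw [show a * (a⁻¹ * y * a) * a⁻¹ = y by group] at h
  rw [rho_mul_apply, inv_mul_cancel_right, ← rho_mul_apply, h, rho_mul_apply, rho_mul_apply,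
    show a * (a⁻¹ * y * a) = y * a by group]

/-- `X` cannot commute with `a` on a nonzero vector of a noncentral component. -/
theorem twistFix_X (hC : Comp ρ X a S) (hN : Noncentral ρ X a S) (L : Layer ρ s r X a) {v : V}
    (hv : v ∈ S) (hv0 : v ≠ 0) (h : ∀ y ∈ X, ρ (a * y * a⁻¹) v = ρ y v) : False := by
  have heq : twistFix ρ a X S = S := hC.2.2 _ (fun u hu => hu.1)
    (Submodule.ne_bot_iff _ |>.mpr ⟨v, ⟨hv, h⟩, hv0⟩)
    ⟨fun w hw u hu => ⟨hC.2.1.1 w hw u hu.1, fun y hy =>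
      calc ρ (a * y * a⁻¹) (ρ w u) = ρ (a * y * a⁻¹) (ρ (a * w * a⁻¹) u) := by rw [hu.2 w hw]
        _ = ρ (a * (y * w) * a⁻¹) u := by rw [rho_mul_apply]; congr 2; group
        _ = ρ y (ρ w u) := by rw [hu.2 (y * w) (mul_mem hy hw), rho_mul_apply]⟩, fun u hu => twistFix_a hC.2.1 L.mem_normalizer hu⟩
  obtain ⟨y, hy, u, hu, hne⟩ := hN
  rw [← heq] at hu
  exact hne (hu.2 y hy)

/-- The centre cannot commute with `a` on a nonzero vector of a moved component. -/
theorem twistFix_cent [Finite Γ] [IsAlgClosed F] [FiniteDimensional F V] (L : Layer ρ s r X a)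
    (hC : Comp ρ X a S) (hM : ¬ FixedType ρ X S) {v : V} (hv : v ∈ S) (hv0 : v ≠ 0)
    (h : ∀ y ∈ centSub hC.2.1.1, ρ (a * y * a⁻¹) v = ρ y v) : False := by
  have hS := hC.2.1
  have hA := centSub_norm L hS
  have heq : twistFix ρ a (centSub hS.1) S = S := hC.2.2 _ (fun u hu => hu.1)
    (Submodule.ne_bot_iff _ |>.mpr ⟨v, ⟨hv, h⟩, hv0⟩)
    ⟨fun w hw u hu => ⟨hS.1 w hw u hu.1, fun y hy => by
      have hy' := (Subgroup.mem_normalizer_iff.mp hA y).mp hy
      rw [rho_mul_apply, hy'.2 w hw u hu.1, ← rho_mul_apply, hu.2 y hy, rho_mul_apply,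
        rho_mul_apply, hy.2 w hw u hu.1]⟩, fun u hu => twistFix_a hS hA hu⟩
  refine hM fun z hz => ?_
  haveI : Nontrivial S := Submodule.nontrivial_iff_ne_bot.mpr hC.1
  obtain ⟨c, hc⟩ := End.exists_eigenvalue ((ρ z).restrict (hS.1 z hz.1))
  obtain ⟨u, hu, hu0⟩ := Submodule.exists_mem_ne_zero_of_ne_bot hc
  have hcu : ρ z (u : V) = c • (u : V) :=
    congrArg Subtype.val (End.mem_eigenspace_iff.mp hu)
  have he : S ⊓ End.eigenspace (ρ z) c = S := by
    refine hC.2.2 _ inf_le_left (Submodule.ne_bot_iff _ |>.mpr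
      ⟨u, ⟨u.2, End.mem_eigenspace_iff.mpr hcu⟩, fun e => hu0 (Subtype.ext e)⟩) ⟨?_, ?_⟩
    · rintro w hw x ⟨hx, hx'⟩
      refine ⟨hS.1 w hw x hx, End.mem_eigenspace_iff.mpr ?_⟩
      rw [rho_mul_apply, hz.2 w hw x hx, ← rho_mul_apply, End.mem_eigenspace_iff.mp hx', map_smul]
    · rintro x ⟨hx, hx'⟩
      refine ⟨hS.2 x hx, End.mem_eigenspace_iff.mpr ?_⟩
      have h1 : ρ (a * z * a⁻¹) (ρ a x) = ρ z (ρ a x) :=
        ((heq.symm ▸ hS.2 x hx : ρ a x ∈ twistFix ρ a (centSub hS.1) S)).2 z hz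
      rw [← h1, rho_mul_apply, inv_mul_cancel_right, ← rho_mul_apply,
        End.mem_eigenspace_iff.mp hx', map_smul]
  exact ⟨c, fun x hx => End.mem_eigenspace_iff.mp (he.symm ▸ hx : x ∈ S ⊓ End.eigenspace (ρ z) c).2⟩

/-- An equivariant projection onto a component. -/
theorem exists_proj (hss : StmtSemisimple.{u}) [Finite Γ] [FiniteDimensional F V]
    (L : Layer ρ s r X a) (hS : Inv ρ X a S) :
    ∃ π : End F V, LinearMap.range π = S ∧ (∀ v ∈ S, π v = v) ∧
      (∀ y ∈ X, π * ρ y = ρ y * π) ∧ π * ρ a = ρ a * π := by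
  obtain ⟨W, hW, hc⟩ := (hss F Γ V ρ s r X a L).1 S hS
  let π : End F V := S.subtype.comp (S.projectionOnto W hc)
  have hfix : ∀ v ∈ S, π v = v := fun v hv => by
    simp only [π, LinearMap.comp_apply]
    rw [Submodule.projectionOnto_apply_left hc ⟨v, hv⟩]
    rfl
  have hker : ∀ v ∈ W, π v = 0 := fun v hv => by
    simp only [π, LinearMap.comp_apply]
    rw [(Submodule.projectionOnto_apply_eq_zero_iff hc).mpr hv, map_zero]
  have hcomm : ∀ g : Γ, (∀ v ∈ S, ρ g v ∈ S) → (∀ v ∈ W, ρ g v ∈ W) → π * ρ g = ρ g * π := by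
    intro g h1 h2
    refine LinearMap.ext fun v => ?_
    obtain ⟨x, hx, w, hw, rfl⟩ := Submodule.mem_sup.mp (hc.sup_eq_top.symm ▸ Submodule.mem_top
      : v ∈ S ⊔ W)
    simp only [End.mul_apply, map_add, hfix x hx, hker w hw, hfix _ (h1 x hx), hker _ (h2 w hw),
      map_zero]
  refine ⟨π, ?_, hfix, fun y hy => hcomm y (hS.1 y hy) (hW.1 y hy), hcomm a hS.2 hW.2⟩
  ext v
  exact ⟨fun ⟨u, hu⟩ => hu ▸ (S.projectionOnto W hc u).2,
    fun hv => ⟨v, hfix v hv⟩⟩

/-- In a space without fixed points of `a` some weight of an abelian group is fixed by `a`. -/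
theorem exists_twist_abelian [IsAlgClosed F] [FiniteDimensional F V] (L : Layer ρ s r X a)
    {B : Subgroup Γ} (hBa : a ∈ Subgroup.normalizer (B : Set Γ)) {W : Submodule F V} (hW : W ≠ ⊥)
    (hWB : ∀ y ∈ B, ∀ v ∈ W, ρ y v ∈ W)
    (hab : ∀ y ∈ B, ∀ z ∈ B, ∀ v ∈ W, ρ (y * z) v = ρ (z * y) v)
    (hN : ∀ v ∈ W, normEnd ρ a r v = 0) :
    ∃ v ∈ W, v ≠ 0 ∧ ∀ y ∈ B, ρ (a * y * a⁻¹) v = ρ y v := by
  classical
  obtain ⟨U, ⟨hU0, hUW, hUB⟩, hmin⟩ := wellFounded_lt.has_min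
    {U : Submodule F V | U ≠ ⊥ ∧ U ≤ W ∧ ∀ y ∈ B, ∀ v ∈ U, ρ y v ∈ U} ⟨W, hW, le_rfl, hWB⟩
  haveI : Nontrivial U := Submodule.nontrivial_iff_ne_bot.mpr hU0
  have hex : ∀ y ∈ B, ∃ c : F, ∀ v ∈ U, ρ y v = c • v := by
    intro y hy
    obtain ⟨c, hc⟩ := End.exists_eigenvalue ((ρ y).restrict (hUB y hy))
    obtain ⟨u, hu, hu0⟩ := Submodule.exists_mem_ne_zero_of_ne_bot hc
    have he : U ⊓ End.eigenspace (ρ y) c = U := by
      refine (eq_or_lt_of_le inf_le_left).resolve_right (hmin _ ⟨?_, inf_le_left.trans hUW, ?_⟩)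
      · exact Submodule.ne_bot_iff _ |>.mpr ⟨u, ⟨u.2, End.mem_eigenspace_iff.mpr
          (congrArg Subtype.val (End.mem_eigenspace_iff.mp hu))⟩, fun e => hu0 (Subtype.ext e)⟩
      · rintro z hz v ⟨hv, hv'⟩
        refine ⟨hUB z hz v hv, End.mem_eigenspace_iff.mpr ?_⟩
        rw [rho_mul_apply, hab y hy z hz v (hUW hv), ← rho_mul_apply,
          End.mem_eigenspace_iff.mp hv', map_smul]
    exact ⟨c, fun v hv =>
      End.mem_eigenspace_iff.mp (he.symm ▸ hv : v ∈ U ⊓ End.eigenspace (ρ y) c).2⟩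
  choose c hc using hex
  obtain ⟨v, hv, hv0⟩ := Submodule.exists_mem_ne_zero_of_ne_bot hU0
  let χ : Γ → F := fun g => if hg : g ∈ B then c g hg else 0
  have hvχ : v ∈ wspace ρ B χ := fun y hy => by
    simp only [χ, dif_pos hy]
    exact hc y hy v hv
  have hfix : Fixes B χ a := by
    by_contra hmove
    have hli := translates_li L.prime_r hBa L.pow_eq_one hmove hvχ hv0
    rw [Fintype.linearIndependent_iff] at hli
    have h0 : ∑ i : Fin r, (1 : F) • ρ (a ^ (i : ℕ)) v = 0 := by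
      simp only [one_smul]
      rw [← normEnd_apply, hN v (hUW hv)]
    exact one_ne_zero (hli _ h0 ⟨0, L.prime_r.pos⟩)
  refine ⟨v, hUW hv, hv0, fun y hy => ?_⟩
  have hy' := (Subgroup.mem_normalizer_iff.mp hBa y).mp hy
  rw [hvχ _ hy', hvχ _ hy]
  congr 1
  have h := hfix _ hy'
  rwa [show a⁻¹ * (a * y * a⁻¹) * a = y by group, eq_comm] at h

/-- The kernel of a map killing `T` is everything, on either type. -/
theorem main_step [Finite Γ] [IsAlgClosed F] [FiniteDimensional F V] (L : Layer ρ s r X a)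
    {T : Submodule F V} {Ω : Set V} (H : HypT ρ r X a T Ω) (hG : Good ρ X a S) {π : End F V}
    (hπa : π * ρ a = ρ a * π) (hπS : LinearMap.range π ≤ S) (hπT : ∀ t ∈ T, π t = 0) :
    (¬ FixedType ρ X S → (∀ y, CenterOn ρ X S y → π * ρ y = ρ y * π) → π = 0) ∧
    (FixedType ρ X S → ∀ B : Subgroup Γ, B ≤ X → a ∈ Subgroup.normalizer (B : Set Γ) →
      (∀ y ∈ B, π * ρ y = ρ y * π) → (∀ y ∈ X, ∃ c, a * c = c * a ∧ c ∈ X ∧ c⁻¹ * y ∈ B) →
      LinearMap.range π ⊓ fixSub ρ a = ⊥) := by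
  obtain ⟨hC, hN, -⟩ := hG
  constructor
  · intro hM hπ
    by_contra hne
    have hA := centSub_norm L hC.2.1
    have hab : ∀ y ∈ centSub hC.2.1.1, ∀ z ∈ centSub hC.2.1.1, ∀ v ∈ LinearMap.range π,
        ρ (y * z) v = ρ (z * y) v := fun y hy z hz v hv => hy.2 z hz.1 v (hπS hv)
    obtain ⟨v, hv, hv0, hvf⟩ : ∃ v ∈ LinearMap.range π, v ≠ 0 ∧
        ∀ y ∈ centSub hC.2.1.1, ρ (a * y * a⁻¹) v = ρ y v := by
      by_cases hb : LinearMap.range π ⊓ fixSub ρ a = ⊥
      · refine exists_twist_abelian L hA (by rwa [ne_eq, LinearMap.range_eq_bot]) ?_ hab ?_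
        · rintro y hy _ ⟨u, rfl⟩
          exact ⟨ρ y u, by rw [← End.mul_apply, hπ y hy, End.mul_apply]⟩
        · rintro _ ⟨u, rfl⟩
          refine (Submodule.eq_bot_iff _).mp hb _ ⟨⟨normEnd ρ a r u, commute_norm hπa u⟩, ?_⟩
          exact mem_fixSub.mpr (a_norm L.pow_eq_one _)
      · exact exists_twist_fixed L H (B := centSub hC.2.1.1)
          (fun y (hy : y ∈ centSub hC.2.1.1) => hy.1) hA hπa (fun y hy => hπ y hy) hπT
          (fun y hy z hz => ⟨1, fun v hv => by rw [one_smul]; exact hab y hy z hz v hv⟩) hb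
    exact twistFix_cent L hC hM (hπS hv) hv0 hvf
  · intro hF B hBX hBa hπB hcov
    by_contra hne
    obtain ⟨v, hv, hv0, hvf⟩ := exists_twist_fixed L H hBX hBa hπa hπB hπT
      (fun y hy z hz => by
        obtain ⟨c, hc⟩ := exists_scalar_comm L hC.2.1.1 hF (hBX hy) (hBX hz)
        exact ⟨c, fun w hw => hc w (hπS hw)⟩) hne
    refine twistFix_X hC hN L (hπS hv) hv0 fun y hy => ?_
    obtain ⟨c, hca, -, hcB⟩ := hcov y hy
    have e1 : a * y * a⁻¹ = c * (a * (c⁻¹ * y) * a⁻¹) := by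
      calc a * y * a⁻¹ = a * c * a⁻¹ * (a * (c⁻¹ * y) * a⁻¹) := by group
        _ = _ := by rw [hca, mul_inv_cancel_right]
    rw [e1, ← rho_mul_apply, hvf _ hcB, rho_mul_apply, mul_inv_cancel_left]

end Core

open CfsgLib.TurullFit.Core

/-- An element of `X` centralising `a` and `T` fixes every good component. -/
theorem core (hss : StmtSemisimple.{u}) : StmtCore.{u} := by
  intro F _ _ Γ V _ _ _ _ _ ρ s r X a T Ω L H x hx hxa hxT S hG
  have hS := hG.1.2.1
  obtain ⟨π₀, hr0, hfix0, hX0, ha0⟩ := exists_proj hss L hS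
  set π : End F V := (ρ x - 1) * π₀ with hπ
  have hπapp : ∀ v, π v = ρ x (π₀ v) - π₀ v := fun v => rfl
  have hπ0S : ∀ v, π₀ v ∈ S := fun v => hr0.le ⟨v, rfl⟩
  have hπS : LinearMap.range π ≤ S := by
    rintro _ ⟨v, rfl⟩
    rw [hπapp]
    exact sub_mem (hS.1 x hx _ (hπ0S v)) (hπ0S v)
  have hπT : ∀ t ∈ T, π t = 0 := fun t ht => by
    rw [hπapp, sub_eq_zero, ← End.mul_apply, ← hX0 x hx, End.mul_apply, mem_fixSub.mp (hxT ht)]
  have hπg : ∀ g : Γ, π₀ * ρ g = ρ g * π₀ → CommOn ρ S x g → π * ρ g = ρ g * π := by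
    intro g hg hxg
    refine LinearMap.ext fun v => ?_
    show π (ρ g v) = ρ g (π v)
    rw [hπapp, hπapp, map_sub, ← End.mul_apply π₀, hg,
      End.mul_apply, rho_mul_apply x g, hxg _ (hπ0S v), ← rho_mul_apply]
  have hπa : π * ρ a = ρ a * π := hπg a ha0 fun v _ => by rw [hxa]
  have hfinish : (∀ v ∈ S, π v = 0) → S ≤ fixSub ρ x := fun h v hv => by
    have := h v hv
    rwa [hπapp, hfix0 v hv, sub_eq_zero] at this
  have hstep := main_step L H hG hπa hπS hπT
  by_cases hF : FixedType ρ X S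
  · set Q := commSub hS.1 x with hQ
    have hmu : ∀ y ∈ X, y⁻¹ * (a * y * a⁻¹) ∈ Q := by
      intro y hy
      obtain ⟨c, hc⟩ := exists_scalar_comm L hS.1 hF hx hy
      have hy' := conj_mem L hy
      have hc' : ∀ v ∈ S, ρ (x * (a * y * a⁻¹)) v = c • ρ (a * y * a⁻¹ * x) v := by
        intro v hv
        have hv' : ρ a⁻¹ v ∈ S := by
          obtain ⟨k, hk⟩ : ∃ k : ℕ, a ^ k = a⁻¹ := mem_powers_iff_mem_zpowers.mpr
            (Subgroup.inv_mem _ (Subgroup.mem_zpowers a))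
          rw [← hk]
          clear hk
          induction k with
          | zero => simpa using hv
          | succ k ih => rw [pow_succ', ← rho_mul_apply]; exact hS.2 _ ih
        have h := congrArg (ρ a) (hc _ hv')
        simp only [map_smul, rho_mul_apply] at h
        have hxa' : a⁻¹ * x = x * a⁻¹ := (Commute.inv_left hxa).eq
        rwa [show a * (x * y * a⁻¹) = x * (a * y * a⁻¹) by
            rw [← mul_assoc, ← mul_assoc, hxa]; group,
          show a * (y * x * a⁻¹) = a * y * a⁻¹ * x by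
            rw [mul_assoc y x a⁻¹, ← hxa']; group] at h
      refine ⟨mul_mem (inv_mem hy) hy', fun v hv => ?_⟩
      set g := y⁻¹ * (a * y * a⁻¹) with hg
      have h1 := hc' v hv
      rw [show a * y * a⁻¹ = y * g by rw [hg]; group] at h1
      have h2 := hc _ (hS.1 g (mul_mem (inv_mem hy) hy') v hv)
      rw [rho_mul_apply, show x * y * g = x * (y * g) by group, h1, rho_mul_apply] at h2
      have hc0 : c ≠ 0 := by
        rintro rfl
        obtain ⟨u, hu, hu0⟩ := Submodule.exists_mem_ne_zero_of_ne_bot hG.1.1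
        exact rho_ne_zero hu0 ((hc u hu).trans (zero_smul F _))
      have h3 := congrArg (ρ y⁻¹) (smul_right_injective V hc0 h2)
      simp only [rho_mul_apply] at h3
      rw [show y⁻¹ * (y * g * x) = g * x by group,
        show y⁻¹ * (y * x * g) = x * g by group] at h3
      exact h3.symm
    have hQa : a ∈ Subgroup.normalizer (Q : Set Γ) := by
      refine Subgroup.mem_normalizer_fintype fun y hy => ?_
      have := mul_mem hy (hmu y hy.1)
      rwa [mul_inv_cancel_left] at this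
    have hcov : ∀ y ∈ X, ∃ c, a * c = c * a ∧ c ∈ X ∧ c⁻¹ * y ∈ Q := by
      intro y hy
      haveI : Fact r.Prime := ⟨L.prime_r⟩
      haveI : Fact s.Prime := ⟨L.prime_s⟩
      obtain ⟨i, -, hi⟩ := (Nat.dvd_prime_pow L.prime_r).mp
        (orderOf_dvd_of_pow_eq_one (show a ^ r ^ 1 = 1 by rw [pow_one, L.pow_eq_one]))
      obtain ⟨c, hc, hyc⟩ := exists_fixed_in_coset (Ne.symm L.s_ne_r) L.isPGroup
        (M := Q) (fun _ h => h.1) ⟨i, hi⟩ hQa (k := y) (hmu y hy)
      refine ⟨c, hc.eq.symm, ?_, ?_⟩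
      · have := mul_mem hy hyc.1
        rwa [mul_inv_cancel_left] at this
      · have := inv_mem hyc
        rwa [mul_inv_rev, inv_inv] at this
    have hbot := hstep.2 hF Q (fun _ h => h.1) hQa
      (fun y hy => hπg y (hX0 y hy.1) hy.2) hcov
    -- `x` fixes the fixed points of `a`, so it commutes with `X` on `S`
    have hfixC : ∀ v ∈ S, ρ a v = v → ρ x v = v := by
      intro v hv hav
      have : π v = 0 := (Submodule.eq_bot_iff _).mp hbot _ ⟨⟨v, rfl⟩, mem_fixSub.mpr (by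
        rw [← End.mul_apply, ← hπa, End.mul_apply, hav])⟩
      rwa [hπapp, hfix0 v hv, sub_eq_zero] at this
    obtain ⟨v₀, ⟨hv₀, hav₀⟩, hv₀0⟩ := Submodule.exists_mem_ne_zero_of_ne_bot hG.2.2
    have hall : ∀ y ∈ X, CommOn ρ S x y := by
      intro y hy
      obtain ⟨c, hca, hcX, hcQ⟩ := hcov y hy
      have hcQ' : c ∈ Q := by
        refine ⟨hcX, fun v hv => ?_⟩
        obtain ⟨μ, hμ⟩ := exists_scalar_comm L hS.1 hF hx hcX
        have hcv : ρ a (ρ c v₀) = ρ c v₀ := by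
          rw [rho_mul_apply, hca, ← rho_mul_apply, mem_fixSub.mp hav₀]
        have h := hμ v₀ hv₀
        rw [← rho_mul_apply, hfixC _ (hS.1 c hcX v₀ hv₀) hcv, ← rho_mul_apply,
          hfixC v₀ hv₀ hav₀] at h
        have hμ1 : μ = 1 :=
          smul_left_injective F (rho_ne_zero (ρ := ρ) (g := c) hv₀0) (h.symm.trans (one_smul F _).symm)
        rw [hμ v hv, hμ1, one_smul]
      have := mul_mem hcQ' hcQ
      rw [mul_inv_cancel_left] at this
      exact this.2
    have heq : S ⊓ fixSub ρ x = S := by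
      refine hG.1.2.2 _ inf_le_left (Submodule.ne_bot_iff _ |>.mpr
        ⟨v₀, ⟨hv₀, hfixC v₀ hv₀ hav₀⟩, hv₀0⟩) ⟨?_, ?_⟩
      · rintro y hy v ⟨hv, hv'⟩
        refine ⟨hS.1 y hy v hv, mem_fixSub.mpr ?_⟩
        rw [rho_mul_apply, hall y hy v hv, ← rho_mul_apply, mem_fixSub.mp hv']
      · rintro v ⟨hv, hv'⟩
        refine ⟨hS.2 v hv, mem_fixSub.mpr ?_⟩
        rw [rho_mul_apply, ← hxa, ← rho_mul_apply, mem_fixSub.mp hv']
    exact inf_eq_left.mp heq
  · exact hfinish fun v _ => by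
      rw [hstep.1 hF fun y hy => hπg y (hX0 y hy.1) fun v hv => (hy.2 x hx v hv).symm,
        LinearMap.zero_apply]

/-- With a good component `T` is not zero. -/
theorem tne (hss : StmtSemisimple.{u}) : StmtTne.{u} := by
  intro F _ _ Γ V _ _ _ _ _ ρ s r X a T Ω L H ⟨S, hG⟩ hT
  obtain ⟨π, hr0, hfix0, hX0, ha0⟩ := exists_proj hss L hG.1.2.1
  have hstep := main_step L H hG ha0 hr0.le fun t ht => by
    rw [hT, Submodule.mem_bot] at ht
    rw [ht, map_zero]
  by_cases hF : FixedType ρ X S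
  · refine hG.2.2 ?_
    rw [← hr0]
    exact hstep.2 hF X le_rfl L.mem_normalizer hX0
      fun y hy => ⟨1, by rw [mul_one, one_mul], one_mem _, by rwa [inv_one, one_mul]⟩
  · obtain ⟨v, hv, hv0⟩ := Submodule.exists_mem_ne_zero_of_ne_bot hG.1.1
    exact hv0 (by rw [← hfix0 v hv, hstep.1 hF (fun y hy => hX0 y hy.1), LinearMap.zero_apply])

end CfsgLib.TurullFit
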