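import Cfsg.Agent.Lib.FgsC.Commutant

/-!
# Counting with semisimple endomorphisms

* A family of natural numbers `f` over an index set of size `r` with
  `r ∑ f i ^ 2 = (∑ f i) ^ 2 + (r - 1)` is constant outside one point, where it differs by one.
* The commutant of commuting semisimple endomorphisms is the block diagonal algebra.
* The fixed space of one of two commuting monomial maps is monomial for the other.
-/

set_option autoImplicit false
set_option linter.style.haveILetI false

open Module

namespace CfsgLib.TurullFit.CountBasis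

section numeric

variable {ι : Type*} [Fintype ι]

open Classical in
/-- The core inequality. -/
theorem gap_core (g : ι → ℤ) (hg : ∀ i, 0 ≤ g i) (i₀ : ι) (h0 : g i₀ = 0) (hne : ∃ i, g i ≠ 0) :
    (Fintype.card ι : ℤ) - 1 ≤ Fintype.card ι * ∑ i, g i ^ 2 - (∑ i, g i) ^ 2 ∧
      ((Fintype.card ι : ℤ) * ∑ i, g i ^ 2 - (∑ i, g i) ^ 2 = Fintype.card ι - 1 →
        (∀ i, g i = 0 ∨ g i = 1) ∧
          ((Finset.univ.filter fun i => g i ≠ 0).card = 1 ∨
            (Finset.univ.filter fun i => g i ≠ 0).card + 1 = Fintype.card ι)) := by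
  classical
  set B := Finset.univ.filter fun i => g i ≠ 0 with hB
  set b : ℤ := (B.card : ℤ) with hb
  set n : ℤ := (Fintype.card ι : ℤ) with hn
  have hb1 : 1 ≤ b := by
    obtain ⟨i, hi⟩ := hne
    have : 0 < B.card := Finset.card_pos.mpr ⟨i, by simp [hB, hi]⟩
    omega
  have hbn : b + 1 ≤ n := by
    have h1 : B.card < Fintype.card ι := by
      refine Finset.card_lt_univ_of_notMem (x := i₀) ?_
      simp [hB, h0]
    omega
  have hs1 : ∑ i, g i = ∑ i ∈ B, g i := by
    rw [hB, Finset.sum_filter_ne_zero]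
  have hs2 : ∑ i, g i ^ 2 = ∑ i ∈ B, g i ^ 2 := by
    refine (Finset.sum_subset (Finset.subset_univ B) fun i _ hi => ?_).symm
    simp [hB] at hi
    simp [hi]
  have hcs : (∑ i ∈ B, g i) ^ 2 ≤ b * ∑ i ∈ B, g i ^ 2 := by
    simpa [hb] using sq_sum_le_card_mul_sum_sq (s := B) (f := g)
  have hone : ∀ i ∈ B, (1 : ℤ) ≤ g i ^ 2 := fun i hi => by
    have h1 : g i ≠ 0 := (Finset.mem_filter.mp hi).2
    have h2 := hg i
    have h3 : 1 ≤ g i := by omega
    nlinarith
  have hsq : b ≤ ∑ i ∈ B, g i ^ 2 := by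
    calc b = ∑ _i ∈ B, (1 : ℤ) := by simp [hb]
      _ ≤ _ := Finset.sum_le_sum hone
  rw [hs1, hs2]
  set Q := ∑ i ∈ B, g i ^ 2 with hQ
  have hprod : 0 ≤ (n - b - 1) * (b - 1) := mul_nonneg (by omega) (by omega)
  have h1 : (n - b) * b ≤ (n - b) * Q := mul_le_mul_of_nonneg_left hsq (by omega)
  refine ⟨by nlinarith, fun heq => ?_⟩
  have hQb : Q = b := by
    by_contra h
    have h2 : (n - b) * (b + 1) ≤ (n - b) * Q :=
      mul_le_mul_of_nonneg_left (by omega) (by omega)
    nlinarith
  have hzero : (n - b - 1) * (b - 1) = 0 := by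
    rw [hQb] at heq hcs h1
    nlinarith
  refine ⟨fun i => ?_, ?_⟩
  · by_cases hi : i ∈ B
    · refine Or.inr ?_
      have h2 : ∑ j ∈ B, g j ^ 2 = ∑ _j ∈ B, (1 : ℤ) := by
        rw [← hQ, hQb]; simp [hb]
      have h3 := (Finset.sum_eq_sum_iff_of_le hone).mp h2.symm i hi
      have h4 := hg i
      nlinarith
    · refine Or.inl ?_
      simpa [hB] using hi
  · rcases mul_eq_zero.mp hzero with h | h
    · right; omega
    · left; omega

/-- Nonconstant families have gap at least `r - 1`. -/
theorem gap_le {f : ι → ℕ} (hne : ∃ i j, f i ≠ f j) :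
    (∑ i, f i) ^ 2 + (Fintype.card ι - 1) ≤ Fintype.card ι * ∑ i, f i ^ 2 := by
  classical
  obtain ⟨i, j, hij⟩ := hne
  haveI : Nonempty ι := ⟨i⟩
  obtain ⟨i₀, hi₀⟩ := Finite.exists_min f
  let g : ι → ℤ := fun k => (f k : ℤ) - f i₀
  obtain ⟨h, -⟩ := gap_core g (fun k => by have := hi₀ k; simp only [g]; omega) i₀ (sub_self _) (by
    by_contra hall
    push Not at hall
    have h1 := hall i
    have h2 := hall j
    simp only [g] at h1 h2
    omega)
  have hp : 0 < Fintype.card ι := Fintype.card_pos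
  simp only [g, sub_sq, Finset.sum_add_distrib, Finset.sum_sub_distrib, ← Finset.sum_mul,
    ← Finset.mul_sum, Finset.sum_const, Finset.card_univ, nsmul_eq_mul] at h
  zify [Nat.one_le_iff_ne_zero.mpr hp.ne']
  nlinarith

/-- Equality: constant outside one point, where the value differs by one. -/
theorem gap_eq {f : ι → ℕ} (hcard : 2 ≤ Fintype.card ι)
    (h : Fintype.card ι * ∑ i, f i ^ 2 = (∑ i, f i) ^ 2 + (Fintype.card ι - 1)) :
    ∃ i₁ M, (∀ i, i ≠ i₁ → f i = M) ∧ (f i₁ = M + 1 ∨ f i₁ + 1 = M) := by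
  classical
  haveI : Nonempty ι := Fintype.card_pos_iff.mp (by omega)
  obtain ⟨i₀, hi₀⟩ := Finite.exists_min f
  let g : ι → ℤ := fun k => (f k : ℤ) - f i₀
  have hne : ∃ k, g k ≠ 0 := by
    by_contra hall
    push Not at hall
    have hconst : ∀ k, f k = f i₀ := fun k => by
      have := hall k; simp only [g] at this; omega
    simp only [hconst, Finset.sum_const, Finset.card_univ, smul_eq_mul] at h
    have : Fintype.card ι * (Fintype.card ι * f i₀ ^ 2) = (Fintype.card ι * f i₀) ^ 2 := by ring
    omega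
  obtain ⟨-, heq⟩ := gap_core g (fun k => by have := hi₀ k; simp only [g]; omega) i₀ (sub_self _)
    hne
  obtain ⟨h01, hcases⟩ := heq (by
    zify [show 1 ≤ Fintype.card ι by omega] at h
    simp only [g, sub_sq, Finset.sum_add_distrib, Finset.sum_sub_distrib, ← Finset.sum_mul,
      ← Finset.mul_sum, Finset.sum_const, Finset.card_univ, nsmul_eq_mul]
    linear_combination h)
  rcases hcases with h1 | h1
  · obtain ⟨i₁, hi₁⟩ := Finset.card_eq_one.mp h1
    have hmem : ∀ k, g k ≠ 0 ↔ k = i₁ := fun k => by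
      simpa using Finset.ext_iff.mp hi₁ k
    refine ⟨i₁, f i₀, fun k hk => ?_, Or.inl ?_⟩
    · have := (hmem k).not.mpr hk; simp only [g, not_not] at this; omega
    · have := (h01 i₁).resolve_left ((hmem i₁).mpr rfl); simp only [g] at this; omega
  · refine ⟨i₀, f i₀ + 1, fun k hk => ?_, Or.inr rfl⟩
    have h2 : (Finset.univ.filter fun k => ¬ g k ≠ 0).card = 1 := by
      have := Finset.card_filter_add_card_filter_not (s := (Finset.univ : Finset ι))
        (fun k => g k ≠ 0)
      rw [Finset.card_univ] at this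
      omega
    obtain ⟨z, hz⟩ := Finset.card_eq_one.mp h2
    have hmem : ∀ k, g k = 0 ↔ k = z := fun k => by
      simpa using Finset.ext_iff.mp hz k
    have hz0 : i₀ = z := (hmem i₀).mp (sub_self _)
    have := (h01 k).resolve_left (fun h3 => hk (((hmem k).mp h3).trans hz0.symm))
    simp only [g] at this; omega

end numeric

section blocks

variable {K : Type*} [Field K] {V : Type*} [AddCommGroup V] [Module K V]

/-- The maps preserving every block. -/
def blockDiag {ι : Type*} (W : ι → Submodule K V) : Submodule K (End K V) where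
  carrier := {φ | ∀ i, ∀ v ∈ W i, φ v ∈ W i}
  add_mem' := fun ha hb i v hv => (W i).add_mem (ha i v hv) (hb i v hv)
  zero_mem' := fun i _ _ => (W i).zero_mem
  smul_mem' := fun c _ ha i v hv => (W i).smul_mem c (ha i v hv)

theorem mem_blockDiag {ι : Type*} {W : ι → Submodule K V} {φ : End K V} :
    φ ∈ blockDiag W ↔ ∀ i, ∀ v ∈ W i, φ v ∈ W i := Iff.rfl

variable [FiniteDimensional K V] {ι : Type*} [Fintype ι] [DecidableEq ι] {W : ι → Submodule K V}

theorem sum_finrank (hW : DirectSum.IsInternal W) :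
    ∑ i, finrank K (W i) = finrank K V := by
  rw [Module.finrank_eq_card_basis (hW.collectedBasis fun i => Module.finBasis K (W i)),
    Fintype.card_sigma]
  simp

theorem finrank_blockDiag (hW : DirectSum.IsInternal W) :
    finrank K (blockDiag W) = ∑ i, finrank K (W i) ^ 2 := by
  classical
  let b := hW.collectedBasis fun i => Module.finBasis K (W i)
  let Φ : blockDiag W →ₗ[K] ((i : ι) → End K (W i)) :=
    { toFun := fun φ i => (φ : End K V).restrict (φ.2 i)
      map_add' := fun φ ψ => by funext i; ext v; rfl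
      map_smul' := fun c φ => by funext i; ext v; rfl }
  have hb : ∀ i j, b ⟨i, j⟩ = (Module.finBasis K (W i) j : V) := fun i j => by simp [b]
  have hinj : Function.Injective Φ := fun φ ψ h => Subtype.ext (b.ext fun ⟨i, j⟩ => by
    rw [hb]
    exact congrArg Subtype.val (LinearMap.congr_fun (congrFun h i) (Module.finBasis K (W i) j)))
  have hsurj : Function.Surjective Φ := by
    intro f
    let ψ : End K V := b.constr K fun x => (f x.1 (Module.finBasis K (W x.1) x.2) : V)
    have hψ : ∀ i (w : W i), ψ (w : V) = (f i w : V) := by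
      intro i
      have : ψ.comp (W i).subtype = (W i).subtype.comp (f i) :=
        (Module.finBasis K (W i)).ext fun j => by
          show ψ (Module.finBasis K (W i) j : V) = _
          rw [← hb i j]
          exact b.constr_basis K _ ⟨i, j⟩
      exact fun w => LinearMap.congr_fun this w
    exact ⟨⟨ψ, fun i v hv => by rw [hψ i ⟨v, hv⟩]; exact (f i _).2⟩,
      funext fun i => LinearMap.ext fun w => Subtype.ext (hψ i w)⟩
  rw [(LinearEquiv.ofBijective Φ ⟨hinj, hsurj⟩).finrank_eq, Module.finrank_pi_fintype]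
  refine Finset.sum_congr rfl fun i _ => ?_
  rw [Module.finrank_linearMap, sq]

end blocks

section semisimple

open scoped Classical

variable {K : Type*} [Field K] [IsAlgClosed K] {V : Type*} [AddCommGroup V] [Module K V]
  [FiniteDimensional K V]

/-- The roots of `X ^ n = c`. -/
abbrev Roots (n : ℕ) (c : K) : Type _ := {x : K // x ∈ Polynomial.nthRootsFinset n c}

theorem card_roots_one {n : ℕ} (hn : (n : K) ≠ 0) : Fintype.card (Roots n (1 : K)) = n := by
  haveI : NeZero (n : K) := ⟨hn⟩
  haveI : NeZero n := ⟨fun h => hn (by rw [h, Nat.cast_zero])⟩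
  obtain ⟨ζ, hζ⟩ := HasEnoughRootsOfUnity.exists_primitiveRoot K n
  rw [Fintype.card_coe]
  exact hζ.card_nthRootsFinset

omit [IsAlgClosed K] [FiniteDimensional K V] in
theorem eigen_root {A : End K V} {n : ℕ} (hn : 0 < n) {c : K} (hA : A ^ n = c • (1 : End K V))
    {μ : K} (hμ : End.eigenspace A μ ≠ ⊥) : μ ∈ Polynomial.nthRootsFinset n c := by
  obtain ⟨v, hv, hv0⟩ := Submodule.exists_mem_ne_zero_of_ne_bot hμ
  rw [Polynomial.mem_nthRootsFinset hn]
  have h1 : ∀ j : ℕ, (A ^ j) v = μ ^ j • v := by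
    intro j
    induction j with
    | zero => simp
    | succ j ih =>
      rw [pow_succ', End.mul_apply, ih, map_smul, End.mem_eigenspace_iff.mp hv, smul_smul,
        pow_succ μ]
  have h2 := h1 n
  rw [hA, LinearMap.smul_apply, End.one_apply] at h2
  exact (smul_left_injective K hv0 h2).symm

/-- An endomorphism with a separable equation is diagonalisable. -/
theorem isInternal_eigenspace {A : End K V} {n : ℕ} (hn : (n : K) ≠ 0) {c : K} (hc : c ≠ 0)
    (hA : A ^ n = c • (1 : End K V)) :
    DirectSum.IsInternal (fun μ : Roots n c => End.eigenspace A (μ : K)) := by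
  refine DirectSum.isInternal_submodule_of_iSupIndep_of_iSup_eq_top
    ((End.eigenspaces_iSupIndep A).comp Subtype.val_injective) ?_
  have hss : A.IsSemisimple := Module.End.isSemisimple_of_squarefree_aeval_eq_zero
    (Polynomial.separable_X_pow_sub_C c hn hc).squarefree (by
      rw [map_sub, map_pow, Polynomial.aeval_X, Polynomial.aeval_C, hA,
        Algebra.algebraMap_eq_smul_one, sub_self])
  refine eq_top_iff.mpr ?_
  rw [← End.iSup_maxGenEigenspace_eq_top A]
  refine iSup_le fun μ => ?_
  rw [hss.isFinitelySemisimple.maxGenEigenspace_eq_eigenspace]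
  rcases eq_or_ne (End.eigenspace A μ) ⊥ with h | h
  · rw [h]; exact bot_le
  · exact le_iSup_of_le (f := fun μ : Roots n c => End.eigenspace A (μ : K))
      ⟨μ, eigen_root (Nat.pos_of_ne_zero fun h0 => hn (by rw [h0, Nat.cast_zero])) hA h⟩ le_rfl

theorem commutant_eq_blockDiag {A : End K V} {n : ℕ} (hn : (n : K) ≠ 0) {c : K} (hc : c ≠ 0)
    (hA : A ^ n = c • (1 : End K V)) :
    FgsC.Commutant.commutant A = blockDiag (fun μ : Roots n c => End.eigenspace A (μ : K)) := by
  ext φ
  rw [FgsC.Commutant.mem_commutant, mem_blockDiag]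
  refine ⟨fun h μ v hv => ?_, fun h => ?_⟩
  · rw [End.mem_eigenspace_iff] at hv ⊢
    rw [← End.mul_apply, ← h, End.mul_apply, hv, map_smul]
  · refine LinearMap.ext fun v => ?_
    have hv : v ∈ ⨆ μ : Roots n c, End.eigenspace A (μ : K) := by
      rw [(isInternal_eigenspace hn hc hA).submodule_iSup_eq_top]; trivial
    refine Submodule.iSup_induction _ (motive := fun v => (φ * A) v = (A * φ) v) hv
      (fun μ w hw => ?_) (by simp) (fun x y hx hy => by simp only [map_add, hx, hy])
    rw [End.mul_apply, End.mul_apply, End.mem_eigenspace_iff.mp hw, map_smul,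
      End.mem_eigenspace_iff.mp (h μ w hw)]

/-- The commutant of a semisimple endomorphism. -/
theorem finrank_commutant {A : End K V} {n : ℕ} (hn : (n : K) ≠ 0) {c : K} (hc : c ≠ 0)
    (hA : A ^ n = c • (1 : End K V)) :
    finrank K (FgsC.Commutant.commutant A) =
        ∑ μ : Roots n c, finrank K (End.eigenspace A (μ : K)) ^ 2 ∧
      ∑ μ : Roots n c, finrank K (End.eigenspace A (μ : K)) = finrank K V := by
  classical
  have hint := isInternal_eigenspace hn hc hA
  exact ⟨by rw [commutant_eq_blockDiag hn hc hA, finrank_blockDiag hint], sum_finrank hint⟩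

omit [IsAlgClosed K] [FiniteDimensional K V] in
theorem finrank_eigenspace_restrict {A : End K V} {W : Submodule K V} (hW : ∀ v ∈ W, A v ∈ W)
    (μ : K) : finrank K (End.eigenspace (A.restrict hW) μ) =
      finrank K (W ⊓ End.eigenspace A μ : Submodule K V) := by
  rw [(Submodule.equivMapOfInjective W.subtype W.injective_subtype _).finrank_eq]
  have : (End.eigenspace (A.restrict hW) μ).map W.subtype = W ⊓ End.eigenspace A μ := by
    ext v
    constructor
    · rintro ⟨w, hw, rfl⟩
      exact ⟨w.2, End.mem_eigenspace_iff.mpr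
        (congrArg Subtype.val (End.mem_eigenspace_iff.mp hw))⟩
    · rintro ⟨hv, hv'⟩
      exact ⟨⟨v, hv⟩, End.mem_eigenspace_iff.mpr (Subtype.ext (End.mem_eigenspace_iff.mp hv')), rfl⟩
  rw [this]

/-- The common commutant of two commuting semisimple endomorphisms. -/
theorem finrank_commutant_inf {A B : End K V} (hAB : Commute A B) {n m : ℕ} (hn : (n : K) ≠ 0)
    (hm : (m : K) ≠ 0) {c d : K} (hc : c ≠ 0) (hd : d ≠ 0) (hA : A ^ n = c • (1 : End K V))
    (hB : B ^ m = d • (1 : End K V)) :
    finrank K (FgsC.Commutant.commutant A ⊓ FgsC.Commutant.commutant B : Submodule K (End K V)) =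
        ∑ μ : Roots n c, ∑ ν : Roots m d,
          finrank K (End.eigenspace A (μ : K) ⊓ End.eigenspace B (ν : K) : Submodule K V) ^ 2 ∧
      ∀ μ : Roots n c, ∑ ν : Roots m d,
          finrank K (End.eigenspace A (μ : K) ⊓ End.eigenspace B (ν : K) : Submodule K V) =
        finrank K (End.eigenspace A (μ : K)) := by
  classical
  have hintA := isInternal_eigenspace hn hc hA
  have hintB := isInternal_eigenspace hm hd hB
  have hinv : ∀ μ : K, ∀ v ∈ End.eigenspace A μ, B v ∈ End.eigenspace A μ := fun μ v hv => by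
    rw [End.mem_eigenspace_iff] at hv ⊢
    rw [← End.mul_apply, hAB.eq, End.mul_apply, hv, map_smul]
  have hres : ∀ μ : K, (B.restrict (hinv μ)) ^ m = d • (1 : End K (End.eigenspace A μ)) := fun μ => by
    refine LinearMap.ext fun v => Subtype.ext ?_
    rw [Module.End.pow_restrict _ (h := hinv μ), LinearMap.coe_restrict_apply, hB]
    simp
  refine ⟨?_, fun μ => ?_⟩
  · let W : Roots n c × Roots m d → Submodule K V := fun x =>
      End.eigenspace A (x.1 : K) ⊓ End.eigenspace B (x.2 : K)
    have hWint : DirectSum.IsInternal W := by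
      refine DirectSum.isInternal_submodule_of_iSupIndep_of_iSup_eq_top ?_ ?_
      · intro x
        rw [disjoint_iff, Submodule.eq_bot_iff]
        rintro v ⟨hv, hv'⟩
        have hle : ⨆ (y) (_ : y ≠ x), W y ≤
            (⨆ (ν : Roots m d) (_ : ν ≠ x.2), End.eigenspace B (ν : K)) ⊔
              ((⨆ (μ : Roots n c) (_ : μ ≠ x.1), End.eigenspace A (μ : K)) ⊓
                End.eigenspace B (x.2 : K)) := by
          refine iSup₂_le fun y hy => ?_
          rcases eq_or_ne y.2 x.2 with h2 | h2
          · refine le_sup_of_le_right (le_inf (le_trans inf_le_left ?_) (h2 ▸ inf_le_right))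
            exact le_iSup₂_of_le (f := fun (μ : Roots n c) (_ : μ ≠ x.1) => End.eigenspace A (μ : K))
              y.1 (fun h1 => hy (Prod.ext h1 h2)) le_rfl
          · exact le_sup_of_le_left (le_trans inf_le_right
              (le_iSup₂_of_le (f := fun (ν : Roots m d) (_ : ν ≠ x.2) => End.eigenspace B (ν : K))
                y.2 h2 le_rfl))
        obtain ⟨p, hp, q, hq, hpq⟩ := Submodule.mem_sup.mp (hle hv')
        have hp0 : p = 0 := by
          have h1 : p ∈ End.eigenspace B (x.2 : K) := by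
            rw [eq_sub_of_add_eq hpq]; exact sub_mem hv.2 hq.2
          exact (Submodule.disjoint_def.mp (hintB.submodule_iSupIndep x.2)) p h1 hp
        rw [hp0, zero_add] at hpq
        subst hpq
        exact (Submodule.disjoint_def.mp (hintA.submodule_iSupIndep x.1)) q hv.1 hq.1
      · refine eq_top_iff.mpr ?_
        rw [← hintA.submodule_iSup_eq_top]
        refine iSup_le fun μ v hv => ?_
        have h1 : (⟨v, hv⟩ : End.eigenspace A (μ : K)) ∈
            ⨆ ν : Roots m d, End.eigenspace (B.restrict (hinv μ)) (ν : K) := by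
          rw [(isInternal_eigenspace hm hd (hres μ)).submodule_iSup_eq_top]; trivial
        have h2 := Submodule.mem_map_of_mem (f := (End.eigenspace A (μ : K)).subtype) h1
        rw [Submodule.map_iSup] at h2
        revert h2
        suffices h3 : ⨆ ν : Roots m d, (End.eigenspace (B.restrict (hinv μ)) (ν : K)).map
            (End.eigenspace A (μ : K)).subtype ≤ ⨆ x, W x from fun h2 => h3 h2
        refine iSup_le fun ν => ?_
        refine le_iSup_of_le (f := W) (μ, ν) ?_
        rintro _ ⟨w, hw, rfl⟩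
        exact ⟨w.2, End.mem_eigenspace_iff.mpr
          (congrArg Subtype.val (End.mem_eigenspace_iff.mp hw))⟩
    have heq : FgsC.Commutant.commutant A ⊓ FgsC.Commutant.commutant B = blockDiag W := by
      ext φ
      rw [Submodule.mem_inf, commutant_eq_blockDiag hn hc hA, commutant_eq_blockDiag hm hd hB]
      simp only [mem_blockDiag]
      refine ⟨fun h x v hv => ⟨h.1 x.1 v hv.1, h.2 x.2 v hv.2⟩, fun h => ⟨?_, ?_⟩⟩
      all_goals
        rw [← mem_blockDiag, ← commutant_eq_blockDiag (by assumption) (by assumption) (by assumption),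
          FgsC.Commutant.mem_commutant]
        refine LinearMap.ext fun v => ?_
        refine Submodule.iSup_induction W (motive := fun v => _ = _) (x := v)
          (by rw [hWint.submodule_iSup_eq_top]; trivial) (fun x w hw => ?_) (by simp)
          (fun x y hx hy => by simp only [map_add, hx, hy])
      · rw [End.mul_apply, End.mul_apply, End.mem_eigenspace_iff.mp hw.1, map_smul,
          End.mem_eigenspace_iff.mp (h x w hw).1]
      · rw [End.mul_apply, End.mul_apply, End.mem_eigenspace_iff.mp hw.2, map_smul,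
          End.mem_eigenspace_iff.mp (h x w hw).2]
    rw [heq, finrank_blockDiag hWint, Fintype.sum_prod_type]
  · rw [← sum_finrank (isInternal_eigenspace hm hd (hres μ))]
    exact Finset.sum_congr rfl fun ν _ => (finrank_eigenspace_restrict (hinv μ) _).symm

end semisimple

section pair

variable {K : Type*} [Field K] {W : Type*} [AddCommGroup W] [Module K W] {X : Type*} [Fintype X]

omit [Fintype X] in
theorem perm_pow_of_perm {σ : Equiv.Perm X} (b : X → W) {T : End K W}
    (hperm : ∀ x, ∃ c : K, c ≠ 0 ∧ T (b x) = c • b (σ x)) (i : ℕ) :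
    ∀ x, ∃ c : K, c ≠ 0 ∧ (T ^ i) (b x) = c • b ((σ ^ i) x) := by
  induction i with
  | zero => exact fun x => ⟨1, one_ne_zero, by simp⟩
  | succ i ih =>
    intro x
    obtain ⟨c, hc, h⟩ := ih x
    obtain ⟨d, hd, h'⟩ := hperm ((σ ^ i) x)
    refine ⟨c * d, mul_ne_zero hc hd, ?_⟩
    rw [pow_succ', End.mul_apply, h, map_smul, h', smul_smul, pow_succ', Equiv.Perm.mul_apply]

/-- The fixed space of `S` is permuted semiregularly by `T`. -/
theorem card_orbits_pair (b : X → W) (hli : LinearIndependent K b)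
    (hspan : ⊤ ≤ Submodule.span K (Set.range b)) (T S : End K W) (hTS : Commute T S) {P o : ℕ}
    (hP : 0 < P) (ho : 0 < o) (hoK : (o : K) ≠ 0) (hcop : P.Coprime o) (hT : T ^ P = 1)
    (hS : S ^ o = 1) (σ τ : Equiv.Perm X) (hστ : Commute σ τ) (hσ : σ ^ P = 1) (hτ : τ ^ o = 1)
    (x₀ : X) (h₀ : σ x₀ = x₀) (hT₀ : T (b x₀) = b x₀) (hS₀ : S (b x₀) = b x₀)
    (hfree : ∀ i, 0 < i → i < P → ∀ x, (σ ^ i) x = x → x = x₀)
    (hτ₀ : τ x₀ = x₀)
    (hpermT : ∀ x, ∃ c : K, c ≠ 0 ∧ T (b x) = c • b (σ x))
    (hpermS : ∀ x, ∃ c : K, c ≠ 0 ∧ S (b x) = c • b (τ x)) :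
    ∃ m : ℕ, finrank K (LinearMap.ker (S - 1)) = 1 + m * P ∧
      finrank K (LinearMap.ker (S - 1) ⊓ LinearMap.ker (T - 1) : Submodule K W) = 1 + m := by
  classical
  have hmodτ : ∀ i, τ ^ (i % o) = τ ^ i := fun i => by
    conv_rhs => rw [← Nat.mod_add_div i o, pow_add, pow_mul, hτ, one_pow, mul_one]
  have hτcomp : ∀ i j x, (τ ^ i) ((τ ^ j) x) = (τ ^ (i + j)) x := fun i j x => by
    rw [pow_add, Equiv.Perm.mul_apply]
  let st : Setoid X :=
    { r := fun x y => ∃ k : ℕ, (τ ^ k) x = y
      iseqv := ⟨fun x => ⟨0, rfl⟩,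
        fun {x y} ⟨k, hk⟩ => ⟨o - k % o, by
          rw [← hk, ← hmodτ k, hτcomp, Nat.sub_add_cancel (Nat.mod_lt k ho).le, hτ]; rfl⟩,
        fun {x y z} ⟨k, hk⟩ ⟨l, hl⟩ => ⟨l + k, by rw [← hτcomp, hk, hl]⟩⟩ }
  haveI : Fintype (Quotient st) := Fintype.ofFinite _
  let Nm : End K W := ∑ i ∈ Finset.range o, S ^ i
  have hSN : S * Nm = Nm := by
    have h1 := mul_geom_sum S o
    rw [hS, sub_self, sub_mul, one_mul, sub_eq_zero] at h1
    exact h1
  have hNS : ∀ k, Nm * S ^ k = Nm := by
    have h1 := geom_sum_mul S o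
    rw [hS, sub_self, mul_sub, mul_one, sub_eq_zero] at h1
    intro k
    induction k with
    | zero => rw [pow_zero, mul_one]
    | succ k ih => rw [pow_succ, ← mul_assoc, ih]; exact h1
  have hTN : T * Nm = Nm * T := (Commute.sum_right _ _ _ fun i _ => hTS.pow_right i).eq
  have hN₀ : Nm (b x₀) = (o : K) • b x₀ := by
    have h1 : ∀ i : ℕ, (S ^ i) (b x₀) = b x₀ := by
      intro i
      induction i with
      | zero => rfl
      | succ i ih => rw [pow_succ', End.mul_apply, ih, hS₀]
    simp [Nm, LinearMap.sum_apply, h1, ← Nat.cast_smul_eq_nsmul K]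
  -- the norms of the basis vectors
  have hrel : ∀ x y, (∃ k : ℕ, (τ ^ k) x = y) → ∃ c : K, c ≠ 0 ∧ Nm (b y) = c • Nm (b x) := by
    rintro x y ⟨k, rfl⟩
    obtain ⟨c, hc, h⟩ := perm_pow_of_perm b hpermS k x
    refine ⟨c⁻¹, inv_ne_zero hc, ?_⟩
    conv_rhs => rw [← hNS k, End.mul_apply, h, map_smul, smul_smul, inv_mul_cancel₀ hc, one_smul]
  let B := Basis.mk hli hspan
  have hB : ∀ x, B x = b x := fun x => Basis.mk_apply hli hspan x
  have hsupp : ∀ x y, B.repr (Nm (b x)) y ≠ 0 → ∃ k : ℕ, (τ ^ k) x = y := by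
    intro x y hy
    by_contra hno
    push Not at hno
    refine hy ?_
    rw [show Nm (b x) = ∑ i ∈ Finset.range o, (S ^ i) (b x) by simp [Nm], map_sum,
      Finsupp.finsetSum_apply]
    refine Finset.sum_eq_zero fun i _ => ?_
    obtain ⟨c, -, h⟩ := perm_pow_of_perm b hpermS i x
    rw [h, ← hB, map_smul, B.repr_self, Finsupp.smul_apply, Finsupp.single_apply, if_neg (hno i),
      smul_zero]
  let X' := {O : Quotient st // Nm (b O.out) ≠ 0}
  haveI : Fintype X' := Fintype.ofFinite _
  have hmemN : ∀ v, Nm v ∈ LinearMap.ker (S - 1) := fun v => by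
    rw [LinearMap.mem_ker, LinearMap.sub_apply, End.one_apply, ← End.mul_apply, hSN, sub_self]
  let b' : X' → LinearMap.ker (S - 1) := fun O => ⟨Nm (b O.1.out), hmemN _⟩
  have hout : ∀ x : X, ∃ k : ℕ, (τ ^ k) (Quotient.mk st x).out = x := fun x =>
    Quotient.exact (s := st) (Quotient.out_eq (Quotient.mk st x))
  have hli' : LinearIndependent K b' := by
    rw [Fintype.linearIndependent_iff]
    intro g hg O
    obtain ⟨y, hy⟩ : ∃ y, B.repr (Nm (b O.1.out)) y ≠ 0 := by
      by_contra h
      push Not at h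
      exact O.2 (B.repr.injective (Finsupp.ext fun y => by simp [h y]))
    have h1 := congrArg (fun w : LinearMap.ker (S - 1) => B.repr (w : W) y) hg
    simp only [b', Submodule.coe_sum, Submodule.coe_smul, map_sum, map_smul,
      Finsupp.finsetSum_apply, Finsupp.smul_apply, ZeroMemClass.coe_zero, map_zero,
      Finsupp.zero_apply, smul_eq_mul] at h1
    rw [Finset.sum_eq_single O (fun O' _ hne => ?_) (fun h => absurd (Finset.mem_univ O) h)] at h1
    · exact (mul_eq_zero.mp h1).resolve_right hy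
    · by_contra h2
      obtain ⟨k, hk⟩ := hsupp _ _ (right_ne_zero_of_mul h2)
      obtain ⟨l, hl⟩ := hsupp _ _ hy
      refine hne (Subtype.ext ?_)
      rw [← Quotient.out_eq O'.1, ← Quotient.out_eq O.1]
      exact Quotient.sound (s := st) (st.iseqv.trans ⟨k, hk⟩ (st.iseqv.symm ⟨l, hl⟩))
  have hspan' : ⊤ ≤ Submodule.span K (Set.range b') := by
    intro w _
    have hw : S (w : W) = w := by
      have := w.2
      rwa [LinearMap.mem_ker, LinearMap.sub_apply, End.one_apply, sub_eq_zero] at this
    have h1 : Nm (w : W) = (o : K) • (w : W) := by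
      have h2 : ∀ i : ℕ, (S ^ i) (w : W) = w := by
        intro i
        induction i with
        | zero => rfl
        | succ i ih => rw [pow_succ', End.mul_apply, ih, hw]
      simp [Nm, LinearMap.sum_apply, h2, ← Nat.cast_smul_eq_nsmul K]
    have h3 : Nm (w : W) ∈ (Submodule.span K (Set.range b')).map (LinearMap.ker (S - 1)).subtype := by
      rw [← B.sum_repr (w : W), map_sum]
      refine sum_mem fun x _ => ?_
      rw [map_smul, hB]
      refine Submodule.smul_mem _ _ ?_
      obtain ⟨c, hc, h⟩ := hrel _ _ (hout x)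
      rw [h]
      refine Submodule.smul_mem _ _ ?_
      by_cases h0 : Nm (b (Quotient.mk st x).out) = 0
      · rw [h0]; exact zero_mem _
      · exact ⟨b' ⟨_, h0⟩, Submodule.subset_span ⟨_, rfl⟩, rfl⟩
    obtain ⟨u, hu, hue⟩ := h3
    rw [h1] at hue
    have : w = (o : K)⁻¹ • u := Subtype.ext (by
      show (w : W) = (o : K)⁻¹ • (u : W)
      rw [show (u : W) = (o : K) • (w : W) from hue, smul_smul, inv_mul_cancel₀ hoK, one_smul])
    rw [this]
    exact Submodule.smul_mem _ _ hu
  -- the action of `T`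
  have hTinj : ∀ v, T v = 0 → v = 0 := fun v hv => by
    have h1 := LinearMap.congr_fun hT v
    obtain ⟨j, hj⟩ : ∃ j, P = j + 1 := ⟨P - 1, by omega⟩
    rw [hj, pow_succ, End.mul_apply, hv, map_zero, End.one_apply] at h1
    exact h1.symm
  have hστ' : ∀ k x, (τ ^ k) (σ x) = σ ((τ ^ k) x) := fun k x => by
    rw [← Equiv.Perm.mul_apply, ← Equiv.Perm.mul_apply, (hστ.pow_right k).eq]
  let q : Quotient st → Quotient st := fun O =>
    Quotient.mk st (σ O.out)
  have hqN : ∀ O : Quotient st, ∃ c : K, c ≠ 0 ∧ T (Nm (b O.out)) = c • Nm (b (q O).out) := by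
    intro O
    obtain ⟨c, hc, h⟩ := hpermT O.out
    obtain ⟨d, hd, h'⟩ := hrel _ _ (hout (σ O.out))
    refine ⟨c * d, mul_ne_zero hc hd, ?_⟩
    rw [← End.mul_apply, hTN, End.mul_apply, h, map_smul, h', smul_smul]
  have hqgood : ∀ O : X', Nm (b (q O.1).out) ≠ 0 := fun O h => by
    obtain ⟨c, -, hc⟩ := hqN O.1
    rw [h, smul_zero] at hc
    exact O.2 (hTinj _ hc)
  have hqinj : Function.Injective q := fun O O' h => by
    obtain ⟨k, hk⟩ := Quotient.exact (s := st) h
    rw [hστ'] at hk
    rw [← Quotient.out_eq O, ← Quotient.out_eq O']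
    exact Quotient.sound (s := st) ⟨k, σ.injective hk⟩
  let q' : X' → X' := fun O => ⟨q O.1, hqgood O⟩
  have hq'bij : Function.Bijective q' := Finite.injective_iff_bijective.mp fun O O' h =>
    Subtype.ext (hqinj (congrArg Subtype.val h))
  let σ' : Equiv.Perm X' := Equiv.ofBijective q' hq'bij
  have hσ'pow : ∀ i (O : X'), ((σ' ^ i) O).1 = Quotient.mk st ((σ ^ i) O.1.out) := by
    intro i
    induction i with
    | zero => intro O; exact (Quotient.out_eq O.1).symm
    | succ i ih =>
      intro O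
      rw [pow_succ', Equiv.Perm.mul_apply]
      show Quotient.mk st (σ ((σ' ^ i) O).1.out) = _
      obtain ⟨k, hk⟩ := hout ((σ ^ i) O.1.out)
      rw [ih, pow_succ', Equiv.Perm.mul_apply]
      exact Quotient.sound (s := st) ⟨k, by rw [hστ', hk]⟩
  have hx₀ : ∀ k : ℕ, (τ ^ k) x₀ = x₀ := by
    intro k
    induction k with
    | zero => rfl
    | succ k ih => rw [pow_succ', Equiv.Perm.mul_apply, ih, hτ₀]
  have hout₀ : (Quotient.mk st x₀).out = x₀ := by
    obtain ⟨k, hk⟩ := hout x₀
    exact (τ ^ k).injective (hk.trans (hx₀ k).symm)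
  have hb₀ : b x₀ ≠ 0 := hli.ne_zero _
  let O₀ : X' := ⟨Quotient.mk st x₀, by
    rw [hout₀, hN₀]; exact smul_ne_zero hoK hb₀⟩
  have hTres : ∀ v ∈ LinearMap.ker (S - 1), T v ∈ LinearMap.ker (S - 1) := fun v hv => by
    rw [LinearMap.mem_ker, LinearMap.sub_apply, End.one_apply, sub_eq_zero] at hv ⊢
    rw [← End.mul_apply, ← hTS.eq, End.mul_apply, hv]
  let T' := T.restrict hTres
  obtain ⟨m, hm1, hm2⟩ := FgsC.Commutant.card_orbits_fixed b' hli' hspan' T' hP
    (LinearMap.ext fun v => Subtype.ext (by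
      rw [Module.End.pow_restrict _ (h := hTres), LinearMap.coe_restrict_apply, hT]; rfl))
    σ' (Equiv.ext fun O => Subtype.ext (by
      rw [hσ'pow, hσ]; exact Quotient.out_eq O.1))
    O₀ (Subtype.ext (by
      show Quotient.mk st (σ (Quotient.mk st x₀).out) = _
      rw [hout₀, h₀]))
    (Subtype.ext (by
      show T (Nm (b (Quotient.mk st x₀).out)) = Nm (b (Quotient.mk st x₀).out)
      rw [hout₀, hN₀, map_smul, hT₀]))
    (fun i hi hiP O hO => by
      have h1 := hσ'pow i O
      rw [hO] at h1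
      obtain ⟨k, hk⟩ := Quotient.exact (s := st) ((Quotient.out_eq O.1).trans h1)
      have hiter : ∀ j : ℕ, (σ ^ (i * j)) O.1.out = (τ ^ (k * j)) O.1.out := by
        intro j
        induction j with
        | zero => simp
        | succ j ih =>
          rw [mul_add, mul_one, add_comm, pow_add, Equiv.Perm.mul_apply, ih,
            ← Equiv.Perm.mul_apply, ((hστ.pow_left i).pow_right (k * j)).eq,
            Equiv.Perm.mul_apply, ← hk, hτcomp, mul_add, mul_one]
      have h2 := hiter o
      rw [show τ ^ (k * o) = 1 by rw [mul_comm, pow_mul, hτ, one_pow], Equiv.Perm.one_apply,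
        pow_eq_pow_mod _ hσ] at h2
      have h3 : 0 < i * o % P := Nat.pos_of_ne_zero fun h =>
        absurd (Nat.le_of_dvd hi (hcop.dvd_of_dvd_mul_right (Nat.dvd_of_mod_eq_zero h)))
          (by omega)
      have h4 : O.1.out = x₀ := hfree _ h3 (Nat.mod_lt _ hP) _ h2
      refine Subtype.ext ?_
      rw [← Quotient.out_eq O.1, h4])
    (fun O => by
      obtain ⟨c, hc, h⟩ := hqN O.1
      exact ⟨c, hc, Subtype.ext h⟩)
  refine ⟨m, ?_, ?_⟩
  · rw [Module.finrank_eq_card_basis (Basis.mk hli' hspan'), hm1]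
  · rw [← hm2, (Submodule.equivMapOfInjective _ (LinearMap.ker (S - 1)).injective_subtype
      (LinearMap.ker (T' - 1))).finrank_eq]
    have : (LinearMap.ker (T' - 1)).map (LinearMap.ker (S - 1)).subtype =
        LinearMap.ker (S - 1) ⊓ LinearMap.ker (T - 1) := by
      ext v
      constructor
      · rintro ⟨w, hw, rfl⟩
        exact ⟨w.2, congrArg Subtype.val (LinearMap.mem_ker.mp hw)⟩
      · rintro ⟨hv, hv'⟩
        exact ⟨⟨v, hv⟩, LinearMap.mem_ker.mpr (Subtype.ext (LinearMap.mem_ker.mp hv')), rfl⟩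
    rw [this]

end pair

end CfsgLib.TurullFit.CountBasis
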