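import Cfsg.Agent.Lib.TurullFit.Defs
import Cfsg.Agent.Lib.TurullFit.CountBasis

/-!
# A piece of extraspecial type as a module for its normaliser

The representation of the normaliser of `E` on `U`, the basis of `End U` indexed by `E` modulo
scalars, and the permutation of this basis by conjugation.
-/

set_option autoImplicit false
set_option linter.style.haveILetI false

open Module
open scoped commutatorElement

namespace CfsgLib.TurullFit.CountSetup

open CfsgLib.FgsC.HallHigman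

universe u

variable {F : Type} [Field F] {Γ V : Type u} [Group Γ] [AddCommGroup V] [Module F V]
  (ρ : Representation F Γ V) (U : Submodule F V) (E : Subgroup Γ)

/-- The normaliser of `E` stabilising `U`. -/
def nGrp : Subgroup Γ := stabSub ρ U ⊓ Subgroup.normalizer (E : Set Γ)

/-- Its action on `U`. -/
def res : Representation F ↥(nGrp ρ U E) ↥U :=
  (restrictRep ρ U).comp (Subgroup.inclusion inf_le_left)

/-- `E` inside the normaliser. -/
def eSub : Subgroup ↥(nGrp ρ U E) := E.subgroupOf (nGrp ρ U E)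

instance eSub_normal : (eSub ρ U E).Normal :=
  ⟨fun k hk g => (Subgroup.mem_normalizer_iff.mp g.2.2 (k : Γ)).mp hk⟩

/-- `E` modulo scalars. -/
abbrev Cos : Type u := ↥(eSub ρ U E) ⧸ (scalarSubgroup (res ρ U E) (eSub ρ U E)).subgroupOf (eSub ρ U E)

variable {ρ U E}

theorem res_coe (g : ↥(nGrp ρ U E)) (v : U) : (res ρ U E g v : V) = ρ (g : Γ) (v : V) := rfl

theorem isScalar_iff {g : ↥(nGrp ρ U E)} :
    IsScalar (res ρ U E) g ↔ IsScalarOn ρ U (g : Γ) := by
  constructor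
  · rintro ⟨c, hc⟩
    exact ⟨c, fun v hv => congrArg Subtype.val (LinearMap.congr_fun hc ⟨v, hv⟩)⟩
  · rintro ⟨c, hc⟩
    exact ⟨c, LinearMap.ext fun v => Subtype.ext (hc v v.2)⟩

theorem finrank_eigenspace (g : ↥(nGrp ρ U E)) (c : F) :
    finrank F (End.eigenspace (res ρ U E g) c) =
      finrank F (U ⊓ End.eigenspace (ρ (g : Γ)) c : Submodule F V) :=
  CountBasis.finrank_eigenspace_restrict (fun v hv => (g.2.1 v).mpr hv) c

theorem finrank_eigenspace_inf (g h : ↥(nGrp ρ U E)) (c d : F) :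
    finrank F (End.eigenspace (res ρ U E g) c ⊓ End.eigenspace (res ρ U E h) d : Submodule F U) =
      finrank F (U ⊓ End.eigenspace (ρ (g : Γ)) c ⊓ End.eigenspace (ρ (h : Γ)) d :
        Submodule F V) := by
  rw [(Submodule.equivMapOfInjective U.subtype U.injective_subtype _).finrank_eq]
  have : (End.eigenspace (res ρ U E g) c ⊓ End.eigenspace (res ρ U E h) d).map U.subtype =
      U ⊓ End.eigenspace (ρ (g : Γ)) c ⊓ End.eigenspace (ρ (h : Γ)) d := by
    ext v
    constructor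
    · rintro ⟨w, ⟨hw, hw'⟩, rfl⟩
      exact ⟨⟨w.2, End.mem_eigenspace_iff.mpr (congrArg Subtype.val (End.mem_eigenspace_iff.mp hw))⟩,
        End.mem_eigenspace_iff.mpr (congrArg Subtype.val (End.mem_eigenspace_iff.mp hw'))⟩
    · rintro ⟨⟨hv, hv'⟩, hv''⟩
      exact ⟨⟨v, hv⟩, ⟨End.mem_eigenspace_iff.mpr (Subtype.ext (End.mem_eigenspace_iff.mp hv')),
        End.mem_eigenspace_iff.mpr (Subtype.ext (End.mem_eigenspace_iff.mp hv''))⟩, rfl⟩
  rw [this]

theorem fixSub_eq (g : Γ) : fixSub ρ g = End.eigenspace (ρ g) 1 := by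
  ext v; rw [End.mem_eigenspace_iff, one_smul]; rfl

theorem finrank_fix (g : ↥(nGrp ρ U E)) :
    finrank F (End.eigenspace (res ρ U E g) 1) =
      finrank F (U ⊓ fixSub ρ (g : Γ) : Submodule F V) := by
  rw [finrank_eigenspace, fixSub_eq]

theorem mem_stabSub_of_map_le [Finite Γ] {g : Γ} (h : ∀ v ∈ U, ρ g v ∈ U) : g ∈ stabSub ρ U := by
  intro v
  refine ⟨fun hv => ?_, h v⟩
  have hpow : ∀ (k : ℕ), ∀ w ∈ U, ρ (g ^ k) w ∈ U := by
    intro k
    induction k with
    | zero => intro w hw; rwa [pow_zero, map_one, End.one_apply]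
    | succ k ih => intro w hw; rw [pow_succ', map_mul, End.mul_apply]; exact h _ (ih w hw)
  obtain ⟨k, hk : g ^ k = g⁻¹⟩ :=
    mem_powers_iff_mem_zpowers.mpr (Subgroup.inv_mem _ (Subgroup.mem_zpowers g))
  have h1 := hpow k _ hv
  rwa [hk, rho_apply_inv] at h1

/-! ### Conjugation -/

variable (ρ U E) in
/-- Conjugation on `End U`. -/
def conjEnd : ↥(nGrp ρ U E) →* End F (End F U) where
  toFun g := (LinearMap.mulRight F (res ρ U E g⁻¹)).comp (LinearMap.mulLeft F (res ρ U E g))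
  map_one' := LinearMap.ext fun f => by simp
  map_mul' g h := LinearMap.ext fun f => by
    simp only [LinearMap.comp_apply, LinearMap.mulLeft_apply, LinearMap.mulRight_apply,
      End.mul_apply, map_mul, mul_inv_rev, mul_assoc]

theorem conjEnd_apply (g : ↥(nGrp ρ U E)) (f : End F U) :
    conjEnd ρ U E g f = res ρ U E g * f * res ρ U E g⁻¹ := rfl

theorem ker_conjEnd_sub_one (g : ↥(nGrp ρ U E)) :
    LinearMap.ker (conjEnd ρ U E g - 1) = FgsC.Commutant.commutant (res ρ U E g) := by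
  ext f
  rw [FgsC.Commutant.mem_commutant, LinearMap.mem_ker, LinearMap.sub_apply, End.one_apply,
    sub_eq_zero, conjEnd_apply]
  constructor
  · intro h
    conv_lhs => rw [← h]
    rw [mul_assoc, ← map_mul, inv_mul_cancel, map_one, mul_one]
  · intro h
    rw [← h, mul_assoc, ← map_mul, mul_inv_cancel, map_one, mul_one]

theorem conjEnd_eq_one [Nontrivial U] {h : ↥(nGrp ρ U E)} (hh : IsScalar (res ρ U E) h) :
    conjEnd ρ U E h = 1 := by
  obtain ⟨c, hc⟩ := hh
  refine LinearMap.ext fun f => ?_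
  rw [conjEnd_apply, End.one_apply]
  have h1 : res ρ U E h * f = f * res ρ U E h := by
    rw [hc, smul_mul_assoc, one_mul, mul_smul_comm, mul_one]
  rw [h1, mul_assoc, ← map_mul, mul_inv_cancel, map_one, mul_one]

variable [Finite Γ]

omit [Finite Γ] in
theorem conjNormal_scalar (g : ↥(nGrp ρ U E)) :
    ((scalarSubgroup (res ρ U E) (eSub ρ U E)).subgroupOf (eSub ρ U E)).map
        (MulAut.conjNormal g : MulAut (eSub ρ U E)).toMonoidHom =
      (scalarSubgroup (res ρ U E) (eSub ρ U E)).subgroupOf (eSub ρ U E) := by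
  ext k
  constructor
  · rintro ⟨l, hl, rfl⟩
    show (((MulAut.conjNormal g : MulAut (eSub ρ U E)) l : eSub ρ U E) : ↥(nGrp ρ U E)) ∈
      scalarSubgroup (res ρ U E) (eSub ρ U E)
    rw [MulAut.conjNormal_apply]
    exact (scalarSubgroup_normal (ρ := res ρ U E) (eSub ρ U E)).conj_mem _ hl g
  · intro hk
    refine ⟨(MulAut.conjNormal g : MulAut (eSub ρ U E)).symm k, ?_, MulEquiv.apply_symm_apply _ k⟩
    show (((MulAut.conjNormal g : MulAut (eSub ρ U E)).symm k : eSub ρ U E) : ↥(nGrp ρ U E)) ∈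
      scalarSubgroup (res ρ U E) (eSub ρ U E)
    rw [MulAut.conjNormal_symm_apply]
    simpa using (scalarSubgroup_normal (ρ := res ρ U E) (eSub ρ U E)).conj_mem _ hk g⁻¹

/-- Conjugation on `E` modulo scalars. -/
def conjCos : ↥(nGrp ρ U E) →* MulAut (Cos ρ U E) where
  toFun g := QuotientGroup.congr _ _ (MulAut.conjNormal g) (conjNormal_scalar g)
  map_one' := MulEquiv.ext fun c => by
    obtain ⟨k, rfl⟩ := QuotientGroup.mk_surjective c
    show QuotientGroup.mk ((MulAut.conjNormal (1 : ↥(nGrp ρ U E)) : MulAut (eSub ρ U E)) k) = _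
    rw [map_one]
    rfl
  map_mul' g h := MulEquiv.ext fun c => by
    obtain ⟨k, rfl⟩ := QuotientGroup.mk_surjective c
    show QuotientGroup.mk ((MulAut.conjNormal (g * h) : MulAut (eSub ρ U E)) k) = _
    rw [map_mul]
    rfl

omit [Finite Γ] in
theorem conjCos_mk (g : ↥(nGrp ρ U E)) (k : eSub ρ U E) :
    conjCos g (QuotientGroup.mk k : Cos ρ U E) =
      QuotientGroup.mk ((MulAut.conjNormal g : MulAut (eSub ρ U E)) k) := rfl

variable {s r : ℕ} {a : Γ}

theorem le_nGrp (h : Heis ρ s r E a U) : E ≤ nGrp ρ U E := fun x hx =>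
  ⟨mem_stabSub_of_map_le (fun v hv => h.inv.1 x hx v hv), Subgroup.le_normalizer hx⟩

theorem mem_nGrp_a (h : Heis ρ s r E a U) : a ∈ nGrp ρ U E :=
  ⟨mem_stabSub_of_map_le h.inv.2, h.layer.mem_normalizer⟩

omit [Finite Γ] in
theorem nontrivial_piece (h : Heis ρ s r E a U) : Nontrivial U :=
  Submodule.nontrivial_iff_ne_bot.mpr h.ne_bot

theorem isIrredOn (h : Heis ρ s r E a U) : IsIrredOn (res ρ U E) (eSub ρ U E) := by
  intro W hW
  rcases h.irred (W.map U.subtype) (Submodule.map_subtype_le U W) (by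
    rintro x hx _ ⟨w, hw, rfl⟩
    exact ⟨res ρ U E ⟨x, le_nGrp h hx⟩ w, hW _ hx w hw, rfl⟩) with h1 | h1
  · exact Or.inl (Submodule.map_injective_of_injective U.injective_subtype
      (h1.trans (Submodule.map_bot _).symm))
  · exact Or.inr (Submodule.map_injective_of_injective U.injective_subtype
      (h1.trans (Submodule.map_subtype_top U).symm))

omit [Finite Γ] in
theorem isPGroup_eSub (h : Heis ρ s r E a U) : IsPGroup s (eSub ρ U E) := h.layer.isPGroup.comap_subtype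

omit [Finite Γ] in
theorem isScalar_commutator (h : Heis ρ s r E a U) :
    ∀ t ∈ eSub ρ U E, ∀ k ∈ eSub ρ U E, IsScalar (res ρ U E) ⁅t, k⁆ := by
  intro t ht k hk
  rw [isScalar_iff]
  have hmem : ⁅(t : Γ), (k : Γ)⁆ ∈ E := by
    rw [commutatorElement_def]
    exact E.mul_mem (E.mul_mem (E.mul_mem ht hk) (E.inv_mem ht)) (E.inv_mem hk)
  refine h.scalar _ hmem fun y hy v _ => ?_
  have h1 : ρ ⁅⁅(t : Γ), (k : Γ)⁆, y⁆ = 1 := h.layer.classTwo _ ht _ hk y hy
  rw [commutatorElement_def] at h1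
  have h2 : ρ (⁅(t : Γ), (k : Γ)⁆ * y * ⁅(t : Γ), (k : Γ)⁆⁻¹ * y⁻¹ *
      (y * ⁅(t : Γ), (k : Γ)⁆)) = ρ (y * ⁅(t : Γ), (k : Γ)⁆) := by rw [map_mul, h1, one_mul]
  rw [show ⁅(t : Γ), (k : Γ)⁆ * y * ⁅(t : Γ), (k : Γ)⁆⁻¹ * y⁻¹ * (y * ⁅(t : Γ), (k : Γ)⁆)
    = ⁅(t : Γ), (k : Γ)⁆ * y by group] at h2
  exact LinearMap.congr_fun h2 v

omit [Finite Γ] in
/-- Elements of `E` with a power coprime to `s` acting as a scalar act as scalars. -/
theorem isScalar_of_pow (h : Heis ρ s r E a U) {o : ℕ} (ho : o.Coprime s)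
    {k : ↥(nGrp ρ U E)} (hk : k ∈ eSub ρ U E) (hko : IsScalar (res ρ U E) (k ^ o)) :
    IsScalar (res ρ U E) k := by
  have hkS : k ^ o ∈ scalarSubgroup (res ρ U E) (eSub ρ U E) :=
    mem_scalarSubgroup.mpr ⟨(eSub ρ U E).pow_mem hk o, hko⟩
  obtain ⟨j, hj⟩ := (isPGroup_eSub h) ⟨k, hk⟩
  have hcop : o.Coprime (orderOf k) := by
    have h1 : orderOf k ∣ s ^ j := orderOf_dvd_of_pow_eq_one (by
      simpa using congrArg Subtype.val hj)
    exact Nat.Coprime.coprime_dvd_right h1 (ho.pow_right j)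
  obtain ⟨m, hm⟩ := exists_pow_eq_self_of_coprime hcop
  rw [← hm]
  exact (mem_scalarSubgroup.mp (pow_mem hkS m)).2

theorem basis_facts [FiniteDimensional F V] [IsAlgClosed F] (h : Heis ρ s r E a U) :
    LinearIndependent F
        (fun c : Cos ρ U E => res ρ U E ((Quotient.out c : eSub ρ U E) : ↥(nGrp ρ U E))) ∧
      ⊤ ≤ Submodule.span F (Set.range
        (fun c : Cos ρ U E => res ρ U E ((Quotient.out c : eSub ρ U E) : ↥(nGrp ρ U E)))) ∧
      (∃ b, finrank F U = s ^ b) ∧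
      Nat.card (Cos ρ U E) = finrank F U * finrank F U ∧
      ∀ k : eSub ρ U E, ∃ c : F, c ≠ 0 ∧ res ρ U E (k : ↥(nGrp ρ U E)) =
        c • res ρ U E
          ((Quotient.out (QuotientGroup.mk k : Cos ρ U E) : eSub ρ U E) : ↥(nGrp ρ U E)) := by
  haveI := nontrivial_piece h
  haveI := Fact.mk h.layer.prime_s
  exact end_basis (ρ := res ρ U E) (q := s) (isPGroup_eSub h) (isIrredOn h) (isScalar_commutator h)

theorem conjEnd_perm [FiniteDimensional F V] [IsAlgClosed F] (h : Heis ρ s r E a U)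
    (g : ↥(nGrp ρ U E)) (c : Cos ρ U E) : ∃ k : F, k ≠ 0 ∧
      conjEnd ρ U E g (res ρ U E ((Quotient.out c : eSub ρ U E) : ↥(nGrp ρ U E))) =
        k • res ρ U E ((Quotient.out (conjCos g c) : eSub ρ U E) : ↥(nGrp ρ U E)) := by
  obtain ⟨-, -, -, -, hsame⟩ := basis_facts h
  obtain ⟨k, hk0, hk⟩ := hsame ((MulAut.conjNormal g : MulAut (eSub ρ U E)) (Quotient.out c))
  refine ⟨k, hk0, ?_⟩
  have h1 : conjCos g c = QuotientGroup.mk ((MulAut.conjNormal g : MulAut (eSub ρ U E)) (Quotient.out c)) := by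
    conv_lhs => rw [← QuotientGroup.out_eq' c]
    rfl
  rw [h1, ← hk, conjEnd_apply, MulAut.conjNormal_apply, map_mul, map_mul]

theorem conjEnd_out_one [FiniteDimensional F V] [IsAlgClosed F] (h : Heis ρ s r E a U)
    (g : ↥(nGrp ρ U E)) :
    conjEnd ρ U E g (res ρ U E ((Quotient.out (1 : Cos ρ U E) : eSub ρ U E) : ↥(nGrp ρ U E))) =
      res ρ U E ((Quotient.out (1 : Cos ρ U E) : eSub ρ U E) : ↥(nGrp ρ U E)) := by
  obtain ⟨-, -, -, -, hsame⟩ := basis_facts h
  obtain ⟨c, hc0, hc⟩ := hsame 1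
  rw [OneMemClass.coe_one, map_one, QuotientGroup.mk_one] at hc
  have h1 : res ρ U E ((Quotient.out (1 : Cos ρ U E) : eSub ρ U E) : ↥(nGrp ρ U E)) =
      c⁻¹ • (1 : End F U) := by rw [hc, smul_smul, inv_mul_cancel₀ hc0, one_smul]
  rw [h1, map_smul, conjEnd_apply, mul_one, ← map_mul, mul_inv_cancel, map_one]

theorem conjCos_eq_one {g : ↥(nGrp ρ U E)} (hg : IsScalar (res ρ U E) g) : conjCos g = 1 := by
  refine MulEquiv.ext fun c => ?_
  obtain ⟨k, rfl⟩ := QuotientGroup.mk_surjective c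
  rw [conjCos_mk, MulAut.one_apply, QuotientGroup.eq]
  refine Subgroup.mem_subgroupOf.mpr (mem_scalarSubgroup.mpr ⟨SetLike.coe_mem _, 1, ?_⟩)
  obtain ⟨c, hc⟩ := hg
  rw [Subgroup.coe_mul, Subgroup.coe_inv, MulAut.conjNormal_apply, mul_inv_rev, mul_inv_rev,
    inv_inv, map_mul, map_mul, map_mul, one_smul]
  rw [show res ρ U E g * (res ρ U E (k : ↥(nGrp ρ U E))⁻¹ * res ρ U E g⁻¹) =
    res ρ U E (k : ↥(nGrp ρ U E))⁻¹ * (res ρ U E g * res ρ U E g⁻¹) by
      rw [hc, smul_mul_assoc, one_mul, smul_mul_assoc, one_mul, mul_smul_comm],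
    ← map_mul (res ρ U E) g, mul_inv_cancel, map_one, mul_one, ← map_mul, inv_mul_cancel, map_one]

/-- `a` fixes no nontrivial coset. -/
theorem conjCos_fix (h : Heis ρ s r E a U) {c : Cos ρ U E}
    (hc : conjCos ⟨a, mem_nGrp_a h⟩ c = c) : c = 1 := by
  obtain ⟨k, rfl⟩ := QuotientGroup.mk_surjective c
  rw [conjCos_mk, eq_comm, QuotientGroup.eq] at hc
  have h1 := (mem_scalarSubgroup.mp (Subgroup.mem_subgroupOf.mp hc)).2
  rw [isScalar_iff] at h1
  simp only [Subgroup.coe_mul, Subgroup.coe_inv, MulAut.conjNormal_apply] at h1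
  rw [QuotientGroup.eq_one_iff]
  exact Subgroup.mem_subgroupOf.mpr (mem_scalarSubgroup.mpr ⟨k.2,
    isScalar_iff.mpr (h.fpf _ k.2 h1)⟩)

/-- The numbers of the two commutants. -/
theorem commutant_dims [FiniteDimensional F V] [IsAlgClosed F] (h : Heis ρ s r E a U)
    (g : ↥(nGrp ρ U E)) (hga : Commute (⟨a, mem_nGrp_a h⟩ : ↥(nGrp ρ U E)) g) {o : ℕ} (ho : 0 < o)
    (hoF : (o : F) ≠ 0) (hcop : r.Coprime o) (hgo : IsScalar (res ρ U E) (g ^ o)) :
    ∃ m : ℕ, finrank F (FgsC.Commutant.commutant (res ρ U E g)) = 1 + m * r ∧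
      finrank F (FgsC.Commutant.commutant (res ρ U E g) ⊓
        FgsC.Commutant.commutant (res ρ U E ⟨a, mem_nGrp_a h⟩) : Submodule F (End F U)) = 1 + m := by
  classical
  haveI := nontrivial_piece h
  haveI : Fintype (Cos ρ U E) := Fintype.ofFinite _
  obtain ⟨hli, hspan, -, -, -⟩ := basis_facts h
  set a' : ↥(nGrp ρ U E) := ⟨a, mem_nGrp_a h⟩ with ha'
  have har : a' ^ r = 1 := Subtype.ext h.layer.pow_eq_one
  let P : ↥(nGrp ρ U E) →* Equiv.Perm (Cos ρ U E) :=
    (MulAut.toPerm (Cos ρ U E)).comp conjCos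
  have hfree : ∀ i, 0 < i → i < r → ∀ x, (P a' ^ i) x = x → x = 1 := by
    intro i hi hir x hx
    rw [← map_pow] at hx
    obtain ⟨l, hl⟩ := Nat.exists_mul_mod_eq_one_of_coprime
      (h.layer.prime_r.coprime_iff_not_dvd.mpr (Nat.not_dvd_of_pos_of_lt hi hir)).symm
      h.layer.prime_r.one_lt
    have hpow : ∀ l : ℕ, (P (a' ^ i) ^ l) x = x := by
      intro l
      induction l with
      | zero => rfl
      | succ l ih => rw [pow_succ', Equiv.Perm.mul_apply, ih, hx]
    have h1 := hpow l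
    rw [← map_pow, ← pow_mul, pow_eq_pow_mod _ har, hl.2, pow_one] at h1
    exact conjCos_fix h h1
  obtain ⟨m, h1, h2⟩ := CountBasis.card_orbits_pair
    (fun c : Cos ρ U E => res ρ U E ((Quotient.out c : eSub ρ U E) : ↥(nGrp ρ U E))) hli hspan
    (conjEnd ρ U E a') (conjEnd ρ U E g) (hga.map _) (P := r) (o := o) h.layer.prime_r.pos ho hoF
    hcop (by rw [← map_pow, har, map_one]) (by rw [← map_pow, conjEnd_eq_one hgo])
    (P a') (P g) (hga.map _) (by rw [← map_pow, har, map_one])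
    (by rw [← map_pow]; show MulAut.toPerm _ (conjCos (g ^ o)) = 1; rw [conjCos_eq_one hgo, map_one])
    1 (map_one (conjCos a')) (conjEnd_out_one h a') (conjEnd_out_one h g) hfree
    (map_one (conjCos g)) (conjEnd_perm h a') (conjEnd_perm h g)
  rw [ker_conjEnd_sub_one] at h1 h2
  rw [ker_conjEnd_sub_one] at h2
  exact ⟨m, h1, h2⟩

end CfsgLib.TurullFit.CountSetup
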