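import Cfsg.Agent.Lib.TurullFit.Stmts
import Cfsg.Agent.Lib.TurullFit.CountSetup

/-!
# Counting on a piece of extraspecial type

The eigenvalue multiplicities of `a` are equal except one, which differs by one; for an element `g`
commuting with `a` exactly one eigenspace of `g` has unequal multiplicities.
-/

set_option autoImplicit false
set_option linter.style.haveILetI false

open Module

namespace CfsgLib.TurullFit

open CountSetup CountBasis

universe u

open Classical in
/-- The four possible relations between the dimension and the fixed space, from the profile. -/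
theorem profile_cases {ι : Type*} [Fintype ι] {f : ι → ℕ} (hcard : 2 ≤ Fintype.card ι)
    (h : Fintype.card ι * ∑ i, f i ^ 2 = (∑ i, f i) ^ 2 + (Fintype.card ι - 1)) (i₀ : ι) :
    (∑ i, f i) + (Fintype.card ι - 1) = Fintype.card ι * f i₀ ∨
      ∑ i, f i = Fintype.card ι * f i₀ + (Fintype.card ι - 1) ∨
      ∑ i, f i = Fintype.card ι * f i₀ + 1 ∨
      (∑ i, f i) + 1 = Fintype.card ι * f i₀ := by
  classical
  obtain ⟨i₁, M, hM, hi₁⟩ := gap_eq hcard h
  have hsum : (∑ i, f i) + M = Fintype.card ι * M + f i₁ := by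
    rw [← Finset.add_sum_erase _ f (Finset.mem_univ i₁),
      Finset.sum_congr rfl (fun i hi => hM i (Finset.ne_of_mem_erase hi)), Finset.sum_const,
      Finset.card_erase_of_mem (Finset.mem_univ _), Finset.card_univ, smul_eq_mul]
    have : (Fintype.card ι - 1) * M + M = Fintype.card ι * M := by
      rw [← Nat.succ_mul, Nat.succ_eq_add_one, Nat.sub_add_cancel (by omega)]
    omega
  rcases eq_or_ne i₀ i₁ with rfl | hne
  · rcases hi₁ with e | e
    · left; rw [e, mul_add, mul_one]; omega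
    · right; left; rw [← e, mul_add, mul_one] at hsum; omega
  · rw [hM _ hne]
    rcases hi₁ with e | e
    · right; right; left; omega
    · right; right; right; omega

theorem count : StmtCount.{u} := by
  classical
  intro F _ _ Γ V _ _ _ _ _ ρ s r E a U h
  haveI := nontrivial_piece h
  have hr := h.layer.prime_r
  set a' : ↥(nGrp ρ U E) := ⟨a, mem_nGrp_a h⟩ with ha'
  set d := finrank F U with hd
  obtain ⟨-, -, ⟨b, hb⟩, hcard, -⟩ := basis_facts h
  have hb0 : 0 < b := by
    refine Nat.pos_of_ne_zero fun hb0 => ?_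
    obtain ⟨x, hx, hns⟩ := h.nonscalar
    rw [← hd] at hcard
    rw [hd, hb, hb0, pow_zero, mul_one] at hcard
    obtain ⟨hsub, -⟩ := Nat.card_eq_one_iff_unique.mp hcard
    refine hns ?_
    let k : eSub ρ U E := ⟨⟨x, le_nGrp h hx⟩, hx⟩
    have h1 : (QuotientGroup.mk k : Cos ρ U E) = 1 := Subsingleton.elim _ _
    rw [QuotientGroup.eq_one_iff] at h1
    exact isScalar_iff.mp (FgsC.HallHigman.mem_scalarSubgroup.mp (Subgroup.mem_subgroupOf.mp h1)).2
  obtain ⟨m, hm1, hm2⟩ := commutant_dims h 1 (Commute.one_right _) (o := 1) one_pos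
    (by simp) (Nat.coprime_one_right r) ⟨1, by rw [one_pow, map_one, one_smul]⟩
  have hcomm1 : FgsC.Commutant.commutant (res ρ U E 1) = ⊤ := by
    refine eq_top_iff.mpr fun f _ => ?_
    rw [FgsC.Commutant.mem_commutant, map_one, mul_one, one_mul]
  rw [hcomm1] at hm1 hm2
  rw [finrank_top, finrank_linearMap, ← hd] at hm1
  rw [top_inf_eq] at hm2
  obtain ⟨hC, hS⟩ := finrank_commutant (A := res ρ U E a') (n := r) h.layer.r_ne_zero
    (c := (1 : F)) one_ne_zero (by
      rw [← map_pow, one_smul, show a' ^ r = 1 from Subtype.ext h.layer.pow_eq_one, map_one])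
  rw [hC] at hm2
  set f : Roots r (1 : F) → ℕ := fun μ => finrank F (End.eigenspace (res ρ U E a') (μ : F)) with hf
  have hroots := card_roots_one (K := F) h.layer.r_ne_zero
  let i₀ : Roots r (1 : F) := ⟨1, (Polynomial.mem_nthRootsFinset hr.pos 1).mpr (one_pow r)⟩
  have hfix : f i₀ = finrank F (U ⊓ fixSub ρ a : Submodule F V) := finrank_fix a'
  have hgap : Fintype.card (Roots r (1 : F)) * ∑ μ, f μ ^ 2 =
      (∑ μ, f μ) ^ 2 + (Fintype.card (Roots r (1 : F)) - 1) := by
    rw [hroots, show ∑ μ, f μ ^ 2 = 1 + m from hm2, show ∑ μ, f μ = d from hS, sq, hm1]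
    have := hr.pos
    rw [mul_add, mul_one, mul_comm r m]
    omega
  have hfour := profile_cases (f := f) (hr.two_le.trans hroots.ge) hgap i₀
  rw [hroots, show ∑ μ, f μ = d from hS, hfix] at hfour
  refine ⟨⟨b, hb0, hb⟩, hfour, fun hbot => ?_, fun Z hZ => ?_⟩
  · rw [hbot, finrank_bot, mul_zero] at hfour
    have hd1 : 1 < d := by
      rw [hd, hb]; exact Nat.one_lt_pow hb0.ne' h.layer.prime_s.one_lt
    have hdr : d + 1 = r := by
      have := hr.two_le
      omega
    refine ⟨?_, hdr⟩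
    by_contra hs
    have hodd : Odd d := by
      rw [hd, hb]; exact (h.layer.prime_s.odd_of_ne_two hs).pow
    have heven : Even r := hdr ▸ hodd.add_one
    have : r = 2 := (Nat.Prime.even_iff hr).mp heven
    omega
  · have hle := le_nGrp h
    have h1 : FgsC.HallHigman.scalarSubgroup (res ρ U E) (eSub ρ U E) =
        Z.comap (nGrp ρ U E).subtype := by
      ext k
      rw [FgsC.HallHigman.mem_scalarSubgroup, Subgroup.mem_comap, hZ, isScalar_iff]
      rfl
    rw [← hcard, show Nat.card (Cos ρ U E) =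
      (FgsC.HallHigman.scalarSubgroup (res ρ U E) (eSub ρ U E)).relIndex (eSub ρ U E) from rfl, h1,
      Subgroup.relIndex_comap]
    congr 1
    rw [eSub, Subgroup.subgroupOf, Subgroup.map_comap_eq, Subgroup.range_subtype,
      inf_eq_right.mpr hle]

theorem commCount : StmtCommCount.{u} := by
  classical
  intro F _ _ Γ V _ _ _ _ _ ρ s r o E a g U h hgn hcomm ho hor hoF hgU hgo
  haveI := nontrivial_piece h
  have hr := h.layer.prime_r
  set a' : ↥(nGrp ρ U E) := ⟨a, mem_nGrp_a h⟩ with ha'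
  set g' : ↥(nGrp ρ U E) := ⟨g, hgU, hgn⟩ with hg'
  have hag : Commute a' g' := Subtype.ext hcomm
  obtain ⟨c₀, hc₀⟩ := hgo
  have hgpow : res ρ U E g' ^ o = c₀ • (1 : End F U) := by
    rw [← map_pow]
    exact LinearMap.ext fun v => Subtype.ext (hc₀ v v.2)
  have hc₀0 : c₀ ≠ 0 := by
    rintro rfl
    rw [zero_smul, ← map_pow] at hgpow
    exact FgsC.HallHigman.rho_mul_left_ne_zero _ hgpow
  obtain ⟨m, hm1, hm2⟩ := commutant_dims h g' hag ho.pos hoF
    ((Nat.coprime_primes hr ho).mpr (Ne.symm hor)) ⟨c₀, by rw [map_pow]; exact hgpow⟩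
  have hapow : res ρ U E a' ^ r = (1 : F) • (1 : End F U) := by
    rw [← map_pow, one_smul, show a' ^ r = 1 from Subtype.ext h.layer.pow_eq_one, map_one]
  obtain ⟨hC, hS⟩ := finrank_commutant (A := res ρ U E g') (n := o) hoF hc₀0 hgpow
  obtain ⟨hJ, hJs⟩ := finrank_commutant_inf (A := res ρ U E g') (B := res ρ U E a')
    (hag.symm.map _) hoF h.layer.r_ne_zero hc₀0 one_ne_zero hgpow hapow
  rw [hC] at hm1
  rw [hJ] at hm2
  have hroots := card_roots_one (K := F) h.layer.r_ne_zero
  set D : Roots o c₀ → ℕ := fun μ => finrank F (End.eigenspace (res ρ U E g') (μ : F)) with hD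
  set f : Roots o c₀ → Roots r (1 : F) → ℕ := fun μ ν => finrank F
    (End.eigenspace (res ρ U E g') (μ : F) ⊓ End.eigenspace (res ρ U E a') (ν : F) :
      Submodule F U) with hf
  set A : Roots o c₀ → ℕ := fun μ => r * ∑ ν, f μ ν ^ 2 with hA
  set B : Roots o c₀ → ℕ := fun μ => D μ ^ 2 with hB
  have hsumA : ∑ μ, A μ = (∑ μ, B μ) + (r - 1) := by
    rw [hA, ← Finset.mul_sum, show ∑ μ, ∑ ν, f μ ν ^ 2 = 1 + m from hm2,
      show ∑ μ, B μ = 1 + m * r from hm1]
    have := hr.pos
    rw [mul_add, mul_one, mul_comm r m]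
    omega
  have hDf : ∀ μ, ∑ ν, f μ ν = D μ := hJs
  have hAB : ∀ μ, B μ ≤ A μ := fun μ => by
    have h1 := sq_sum_le_card_mul_sum_sq (s := (Finset.univ : Finset (Roots r (1 : F)))) (f := f μ)
    rw [Finset.card_univ, hroots, hDf] at h1
    exact h1
  -- at most one eigenspace is not uniform
  have hdiv : ∀ μ, (∀ i j, f μ i = f μ j) → ∀ i, D μ = r * f μ i := fun μ hu i => by
    rw [← hDf, Finset.sum_congr rfl (fun j _ => hu j i), Finset.sum_const, Finset.card_univ, hroots,
      smul_eq_mul]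
  have hgapμ : ∀ μ, (∃ i j, f μ i ≠ f μ j) → B μ + (r - 1) ≤ A μ := fun μ hne => by
    have h1 := gap_le hne
    rwa [hroots, hDf] at h1
  have huniq : ∀ μ μ', (∃ i j, f μ i ≠ f μ j) → (∃ i j, f μ' i ≠ f μ' j) → μ = μ' := by
    intro μ μ' h1 h2
    by_contra hne
    have hmem : μ' ∈ Finset.univ.erase μ := Finset.mem_erase.mpr ⟨Ne.symm hne, Finset.mem_univ _⟩
    have e1 := Finset.add_sum_erase _ A (Finset.mem_univ μ)
    have e2 := Finset.add_sum_erase _ A hmem
    have e3 := Finset.add_sum_erase _ B (Finset.mem_univ μ)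
    have e4 := Finset.add_sum_erase _ B hmem
    have e5 : ∑ x ∈ (Finset.univ.erase μ).erase μ', B x ≤ ∑ x ∈ (Finset.univ.erase μ).erase μ', A x :=
      Finset.sum_le_sum fun x _ => hAB x
    have := hgapμ μ h1
    have := hgapμ μ' h2
    have := hr.two_le
    omega
  have hexact : ∀ μ, (∃ i j, f μ i ≠ f μ j) →
      Fintype.card (Roots r (1 : F)) * ∑ ν, f μ ν ^ 2 =
        (∑ ν, f μ ν) ^ 2 + (Fintype.card (Roots r (1 : F)) - 1) := by
    intro μ h1
    rw [hroots, hDf]
    show A μ = B μ + (r - 1)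
    have e1 := Finset.add_sum_erase _ A (Finset.mem_univ μ)
    have e3 := Finset.add_sum_erase _ B (Finset.mem_univ μ)
    have e5 : ∑ x ∈ Finset.univ.erase μ, B x ≤ ∑ x ∈ Finset.univ.erase μ, A x :=
      Finset.sum_le_sum fun x _ => hAB x
    have := hgapμ μ h1
    omega
  have hmem : ∀ c : F, ¬ r ∣ finrank F (U ⊓ End.eigenspace (ρ g) c : Submodule F V) →
      ∃ μ : Roots o c₀, (μ : F) = c ∧ ∃ i j, f μ i ≠ f μ j := by
    intro c hc
    rw [← finrank_eigenspace g'] at hc
    have hne : End.eigenspace (res ρ U E g') c ≠ ⊥ := fun h0 => hc (by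
      rw [h0, finrank_bot]; exact dvd_zero r)
    refine ⟨⟨c, eigen_root ho.pos hgpow hne⟩, rfl, ?_⟩
    by_contra hu
    push Not at hu
    have i₀ : Roots r (1 : F) := ⟨1, (Polynomial.mem_nthRootsFinset hr.pos 1).mpr (one_pow r)⟩
    exact hc ⟨_, hdiv ⟨c, eigen_root ho.pos hgpow hne⟩ hu i₀⟩
  refine ⟨fun c c' hc hc' => ?_, fun hk => ?_⟩
  · obtain ⟨μ, rfl, h1⟩ := hmem c hc
    obtain ⟨μ', rfl, h2⟩ := hmem c' hc'
    rw [huniq μ μ' h1 h2]
  -- the fixed points of `a`
  let i₀ : Roots r (1 : F) := ⟨1, (Polynomial.mem_nthRootsFinset hr.pos 1).mpr (one_pow r)⟩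
  have hk_eq : finrank F (U ⊓ fixSub ρ a : Submodule F V) = ∑ μ, f μ i₀ := by
    rw [← finrank_fix a']
    obtain ⟨-, hJs'⟩ := finrank_commutant_inf (A := res ρ U E a') (B := res ρ U E g')
      (hag.map _) h.layer.r_ne_zero hoF one_ne_zero hc₀0 hapow hgpow
    refine (hJs' i₀).symm.trans (Finset.sum_congr rfl fun μ _ => ?_)
    rw [inf_comm]
  have hk1_eq : finrank F (U ⊓ fixSub ρ a ⊓ fixSub ρ g : Submodule F V) =
      finrank F (End.eigenspace (res ρ U E g') 1 ⊓ End.eigenspace (res ρ U E a') 1 :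
        Submodule F U) := by
    rw [fixSub_eq, fixSub_eq, inf_comm (End.eigenspace (res ρ U E g') 1), finrank_eigenspace_inf]
  have hd1_eq : finrank F (U ⊓ fixSub ρ g : Submodule F V) =
      finrank F (End.eigenspace (res ρ U E g') 1) := (finrank_fix g').symm
  -- a bound on each eigenspace
  have hbound : ∀ μ, ((∀ i j, f μ i = f μ j) ∧ D μ = r * f μ i₀) ∨
      ((∃ i j, f μ i ≠ f μ j) ∧ D μ ≤ r * f μ i₀ + (r - 1)) := by
    intro μ
    by_cases hu : ∃ i j, f μ i ≠ f μ j
    · refine Or.inr ⟨hu, ?_⟩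
      have h4 := profile_cases (f := f μ) (hr.two_le.trans hroots.ge) (hexact μ hu) i₀
      rw [hroots, hDf] at h4
      have := hr.two_le
      omega
    · push Not at hu
      exact Or.inl ⟨hu, hdiv μ hu i₀⟩
  set d := finrank F U with hd
  set d1 := finrank F (U ⊓ fixSub ρ g : Submodule F V) with hd1
  -- the eigenvalue one, as a root if `g` fixes a vector
  by_cases h1root : (1 : F) ∈ Polynomial.nthRootsFinset o c₀
  · let w : Roots o c₀ := ⟨1, h1root⟩
    have hdw : D w = d1 := hd1_eq.symm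
    have hrest : ∑ μ ∈ Finset.univ.erase w, f μ i₀ ≤ 1 := by
      have e := Finset.add_sum_erase _ (fun μ => f μ i₀) (Finset.mem_univ w)
      rw [hk_eq, hk1_eq] at hk
      have : f w i₀ = finrank F (End.eigenspace (res ρ U E g') 1 ⊓
          End.eigenspace (res ρ U E a') 1 : Submodule F U) := rfl
      omega
    have hdsum : d1 + ∑ μ ∈ Finset.univ.erase w, D μ = d := by
      rw [← hdw, Finset.add_sum_erase _ D (Finset.mem_univ w)]
      exact hS
    rcases hbound w with ⟨hu, hw⟩ | ⟨hu, -⟩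
    · refine Or.inl ⟨(hdw.symm.trans hw).trans (congrArg (r * ·) hk1_eq.symm), ?_⟩
      by_cases hex : ∃ μ₁ ∈ Finset.univ.erase w, ∃ i j, f μ₁ i ≠ f μ₁ j
      · obtain ⟨μ₁, hμ₁, hne₁⟩ := hex
        have e1 := Finset.add_sum_erase _ D hμ₁
        have e2 := Finset.add_sum_erase _ (fun μ => f μ i₀) hμ₁
        have e3 : ∑ μ ∈ (Finset.univ.erase w).erase μ₁, D μ =
            r * ∑ μ ∈ (Finset.univ.erase w).erase μ₁, f μ i₀ := by
          rw [Finset.mul_sum]
          refine Finset.sum_congr rfl fun μ hμ => ?_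
          rcases hbound μ with ⟨-, h1⟩ | ⟨h1, -⟩
          · exact h1
          · exact absurd (huniq μ μ₁ h1 hne₁) (Finset.ne_of_mem_erase hμ)
        have e4 : D μ₁ ≤ r * f μ₁ i₀ + (r - 1) := by
          rcases hbound μ₁ with ⟨h1, -⟩ | ⟨-, h1⟩
          · obtain ⟨i, j, hij⟩ := hne₁; exact absurd (h1 i j) hij
          · exact h1
        have e5 : r * (f μ₁ i₀ + ∑ μ ∈ (Finset.univ.erase w).erase μ₁, f μ i₀) ≤ r * 1 :=
          Nat.mul_le_mul_left r (e2.le.trans hrest)
        rw [mul_add, mul_one] at e5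
        omega
      · push Not at hex
        have e : ∑ μ ∈ Finset.univ.erase w, D μ = r * ∑ μ ∈ Finset.univ.erase w, f μ i₀ := by
          rw [Finset.mul_sum]
          refine Finset.sum_congr rfl fun μ hμ => hdiv μ (hex μ hμ) i₀
        have e5 := Nat.mul_le_mul_left r hrest
        rw [mul_one] at e5
        omega
    · refine Or.inr ?_
      have e : ∑ μ ∈ Finset.univ.erase w, D μ = r * ∑ μ ∈ Finset.univ.erase w, f μ i₀ := by
        rw [Finset.mul_sum]
        refine Finset.sum_congr rfl fun μ hμ => ?_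
        rcases hbound μ with ⟨-, h1⟩ | ⟨h1, -⟩
        · exact h1
        · exact absurd (huniq μ w h1 hu) (Finset.ne_of_mem_erase hμ)
      rcases Nat.le_one_iff_eq_zero_or_eq_one.mp hrest with h0 | h0 <;> rw [h0] at e
      · right; omega
      · left; omega
  · -- no fixed vectors
    have hbot : End.eigenspace (res ρ U E g') 1 = ⊥ := by
      by_contra hne
      exact h1root (eigen_root ho.pos hgpow hne)
    have hd10 : d1 = 0 := by rw [hd1_eq, hbot, finrank_bot]
    refine Or.inl ⟨?_, ?_⟩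
    · rw [hd10, hk1_eq, hbot, bot_inf_eq, finrank_bot, mul_zero]
    have hk0 : ∑ μ, f μ i₀ ≤ 1 := by
      rw [hk_eq, hk1_eq, hbot, bot_inf_eq, finrank_bot] at hk
      exact hk
    have e4 : ∑ μ, D μ ≤ r * ∑ μ, f μ i₀ + (r - 1) := by
      by_cases hex : ∃ μ₁, ∃ i j, f μ₁ i ≠ f μ₁ j
      · obtain ⟨μ₁, hne₁⟩ := hex
        rw [← Finset.add_sum_erase _ D (Finset.mem_univ μ₁),
          ← Finset.add_sum_erase _ (fun μ => f μ i₀) (Finset.mem_univ μ₁), mul_add,
          Finset.mul_sum]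
        have e3 : ∀ μ ∈ Finset.univ.erase μ₁, D μ = r * f μ i₀ := fun μ hμ => by
          rcases hbound μ with ⟨-, h1⟩ | ⟨h1, -⟩
          · exact h1
          · exact absurd (huniq μ μ₁ h1 hne₁) (Finset.ne_of_mem_erase hμ)
        rw [Finset.sum_congr rfl e3]
        rcases hbound μ₁ with ⟨h1, -⟩ | ⟨-, h1⟩
        · obtain ⟨i, j, hij⟩ := hne₁; exact absurd (h1 i j) hij
        · omega
      · push Not at hex
        rw [Finset.mul_sum, Finset.sum_congr rfl fun μ _ => hdiv μ (hex μ) i₀]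
        omega
    rw [show ∑ μ, D μ = d from hS] at e4
    have e5 := Nat.mul_le_mul_left r hk0
    rw [mul_one] at e5
    omega

end CfsgLib.TurullFit
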