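import Cfsg.Agent.Lib.TurullFit.StructTools

/-!
# Turull's bound for the Fitting height: the structure of the components
-/

set_option autoImplicit false
set_option linter.style.haveILetI false
set_option linter.unusedSectionVars false

open Module
open scoped commutatorElement

namespace CfsgLib.TurullFit

open CfsgLib.FgsC.HallHigman CfsgLib.FgsC.HallHigmanB CfsgLib.FgsC.CoprimeWeights
open Struct

namespace Struct

variable {F : Type*} [Field F] {Γ : Type*} [Group Γ] [Finite Γ] {V : Type*} [AddCommGroup V]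
  [Module F V] {ρ : Representation F Γ V} {s r : ℕ} {X : Subgroup Γ} {a : Γ} {S : Submodule F V}

/-- An invariant subspace is the range of a projection commuting with `X` and `a`. -/
theorem exists_projection (L : Layer ρ s r X a) {W : Submodule F V} (hW : Inv ρ X a W) :
    ∃ π : End F V, π * π = π ∧ LinearMap.range π = W ∧ (∀ x ∈ X, π * ρ x = ρ x * π) ∧
      π * ρ a = ρ a * π := by
  classical
  haveI : Fintype X := Fintype.ofFinite _
  obtain ⟨C, hC⟩ := Submodule.exists_isCompl W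
  set p : End F V := W.subtype.comp (W.projectionOnto C hC) with hp
  have hpW : ∀ v, p v ∈ W := fun v => (W.projectionOnto C hC v).2
  have hpid : ∀ w ∈ W, p w = w := fun w hw =>
    congrArg Subtype.val (Submodule.projectionOnto_apply_left hC ⟨w, hw⟩)
  -- average over `X`
  set P : End F V := (Nat.card X : F)⁻¹ • ∑ x : X, ρ (x : Γ) * p * ρ ((x : Γ)⁻¹) with hP
  have hP' : ∀ v, P v = (Nat.card X : F)⁻¹ • ∑ x : X, ρ (x : Γ) (p (ρ ((x : Γ)⁻¹) v)) :=
    fun v => by rw [hP]; simp [End.mul_apply]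
  have hPW : ∀ v, P v ∈ W := fun v => by
    rw [hP']
    exact W.smul_mem _ (sum_mem fun x _ => hW.1 _ x.2 _ (hpW _))
  have hPid : ∀ w ∈ W, P w = w := fun w hw => by
    rw [hP', Finset.sum_congr rfl fun (x : X) (_ : x ∈ Finset.univ) => (show ρ (x : Γ) (p (ρ ((x : Γ)⁻¹) w)) = w by
      rw [hpid _ (hW.1 _ (inv_mem x.2) w hw), rho_inv_apply]), Finset.sum_const, Finset.card_univ,
      ← Nat.card_eq_fintype_card, ← Nat.cast_smul_eq_nsmul F, smul_smul,
      inv_mul_cancel₀ (card_X_ne_zero L le_rfl), one_smul]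
  have hPX : ∀ y ∈ X, P * ρ y = ρ y * P := by
    intro y hy
    refine LinearMap.ext fun v => ?_
    rw [End.mul_apply, End.mul_apply, hP', hP', map_smul, map_sum]
    congr 1
    refine (Fintype.sum_equiv (Equiv.mulLeft (⟨y, hy⟩ : X)) _ _ fun x => ?_).symm
    simp only [Equiv.coe_mulLeft, Subgroup.coe_mul, rho_mul_apply, mul_inv_rev, mul_assoc,
      inv_mul_cancel, mul_one]
  -- average over the powers of `a`
  set f : ℕ → End F V := fun i => ρ (a ^ i) * P * ρ ((a ^ i)⁻¹) with hf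
  set π : End F V := (r : F)⁻¹ • ∑ i ∈ Finset.range r, f i with hπ
  have hπW : ∀ v, π v ∈ W := fun v => by
    rw [hπ, LinearMap.smul_apply, LinearMap.sum_apply]
    exact W.smul_mem _ (sum_mem fun i _ => rho_pow_mem hW.2 i _ (hPW _))
  have hπid : ∀ w ∈ W, π w = w := fun w hw => by
    rw [hπ, LinearMap.smul_apply, LinearMap.sum_apply, Finset.sum_congr rfl fun (i : ℕ) (_ : i ∈ Finset.range r) =>
      (show f i w = w by
        rw [hf, End.mul_apply, End.mul_apply, hPid _ (rho_inv_mem (rho_pow_mem hW.2 i) w hw),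
          rho_inv_apply]), Finset.sum_const, Finset.card_range, ← Nat.cast_smul_eq_nsmul F,
      smul_smul, inv_mul_cancel₀ L.r_ne_zero, one_smul]
  refine ⟨π, LinearMap.ext fun v => hπid _ (hπW v), le_antisymm ?_ fun w hw => ⟨w, hπid w hw⟩,
    fun y hy => ?_, ?_⟩
  · rintro _ ⟨v, rfl⟩
    exact hπW v
  · rw [hπ, smul_mul_assoc, mul_smul_comm, Finset.sum_mul, Finset.mul_sum]
    congr 1
    refine Finset.sum_congr rfl fun i _ => ?_
    have hy' : (a ^ i)⁻¹ * y * a ^ i ∈ X :=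
      (Subgroup.mem_normalizer_iff''.mp (pow_mem L.mem_normalizer i) y).mp hy
    show ρ (a ^ i) * P * ρ ((a ^ i)⁻¹) * ρ y = ρ y * (ρ (a ^ i) * P * ρ ((a ^ i)⁻¹))
    rw [mul_assoc, ← map_mul,
      show (a ^ i)⁻¹ * y = ((a ^ i)⁻¹ * y * a ^ i) * (a ^ i)⁻¹ by group, map_mul,
      ← mul_assoc, mul_assoc (ρ (a ^ i)), hPX _ hy', ← mul_assoc, ← map_mul,
      show a ^ i * ((a ^ i)⁻¹ * y * a ^ i) = y * a ^ i by group, map_mul]
    simp only [mul_assoc]
  · rw [hπ, smul_mul_assoc, mul_smul_comm, Finset.sum_mul, Finset.mul_sum]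
    congr 1
    have hfr : f r = f 0 := by simp only [hf, L.pow_eq_one, pow_zero]
    have h := Finset.sum_range_succ' f r
    rw [Finset.sum_range_succ, hfr] at h
    have e : ∀ i, ρ a * f i = f (i + 1) * ρ a := fun i => by
      simp only [hf, mul_assoc, ← map_mul]
      rw [← mul_assoc, ← map_mul]
      congr 2
      · rw [← pow_succ']
      · rw [pow_succ, mul_inv_rev]
        congr 1
        group
    rw [Finset.sum_congr rfl (fun i (_ : i ∈ Finset.range r) => e i), ← Finset.sum_mul,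
      ← Finset.sum_mul, ← add_right_cancel h]

theorem exists_scalar_a [IsAlgClosed F] [FiniteDimensional F V] (hS : Comp ρ X a S)
    (hnc : ¬ Noncentral ρ X a S) : ∃ c : F, ∀ v ∈ S, ρ a v = c • v := by
  unfold Noncentral at hnc
  push Not at hnc
  haveI : Nontrivial S := Submodule.nontrivial_iff_ne_bot.mpr hS.1
  obtain ⟨c, hc⟩ := End.exists_eigenvalue ((ρ a).restrict hS.2.1.2)
  obtain ⟨u, hu, hu0⟩ := Submodule.exists_mem_ne_zero_of_ne_bot hc
  have hW : S ⊓ End.eigenspace (ρ a) c ≠ ⊥ := fun h => by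
    have hm : (u : V) ∈ S ⊓ End.eigenspace (ρ a) c := ⟨u.2, End.mem_eigenspace_iff.mpr
      (congrArg Subtype.val (End.mem_eigenspace_iff.mp hu))⟩
    rw [h, Submodule.mem_bot] at hm
    exact hu0 (Subtype.ext hm)
  refine ⟨c, fun v hv => End.mem_eigenspace_iff.mp
    ((hS.2.2 _ inf_le_left hW ⟨fun x hx w hw => ⟨hS.2.1.1 x hx w hw.1, ?_⟩,
      fun w hw => ⟨hS.2.1.2 w hw.1, ?_⟩⟩).symm ▸ hv : v ∈ S ⊓ End.eigenspace (ρ a) c).2⟩
  · have h1 := End.mem_eigenspace_iff.mp hw.2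
    rw [SetLike.mem_coe, End.mem_eigenspace_iff, rho_mul_apply, show a * x = a * x * a⁻¹ * a by group,
      ← rho_mul_apply, hnc x hx _ (hS.2.1.2 w hw.1), h1, map_smul]
  · have h1 := End.mem_eigenspace_iff.mp hw.2
    rw [SetLike.mem_coe, End.mem_eigenspace_iff, h1, map_smul, h1]

theorem eq_of_stable [IsAlgClosed F] [FiniteDimensional F V] (hS : Comp ρ X a S)
    (hnc : ¬ Noncentral ρ X a S) {W : Submodule F V} (hW : W ≤ S) (hW0 : W ≠ ⊥)
    (hWX : StableUnder ρ X W) : W = S := by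
  obtain ⟨c, hc⟩ := exists_scalar_a hS hnc
  exact hS.2.2 W hW hW0 ⟨hWX, fun w hw => by rw [hc w (hW hw)]; exact W.smul_mem c hw⟩

/-- The elements of `X` central on a stable subspace. -/
def centerSub (hS : StableUnder ρ X S) : Subgroup Γ where
  carrier := {x | CenterOn ρ X S x}
  mul_mem' := fun ⟨hx, hx'⟩ ⟨hy, hy'⟩ => ⟨mul_mem hx hy, fun z hz =>
    commOn_symm (commOn_mul (commOn_symm (hx' z hz)) (commOn_symm (hy' z hz)) (hS _ hy))⟩
  one_mem' := ⟨one_mem _, fun z _ => commOn_of_commute (by rw [one_mul, mul_one])⟩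
  inv_mem' := fun ⟨hx, hx'⟩ => ⟨inv_mem hx, fun z hz =>
    commOn_symm (commOn_inv (commOn_symm (hx' z hz)) (hS _ (inv_mem hx)))⟩

theorem centerOn_conj (L : Layer ρ s r X a) (hS : Inv ρ X a S) {x : Γ}
    (hx : CenterOn ρ X S x) : CenterOn ρ X S (a * x * a⁻¹) := by
  refine ⟨conj_a_mem L hx.1, fun y hy v hv => ?_⟩
  have hy' : a⁻¹ * y * a ∈ X := (Subgroup.mem_normalizer_iff''.mp L.mem_normalizer y).mp hy
  have h := congrArg (ρ a) (hx.2 _ hy' _ (rho_inv_mem hS.2 v hv))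
  rw [rho_mul_apply, rho_mul_apply, rho_mul_apply, rho_mul_apply] at h
  rw [show a * x * a⁻¹ * y = a * (x * (a⁻¹ * y * a)) * a⁻¹ by group,
    show y * (a * x * a⁻¹) = a * (a⁻¹ * y * a * x) * a⁻¹ by group]
  exact h

/-- The elements of a group scalar on its fixed points are fixed point free modulo scalars. -/
theorem fpf_of_fixed (L : Layer ρ s r X a) {U : Submodule F V} (hU : ∀ v ∈ U, ρ a v ∈ U)
    (h : ∀ c ∈ X, a * c = c * a → IsScalarOn ρ U c) {x : Γ} (hx : x ∈ X)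
    (hfix : IsScalarOn ρ U (x⁻¹ * (a * x * a⁻¹))) : IsScalarOn ρ U x := by
  haveI := Fact.mk L.prime_r
  haveI := Fact.mk L.prime_s
  have ha : a ∈ Subgroup.normalizer (scalSub ρ X U : Set Γ) :=
    Subgroup.mem_normalizer_fintype fun n hn =>
      ⟨conj_a_mem L hn.1, scal_conj hn.2 (rho_inv_mem hU)⟩
  obtain ⟨c, hca, hxc⟩ := exists_fixed_in_coset (p := r) (q := s) L.s_ne_r.symm L.isPGroup
    (M := scalSub ρ X U) (fun _ h => h.1) (orderOf_a L) ha (k := x)
    ⟨mul_mem (inv_mem hx) (conj_a_mem L hx), hfix⟩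
  have hcX : c ∈ X := by
    have h1 := mul_mem hx hxc.1
    rwa [mul_inv_cancel_left] at h1
  have h2 := scal_mul (h c hcX hca.eq.symm) (scal_inv hxc.2)
  rwa [show c * (x⁻¹ * c)⁻¹ = x by group] at h2

end Struct

universe u

theorem semisimple : StmtSemisimple.{u} := by
  intro F _ Γ V _ _ _ _ _ ρ s r X a L
  have h1 : ∀ W : Submodule F V, Inv ρ X a W → ∃ W', Inv ρ X a W' ∧ IsCompl W W' := by
    intro W hW
    obtain ⟨π, hππ, hπW, hπX, hπa⟩ := exists_projection L hW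
    have hid : ∀ w ∈ W, π w = w := by
      intro w hw
      rw [← hπW] at hw
      obtain ⟨v, rfl⟩ := hw
      exact LinearMap.congr_fun hππ v
    refine ⟨LinearMap.ker π, ⟨fun x hx v hv => ?_, fun v hv => ?_⟩, ?_, ?_⟩
    · rw [LinearMap.mem_ker] at hv ⊢
      rw [← End.mul_apply, hπX x hx, End.mul_apply, hv, map_zero]
    · rw [LinearMap.mem_ker] at hv ⊢
      rw [← End.mul_apply, hπa, End.mul_apply, hv, map_zero]
    · rw [Submodule.disjoint_def]
      intro w hw hk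
      rw [← hid w hw]
      exact hk
    · rw [codisjoint_iff, eq_top_iff]
      intro v _
      rw [show v = π v + (v - π v) by abel]
      refine Submodule.add_mem_sup (hπW ▸ ⟨v, rfl⟩) ?_
      rw [LinearMap.mem_ker, map_sub, ← End.mul_apply, hππ, sub_self]
  refine ⟨h1, ?_⟩
  set T := sSup {S | Comp ρ X a S} with hT
  have hTinv : Inv ρ X a T := by
    refine ⟨fun x hx => ?_, ?_⟩
    · exact (sSup_le fun S hS v hv => le_sSup (s := {S | Comp ρ X a S}) hS (hS.2.1.1 x hx v hv) :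
        T ≤ T.comap (ρ x))
    · exact (sSup_le fun S hS v hv => le_sSup (s := {S | Comp ρ X a S}) hS (hS.2.1.2 v hv) :
        T ≤ T.comap (ρ a))
  obtain ⟨W', hW', hc⟩ := h1 T hTinv
  by_contra hne
  have hW'0 : W' ≠ ⊥ := fun h => hne (eq_top_of_isCompl_bot (h ▸ hc))
  obtain ⟨S, ⟨hS0, hSW, hSi⟩, hmin⟩ := wellFounded_lt.has_min
    {W : Submodule F V | W ≠ ⊥ ∧ W ≤ W' ∧ Inv ρ X a W} ⟨W', hW'0, le_rfl, hW'⟩
  have hS : Comp ρ X a S := ⟨hS0, hSi, fun W hW hW0 hWi =>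
    (eq_or_lt_of_le hW).resolve_right (hmin W ⟨hW0, hW.trans hSW, hWi⟩)⟩
  exact hS0 (le_bot_iff.mp ((le_inf (le_sSup (s := {S | Comp ρ X a S}) hS) hSW).trans
    hc.disjoint.le_bot))

theorem fixedCommute : StmtFixedCommute.{u} := by
  intro F _ _ Γ V _ _ _ _ _ ρ s r X a S L hS hfix x hx hxa
  exact fixed_commute L hS.2.1 hfix hx hxa

theorem uniformFixer : StmtUniformFixer.{u} := by
  intro F _ _ Γ V _ _ _ _ _ ρ s r X a S W L hS h hWS hW0 hWX x hx hxW
  rcases h with hfix | hnc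
  · have hxc : CenterOn ρ X S x := by
      refine ⟨hx, fun y hy => commOn_up L hS.2.1.1 hfix hWS hW0 le_rfl hWX hx hy ?_⟩
      refine commOn_iff.2 fun v hv => ?_
      rw [hxW _ (hWX y hy v hv), hxW v hv]
    obtain ⟨c, hc⟩ := hfix x hxc
    obtain ⟨w, hw, hw0⟩ := Submodule.exists_mem_ne_zero_of_ne_bot hW0
    have h1 := hxW w hw
    rw [hc w (hWS hw)] at h1
    have hc1 : c = 1 := smul_left_injective F hw0 (show c • w = (1 : F) • w by rw [h1, one_smul])
    exact fun v hv => by rw [hc v hv, hc1, one_smul]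
  · rwa [eq_of_stable hS hnc hWS hW0 hWX] at hxW

theorem movedFix : StmtMovedFix.{u} := by
  intro F _ _ Γ V _ _ _ _ _ ρ s r X a S L hS hfix
  unfold FixedType at hfix
  push Not at hfix
  obtain ⟨x, hx, hxs⟩ := hfix
  set A := centerSub (ρ := ρ) hS.2.1.1 with hA
  have hab : ∀ b ∈ A, ∀ b' ∈ A, ∀ v ∈ S, ρ b (ρ b' v) = ρ b' (ρ b v) :=
    fun b hb b' hb' => commOn_iff.1 ((show CenterOn ρ X S b from hb).2 b' hb'.1)
  haveI : Nontrivial S := Submodule.nontrivial_iff_ne_bot.mpr hS.1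
  let σ : Representation F A S :=
    { toFun := fun b => (ρ (b : Γ)).restrict (hS.2.1.1 _ b.2.1)
      map_one' := LinearMap.ext fun w => Subtype.ext (by simp)
      map_mul' := fun g h => LinearMap.ext fun w => Subtype.ext (by simp) }
  obtain ⟨χ', hχ'⟩ := exists_weight (ρ := σ) (⊤ : Subgroup A) fun b _ b' _ =>
    LinearMap.ext fun w => Subtype.ext (hab b b.2 b' b'.2 w w.2)
  obtain ⟨w₀, hw₀, hw₀0⟩ := Submodule.exists_mem_ne_zero_of_ne_bot hχ'
  classical
  set χ : Γ → F := fun g => if hg : g ∈ A then χ' ⟨g, hg⟩ else 0 with hχ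
  set v : V := (w₀ : V) with hv
  have hvA : v ∈ wspace ρ A χ := fun b hb => by
    simp only [hχ, dif_pos hb]
    exact congrArg Subtype.val (hw₀ ⟨b, hb⟩ (Subgroup.mem_top _))
  have hv0 : v ≠ 0 := fun h => hw₀0 (Subtype.ext h)
  have hvS : v ∈ S := w₀.2
  set W := S ⊓ wspace ρ A χ with hW
  have hW0 : W ≠ ⊥ := Submodule.ne_bot_iff _ |>.mpr ⟨v, ⟨hvS, hvA⟩, hv0⟩
  have hWX : StableUnder ρ X W := fun y hy w hw => ⟨hS.2.1.1 y hy w hw.1, fun b hb => by
    rw [commOn_iff.1 ((show CenterOn ρ X S b from hb).2 y hy) w hw.1, hw.2 b hb, map_smul]⟩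
  have hWS : W ≠ S := fun h => by
    obtain ⟨u, hu, hxu⟩ : ∃ u ∈ S, ρ x u ≠ χ x • u := by
      by_contra hh
      push Not at hh
      exact hxs ⟨_, hh⟩
    exact hxu ((h.symm ▸ hu : u ∈ W).2 x hx)
  have hnc : Noncentral ρ X a S := by
    by_contra h
    exact hWS (eq_of_stable hS h inf_le_left hW0 hWX)
  have ha : a ∈ Subgroup.normalizer (A : Set Γ) :=
    Subgroup.mem_normalizer_fintype fun n hn => centerOn_conj L hS.2.1 hn
  have hmove : ¬ Fixes A χ a := fun h => by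
    refine hWS (hS.2.2 W inf_le_left hW0 ⟨hWX, fun w hw => ⟨hS.2.1.2 w hw.1, fun b hb => ?_⟩⟩)
    rw [rho_mem_wspace' hw.2 ha b hb]
    exact congrArg (· • ρ a w) (h b hb)
  refine ⟨hS, hnc, Submodule.ne_bot_iff _ |>.mpr ⟨normEnd ρ a r v, ⟨?_, ?_⟩, fun h0 => ?_⟩⟩
  · rw [normEnd_apply]
    exact sum_mem fun i _ => rho_pow_mem hS.2.1.2 i v hvS
  · rw [SetLike.mem_coe, mem_fixSub, ← End.mul_apply]
    have h := pow_mul_normEnd (ρ := ρ) L.pow_eq_one 1
    rw [pow_one] at h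
    rw [h]
  · have hli := Fintype.linearIndependent_iff.mp
      (translates_li L.prime_r ha L.pow_eq_one hmove hvA hv0) (fun _ => 1) (by
        simpa [normEnd_apply] using h0) ⟨0, L.prime_r.pos⟩
    exact one_ne_zero hli

theorem fixedPiece : StmtFixedPiece.{u} := by
  intro F _ _ Γ V _ _ _ _ _ ρ s r X a S U L hS hnc hfix hUS hU
  set E := ⁅X, Subgroup.zpowers a⁆ with hE
  have hscal : ∀ x ∈ E, (∀ y ∈ E, CommOn ρ U x y) → IsScalarOn ρ U x := fun x hx h => by
    obtain ⟨c, hc⟩ := scal_of_commOn L hS.2.1 hfix hUS hU.1 hU.2.1.1 hx h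
    exact ⟨c, fun v hv => hc v (hUS hv)⟩
  have hns : ∃ x ∈ E, ¬ IsScalarOn ρ U x := by
    by_contra hall
    push Not at hall
    have hES : E ≤ fixer ρ S := by
      rw [hE, ← Coprime.commutator_commutator_eq (Subgroup.zpowers_le.2 L.mem_normalizer)
        (coprime_a L) (Or.inl (solvable_zpowers L)), Subgroup.commutator_le]
      intro e he g hg
      obtain ⟨n, rfl⟩ := mem_powers_iff_mem_zpowers.2 hg
      obtain ⟨c, hc⟩ := scal_up L hS.2.1 hfix hUS hU.1 hU.2.1.1 he (hall e he)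
      intro v hv
      have hn : ∀ w ∈ S, ρ (a ^ n) w ∈ S := rho_pow_mem hS.2.1.2 n
      have he' : ρ e⁻¹ (ρ (a ^ n)⁻¹ v) ∈ S :=
        hS.2.1.1 _ (inv_mem (E_le L he)) _ (rho_inv_mem hn v hv)
      rw [commutatorElement_def, map_mul, map_mul, map_mul, End.mul_apply, End.mul_apply,
        End.mul_apply]
      rw [show ρ (a ^ n) (ρ e⁻¹ (ρ (a ^ n)⁻¹ v)) = ρ e⁻¹ v from ?_, rho_inv_apply]
      have hd : ∀ w ∈ S, ρ e⁻¹ w = c⁻¹ • w := fun w hw => by
        obtain ⟨d, hd⟩ := scal_inv ⟨c, hc⟩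
        rcases eq_or_ne w 0 with rfl | hw0
        · simp
        have h1 := rho_inv_apply (ρ := ρ) e w
        rw [hd w hw, map_smul, hc w hw, smul_smul] at h1
        have h2 : d * c = 1 := smul_left_injective F hw0
          (show (d * c) • w = (1 : F) • w by rw [h1, one_smul])
        rw [hd w hw, eq_inv_of_mul_eq_one_left h2]
      rw [hd _ (rho_inv_mem hn v hv), map_smul, rho_inv_apply, hd v hv]
    obtain ⟨x, hx, v, hv, hne⟩ := hnc
    refine hne ?_
    have h1 : ⁅a, x⁆ ∈ E := by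
      rw [hE, Subgroup.commutator_comm]
      exact Subgroup.commutator_mem_commutator (Subgroup.mem_zpowers a) hx
    rw [show a * x * a⁻¹ = ⁅a, x⁆ * x by rw [commutatorElement_def]; group, map_mul,
      End.mul_apply, hES h1 _ (hS.2.1.1 x hx v hv)]
  refine ⟨layer_E L, hU.1, hU.2.1, ?_, hscal, hns, fun x hx hx' =>
    fpf_of_fixed (layer_E L) hU.2.1.2 (fun c hc hca => hscal c hc fun y hy =>
      commOn_mono (fixed_commute L hS.2.1 hfix (E_le L hc) hca y hy) hUS) hx hx'⟩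
  -- irreducibility
  set H := stabSub ρ U with hH
  have hmem : ∀ g : Γ, (∀ v ∈ U, ρ g v ∈ U) → g ∈ H := fun g hg v =>
    ⟨fun h => by simpa [rho_apply_inv] using rho_inv_mem hg _ h, hg v⟩
  have hEH : E ≤ H := fun e he => hmem e (hU.2.1.1 e he)
  set σ := restrictRep ρ U with hσ
  set Q := E.subgroupOf H with hQ
  set α : H := ⟨a, hmem a hU.2.1.2⟩ with hα
  have hαQ : α ∈ Subgroup.normalizer (Q : Set H) := Subgroup.mem_normalizer_iff.mpr fun k =>
    (Subgroup.mem_normalizer_iff.mp (a_norm_E L) (k : Γ))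
  haveI : Nontrivial U := Submodule.nontrivial_iff_ne_bot.mpr hU.1
  obtain ⟨W₀, ⟨hW₀, hW₀i⟩, hmin⟩ := wellFounded_lt.has_min
    {W : Submodule F U | W ≠ ⊥ ∧ IsInv σ Q W}
    ⟨⊤, top_ne_bot, fun _ _ _ _ => Submodule.mem_top⟩
  set W₁ := W₀.map U.subtype with hW₁
  have hW₁U : W₁ ≤ U := Submodule.map_subtype_le _ _
  have hW₁0 : W₁ ≠ ⊥ := fun h => hW₀ (Submodule.map_injective_of_injective U.injective_subtype
    (by rw [← hW₁, h, Submodule.map_bot]))
  have hW₁E : StableUnder ρ E W₁ := by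
    rintro k hk _ ⟨w, hw, rfl⟩
    exact ⟨σ ⟨k, hEH hk⟩ w, hW₀i _ hk w hw, rfl⟩
  have hgood : IsGood σ Q W₀ := by
    refine ⟨hW₀, hW₀i, fun W hW hWi => (em (W = ⊥)).imp_right fun hW' =>
      (eq_or_lt_of_le hW).resolve_right (hmin W ⟨hW', hWi⟩), ?_⟩
    by_contra hall
    push Not at hall
    obtain ⟨x, hx, hxn⟩ := hns
    obtain ⟨c, hc⟩ := scal_up L hS.2.1 hfix (hW₁U.trans hUS) hW₁0 hW₁E hx ⟨1, by
      rintro _ ⟨w, hw, rfl⟩
      rw [one_smul]
      exact congrArg Subtype.val (hall ⟨x, hEH hx⟩ hx w hw)⟩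
    exact hxn ⟨c, fun v hv => hc v (hUS hv)⟩
  have hstab : IsStable σ Q W₀ α := by
    set W₂ := W₁.map (ρ a⁻¹) with hW₂
    have hW₂S : W₂ ≤ S := by
      rintro _ ⟨w, hw, rfl⟩
      exact rho_inv_mem hS.2.1.2 w (hUS (hW₁U hw))
    have hW₂0 : W₂ ≠ ⊥ := by
      obtain ⟨w, hw, hw0⟩ := Submodule.exists_mem_ne_zero_of_ne_bot hW₁0
      exact Submodule.ne_bot_iff _ |>.mpr ⟨_, Submodule.mem_map_of_mem hw, rho_ne_zero hw0⟩
    have hW₂E : StableUnder ρ E W₂ := by
      rintro k hk _ ⟨w, hw, rfl⟩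
      refine ⟨ρ (a * k * a⁻¹) w,
        hW₁E _ ((Subgroup.mem_normalizer_iff.mp (a_norm_E L) k).mp hk) w hw, ?_⟩
      simp only [rho_mul_apply]
      congr 2
      group
    obtain ⟨T', hT'W, ⟨w₁, hw₁, hw₁0⟩, hT'k⟩ :=
      exists_intertwiner L hS.2.1 hfix (hW₁U.trans hUS) hW₂S hW₁0 hW₂0 hW₂E
    have hTW : ∀ w, ρ a (T' w) ∈ W₁ := fun w => by
      obtain ⟨w', hw', he⟩ := hT'W w
      rw [← he, rho_inv_apply]
      exact hw'
    refine ⟨(ρ a * T').restrict (fun v _ => hW₁U (hTW v)), fun w hw => ?_, ?_, fun k hk w hw => ?_⟩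
    · obtain ⟨w', hw', he⟩ := hTW (w : V)
      rw [show (ρ a * T').restrict (fun v _ => hW₁U (hTW v)) w = w' from Subtype.ext he.symm]
      exact hw'
    · obtain ⟨w, hw, rfl⟩ := hw₁
      exact ⟨w, hw, fun h => rho_ne_zero hw₁0 (congrArg Subtype.val h)⟩
    · apply Subtype.ext
      show ρ a (T' (ρ (k : Γ) (w : V))) = ρ (a * (k : Γ) * a⁻¹) (ρ a (T' (w : V)))
      rw [hT'k (k : Γ) hk, rho_mul_apply, rho_mul_apply]
      congr 2
      group
  obtain ⟨W, hWg, hWa⟩ :=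
    CfsgLib.FgsC.PrimePower.exists_invariant_of_stable hgood hαQ hstab
  have hWU : W.map U.subtype = U := by
    refine hU.2.2 _ (Submodule.map_subtype_le _ _) ?_ ⟨?_, ?_⟩
    · exact fun h => hWg.ne_bot (Submodule.map_injective_of_injective U.injective_subtype
        (by rw [h, Submodule.map_bot]))
    · rintro k hk _ ⟨w, hw, rfl⟩
      exact ⟨σ ⟨k, hEH hk⟩ w, hWg.inv _ hk w hw, rfl⟩
    · rintro _ ⟨w, hw, rfl⟩
      exact ⟨σ α w, hWa w hw, rfl⟩
  have hWtop : W = ⊤ := Submodule.map_injective_of_injective U.injective_subtype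
    (by rw [hWU, Submodule.map_top, Submodule.range_subtype])
  intro W' hW' hW'E
  rcases hWg.minimal (W'.comap U.subtype) (hWtop ▸ le_top) (fun k hk w hw =>
    hW'E (k : Γ) hk _ hw) with h | h
  · left
    rw [← inf_eq_right.mpr hW', ← Submodule.map_comap_subtype, h, Submodule.map_bot]
  · right
    rw [← inf_eq_right.mpr hW', ← Submodule.map_comap_subtype, h, hWtop, Submodule.map_top,
      Submodule.range_subtype]

theorem fixedIrr : StmtFixedIrr.{u} := by
  intro F _ _ Γ V _ _ _ _ _ ρ s r X a S L hC hS hnc hfix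
  set E := ⁅X, Subgroup.zpowers a⁆ with hE
  have hsc : ∀ c ∈ X, a * c = c * a → IsScalarOn ρ S c := fun c hc hca =>
    hfix c ⟨hc, fun y hy v _ => LinearMap.congr_fun (hC c hc hca y hy) v⟩
  have hup : ∀ W ≤ S, StableUnder ρ E W → StableUnder ρ X W := by
    intro W hW hWE x hx w hw
    obtain ⟨c, hc, hca, hxc⟩ := exists_split L hx
    obtain ⟨d, hd⟩ := hsc c hc hca
    rw [show x = x * c⁻¹ * c by group, map_mul, End.mul_apply, hd w (hW hw)]
    exact hWE _ hxc _ (W.smul_mem d hw)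
  have hSE : Comp ρ E a S := ⟨hS.1, ⟨fun x hx => hS.2.1.1 x (E_le L hx), hS.2.1.2⟩,
    fun W hW hW0 hWi => hS.2.2 W hW hW0 ⟨hup W hW hWi.1, hWi.2⟩⟩
  have hH := fixedPiece F Γ V ρ s r X a S S L hS hnc hfix le_rfl hSE
  refine ⟨L, hS.1, hS.2.1, fun W hW hWX => hH.irred W hW fun x hx => hWX x (E_le L hx),
    fun x hx h => hfix x ⟨hx, h⟩, ?_, fun x hx => fpf_of_fixed L hS.2.1.2 hsc hx⟩
  obtain ⟨x, hx, h⟩ := hH.nonscalar
  exact ⟨x, E_le L hx, h⟩

end CfsgLib.TurullFit
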