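import Cfsg.Agent.Lib.TurullFit.Count
import Cfsg.Agent.Lib.TurullFit.Struct

/-!
# The exceptional components

On an exceptional component the centre is scalar, `s = 2`, `r = 2 ^ m + 1`, and `X` modulo the
centre is generated by the fixed points of `a` and a piece of size `4 ^ m`.
-/

set_option autoImplicit false
set_option linter.style.haveILetI false

open Module
open scoped commutatorElement

namespace CfsgLib.TurullFit

universe u

open Struct in
theorem excFacts : StmtExcFacts.{u} := by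
  classical
  intro F _ _ Γ V _ _ _ _ _ ρ s r X a S L hexc hpow
  obtain ⟨hS, hnc, hbot⟩ := hexc
  have hfix : FixedType ρ X S := by
    by_contra hf
    exact (movedFix F Γ V ρ s r X a S L hS hf).2.2 hbot
  set E := ⁅X, Subgroup.zpowers a⁆ with hE
  -- a piece
  obtain ⟨U, ⟨hU0, hUS, hUi⟩, hmin⟩ := wellFounded_lt.has_min
    {W : Submodule F V | W ≠ ⊥ ∧ W ≤ S ∧ Inv ρ E a W}
    ⟨S, hS.1, le_rfl, fun x hx => hS.2.1.1 x (E_le L hx), hS.2.1.2⟩
  have hU : Comp ρ E a U := ⟨hU0, hUi, fun W hW hW0 hWi =>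
    (eq_or_lt_of_le hW).resolve_right (hmin W ⟨hW0, hW.trans hUS, hWi⟩)⟩
  have hH := fixedPiece F Γ V ρ s r X a S U L hS hnc hfix hUS hU
  obtain ⟨⟨b, hb, hdim⟩, -, hexc', hrel⟩ := count F Γ V ρ s r E a U hH
  obtain ⟨hs2, hdr⟩ := hexc' (le_bot_iff.mp (hbot ▸ inf_le_inf_right _ hUS))
  subst hs2
  obtain ⟨v₀, hv₀, hv₀0⟩ := Submodule.exists_mem_ne_zero_of_ne_bot hS.1
  refine ⟨rfl, hfix, fun x hx y hy => ?_, b, hb, by rw [← hdr, hdim], fun R hR => ?_⟩
  · obtain ⟨c, hc⟩ := hfix _ (centerOn_comm L hS.2.1.1 hx hy)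
    have hx2 : x ^ 2 ∈ X := pow_mem hx 2
    have hxy : ⁅x, y⁆ ∈ X := (centerOn_comm L hS.2.1.1 hx hy).1
    have h1 := (commOn_iff_fix hS.2.1.1 hx2 hy).1 ((hpow x hx).2 y hy) v₀ hv₀
    have h2 : ⁅x ^ 2, y⁆ = x * ⁅x, y⁆ * x⁻¹ * ⁅x, y⁆ := by
      simp only [commutatorElement_def, pow_two]; group
    rw [h2, map_mul, End.mul_apply, hc v₀ hv₀, map_smul, map_mul, map_mul, End.mul_apply,
      End.mul_apply, hc _ (hS.2.1.1 _ (inv_mem hx) v₀ hv₀), map_smul,
      FgsC.HallHigman.rho_inv_apply, smul_smul] at h1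
    rcases mul_self_eq_one_iff.mp
      (smul_left_injective F hv₀0 (h1.trans (one_smul F v₀).symm)) with h | h
    · exact Or.inl fun v hv => by rw [hc v hv, h, one_smul]
    · exact Or.inr fun v hv => by rw [hc v hv, h, neg_one_smul]
  -- the index
  set Y := (X ⊓ Subgroup.centralizer {a}) ⊔ R with hY
  have hRX : R ≤ X := fun x hx => ((hR x).mp hx).1
  have hYX : Y ≤ X := sup_le inf_le_left hRX
  let K : Subgroup Γ :=
    { carrier := {x | x ∈ X ∧ ∀ e ∈ E, CommOn ρ S e x}
      mul_mem' := fun ⟨hy, hy'⟩ ⟨hz, hz'⟩ => ⟨mul_mem hy hz, fun e he =>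
        commOn_mul (hy' e he) (hz' e he) (hS.2.1.1 _ hz)⟩
      one_mem' := ⟨one_mem _, fun e _ => commOn_of_commute (by rw [one_mul, mul_one])⟩
      inv_mem' := fun ⟨hy, hy'⟩ => ⟨inv_mem hy, fun e he =>
        commOn_inv (hy' e he) (hS.2.1.1 _ (inv_mem hy))⟩ }
  have hYK : Y ≤ K := by
    refine sup_le (fun c hc => ⟨hc.1, fun e he => ?_⟩) (fun c hc => ⟨hRX hc, fun e he => ?_⟩)
    · exact commOn_symm (fixed_commute L hS.2.1 hfix hc.1
        (Subgroup.mem_centralizer_singleton_iff.mp hc.2).symm e he)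
    · exact commOn_symm (((hR c).mp hc).2 e (E_le L he))
  have hmem : ∀ x, x ∈ Y ⊓ E ↔ x ∈ E ∧ IsScalarOn ρ U x := by
    intro x
    constructor
    · rintro ⟨hxY, hxE⟩
      exact ⟨hxE, hH.scalar x hxE fun e he =>
        commOn_mono (commOn_symm ((hYK hxY).2 e he)) hUS⟩
    · rintro ⟨hxE, hxs⟩
      refine ⟨Subgroup.mem_sup_right ((hR x).mpr ⟨E_le L hxE, fun y hy => ?_⟩), hxE⟩
      exact commOn_of_scal (scal_up L hS.2.1 hfix hUS hU0 hUi.1 hxE hxs) (hS.2.1.1 y hy)
  have hidx : Y.relIndex X = 4 ^ b := by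
    have h1 := hrel (Y ⊓ E) hmem
    rw [Subgroup.inf_relIndex_right] at h1
    rw [show (4 : ℕ) ^ b = 2 ^ b * 2 ^ b by rw [← mul_pow]; norm_num, ← hdim, ← h1]
    symm
    refine Nat.card_congr (Equiv.ofBijective (Quotient.map'
      (fun e : E => (⟨(e : Γ), E_le L e.2⟩ : X)) ?_) ⟨?_, ?_⟩)
    · intro e e' h
      rw [QuotientGroup.leftRel_apply, Subgroup.mem_subgroupOf] at h ⊢
      exact h
    · intro e e'
      induction e using Quotient.inductionOn' with
      | h e =>
        induction e' using Quotient.inductionOn' with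
        | h e' =>
          intro h
          rw [Quotient.map'_mk'', Quotient.map'_mk''] at h
          refine Quotient.sound' ?_
          have h' := Quotient.exact' h
          rw [QuotientGroup.leftRel_apply, Subgroup.mem_subgroupOf] at h' ⊢
          exact h'
    · intro q
      induction q using Quotient.inductionOn' with
      | h x =>
        obtain ⟨c, hc, hca, hxc⟩ := exists_split L x.2
        have hcY : c ∈ Y := Subgroup.mem_sup_left
          ⟨hc, Subgroup.mem_centralizer_singleton_iff.mpr hca.symm⟩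
        refine ⟨Quotient.mk'' ⟨(x : Γ) * c⁻¹, hxc⟩, ?_⟩
        rw [Quotient.map'_mk'']
        refine Quotient.sound' ?_
        rw [QuotientGroup.leftRel_apply, Subgroup.mem_subgroupOf]
        simpa [mul_assoc] using hcY
  rw [← hidx, mul_comm, Subgroup.relIndex_mul_relIndex R Y X le_sup_right hYX]

end CfsgLib.TurullFit
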