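import Cfsg.Agent.Lib.TurullFit.Stmts
import Cfsg.Agent.Lib.TurullFit.CountSetup

/-!
# The fixed space of an element moving `E` modulo scalars

The fixed space `W` of `g` meets `ρ x W` inside the fixed space of `⁅g, x⁆` and of its conjugate
under `g`; for `g` of odd order modulo scalars `x` can be chosen so that these do not commute.
-/

set_option autoImplicit false
set_option linter.style.haveILetI false

open Module
open scoped commutatorElement

namespace CfsgLib.TurullFit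

open CountSetup

universe u

namespace CountHalf

open CfsgLib.FgsC.HallHigman

variable {F : Type} [Field F] [IsAlgClosed F] {Γ V : Type u} [Group Γ] [Finite Γ] [AddCommGroup V]
  [Module F V] [FiniteDimensional F V] {ρ : Representation F Γ V} {U : Submodule F V}
  {E : Subgroup Γ} {s r : ℕ} {a : Γ}

omit [IsAlgClosed F] [Finite Γ] [FiniteDimensional F V] in
theorem exists_noncommute (h : Heis ρ s r E a U) {e : ↥(nGrp ρ U E)} (he : e ∈ eSub ρ U E)
    (hens : ¬ IsScalar (res ρ U E) e) (hle : E ≤ nGrp ρ U E) :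
    ∃ y ∈ eSub ρ U E, res ρ U E y * res ρ U E e ≠ res ρ U E e * res ρ U E y := by
  by_contra hall
  push Not at hall
  refine hens (isScalar_iff.mpr (h.scalar _ he fun y hy v hv => ?_))
  have h1 := congrArg Subtype.val (LinearMap.congr_fun (hall ⟨y, hle hy⟩ hy) ⟨v, hv⟩)
  rw [map_mul, map_mul]
  exact h1.symm

omit [IsAlgClosed F] [Finite Γ] [FiniteDimensional F V] in
/-- The commutator scalar. -/
theorem exists_bc (h : Heis ρ s r E a U) {k l : ↥(nGrp ρ U E)} (hk : k ∈ eSub ρ U E)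
    (hl : l ∈ eSub ρ U E) :
    ∃ c : F, res ρ U E k * res ρ U E l = c • (res ρ U E l * res ρ U E k) := by
  obtain ⟨c, hc⟩ := isScalar_commutator h k hk l hl
  refine ⟨c, ?_⟩
  rw [← map_mul, ← map_mul, show k * l = ⁅k, l⁆ * (l * k) by rw [commutatorElement_def]; group,
    map_mul, hc, smul_mul_assoc, one_mul]

/-- The fixed space of a nonscalar element of `E` has dimension at most `d / s`. -/
theorem fix_nonscalar_le (h : Heis ρ s r E a U) {e : ↥(nGrp ρ U E)} (he : e ∈ eSub ρ U E)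
    (hens : ¬ IsScalar (res ρ U E) e) :
    s * finrank F (End.eigenspace (res ρ U E e) 1) ≤ finrank F U := by
  classical
  haveI := nontrivial_piece h
  obtain ⟨y, hy, hne⟩ := exists_noncommute h he hens (le_nGrp h)
  obtain ⟨c, hc⟩ := exists_bc h hy he
  have hs := h.layer.prime_s
  obtain ⟨j, hj⟩ := isPGroup_eSub h ⟨e, he⟩
  have hej : res ρ U E e ^ s ^ j = (1 : F) • (1 : End F U) := by
    rw [← map_pow, one_smul, show e ^ s ^ j = 1 by simpa using congrArg Subtype.val hj, map_one]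
  obtain ⟨i, hi⟩ := isPGroup_eSub h ⟨y, hy⟩
  have hc0 : c ≠ 0 := fun h0 => by
    rw [h0, zero_smul, ← map_mul] at hc
    exact rho_mul_left_ne_zero _ hc
  -- `c` is a root of unity of `s`-power order
  have hpow : ∀ n : ℕ, res ρ U E y ^ n * res ρ U E e = c ^ n • (res ρ U E e * res ρ U E y ^ n) := by
    intro n
    induction n with
    | zero => simp
    | succ n ih =>
      rw [pow_succ', mul_assoc, ih, mul_smul_comm, ← mul_assoc, hc, smul_mul_assoc, smul_smul,
        mul_assoc, ← pow_succ' (res ρ U E y), pow_succ c]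
  have hcs : c ^ s ^ i = 1 := by
    have h1 := hpow (s ^ i)
    rw [← map_pow, show y ^ s ^ i = 1 by simpa using congrArg Subtype.val hi, map_one, one_mul,
      mul_one] at h1
    have h2 : (1 : F) • res ρ U E e = c ^ s ^ i • res ρ U E e := by rw [one_smul]; exact h1
    exact (smul_left_injective F (rho_mul_left_ne_zero _) h2).symm
  have hc1 : c ≠ 1 := fun h1 => hne (by rw [hc, h1, one_smul])
  have hinj : ∀ m n : ℕ, m < n → n < s → c ^ m ≠ c ^ n := by
    intro m n hmn hn heq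
    rw [show n = m + (n - m) by omega, pow_add] at heq
    have h1 : c ^ (n - m) = 1 := (mul_eq_left₀ (pow_ne_zero m hc0)).mp heq.symm
    refine hc1 (orderOf_eq_one_iff.mp (Nat.eq_one_of_dvd_coprimes ?_ (orderOf_dvd_of_pow_eq_one h1)
      (orderOf_dvd_of_pow_eq_one hcs)))
    exact Nat.Coprime.pow_right i (hs.coprime_iff_not_dvd.mpr
      (Nat.not_dvd_of_pos_of_lt (by omega) (by omega))).symm
  set D : CountBasis.Roots (s ^ j) (1 : F) → ℕ :=
    fun μ => finrank F (End.eigenspace (res ρ U E e) (μ : F)) with hD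
  obtain ⟨-, hS⟩ := CountBasis.finrank_commutant (A := res ρ U E e) (n := s ^ j)
    (by rw [Nat.cast_pow]; exact pow_ne_zero _ h.layer.s_ne_zero) (c := (1 : F)) one_ne_zero hej
  set d₀ := finrank F (End.eigenspace (res ρ U E e) 1) with hd₀
  rcases Nat.eq_zero_or_pos d₀ with h0 | h0
  · rw [h0, mul_zero]; exact Nat.zero_le _
  have hmap : ∀ n : ℕ, d₀ ≤ finrank F (End.eigenspace (res ρ U E e) (c ^ n)⁻¹) := by
    intro n
    have hle : (End.eigenspace (res ρ U E e) 1).map (res ρ U E (y ^ n)) ≤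
        End.eigenspace (res ρ U E e) (c ^ n)⁻¹ := by
      rintro _ ⟨v, hv, rfl⟩
      refine End.mem_eigenspace_iff.mpr ?_
      have h1 := LinearMap.congr_fun (hpow n) v
      rw [LinearMap.smul_apply, End.mul_apply, End.mul_apply, End.mem_eigenspace_iff.mp hv,
        one_smul, ← map_pow] at h1
      rw [eq_comm, inv_smul_eq_iff₀ (pow_ne_zero n hc0)]
      exact h1
    refine le_trans (le_of_eq ?_) (Submodule.finrank_mono hle)
    exact (Submodule.equivMapOfInjective _ (fun v w hvw => by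
      rw [← rho_apply_inv (ρ := res ρ U E) (y ^ n) v, hvw, rho_apply_inv]) _).finrank_eq
  have hroot : ∀ n : ℕ, (c ^ n)⁻¹ ∈ Polynomial.nthRootsFinset (s ^ j) (1 : F) := fun n =>
    CountBasis.eigen_root (pow_pos hs.pos j) hej (fun hbot => by
      have := hmap n
      rw [hbot, finrank_bot] at this
      omega)
  let ι : Fin s → CountBasis.Roots (s ^ j) (1 : F) := fun n => ⟨(c ^ (n : ℕ))⁻¹, hroot n⟩
  have hι : Function.Injective ι := fun m n hmn => by
    have h1 : c ^ (m : ℕ) = c ^ (n : ℕ) := inv_injective (congrArg Subtype.val hmn)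
    rcases lt_trichotomy (m : ℕ) n with h2 | h2 | h2
    · exact absurd h1 (hinj _ _ h2 n.2)
    · exact Fin.ext h2
    · exact absurd h1.symm (hinj _ _ h2 m.2)
  calc s * d₀ = ∑ _n : Fin s, d₀ := by simp
    _ ≤ ∑ n : Fin s, D (ι n) := Finset.sum_le_sum fun n _ => hmap n
    _ = ∑ μ ∈ Finset.univ.image ι, D μ := (Finset.sum_image fun m _ n _ hmn => hι hmn).symm
    _ ≤ ∑ μ, D μ := Finset.sum_le_sum_of_subset (Finset.subset_univ _)
    _ = finrank F U := hS

omit [IsAlgClosed F] [Finite Γ] [FiniteDimensional F V] in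
/-- Vectors fixed by `g` whose preimage under `x` is fixed by `g`. -/
theorem inf_map_le (g x : ↥(nGrp ρ U E)) :
    End.eigenspace (res ρ U E g) 1 ⊓ (End.eigenspace (res ρ U E g) 1).map (res ρ U E x) ≤
        End.eigenspace (res ρ U E ⁅g, x⁆) 1 ∧
      End.eigenspace (res ρ U E g) 1 ⊓ (End.eigenspace (res ρ U E g) 1).map (res ρ U E x) ≤
        End.eigenspace (res ρ U E (g * ⁅g, x⁆ * g⁻¹)) 1 := by
  have key : ∀ v, v ∈ End.eigenspace (res ρ U E g) 1 ⊓
      (End.eigenspace (res ρ U E g) 1).map (res ρ U E x) →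
      res ρ U E g v = v ∧ res ρ U E g⁻¹ v = v ∧ res ρ U E ⁅g, x⁆ v = v := by
    rintro v ⟨hv, w, hw, rfl⟩
    rw [SetLike.mem_coe, End.mem_eigenspace_iff, one_smul] at hv hw
    have hgw : res ρ U E g⁻¹ w = w := by
      conv_lhs => rw [← hw, rho_apply_inv]
    refine ⟨hv, by conv_lhs => rw [← hv, rho_apply_inv], ?_⟩
    rw [commutatorElement_def, rho_mul_apply,
      show g * x * g⁻¹ * x⁻¹ * x = g * (x * g⁻¹) by group, ← rho_mul_apply, ← rho_mul_apply, hgw, hv]
  constructor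
  · intro v hv
    rw [End.mem_eigenspace_iff, one_smul]
    exact (key v hv).2.2
  · intro v hv
    obtain ⟨h1, h2, h3⟩ := key v hv
    rw [End.mem_eigenspace_iff, one_smul, ← rho_mul_apply, ← rho_mul_apply, h2, h3, h1]

omit [IsAlgClosed F] [Finite Γ] in
theorem two_mul_le (g x : ↥(nGrp ρ U E)) :
    2 * finrank F (End.eigenspace (res ρ U E g) 1) ≤ finrank F U +
      finrank F (End.eigenspace (res ρ U E g) 1 ⊓
        (End.eigenspace (res ρ U E g) 1).map (res ρ U E x) : Submodule F U) := by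
  have h1 := Submodule.finrank_sup_add_finrank_inf_eq (End.eigenspace (res ρ U E g) 1)
    ((End.eigenspace (res ρ U E g) 1).map (res ρ U E x))
  have h2 := Submodule.finrank_le (End.eigenspace (res ρ U E g) 1 ⊔
    (End.eigenspace (res ρ U E g) 1).map (res ρ U E x))
  have h3 : finrank F ((End.eigenspace (res ρ U E g) 1).map (res ρ U E x)) =
      finrank F (End.eigenspace (res ρ U E g) 1) :=
    (Submodule.equivMapOfInjective _ (fun v w hvw => by
      rw [← rho_apply_inv (ρ := res ρ U E) x v, hvw, rho_apply_inv]) _).finrank_eq.symm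
  omega

omit [IsAlgClosed F] [FiniteDimensional F V] in
/-- An element of odd prime order modulo scalars, not centralising `E` modulo scalars, has a
commutator not commuting with its conjugate. -/
theorem exists_noncommute_conj (h : Heis ρ s r E a U) {g : ↥(nGrp ρ U E)} {o : ℕ} (ho : o.Prime)
    (ho2 : o ≠ 2) (hos : o ≠ s) (hgo : IsScalar (res ρ U E) (g ^ o))
    (hmove : ∃ x ∈ eSub ρ U E, ¬ IsScalar (res ρ U E) ⁅g, x⁆) :
    ∃ x ∈ eSub ρ U E, res ρ U E ⁅g, x⁆ * res ρ U E (g * ⁅g, x⁆ * g⁻¹) ≠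
      res ρ U E (g * ⁅g, x⁆ * g⁻¹) * res ρ U E ⁅g, x⁆ := by
  classical
  haveI := nontrivial_piece h
  by_contra hall
  push Not at hall
  set τ := res ρ U E with hτ
  set Q := eSub ρ U E with hQ
  have hQn : ∀ (k : ↥(nGrp ρ U E)), ∀ l ∈ Q, k * l * k⁻¹ ∈ Q := fun k l hl =>
    (eSub_normal ρ U E).conj_mem l hl k
  have hu : ∀ x ∈ Q, ⁅g, x⁆ ∈ Q := fun x hx => by
    rw [commutatorElement_def]; exact Q.mul_mem (hQn g x hx) (Q.inv_mem hx)
  -- the commutator pairing
  let bc : ↥(nGrp ρ U E) → ↥(nGrp ρ U E) → F := fun k l =>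
    if hkl : k ∈ Q ∧ l ∈ Q then (exists_bc h hkl.1 hkl.2).choose else 1
  have hbc : ∀ k ∈ Q, ∀ l ∈ Q, τ k * τ l = bc k l • (τ l * τ k) := fun k hk l hl => by
    simp only [bc, dif_pos (And.intro hk hl)]
    exact (exists_bc h hk hl).choose_spec
  have huniq : ∀ k ∈ Q, ∀ l ∈ Q, ∀ c : F, τ k * τ l = c • (τ l * τ k) → c = bc k l := by
    intro k hk l hl c hc
    have h1 := hc.symm.trans (hbc k hk l hl)
    rw [← map_mul] at h1
    exact smul_left_injective F (rho_mul_left_ne_zero _) h1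
  have hne0 : ∀ k ∈ Q, ∀ l ∈ Q, bc k l ≠ 0 := fun k hk l hl h0 => by
    have h1 := hbc k hk l hl
    rw [h0, zero_smul, ← map_mul] at h1
    exact rho_mul_left_ne_zero _ h1
  have hmulL : ∀ k ∈ Q, ∀ k' ∈ Q, ∀ l ∈ Q, bc (k * k') l = bc k l * bc k' l := by
    intro k hk k' hk' l hl
    refine (huniq _ (Q.mul_mem hk hk') l hl _ ?_).symm
    rw [map_mul, mul_assoc, hbc k' hk' l hl, mul_smul_comm, ← mul_assoc, hbc k hk l hl,
      smul_mul_assoc, smul_smul, mul_comm (bc k' l), mul_assoc]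
  have hsymm : ∀ k ∈ Q, ∀ l ∈ Q, bc l k = (bc k l)⁻¹ := by
    intro k hk l hl
    refine (huniq l hl k hk _ ?_).symm
    rw [hbc k hk l hl, smul_smul, inv_mul_cancel₀ (hne0 k hk l hl), one_smul]
  have hone : ∀ l ∈ Q, bc 1 l = 1 := fun l hl =>
    (huniq 1 Q.one_mem l hl 1 (by rw [map_one, one_smul, one_mul, mul_one])).symm
  have hinvL : ∀ k ∈ Q, ∀ l ∈ Q, bc k⁻¹ l = (bc k l)⁻¹ := fun k hk l hl => by
    refine eq_inv_of_mul_eq_one_left ?_
    rw [← hmulL _ (Q.inv_mem hk) k hk l hl, inv_mul_cancel, hone l hl]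
  have hmulR : ∀ k ∈ Q, ∀ l ∈ Q, ∀ l' ∈ Q, bc k (l * l') = bc k l * bc k l' := by
    intro k hk l hl l' hl'
    rw [hsymm _ (Q.mul_mem hl hl') k hk, hmulL l hl l' hl' k hk, mul_inv, ← hsymm l hl k hk,
      ← hsymm l' hl' k hk]
  have hinvR : ∀ k ∈ Q, ∀ l ∈ Q, bc k l⁻¹ = (bc k l)⁻¹ := fun k hk l hl => by
    rw [hsymm _ (Q.inv_mem hl) k hk, hinvL l hl k hk, ← hsymm l hl k hk]
  have hconj : ∀ (z : ↥(nGrp ρ U E)), ∀ k ∈ Q, ∀ l ∈ Q,
      bc (z * k * z⁻¹) (z * l * z⁻¹) = bc k l := by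
    intro z k hk l hl
    refine (huniq _ (hQn z k hk) _ (hQn z l hl) _ ?_).symm
    rw [← map_mul, ← map_mul, show z * k * z⁻¹ * (z * l * z⁻¹) = z * (k * l) * z⁻¹ by group,
      show z * l * z⁻¹ * (z * k * z⁻¹) = z * (l * k) * z⁻¹ by group, map_mul τ (z * (k * l)),
      map_mul τ z (k * l), map_mul τ k l, hbc k hk l hl, map_mul τ (z * (l * k)), map_mul τ z, map_mul τ l, mul_smul_comm,
      smul_mul_assoc]
  have huL : ∀ x ∈ Q, ∀ w ∈ Q, bc ⁅g, x⁆ w = bc (g * x * g⁻¹) w * (bc x w)⁻¹ := fun x hx w hw => by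
    rw [commutatorElement_def, hmulL _ (hQn g x hx) _ (Q.inv_mem hx) w hw, hinvL x hx w hw]
  have huR : ∀ x ∈ Q, ∀ k ∈ Q, bc k (g * ⁅g, x⁆ * g⁻¹) =
      bc k (g * (g * x * g⁻¹) * g⁻¹) * (bc k (g * x * g⁻¹))⁻¹ := fun x hx k hk => by
    rw [commutatorElement_def, show g * (g * x * g⁻¹ * x⁻¹) * g⁻¹ =
      g * (g * x * g⁻¹) * g⁻¹ * (g * x * g⁻¹)⁻¹ by group,
      hmulR k hk _ (hQn g _ (hQn g x hx)) _ (Q.inv_mem (hQn g x hx)), hinvR k hk _ (hQn g x hx)]
  have hzero : ∀ x ∈ Q, bc ⁅g, x⁆ (g * ⁅g, x⁆ * g⁻¹) = 1 := fun x hx =>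
    (huniq _ (hu x hx) _ (hQn g _ (hu x hx)) 1 (by rw [one_smul]; exact hall x hx)).symm
  -- the fixed element `w`
  have hw : ∀ x ∈ Q, ∀ y ∈ Q,
      bc ⁅g, x⁆ (g * ⁅g, y⁆ * g⁻¹ * (g⁻¹ * ⁅g, y⁆ * g)⁻¹) = 1 := by
    intro x hx y hy
    have hxy := Q.mul_mem hx hy
    have hg2 : ∀ z ∈ Q, g * (g * z * g⁻¹) * g⁻¹ ∈ Q := fun z hz => hQn g _ (hQn g z hz)
    have hA : ∀ w ∈ Q, bc ⁅g, x * y⁆ w = bc ⁅g, x⁆ w * bc ⁅g, y⁆ w := fun w hw => by
      rw [huL _ hxy w hw, huL x hx w hw, huL y hy w hw,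
        show g * (x * y) * g⁻¹ = g * x * g⁻¹ * (g * y * g⁻¹) by group,
        hmulL _ (hQn g x hx) _ (hQn g y hy) w hw, hmulL x hx y hy w hw, mul_inv]
      ring
    have hB : ∀ k ∈ Q, bc k (g * ⁅g, x * y⁆ * g⁻¹) =
        bc k (g * ⁅g, x⁆ * g⁻¹) * bc k (g * ⁅g, y⁆ * g⁻¹) := fun k hk => by
      rw [huR _ hxy k hk, huR x hx k hk, huR y hy k hk,
        show g * (g * (x * y) * g⁻¹) * g⁻¹ =
          g * (g * x * g⁻¹) * g⁻¹ * (g * (g * y * g⁻¹) * g⁻¹) by group,
        hmulR k hk _ (hg2 x hx) _ (hg2 y hy),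
        show g * (x * y) * g⁻¹ = g * x * g⁻¹ * (g * y * g⁻¹) by group,
        hmulR k hk _ (hQn g x hx) _ (hQn g y hy), mul_inv]
      ring
    have h0 := hzero _ hxy
    rw [hA _ (hQn g _ (hu _ hxy)), hB _ (hu x hx), hB _ (hu y hy), hzero x hx, hzero y hy, one_mul,
      mul_one] at h0
    have hflip : bc ⁅g, y⁆ (g * ⁅g, x⁆ * g⁻¹) = (bc ⁅g, x⁆ (g⁻¹ * ⁅g, y⁆ * g))⁻¹ := by
      have hy' : g⁻¹ * ⁅g, y⁆ * g ∈ Q := by simpa using hQn g⁻¹ _ (hu y hy)
      rw [hsymm _ (hQn g _ (hu x hx)) _ (hu y hy), ← hconj g _ (hu x hx) _ hy',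
        show g * (g⁻¹ * ⁅g, y⁆ * g) * g⁻¹ = ⁅g, y⁆ by group]
    have hy' : g⁻¹ * ⁅g, y⁆ * g ∈ Q := by simpa using hQn g⁻¹ _ (hu y hy)
    rw [hflip] at h0
    rw [hmulR _ (hu x hx) _ (hQn g _ (hu y hy)) _ (Q.inv_mem hy'), hinvR _ (hu x hx) _ hy']
    exact h0
  set φ : MulAut (Cos ρ U E) := conjCos g with hφ
  have hφo : φ ^ o = 1 := by rw [hφ, ← map_pow]; exact conjCos_eq_one hgo
  have hpg : IsPGroup s (Cos ρ U E) := (isPGroup_eSub h).to_quotient _
  have hcop : ∀ {m : Cos ρ U E}, m ^ o = 1 → m = 1 := by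
    intro m hm
    obtain ⟨i, hi⟩ := hpg m
    exact orderOf_eq_one_iff.mp (Nat.eq_one_of_dvd_coprimes
      (Nat.Coprime.pow_right i ((Nat.coprime_primes ho h.layer.prime_s).mpr hos))
      (orderOf_dvd_of_pow_eq_one hm) (orderOf_dvd_of_pow_eq_one hi))
  -- the conclusion
  have hfix : ∀ y : Q, conjCos g (QuotientGroup.mk y : Cos ρ U E) = QuotientGroup.mk y := by
    intro y
    set yb : Cos ρ U E := QuotientGroup.mk y with hyb
    set z : Cos ρ U E := φ yb * yb⁻¹ with hz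
    set w₀ : ↥(nGrp ρ U E) :=
      g * ⁅g, (y : ↥(nGrp ρ U E))⁆ * g⁻¹ * (g⁻¹ * ⁅g, (y : ↥(nGrp ρ U E))⁆ * g)⁻¹ with hw₀
    have hw₀Q : w₀ ∈ Q := Q.mul_mem (hQn g _ (hu y y.2))
      (Q.inv_mem (by simpa using hQn g⁻¹ _ (hu y y.2)))
    set w : Cos ρ U E := QuotientGroup.mk (⟨w₀, hw₀Q⟩ : Q) with hwdef
    have hzmk : z = QuotientGroup.mk (⟨⁅g, (y : ↥(nGrp ρ U E))⁆, hu y y.2⟩ : Q) := by
      rw [hz, hyb, hφ, conjCos_mk, ← QuotientGroup.mk_inv, ← QuotientGroup.mk_mul]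
      refine congrArg _ (Subtype.ext ?_)
      rw [Subgroup.coe_mul, Subgroup.coe_inv, MulAut.conjNormal_apply]
      exact (commutatorElement_def g (y : ↥(nGrp ρ U E))).symm
    have hwz : w = φ z * (φ⁻¹ z)⁻¹ := by
      rw [hzmk, hφ, ← map_inv conjCos, conjCos_mk, conjCos_mk, ← QuotientGroup.mk_inv,
        ← QuotientGroup.mk_mul, hwdef]
      refine congrArg _ (Subtype.ext ?_)
      rw [Subgroup.coe_mul, Subgroup.coe_inv, MulAut.conjNormal_apply, MulAut.conjNormal_apply,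
        inv_inv]
    have hφw : φ w = w := by
      have hw' : g⁻¹ * w₀ * g ∈ Q := by simpa using hQn g⁻¹ _ hw₀Q
      have hsc : IsScalar τ (g⁻¹ * w₀ * g * w₀⁻¹) := by
        refine isScalar_iff.mpr (h.scalar _ (Q.mul_mem hw' (Q.inv_mem hw₀Q)) fun x hx v hv => ?_)
        set x' : ↥(nGrp ρ U E) := ⟨x, le_nGrp h hx⟩
        have hx' : x' ∈ Q := hx
        have h1 := hw x' hx' (y : ↥(nGrp ρ U E)) y.2
        rw [← hw₀, huL x' hx' w₀ hw₀Q, mul_inv_eq_one₀ (hne0 _ hx' _ hw₀Q)] at h1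
        have h2 : bc x' (g⁻¹ * w₀ * g) = bc x' w₀ := by
          rw [← hconj g x' hx' _ hw', show g * (g⁻¹ * w₀ * g) * g⁻¹ = w₀ by group, h1]
        have h3 : bc (g⁻¹ * w₀ * g * w₀⁻¹) x' = 1 := by
          rw [hsymm x' hx' _ (Q.mul_mem hw' (Q.inv_mem hw₀Q)),
            hmulR x' hx' _ hw' _ (Q.inv_mem hw₀Q), hinvR x' hx' _ hw₀Q, h2,
            mul_inv_cancel₀ (hne0 _ hx' _ hw₀Q), inv_one]
        have h4 := hbc _ (Q.mul_mem hw' (Q.inv_mem hw₀Q)) x' hx'
        rw [h3, one_smul] at h4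
        have h5 := congrArg Subtype.val (LinearMap.congr_fun h4 ⟨v, hv⟩)
        rw [map_mul ρ _ x, map_mul ρ x]
        exact h5
      have h6 : φ⁻¹ w = w := by
        rw [hwdef, hφ, ← map_inv conjCos, conjCos_mk, eq_comm, QuotientGroup.eq]
        refine Subgroup.mem_subgroupOf.mpr ?_
        rw [Subgroup.coe_mul, Subgroup.coe_inv, MulAut.conjNormal_apply, inv_inv]
        have h7 := (scalarSubgroup_normal (ρ := τ) Q).conj_mem _
          (mem_scalarSubgroup.mpr ⟨Q.mul_mem hw' (Q.inv_mem hw₀Q), hsc⟩) w₀⁻¹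
        simpa [mul_assoc] using h7
      conv_lhs => rw [← h6]
      rw [← MulAut.mul_apply, mul_inv_cancel, MulAut.one_apply]
    have hsq : φ (φ z) = w * z := by
      rw [show φ z = w * φ⁻¹ z by rw [hwz, inv_mul_cancel_right], map_mul, hφw,
        ← MulAut.mul_apply, mul_inv_cancel, MulAut.one_apply]
    have hev : ∀ j : ℕ, (φ ^ (2 * j)) z = w ^ j * z := by
      intro j
      induction j with
      | zero => simp
      | succ j ih =>
        rw [show 2 * (j + 1) = 2 + 2 * j by ring, pow_add, MulAut.mul_apply, ih, pow_two,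
          MulAut.mul_apply, map_mul, map_mul, map_pow, map_pow, hφw, hφw, hsq, pow_succ w j,
          mul_assoc]
    have hw1 : w = 1 := by
      refine hcop ?_
      have h1 := hev o
      rw [mul_comm 2 o, pow_mul, hφo, one_pow, MulAut.one_apply] at h1
      exact mul_eq_right.mp h1.symm
    have hφz : φ z = z := by
      obtain ⟨l, hl⟩ := ho.odd_of_ne_two ho2
      have h1 := hev l
      rw [hw1, one_pow, one_mul] at h1
      conv_lhs => rw [← h1]
      rw [← MulAut.mul_apply, ← pow_succ', ← hl, hφo, MulAut.one_apply]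
    have hpow : ∀ j : ℕ, (φ ^ j) yb = z ^ j * yb := by
      intro j
      induction j with
      | zero => simp
      | succ j ih =>
        rw [pow_succ', MulAut.mul_apply, ih, map_mul, map_pow, hφz,
          show φ yb = z * yb by rw [hz, inv_mul_cancel_right], ← mul_assoc, ← pow_succ]
    have hz1 : z = 1 := by
      refine hcop ?_
      have h1 := hpow o
      rw [hφo, MulAut.one_apply] at h1
      exact mul_eq_right.mp h1.symm
    exact mul_inv_eq_one.mp hz1
  obtain ⟨x, hx, hns⟩ := hmove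
  refine hns ?_
  have h1 := hfix ⟨x, hx⟩
  rw [conjCos_mk, eq_comm, QuotientGroup.eq] at h1
  have h2 := (scalarSubgroup_normal (ρ := τ) Q).conj_mem _ (Subgroup.mem_subgroupOf.mp h1) x
  simp only [Subgroup.coe_mul, Subgroup.coe_inv, MulAut.conjNormal_apply] at h2
  rw [show x * (x⁻¹ * (g * x * g⁻¹)) * x⁻¹ = ⁅g, x⁆ by rw [commutatorElement_def]; group] at h2
  exact (mem_scalarSubgroup.mp h2).2

end CountHalf

open CountHalf in
theorem fixHalf : StmtFixHalf.{u} := by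
  intro F _ _ Γ V _ _ _ _ _ ρ s r E a g U h hgn hgU hmove
  haveI := nontrivial_piece h
  set g' : ↥(nGrp ρ U E) := ⟨g, hgU, hgn⟩ with hg'
  have hmove' : ∃ x ∈ eSub ρ U E, ¬ FgsC.HallHigman.IsScalar (res ρ U E) ⁅g', x⁆ := by
    obtain ⟨x, hx, hns⟩ := hmove
    exact ⟨⟨x, le_nGrp h hx⟩, hx, fun h1 => hns (isScalar_iff.mp h1)⟩
  rw [← finrank_fix g']
  refine ⟨fun o ho ho2 hos hgo => ?_, fun hs2 => ?_⟩
  · obtain ⟨x, hx, hne⟩ := exists_noncommute_conj h ho ho2 hos
      (isScalar_iff.mpr (by simpa using hgo)) hmove'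
    have hbot : End.eigenspace (res ρ U E g') 1 ⊓
        (End.eigenspace (res ρ U E g') 1).map (res ρ U E x) = ⊥ := by
      rw [Submodule.eq_bot_iff]
      intro v hv
      have h1 := End.mem_eigenspace_iff.mp ((inf_map_le g' x).1 hv)
      have h2 := End.mem_eigenspace_iff.mp ((inf_map_le g' x).2 hv)
      rw [one_smul] at h1 h2
      have hQn := (eSub_normal ρ U E).conj_mem
      have he : ⁅g', x⁆ ∈ eSub ρ U E := by
        rw [commutatorElement_def]
        exact (eSub ρ U E).mul_mem (hQn x hx g') ((eSub ρ U E).inv_mem hx)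
      obtain ⟨c, hc⟩ := exists_bc h he (hQn _ he g')
      have h3 := LinearMap.congr_fun hc v
      rw [End.mul_apply, LinearMap.smul_apply, End.mul_apply, h2, h1, h2] at h3
      by_contra hv0
      have hc1 : (1 : F) = c := smul_left_injective F hv0 ((one_smul F v).trans h3)
      exact hne (by rw [hc, ← hc1, one_smul])
    have := two_mul_le g' x
    rw [hbot, finrank_bot, add_zero] at this
    exact this
  · obtain ⟨x, hx, hns⟩ := hmove'
    have he : ⁅g', x⁆ ∈ eSub ρ U E := by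
      rw [commutatorElement_def]
      exact (eSub ρ U E).mul_mem ((eSub_normal ρ U E).conj_mem x hx g')
        ((eSub ρ U E).inv_mem hx)
    have h1 := fix_nonscalar_le h he hns
    have h2 := two_mul_le g' x
    have h3 := Submodule.finrank_mono (inf_map_le g' x).1
    have h4 : 3 ≤ s := by have := h.layer.prime_s.two_le; omega
    have h5 := le_trans (Nat.mul_le_mul_right _ h4) h1
    omega

end CfsgLib.TurullFit
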