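import Cfsg.Agent.Lib.FgsC.CoprimeWeights

/-!
# Turull's bound for the Fitting height: definitions for one layer

One layer: a representation `ρ` of `Γ` on `V` over an algebraically closed field, an `s`-subgroup
`X` of class at most two on `V`, and an element `a` of prime order `r ≠ s` normalising `X`.
-/

set_option autoImplicit false

open Module
open scoped commutatorElement

namespace CfsgLib.TurullFit

variable {F : Type*} [Field F] {Γ : Type*} [Group Γ] {V : Type*} [AddCommGroup V] [Module F V]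

/-- The fixed space of one element. -/
def fixSub (ρ : Representation F Γ V) (g : Γ) : Submodule F V where
  carrier := {v | ρ g v = v}
  add_mem' := fun {u v} hu hv => by
    simp only [Set.mem_setOf_eq] at hu hv ⊢
    rw [map_add, hu, hv]
  zero_mem' := map_zero _
  smul_mem' := fun c v hv => by
    simp only [Set.mem_setOf_eq] at hv ⊢
    rw [map_smul, hv]

theorem mem_fixSub {ρ : Representation F Γ V} {g : Γ} {v : V} : v ∈ fixSub ρ g ↔ ρ g v = v :=
  Iff.rfl

/-- The elements fixing a subspace pointwise. -/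
def fixer (ρ : Representation F Γ V) (S : Submodule F V) : Subgroup Γ where
  carrier := {g | ∀ v ∈ S, ρ g v = v}
  mul_mem' := fun {g h} hg hh v hv => by rw [map_mul, End.mul_apply, hh v hv, hg v hv]
  one_mem' := fun v _ => by rw [map_one, End.one_apply]
  inv_mem' := fun {g} hg v hv => by
    conv_lhs => rw [← hg v hv]
    rw [← End.mul_apply, ← map_mul, inv_mul_cancel, map_one, End.one_apply]

theorem mem_fixer {ρ : Representation F Γ V} {S : Submodule F V} {g : Γ} :
    g ∈ fixer ρ S ↔ ∀ v ∈ S, ρ g v = v := Iff.rfl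

/-- Invariance under a subgroup. -/
def StableUnder (ρ : Representation F Γ V) (X : Subgroup Γ) (S : Submodule F V) : Prop :=
  ∀ x ∈ X, ∀ v ∈ S, ρ x v ∈ S

/-- Invariance under `X` and `a`. -/
def Inv (ρ : Representation F Γ V) (X : Subgroup Γ) (a : Γ) (S : Submodule F V) : Prop :=
  StableUnder ρ X S ∧ ∀ v ∈ S, ρ a v ∈ S

/-- A minimal nonzero subspace invariant under `X` and `a`. -/
def Comp (ρ : Representation F Γ V) (X : Subgroup Γ) (a : Γ) (S : Submodule F V) : Prop :=
  S ≠ ⊥ ∧ Inv ρ X a S ∧ ∀ W ≤ S, W ≠ ⊥ → Inv ρ X a W → W = S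

/-- Two elements commute on `S`. -/
def CommOn (ρ : Representation F Γ V) (S : Submodule F V) (x y : Γ) : Prop :=
  ∀ v ∈ S, ρ (x * y) v = ρ (y * x) v

/-- `g` acts on `S` as a scalar. -/
def IsScalarOn (ρ : Representation F Γ V) (S : Submodule F V) (g : Γ) : Prop :=
  ∃ c : F, ∀ v ∈ S, ρ g v = c • v

/-- `a` does not centralise the action of `X` on `S`. -/
def Noncentral (ρ : Representation F Γ V) (X : Subgroup Γ) (a : Γ) (S : Submodule F V) : Prop :=
  ∃ x ∈ X, ∃ v ∈ S, ρ (a * x * a⁻¹) v ≠ ρ x v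

/-- A noncentral component in which `a` has fixed points. -/
def Good (ρ : Representation F Γ V) (X : Subgroup Γ) (a : Γ) (S : Submodule F V) : Prop :=
  Comp ρ X a S ∧ Noncentral ρ X a S ∧ S ⊓ fixSub ρ a ≠ ⊥

/-- An exceptional component: noncentral, without fixed points of `a`. -/
def Exc (ρ : Representation F Γ V) (X : Subgroup Γ) (a : Γ) (S : Submodule F V) : Prop :=
  Comp ρ X a S ∧ Noncentral ρ X a S ∧ S ⊓ fixSub ρ a = ⊥

/-- `x` lies in the centre of the action of `X` on `S`. -/
def CenterOn (ρ : Representation F Γ V) (X : Subgroup Γ) (S : Submodule F V) (x : Γ) : Prop :=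
  x ∈ X ∧ ∀ y ∈ X, CommOn ρ S x y

/-- The centre of `X` acts on `S` by scalars. -/
def FixedType (ρ : Representation F Γ V) (X : Subgroup Γ) (S : Submodule F V) : Prop :=
  ∀ x, CenterOn ρ X S x → IsScalarOn ρ S x

/-- The standing hypotheses of one layer. -/
structure Layer (ρ : Representation F Γ V) (s r : ℕ) (X : Subgroup Γ) (a : Γ) : Prop where
  prime_s : s.Prime
  prime_r : r.Prime
  s_ne_r : s ≠ r
  s_ne_zero : (s : F) ≠ 0
  r_ne_zero : (r : F) ≠ 0
  isPGroup : IsPGroup s X
  mem_normalizer : a ∈ Subgroup.normalizer (X : Set Γ)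
  pow_eq_one : a ^ r = 1
  classTwo : ∀ x ∈ X, ∀ y ∈ X, ∀ z ∈ X, ρ ⁅⁅x, y⁆, z⁆ = 1

theorem Layer.mono {ρ : Representation F Γ V} {s r : ℕ} {X E : Subgroup Γ} {a : Γ}
    (L : Layer ρ s r X a) (hE : E ≤ X) (ha : a ∈ Subgroup.normalizer (E : Set Γ)) :
    Layer ρ s r E a where
  prime_s := L.prime_s
  prime_r := L.prime_r
  s_ne_r := L.s_ne_r
  s_ne_zero := L.s_ne_zero
  r_ne_zero := L.r_ne_zero
  isPGroup := L.isPGroup.to_le hE
  mem_normalizer := ha
  pow_eq_one := L.pow_eq_one
  classTwo := fun x hx y hy z hz => L.classTwo x (hE hx) y (hE hy) z (hE hz)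

/-- An irreducible subspace of extraspecial type with `a` fixed point free modulo scalars. -/
structure Heis (ρ : Representation F Γ V) (s r : ℕ) (E : Subgroup Γ) (a : Γ)
    (U : Submodule F V) : Prop where
  layer : Layer ρ s r E a
  ne_bot : U ≠ ⊥
  inv : Inv ρ E a U
  irred : ∀ W ≤ U, StableUnder ρ E W → W = ⊥ ∨ W = U
  scalar : ∀ x ∈ E, (∀ y ∈ E, CommOn ρ U x y) → IsScalarOn ρ U x
  nonscalar : ∃ x ∈ E, ¬ IsScalarOn ρ U x
  fpf : ∀ x ∈ E, IsScalarOn ρ U (x⁻¹ * (a * x * a⁻¹)) → IsScalarOn ρ U x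

/-- The fixed points `T` the next layer is known to see, and the generators `Ω` of the rest. -/
structure HypT (ρ : Representation F Γ V) (r : ℕ) (X : Subgroup Γ) (a : Γ) (T : Submodule F V)
    (Ω : Set V) : Prop where
  le_fix : T ≤ fixSub ρ a
  omega_fix : Ω ⊆ (fixSub ρ a : Set V)
  span : fixSub ρ a ≤ T ⊔ Submodule.span F Ω
  moved : ∀ χ ∈ Ω, ∀ y ∈ X, ρ a (ρ y χ) ≠ ρ y χ →
    FgsC.CoprimeWeights.normEnd (ρ := ρ) a r (ρ y χ) ∈ T

/-- The fixed points of `a` in `X` act centrally: `a` is fixed point free on `X` modulo centre. -/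
def CentralFix (ρ : Representation F Γ V) (X : Subgroup Γ) (a : Γ) : Prop :=
  ∀ x ∈ X, a * x = x * a → ∀ y ∈ X, ρ (x * y) = ρ (y * x)

/-- The elements stabilising a subspace. -/
def stabSub (ρ : Representation F Γ V) (U : Submodule F V) : Subgroup Γ where
  carrier := {g | ∀ v, ρ g v ∈ U ↔ v ∈ U}
  mul_mem' := fun {g h} hg hh v => by rw [map_mul, End.mul_apply, hg, hh]
  one_mem' := fun v => by rw [map_one, End.one_apply]
  inv_mem' := fun {g} hg v => by
    rw [← hg, ← End.mul_apply, ← map_mul, mul_inv_cancel, map_one, End.one_apply]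

/-- The representation on a subspace. -/
def restrictRep (ρ : Representation F Γ V) (U : Submodule F V) :
    Representation F ↥(stabSub ρ U) ↥U where
  toFun g := (ρ (g : Γ)).restrict fun v hv => (g.2 v).mpr hv
  map_one' := LinearMap.ext fun v => Subtype.ext (by simp [LinearMap.restrict_apply])
  map_mul' g h := LinearMap.ext fun v => Subtype.ext (by simp [LinearMap.restrict_apply])

section Dual

variable (F)

/-- The additive maps from `P` to `F` vanishing on `Q`. -/
def dualSub (P Q : Subgroup Γ) : Submodule F (↥P → F) where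
  carrier := {f | (∀ x y : P, f (x * y) = f x + f y) ∧ ∀ x : P, (x : Γ) ∈ Q → f x = 0}
  add_mem' := fun {f g} hf hg => ⟨fun x y => by
    simp only [Pi.add_apply, hf.1 x y, hg.1 x y]; abel,
    fun x hx => by simp [hf.2 x hx, hg.2 x hx]⟩
  zero_mem' := ⟨fun _ _ => by simp, fun _ _ => rfl⟩
  smul_mem' := fun c f hf => ⟨fun x y => by simp [hf.1 x y, mul_add],
    fun x hx => by simp [hf.2 x hx]⟩

variable (P Q : Subgroup Γ) [P.Normal] [Q.Normal]

/-- Conjugation on the additive maps. -/
noncomputable def dualRep : Representation F Γ ↥(dualSub F P Q) where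
  toFun g :=
    { toFun := fun f => ⟨fun x => (f : ↥P → F) ⟨g⁻¹ * x * g, by
          simpa using (inferInstance : P.Normal).conj_mem x x.2 g⁻¹⟩,
        fun x y => (congrArg (f : ↥P → F) (Subtype.ext (show g⁻¹ * ((x : Γ) * y) * g =
          (g⁻¹ * x * g) * (g⁻¹ * y * g) by group))).trans (f.2.1
            ⟨g⁻¹ * x * g, by simpa using (inferInstance : P.Normal).conj_mem x x.2 g⁻¹⟩
            ⟨g⁻¹ * y * g, by simpa using (inferInstance : P.Normal).conj_mem y y.2 g⁻¹⟩),
        fun x hx => f.2.2 _ (by simpa using (inferInstance : Q.Normal).conj_mem x hx g⁻¹)⟩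
      map_add' := fun f g => Subtype.ext (funext fun x => rfl)
      map_smul' := fun c f => Subtype.ext (funext fun x => rfl) }
  map_one' := LinearMap.ext fun f => Subtype.ext (funext fun x => by
    simp [Module.End.one_apply])
  map_mul' g h := LinearMap.ext fun f => Subtype.ext (funext fun x => by
    simp [Module.End.mul_apply, mul_assoc])

theorem dualRep_apply (g : Γ) (f : ↥(dualSub F P Q)) (x : P) :
    (dualRep F P Q g f : ↥P → F) x = (f : ↥P → F) ⟨g⁻¹ * x * g, by
      simpa using (inferInstance : P.Normal).conj_mem x x.2 g⁻¹⟩ := rfl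

end Dual

/-- `Q` is the radical of `X` on `V`: the kernel if `X` is abelian on `V`, otherwise the centre. -/
structure PhiSpec (ρ : Representation F Γ V) (X Q : Subgroup Γ) : Prop where
  le : Q ≤ X
  central : ∀ x ∈ Q, ∀ y ∈ X, ρ (x * y) = ρ (y * x)
  ker : ∀ x ∈ X, ρ x = 1 → x ∈ Q
  spec : ((∀ x ∈ X, ∀ y ∈ X, ρ (x * y) = ρ (y * x)) ∧ ∀ x ∈ Q, ρ x = 1) ∨
    ∀ x ∈ X, (∀ y ∈ X, ρ (x * y) = ρ (y * x)) → x ∈ Q

end CfsgLib.TurullFit
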