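import Cfsg.Agent.Lib.TurullFit.Defs

/-!
# Turull's bound for the Fitting height: the dual module of an elementary section

For `Q ≤ Z` with `Z/Q` an elementary abelian `q`-group and `F` of characteristic `q`, the additive
maps from `Z` to `F` killing `Q` separate the subgroups between `Q` and `Z`, and their annihilators
turn intersections into sums.
-/

set_option autoImplicit false
set_option linter.style.haveILetI false
set_option linter.unusedSectionVars false
set_option linter.unusedVariables false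

open Subgroup
open scoped commutatorElement

namespace CfsgLib.TurullFit

universe u

variable {F : Type} [Field F] {Γ : Type u} [Group Γ] [Finite Γ] {Z Q : Subgroup Γ} {q : ℕ}

/-- The functions of the dual vanishing on `R`. -/
def annih (F : Type) [Field F] (Z Q R : Subgroup Γ) : Submodule F ↥(dualSub F Z Q) where
  carrier := {f | ∀ z : Z, (z : Γ) ∈ R → (f : ↥Z → F) z = 0}
  add_mem' := fun {f g} hf hg z hz => by simp [hf z hz, hg z hz]
  zero_mem' := fun _ _ => rfl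
  smul_mem' := fun c f hf z hz => by simp [hf z hz]

theorem mem_annih {R : Subgroup Γ} {f : ↥(dualSub F Z Q)} :
    f ∈ annih F Z Q R ↔ ∀ z : Z, (z : Γ) ∈ R → (f : ↥Z → F) z = 0 := Iff.rfl

theorem annih_anti {R R' : Subgroup Γ} (h : R ≤ R') : annih F Z Q R' ≤ annih F Z Q R :=
  fun _ hf z hz => hf z (h hz)

theorem dual_one (f : ↥(dualSub F Z Q)) : (f : ↥Z → F) 1 = 0 := by
  have := f.2.1 1 1
  rwa [one_mul, left_eq_add] at this

theorem dual_inv (f : ↥(dualSub F Z Q)) (x : Z) : (f : ↥Z → F) x⁻¹ = -(f : ↥Z → F) x := by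
  have := f.2.1 x x⁻¹
  rw [mul_inv_cancel, dual_one] at this
  exact eq_neg_of_add_eq_zero_right this.symm

/-- The zeros of an element of the dual. -/
def zeros (f : ↥(dualSub F Z Q)) : Subgroup Γ where
  carrier := {g | ∃ h : g ∈ Z, (f : ↥Z → F) ⟨g, h⟩ = 0}
  mul_mem' := fun {x y} hx hy => by
    obtain ⟨hxZ, hx⟩ := hx
    obtain ⟨hyZ, hy⟩ := hy
    refine ⟨mul_mem hxZ hyZ, ?_⟩
    show (f : ↥Z → F) ((⟨x, hxZ⟩ : Z) * ⟨y, hyZ⟩) = 0
    rw [f.2.1, hx, hy, add_zero]
  one_mem' := ⟨one_mem Z, dual_one f⟩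
  inv_mem' := fun {x} hx => by
    obtain ⟨hxZ, hx⟩ := hx
    refine ⟨inv_mem hxZ, ?_⟩
    show (f : ↥Z → F) (⟨x, hxZ⟩ : Z)⁻¹ = 0
    rw [dual_inv, hx, neg_zero]

theorem mem_zeros {f : ↥(dualSub F Z Q)} {g : Γ} :
    g ∈ zeros f ↔ ∃ h : g ∈ Z, (f : ↥Z → F) ⟨g, h⟩ = 0 := Iff.rfl

theorem mem_annih_iff_le_zeros {R : Subgroup Γ} (hR : R ≤ Z) {f : ↥(dualSub F Z Q)} :
    f ∈ annih F Z Q R ↔ R ≤ zeros f := by
  refine ⟨fun h g hg => ⟨hR hg, h ⟨g, hR hg⟩ hg⟩, fun h z hz => ?_⟩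
  obtain ⟨_, e⟩ := h hz
  exact e

theorem annih_sup (R R' : Subgroup Γ) (h : R ≤ Z) (h' : R' ≤ Z) :
    annih F Z Q (R ⊔ R') = annih F Z Q R ⊓ annih F Z Q R' := by
  ext f
  rw [Submodule.mem_inf, mem_annih_iff_le_zeros h, mem_annih_iff_le_zeros h',
    mem_annih_iff_le_zeros (sup_le h h'), sup_le_iff]

theorem annih_self : annih F Z Q Q = ⊤ :=
  eq_top_iff.2 fun f _ z hz => f.2.2 z hz

theorem finiteDimensional : FiniteDimensional F ↥(dualSub F Z Q) := inferInstance

/-- `Z/Q` is an elementary abelian `q`-group and `F` has characteristic `q`. -/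
structure ElemSection (F : Type) [Field F] (q : ℕ) (Z Q : Subgroup Γ) : Prop where
  prime : q.Prime
  char : CharP F q
  le : Q ≤ Z
  pow : ∀ z ∈ Z, z ^ q ∈ Q
  comm : ∀ z ∈ Z, ∀ w ∈ Z, ⁅z, w⁆ ∈ Q

/-- The section as a vector space over the field with `q` elements. -/
theorem ElemSection.exists_quot (E : ElemSection F q Z Q) :
    ∃ (A : Type u) (_ : AddCommGroup A) (_ : Module (ZMod q) A) (π : Z → A),
      (∀ x y : Z, π (x * y) = π x + π y) ∧ Function.Surjective π ∧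
        ∀ z : Z, π z = 0 ↔ (z : Γ) ∈ Q := by
  haveI : Fact q.Prime := ⟨E.prime⟩
  let N := Q.subgroupOf Z
  haveI : N.Normal := ⟨fun n hn g => by
    have h : ((g * n * g⁻¹ : Z) : Γ) = ⁅(g : Γ), (n : Γ)⁆ * (n : Γ) := by
      simp [commutatorElement_def]
    rw [mem_subgroupOf, h]
    exact mul_mem (E.comm _ g.2 _ n.2) (mem_subgroupOf.1 hn)⟩
  letI : CommGroup (Z ⧸ N) :=
    { (inferInstance : Group (Z ⧸ N)) with
      mul_comm := fun a b => by
        obtain ⟨x, rfl⟩ := QuotientGroup.mk_surjective a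
        obtain ⟨y, rfl⟩ := QuotientGroup.mk_surjective b
        rw [← QuotientGroup.mk_mul, ← QuotientGroup.mk_mul, QuotientGroup.eq, mem_subgroupOf]
        have h : (((x * y)⁻¹ * (y * x) : Z) : Γ) = ⁅(y : Γ)⁻¹, (x : Γ)⁻¹⁆ := by
          simp [commutatorElement_def, mul_assoc]
        rw [h]
        exact E.comm _ (inv_mem y.2) _ (inv_mem x.2) }
  have hpow : ∀ a : Additive (Z ⧸ N), q • a = 0 := fun a => by
    obtain ⟨x, hx⟩ := QuotientGroup.mk_surjective (Additive.toMul a)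
    refine Additive.toMul.injective ?_
    rw [toMul_nsmul, toMul_zero, ← hx, ← QuotientGroup.mk_pow, QuotientGroup.eq_one_iff,
      mem_subgroupOf, SubgroupClass.coe_pow]
    exact E.pow _ x.2
  letI : Module (ZMod q) (Additive (Z ⧸ N)) := AddCommGroup.zmodModule hpow
  refine ⟨Additive (Z ⧸ N), inferInstance, inferInstance,
    fun z => Additive.ofMul (QuotientGroup.mk z), fun x y => rfl, fun a => ?_, fun z => ?_⟩
  · obtain ⟨x, hx⟩ := QuotientGroup.mk_surjective (Additive.toMul a)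
    exact ⟨x, by simp [hx]⟩
  · simp only [ofMul_eq_zero, QuotientGroup.eq_one_iff, N, mem_subgroupOf]

/-- An element of the dual vanishing on `R` which agrees on `R'` with a given one vanishing on
`R ⊓ R'`. -/
theorem ElemSection.exists_split (E : ElemSection F q Z Q) {R R' : Subgroup Γ} (hQR : Q ≤ R)
    (hQR' : Q ≤ R') {f : Z → F} (hadd : ∀ x y : Z, (x : Γ) ∈ R' → (y : Γ) ∈ R' →
      f (x * y) = f x + f y)
    (hf : ∀ z : Z, (z : Γ) ∈ R → (z : Γ) ∈ R' → f z = 0) :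
    ∃ g ∈ annih F Z Q R, ∀ z : Z, (z : Γ) ∈ R' → (g : ↥Z → F) z = f z := by
  haveI : Fact q.Prime := ⟨E.prime⟩
  haveI := E.char
  letI : Algebra (ZMod q) F := ZMod.algebra F q
  obtain ⟨A, _, _, π, hπ, hsurj, hker⟩ := E.exists_quot
  have hπ1 : π 1 = 0 := by
    have := hπ 1 1
    rwa [one_mul, left_eq_add] at this
  have hπinv : ∀ x : Z, π x⁻¹ = -π x := fun x => by
    have := hπ x x⁻¹
    rw [mul_inv_cancel, hπ1] at this
    exact eq_neg_of_add_eq_zero_right this.symm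
  let sub : Subgroup Γ → Submodule (ZMod q) A := fun S => AddSubgroup.toZModSubmodule q
    { carrier := {a | ∃ z : Z, (z : Γ) ∈ S ∧ π z = a}
      add_mem' := fun {a b} ⟨x, hx, ha⟩ ⟨y, hy, hb⟩ => ⟨x * y, mul_mem hx hy, by rw [hπ, ha, hb]⟩
      zero_mem' := ⟨1, one_mem S, hπ1⟩
      neg_mem' := fun {a} ⟨x, hx, ha⟩ => ⟨x⁻¹, inv_mem hx, by rw [hπinv, ha]⟩ }
  have hsub : ∀ S, Q ≤ S → ∀ z : Z, π z ∈ sub S ↔ (z : Γ) ∈ S := fun S hS z => by
    refine ⟨fun ⟨w, hw, e⟩ => ?_, fun h => ⟨z, h, rfl⟩⟩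
    have h0 : π (w⁻¹ * z) = 0 := by rw [hπ, hπinv, e, neg_add_cancel]
    have := mul_mem hw (hS ((hker _).1 h0))
    simpa using this
  -- `f` on the image of `R'`
  have hfQ : ∀ z : Z, (z : Γ) ∈ Q → f z = 0 := fun z hz => hf z (hQR hz) (hQR' hz)
  have hrep : ∀ a : sub R', ∃ z : Z, (z : Γ) ∈ R' ∧ π z = a := fun a => a.2
  choose rep hrepR hrepπ using hrep
  have hfrep : ∀ (z : Z) (hz : (z : Γ) ∈ R') (a : sub R'), π z = a → f (rep a) = f z := by
    intro z hz a ha
    have h0 : ((z⁻¹ * rep a : Z) : Γ) ∈ Q := (hker _).1 (by rw [hπ, hπinv, ha, hrepπ, neg_add_cancel])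
    have h1 := hadd z (z⁻¹ * rep a) hz (hQR' h0)
    rw [mul_inv_cancel_left, hfQ _ h0, add_zero] at h1
    exact h1
  let f₀ : sub R' →+ F := AddMonoidHom.mk' (fun a => f (rep a)) fun a b => by
    show f (rep (a + b)) = f (rep a) + f (rep b)
    rw [hfrep _ (mul_mem (hrepR a) (hrepR b)) (a + b) (((hπ _ _).trans (congrArg₂ (· + ·) (hrepπ a) (hrepπ b))).trans rfl),
      hadd _ _ (hrepR a) (hrepR b)]
  let fl : sub R' →ₗ[ZMod q] F := AddMonoidHom.toZModLinearMap q f₀
  let h : sub R' →ₗ[ZMod q] A ⧸ sub R := (sub R).mkQ.comp (sub R').subtype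
  have hle : LinearMap.ker h ≤ LinearMap.ker fl := fun a ha => by
    have ha' : (a : A) ∈ sub R := (Submodule.Quotient.mk_eq_zero _).1 ha
    rw [← hrepπ a, hsub R hQR] at ha'
    exact hf _ ha' (hrepR a)
  obtain ⟨g₀, hg₀⟩ := LinearMap.exists_extend
    (((LinearMap.ker h).liftQ fl hle).comp h.quotKerEquivRange.symm.toLinearMap)
  have hg : ∀ a : sub R', g₀ (h a) = fl a := fun a => by
    have e := LinearMap.congr_fun hg₀ ⟨h a, LinearMap.mem_range_self h a⟩
    simpa [LinearMap.quotKerEquivRange_symm_apply_image] using e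
  refine ⟨⟨fun z => g₀ ((sub R).mkQ (π z)), fun x y => by simp [hπ],
    fun z hz => by simp [(hker z).2 hz]⟩, fun z hz => ?_, fun z hz => ?_⟩
  · show g₀ ((sub R).mkQ (π z)) = 0
    rw [Submodule.mkQ_apply, (Submodule.Quotient.mk_eq_zero _).2 ((hsub R hQR z).2 hz), map_zero]
  · exact (hg ⟨π z, (hsub R' hQR' z).2 hz⟩).trans (hfrep z hz _ rfl)

theorem ElemSection.exists_annih (E : ElemSection F q Z Q) {R : Subgroup Γ} (hQR : Q ≤ R)
    (hR : R ≤ Z) {z : Γ} (hz : z ∈ Z) (hzR : z ∉ R) :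
    ∃ f ∈ annih F Z Q R, (f : ↥Z → F) ⟨z, hz⟩ ≠ 0 := by
  classical
  haveI : Fact q.Prime := ⟨E.prime⟩
  haveI := E.char
  letI : Algebra (ZMod q) F := ZMod.algebra F q
  obtain ⟨A, _, _, π, hπ, hsurj, hker⟩ := E.exists_quot
  have hπ1 : π 1 = 0 := by
    have := hπ 1 1
    rwa [one_mul, left_eq_add] at this
  let sR : Submodule (ZMod q) A := AddSubgroup.toZModSubmodule q
    (AddSubgroup.closure (π '' {w : Z | (w : Γ) ∈ R}))
  have hmem : π ⟨z, hz⟩ ∉ sR := by
    intro hc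
    have key : ∀ a ∈ AddSubgroup.closure (π '' {w : Z | (w : Γ) ∈ R}),
        ∀ y : Z, π y = a → (y : Γ) ∈ R := by
      intro a ha
      induction ha using AddSubgroup.closure_induction with
      | mem a ha =>
        obtain ⟨w, hw, rfl⟩ := ha
        intro y hy
        have h0 : π (w⁻¹ * y) = 0 := by
          have e := hπ w (w⁻¹ * y)
          rwa [mul_inv_cancel_left, hy, left_eq_add] at e
        have := mul_mem (show (w : Γ) ∈ R from hw) (hQR ((hker _).1 h0))
        simpa using this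
      | zero => exact fun y hy => hQR ((hker _).1 hy)
      | add a b _ _ iha ihb =>
        intro y hy
        obtain ⟨x, rfl⟩ := hsurj a
        have e := hπ x (x⁻¹ * y)
        rw [mul_inv_cancel_left, hy, add_right_inj] at e
        have := mul_mem (iha x rfl) (ihb _ e.symm)
        simpa using this
      | neg a _ iha =>
        intro y hy
        have e := hπ y y⁻¹
        rw [mul_inv_cancel, hπ1, hy] at e
        have := iha y⁻¹ (eq_neg_of_add_eq_zero_right e.symm |>.trans (neg_neg a))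
        simpa using this
    exact hzR (key _ hc ⟨z, hz⟩ rfl)
  obtain ⟨φ, hφ1, hφ2⟩ := Submodule.exists_dual_map_eq_bot_of_notMem hmem inferInstance
  refine ⟨⟨fun w => algebraMap (ZMod q) F (φ (π w)), fun x y => by simp [hπ],
    fun w hw => by simp [(hker w).2 hw]⟩, fun w hw => ?_, ?_⟩
  · show algebraMap (ZMod q) F (φ (π w)) = 0
    have : φ (π w) ∈ sR.map φ :=
      Submodule.mem_map_of_mem (AddSubgroup.subset_closure (Set.mem_image_of_mem π hw))
    rw [hφ2, Submodule.mem_bot] at this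
    rw [this, map_zero]
  · exact fun h => hφ1 ((algebraMap (ZMod q) F).injective (h.trans (map_zero _).symm))

theorem ElemSection.annih_eq_bot (E : ElemSection F q Z Q) {R : Subgroup Γ} (hQR : Q ≤ R)
    (hR : R ≤ Z) : annih F Z Q R = ⊥ ↔ R = Z := by
  refine ⟨fun h => le_antisymm hR fun z hz => ?_, fun h => ?_⟩
  · by_contra hzR
    obtain ⟨f, hf, hne⟩ := E.exists_annih hQR hR hz hzR
    rw [h, Submodule.mem_bot] at hf
    exact hne (by rw [hf]; rfl)
  · refine (Submodule.eq_bot_iff _).2 fun f hf => Subtype.ext (funext fun z => ?_)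
    exact hf z (h.symm ▸ z.2)

theorem ElemSection.annih_inf (E : ElemSection F q Z Q) {R R' : Subgroup Γ} (hQR : Q ≤ R)
    (hQR' : Q ≤ R') : annih F Z Q (R ⊓ R') = annih F Z Q R ⊔ annih F Z Q R' := by
  refine le_antisymm (fun f hf => ?_) (sup_le (annih_anti inf_le_left) (annih_anti inf_le_right))
  obtain ⟨g, hg, hgf⟩ := E.exists_split hQR hQR' (f := (f : ↥Z → F)) (fun x y _ _ => f.2.1 x y)
    fun z h1 h2 => hf z ⟨h1, h2⟩
  refine Submodule.mem_sup.2 ⟨g, hg, f - g, fun z hz => ?_, add_sub_cancel g f⟩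
  simp [hgf z hz]

theorem ElemSection.annih_iInf (E : ElemSection F q Z Q) {ι : Type*} [Finite ι]
    (R : ι → Subgroup Γ) (hQR : ∀ i, Q ≤ R i) :
    annih F Z Q (Z ⊓ ⨅ i, R i) = ⨆ i, annih F Z Q (Z ⊓ R i) := by
  classical
  cases nonempty_fintype ι
  have key : ∀ s : Finset ι, annih F Z Q (Z ⊓ s.inf R) = s.sup fun i => annih F Z Q (Z ⊓ R i) := by
    intro s
    induction s using Finset.induction_on with
    | empty =>
      rw [Finset.inf_empty, inf_top_eq, Finset.sup_empty]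
      exact (E.annih_eq_bot E.le le_rfl).2 rfl
    | insert i s _ ih =>
      have hs : Q ≤ Z ⊓ s.inf R := le_inf E.le (Finset.le_inf fun j _ => hQR j)
      rw [Finset.inf_insert, Finset.sup_insert, ← ih, inf_inf_distrib_left,
        E.annih_inf (le_inf E.le (hQR i)) hs]
  have h := key Finset.univ
  rwa [Finset.inf_univ_eq_iInf, Finset.sup_univ_eq_iSup] at h

section Normal

variable [Z.Normal] [Q.Normal]

theorem mem_fixSub_dual {g : Γ} {f : ↥(dualSub F Z Q)} :
    f ∈ fixSub (dualRep F Z Q) g ↔ ∀ z : Z, (f : ↥Z → F) ⟨g⁻¹ * z * g, by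
      simpa using (inferInstance : Z.Normal).conj_mem z z.2 g⁻¹⟩ = (f : ↥Z → F) z := by
  rw [mem_fixSub, Subtype.ext_iff, funext_iff]
  exact Iff.rfl

theorem comm_mem (g : Γ) {z : Γ} (hz : z ∈ Z) : ⁅g, z⁆ ∈ Z := by
  rw [commutatorElement_def]
  exact mul_mem ((inferInstance : Z.Normal).conj_mem z hz g) (inv_mem hz)

/-- An element of the dual is fixed by `g` when it kills the commutators with `g`. -/
theorem mem_fixSub_iff_comm {g : Γ} {f : ↥(dualSub F Z Q)} :
    f ∈ fixSub (dualRep F Z Q) g ↔ ∀ z : Z, (f : ↥Z → F) ⟨⁅g, (z : Γ)⁆, comm_mem g z.2⟩ = 0 := by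
  rw [mem_fixSub_dual]
  have key : ∀ (w z : Z), (w : Γ) = g * z * g⁻¹ →
      (f : ↥Z → F) ⟨⁅g, (z : Γ)⁆, comm_mem g z.2⟩ = (f : ↥Z → F) w - (f : ↥Z → F) z := by
    intro w z hw
    rw [sub_eq_add_neg, ← dual_inv, ← f.2.1]
    exact congrArg (f : ↥Z → F) (Subtype.ext (by simp [commutatorElement_def, hw]))
  constructor
  · intro h z
    let w : Z := ⟨g * z * g⁻¹, (inferInstance : Z.Normal).conj_mem z z.2 g⟩
    rw [key w z rfl, sub_eq_zero, ← h w]
    exact congrArg (f : ↥Z → F) (Subtype.ext (by simp [w, mul_assoc]))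
  · intro h z
    let y : Z := ⟨g⁻¹ * z * g, by simpa using (inferInstance : Z.Normal).conj_mem z z.2 g⁻¹⟩
    have e := h y
    rw [key z y (by simp [y, mul_assoc]), sub_eq_zero] at e
    exact e.symm

theorem ElemSection.annih_le_fixSub (E : ElemSection F q Z Q) {R : Subgroup Γ} (hQR : Q ≤ R)
    (hR : R ≤ Z) (g : Γ) :
    annih F Z Q R ≤ fixSub (dualRep F Z Q) g ↔ ∀ z ∈ Z, ⁅g, z⁆ ∈ R := by
  refine ⟨fun h z hz => ?_, fun h f hf => mem_fixSub_iff_comm.2 fun z => hf _ (h z z.2)⟩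
  by_contra hne
  obtain ⟨f, hf, hfne⟩ := E.exists_annih hQR hR (comm_mem g hz) hne
  exact hfne (mem_fixSub_iff_comm.1 (h hf) ⟨z, hz⟩)

theorem fixSub_eq_annih (a : Γ) :
    fixSub (dualRep F Z Q) a = annih F Z Q ⁅Z, zpowers a⁆ := by
  ext f
  rw [mem_annih_iff_le_zeros (commutator_le_left Z (zpowers a)), commutator_le]
  constructor
  · intro hf z hz w hw
    have hw' : w ∈ fixer (dualRep F Z Q) (Submodule.span F {f}) := by
      refine (zpowers_le.2 ?_) hw
      intro v hv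
      exact Submodule.span_le.2 (Set.singleton_subset_iff.2 hf) hv
    obtain hfw : f ∈ fixSub (dualRep F Z Q) w := hw' f (Submodule.mem_span_singleton_self f)
    have h := mem_fixSub_iff_comm.1 hfw ⟨z, hz⟩
    rw [← commutatorElement_inv]
    exact inv_mem ⟨comm_mem w hz, h⟩
  · intro h
    refine mem_fixSub_iff_comm.2 fun z => ?_
    obtain ⟨hh, e⟩ := inv_mem (h (z : Γ) z.2 a (mem_zpowers a))
    simpa only [commutatorElement_inv] using e

theorem rho_eq_one_iff (E : ElemSection F q Z Q) (g : Γ) :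
    dualRep F Z Q g = 1 ↔ ∀ z ∈ Z, ⁅g, z⁆ ∈ Q := by
  rw [← E.annih_le_fixSub le_rfl E.le g, annih_self]
  refine ⟨fun h f _ => ?_, fun h => LinearMap.ext fun f => h (Submodule.mem_top : f ∈ ⊤)⟩
  rw [mem_fixSub, h]
  rfl

theorem rho_mem_annih {R : Subgroup Γ} (g : Γ) {f : ↥(dualSub F Z Q)}
    (hf : f ∈ annih F Z Q R) :
    dualRep F Z Q g f ∈ annih F Z Q (R.map (MulAut.conj g).toMonoidHom) := by
  intro z hz
  obtain ⟨r, hr, e⟩ := hz
  rw [dualRep_apply]
  refine hf _ ?_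
  show g⁻¹ * (z : Γ) * g ∈ R
  rw [← e]
  simpa [mul_assoc] using hr

end Normal

end CfsgLib.TurullFit
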