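import Cfsg.Agent.Lib.TurullFit.Defs

/-!
# A group of small rank elements on a self dual representation

Over an algebraically closed field let `a` have prime order `r = 2 ^ m + 1` and move at most `2 * m`
dimensions of a self dual representation. Then `a` centralises, in the image, each odd `p`-group of
class at most two normalised by it.
-/

set_option autoImplicit false
set_option linter.style.haveILetI false
set_option linter.unusedSectionVars false

open Module
open scoped commutatorElement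

namespace CfsgLib.TurullFit.ExcStab

open CfsgLib.FgsC.HallHigman CfsgLib.FgsC.CoprimeWeights

variable {K : Type*} [Field K] [IsAlgClosed K] {G : Type*} [Group G] [Finite G] {V : Type*}
  [AddCommGroup V] [Module K V] [FiniteDimensional K V] {ρ : Representation K G V}

/-- The hypotheses on the representation. -/
structure Small (ρ : Representation K G V) (r m p : ℕ) (a : G) : Prop where
  prime_r : r.Prime
  r_eq : r = 2 ^ m + 1
  m_pos : 0 < m
  pow_eq_one : a ^ r = 1
  prime_p : p.Prime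
  p_odd : p ≠ 2
  p_ne_r : p ≠ r
  p_ne_zero : (p : K) ≠ 0
  rank : finrank K V ≤ finrank K (fixSub ρ a) + 2 * m
  dual : ∀ (A : Subgroup G) (χ : G → K) (v : V), (Nat.card A : K) ≠ 0 → v ∈ wspace ρ A χ →
    v ≠ 0 → ∃ w ∈ wspace ρ A (fun g => χ g⁻¹), w ≠ 0

variable {r m p : ℕ} {a : G}

theorem card_ne_zero (D : Small ρ r m p a) {A : Subgroup G} (hA : IsPGroup p A) :
    (Nat.card A : K) ≠ 0 := by
  haveI : Fact p.Prime := ⟨D.prime_p⟩
  obtain ⟨n, hn⟩ := IsPGroup.iff_card.1 hA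
  rw [hn, Nat.cast_pow]
  exact pow_ne_zero n D.p_ne_zero

theorem orderOf_ne_zero (D : Small ρ r m p a) {A : Subgroup G} (hA : IsPGroup p A) {x : G}
    (hx : x ∈ A) : (orderOf x : K) ≠ 0 := fun h => by
  obtain ⟨c, hc⟩ := Subgroup.orderOf_dvd_natCard A hx
  exact card_ne_zero D hA (by rw [hc, Nat.cast_mul, h, zero_mul])

theorem eq_one_of_pow (D : Small ρ r m p a) {M : Type*} [Monoid M] {c : M} {k : ℕ}
    (hk : c ^ p ^ k = 1) (hr : c ^ r = 1) : c = 1 := by
  have h := (pow_gcd_eq_one (m := p ^ k) (n := r)).2 ⟨hk, hr⟩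
  rwa [Nat.coprime_iff_gcd_eq_one.1
    (Nat.Coprime.pow_left k ((Nat.coprime_primes D.prime_p D.prime_r).2 D.p_ne_r)), pow_one] at h

theorem exists_pow {A : Subgroup G} (hA : IsPGroup p A) {x : G} (hx : x ∈ A) :
    ∃ k : ℕ, x ^ p ^ k = 1 := by
  obtain ⟨k, hk⟩ := hA ⟨x, hx⟩
  exact ⟨k, by simpa using congrArg Subtype.val hk⟩

/-- `a` centralises every commutative `p`-group it normalises. -/
theorem abelian (D : Small ρ r m p a) {A : Subgroup G} (hA : IsPGroup p A)
    (haA : a ∈ Subgroup.normalizer (A : Set G))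
    (hab : ∀ x ∈ A, ∀ y ∈ A, ρ x * ρ y = ρ y * ρ x) {x : G} (hx : x ∈ A) :
    ρ (a * x * a⁻¹) = ρ x := by
  classical
  by_contra hne
  have hxa : a * x * a⁻¹ ∈ A := (Subgroup.mem_normalizer_iff.1 haA x).1 hx
  set k := x⁻¹ * (a * x * a⁻¹) with hkdef
  have hkA : k ∈ A := mul_mem (inv_mem hx) hxa
  have hk1 : ρ k ≠ 1 := fun h => hne (by
    calc ρ (a * x * a⁻¹) = ρ (x * k) := by rw [hkdef]; group
      _ = ρ x := by rw [map_mul, h, mul_one])
  obtain ⟨χ, v, hv, hv0, hkv⟩ :=
    exists_weight_moved hab (fun b hb => hab k hkA b hb) hk1 (orderOf_ne_zero D hA hkA)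
  have hχk : χ k ≠ 1 := fun h => hkv (by rw [hv k hkA, h, one_smul])
  have hmove : ¬ Fixes A χ a := fun h => hχk (by
    have h1 := h _ hxa
    rw [show a⁻¹ * (a * x * a⁻¹) * a = x by group] at h1
    rw [hkdef, weight_mul hv hv0 (inv_mem hx) hxa, ← h1, ← weight_mul hv hv0 (inv_mem hx) hx,
      inv_mul_cancel, weight_one hv hv0])
  obtain ⟨w, hw, hw0⟩ := D.dual A χ v (card_ne_zero D hA) hv hv0
  have hinv : ∀ {g : G}, g ∈ A → χ g⁻¹ * χ g = 1 := fun {g} hg => by
    rw [← weight_mul hv hv0 (inv_mem hg) hg, inv_mul_cancel, weight_one hv hv0]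
  let wt : Fin r × Bool → A → K := fun i g =>
    if i.2 then χ ((a ^ (i.1 : ℕ))⁻¹ * g * a ^ (i.1 : ℕ))⁻¹
    else χ ((a ^ (i.1 : ℕ))⁻¹ * g * a ^ (i.1 : ℕ))
  let vec : Fin r × Bool → V := fun i => ρ (a ^ (i.1 : ℕ)) (if i.2 then w else v)
  have hsame : ∀ {i j : ℕ}, i < r → j < r →
      (∀ g ∈ A, χ ((a ^ i)⁻¹ * g * a ^ i) = χ ((a ^ j)⁻¹ * g * a ^ j)) → i = j :=
    fun hi hj h => eq_of_fixes_pow D.prime_r haA D.pow_eq_one hmove hi hj h
  have hcross : ∀ i j : ℕ,
      (∀ g ∈ A, χ ((a ^ i)⁻¹ * g * a ^ i) = χ ((a ^ j)⁻¹ * g * a ^ j)⁻¹) → False := by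
    intro i j h
    obtain ⟨d, hd⟩ : ∃ d : ℕ, a ^ j = a ^ i * a ^ d := ⟨r * (i + 1) + j - i, by
      rw [← pow_add, show i + (r * (i + 1) + j - i) = r * (i + 1) + j by
        have := Nat.le_mul_of_pos_left (i + 1) D.prime_r.pos; omega,
        pow_add, pow_mul, D.pow_eq_one, one_pow, one_mul]⟩
    have hneg : ∀ g ∈ A, χ g = χ ((a ^ d)⁻¹ * g * a ^ d)⁻¹ := fun g hg => by
      have h1 := h _ ((Subgroup.mem_normalizer_iff.1 (pow_mem haA i) g).1 hg)
      rw [show (a ^ i)⁻¹ * (a ^ i * g * (a ^ i)⁻¹) * a ^ i = g by group, hd,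
        show ((a ^ i * a ^ d)⁻¹ * (a ^ i * g * (a ^ i)⁻¹) * (a ^ i * a ^ d))
          = (a ^ d)⁻¹ * g * a ^ d by group] at h1
      exact h1
    have h2 : a ^ (2 * d) ∈ stab A χ := by
      refine ⟨pow_mem haA _, fun g hg => ?_⟩
      have hg' := conj_mem (pow_mem haA d) hg
      rw [hneg g hg, hneg _ (inv_mem hg'), two_mul, pow_add]
      congr 1
      group
    have h3 : a ^ d ∈ stab A χ := by
      obtain ⟨l, hl⟩ : ∃ l, 2 * l = r + 1 := ⟨2 ^ (m - 1) + 1, by
        have : 2 * 2 ^ (m - 1) = 2 ^ m := by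
          rw [← pow_succ']; congr 1; have := D.m_pos; omega
        rw [D.r_eq]; omega⟩
      have h4 := pow_mem h2 l
      rwa [← pow_mul, show 2 * d * l = r * d + d by
        calc 2 * d * l = (2 * l) * d := by ring
          _ = r * d + d := by rw [hl]; ring,
        pow_add, pow_mul, D.pow_eq_one, one_pow, one_mul] at h4
    have hsq : χ k ^ 2 = 1 := by
      have h5 := hneg k hkA
      rw [show ((a ^ d)⁻¹ * k * a ^ d)⁻¹ = (a ^ d)⁻¹ * k⁻¹ * a ^ d by group,
        h3.2 _ (inv_mem hkA)] at h5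
      rw [sq]
      conv_lhs => arg 1; rw [h5]
      exact hinv hkA
    obtain ⟨e, he⟩ := exists_pow hA hkA
    have hpe : χ k ^ p ^ e = 1 := by rw [← weight_pow hv hv0 hkA, he, weight_one hv hv0]
    have := (pow_gcd_eq_one (m := p ^ e) (n := 2)).2 ⟨hpe, hsq⟩
    rw [Nat.coprime_iff_gcd_eq_one.1
      (Nat.Coprime.pow_left e ((Nat.coprime_primes D.prime_p Nat.prime_two).2 D.p_odd)),
      pow_one] at this
    exact hχk this
  have hwt : Function.Injective wt := by
    rintro ⟨i, b⟩ ⟨j, c⟩ he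
    have he' : ∀ (g : G) (hg : g ∈ A), wt (i, b) ⟨g, hg⟩ = wt (j, c) ⟨g, hg⟩ := fun g hg => congrFun he ⟨g, hg⟩
    cases b <;> cases c <;> simp only [wt, Bool.false_eq_true, if_false, if_true] at he'
    · rw [Fin.ext (hsame i.2 j.2 he')]
    · exact (hcross _ _ he').elim
    · exact (hcross _ _ fun g hg => (he' g hg).symm).elim
    · rw [Fin.ext (hsame i.2 j.2 fun g hg => by
        have := he' g⁻¹ (inv_mem hg)
        simpa [mul_assoc] using this)]
  have hvec : LinearIndependent K vec := by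
    refine linearIndependent_of_weights (fun g : A => ρ (g : G)) wt hwt vec
      (fun i => rho_ne_zero (by cases i.2 <;> simp [hv0, hw0])) ?_
    rintro ⟨i, b⟩ g
    cases b
    · exact rho_mem_wspace' hv (pow_mem haA _) g g.2
    · exact rho_mem_wspace' hw (pow_mem haA _) g g.2
  -- the span of all but the last translates meets the fixed space trivially
  let sub : Fin (r - 1) × Bool → V := fun i => vec (⟨i.1, by omega⟩, i.2)
  have hsub : LinearIndependent K sub :=
    hvec.comp (fun i : Fin (r - 1) × Bool => ((⟨i.1, by omega⟩ : Fin r), i.2)) (by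
      rintro ⟨i, b⟩ ⟨j, c⟩ h
      simp only [Prod.mk.injEq, Fin.mk.injEq] at h
      exact Prod.ext (Fin.ext h.1) h.2)
  set W := Submodule.span K (Set.range sub) with hW
  have hWU : W ⊓ fixSub ρ a = ⊥ := by
    rw [Submodule.eq_bot_iff]
    rintro u ⟨hu, hau⟩
    have hsupp : u ∈ Submodule.span K (vec '' {i | (i.1 : ℕ) < r - 1}) := by
      refine Submodule.span_mono ?_ hu
      rintro _ ⟨i, rfl⟩
      exact ⟨_, i.1.2, rfl⟩
    obtain ⟨l, hl, rfl⟩ := (Finsupp.mem_span_image_iff_linearCombination K).1 hsupp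
    haveI : NeZero r := ⟨D.prime_r.ne_zero⟩
    have hl' : ∀ i : Fin r × Bool, ¬ (i.1 : ℕ) < r - 1 → l i = 0 := fun i hi =>
      (Finsupp.mem_supported' K l).1 hl i hi
    have hlin : Finsupp.linearCombination K vec l = ∑ i, l i • vec i := by
      rw [Finsupp.linearCombination_apply, Finsupp.sum_fintype]
      simp
    rw [hlin] at hau ⊢
    let e : Fin r × Bool ≃ Fin r × Bool := (Equiv.addRight (1 : Fin r)).prodCongr (Equiv.refl _)
    have hea : ∀ i, ρ a (vec i) = vec (e i) := by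
      rintro ⟨i, b⟩
      show ρ a (ρ (a ^ (i : ℕ)) _) = ρ (a ^ ((i + 1 : Fin r) : ℕ)) _
      rw [rho_mul_apply, ← pow_succ']
      congr 2
      rw [Fin.val_add, Fin.val_one']
      simp [← pow_eq_pow_mod _ D.pow_eq_one]
    have hshift : ∀ i, l i = l (e i) := by
      have h0 : ∑ i, (l (e.symm i) - l i) • vec i = 0 := by
        simp only [sub_smul, Finset.sum_sub_distrib, sub_eq_zero]
        refine Eq.trans ?_ (hau : ρ a _ = _)
        rw [map_sum]
        refine (Fintype.sum_equiv e _ _ fun i => ?_).symm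
        rw [map_smul, hea, e.symm_apply_apply]
      intro i
      have := Fintype.linearIndependent_iff.1 hvec _ h0 (e i)
      rwa [e.symm_apply_apply, sub_eq_zero] at this
    refine Finset.sum_eq_zero fun i _ => ?_
    have hall : ∀ (n : ℕ) (hn : n < r) (b : Bool), l (⟨n, hn⟩, b) = 0 := by
      intro n
      induction h : r - 1 - n generalizing n with
      | zero => exact fun hn b => hl' _ (by simp; omega)
      | succ q ih =>
        intro hn b
        rw [hshift]
        have he : e (⟨n, hn⟩, b) = ((⟨n + 1, by omega⟩ : Fin r), b) := by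
          refine Prod.ext (Fin.ext ?_) rfl
          show (((⟨n, hn⟩ : Fin r) + 1 : Fin r) : ℕ) = n + 1
          rw [Fin.val_add, Fin.val_one', Nat.add_mod_mod, Nat.mod_eq_of_lt (show n + 1 < r by omega)]
        rw [he]
        exact ih (n + 1) (by omega) (by omega) b
    rw [show i = (⟨i.1.1, i.1.2⟩, i.2) from rfl, hall, zero_smul]
  have hdim : finrank K W = (r - 1) * 2 := by
    rw [hW, finrank_span_eq_card hsub]
    simp
  have h1 := Submodule.finrank_sup_add_finrank_inf_eq W (fixSub ρ a)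
  rw [hWU, finrank_bot, add_zero, hdim] at h1
  have h2 := Submodule.finrank_le (W ⊔ fixSub ρ a)
  have h3 := D.rank
  have h4 := Nat.lt_two_pow_self (n := m)
  have h5 := D.r_eq
  omega

/-- Number theory: a square is not this small. -/
theorem arith {p e r m : ℕ} (hp : p.Prime) (hp2 : p ≠ 2) (hpr : p ≠ r) (hm : 0 < m)
    (hr : r.Prime) (hr2 : r = 2 ^ m + 1) (he : 2 ≤ e) (hmod : p ^ e ≡ 1 [MOD r]) :
    16 * m * m < p ^ e := by
  haveI : Fact r.Prime := ⟨hr⟩
  have hm2 : 2 * m ≤ 2 ^ m := by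
    have h := Nat.lt_two_pow_self (n := m - 1)
    have h' : 2 * 2 ^ (m - 1) = 2 ^ m := by rw [← pow_succ']; congr 1; omega
    omega
  have hp3 : 3 ≤ p := by have := hp.two_le; omega
  have h1 : ((p : ZMod r)) ^ e = 1 := by
    have := (ZMod.natCast_eq_natCast_iff' (p ^ e) 1 r).2 hmod
    simpa using this
  rcases Nat.even_or_odd e with ⟨l, rfl⟩ | hodd
  · have hq : 3 ≤ p ^ l := hp3.trans (Nat.le_self_pow (by omega) p)
    have hqodd : p ^ l % 2 = 1 := by
      rw [Nat.pow_mod, (hp.eq_two_or_odd.resolve_left hp2)]; simp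
    have hrodd : r % 2 = 1 := hr.eq_two_or_odd.resolve_left (by omega)
    rw [pow_add] at h1 ⊢
    rcases mul_self_eq_one_iff.1 h1 with h | h
    · obtain ⟨c, hc⟩ : r ∣ p ^ l - 1 := by
        rw [← CharP.cast_eq_zero_iff (ZMod r) r, Nat.cast_sub (by omega)]
        push_cast
        rw [h, sub_self]
      have hc2 : 2 ≤ c := by
        rcases c with _ | _ | c <;> omega
      have : 2 * r ≤ r * c := by rw [mul_comm 2]; exact Nat.mul_le_mul_left r hc2
      have hbig : 4 * m + 2 ≤ p ^ l := by omega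
      nlinarith
    · obtain ⟨c, hc⟩ : r ∣ p ^ l + 1 := by
        rw [← CharP.cast_eq_zero_iff (ZMod r) r]
        push_cast
        rw [h, neg_add_cancel]
      have hc2 : 2 ≤ c := by
        rcases c with _ | _ | c <;> omega
      have : 2 * r ≤ r * c := by rw [mul_comm 2]; exact Nat.mul_le_mul_left r hc2
      have hbig : 4 * m + 1 ≤ p ^ l := by omega
      nlinarith
  · have hp1 : (p : ZMod r) = 1 := by
      have hne : (p : ZMod r) ≠ 0 := fun h => by
        rw [CharP.cast_eq_zero_iff (ZMod r) r] at h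
        exact hpr ((Nat.prime_dvd_prime_iff_eq hr hp).1 h).symm
      have h2 := ZMod.pow_card_sub_one_eq_one hne
      have h3 := (pow_gcd_eq_one (m := e) (n := r - 1)).2 ⟨h1, h2⟩
      rwa [show r - 1 = 2 ^ m by omega, Nat.coprime_iff_gcd_eq_one.1
        (Nat.Coprime.pow_right m (Nat.coprime_two_right.2 hodd)), pow_one] at h3
    obtain ⟨c, hc⟩ : r ∣ p - 1 := by
      rw [← CharP.cast_eq_zero_iff (ZMod r) r, Nat.cast_sub (by omega)]
      push_cast
      rw [hp1, sub_self]
    have hc2 : 2 ≤ c := by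
      have hpodd := hp.eq_two_or_odd.resolve_left hp2
      have hrodd : r % 2 = 1 := hr.eq_two_or_odd.resolve_left (by omega)
      rcases c with _ | _ | c <;> omega
    have : 2 * r ≤ r * c := by rw [mul_comm 2]; exact Nat.mul_le_mul_left r hc2
    have he3 : 3 ≤ e := by obtain ⟨q, rfl⟩ := hodd; omega
    have hp2' : p ^ 3 ≤ p ^ e := Nat.pow_le_pow_right hp.pos he3
    have hbig : 4 * m + 2 ≤ p := by omega
    have hpp : p * p ≤ p ^ 3 := by
      rw [pow_succ, sq]
      exact Nat.le_mul_of_pos_right _ hp.pos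
    nlinarith

/-- A scalar-commutator section: the classes are independent operators. -/
theorem card_le {Q : Subgroup G} {W : Submodule K V} (hW : W ≠ ⊥)
    (hQW : ∀ g ∈ Q, ∀ w ∈ W, ρ g w ∈ W) (β : Q → Q →* K)
    (hβ : ∀ t e : Q, ∀ w ∈ W, ρ ⁅(t : G), (e : G)⁆ w = β t e • w)
    (Z : Subgroup Q) (hZ : ∀ e, e ∈ Z ↔ ∀ t, β t e = 1) :
    Z.index ≤ finrank K W * finrank K W := by
  classical
  haveI : Fintype (Q ⧸ Z) := Fintype.ofFinite _
  let T : Q → End K W := fun g => (ρ (g : G)).restrict (hQW g g.2)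
  have hT : ∀ (g : Q) (w : W), ((T g w : W) : V) = ρ (g : G) (w : V) := fun _ _ => rfl
  have hli : LinearIndependent K fun c : Q ⧸ Z => T (Quotient.out c) := by
    refine linearIndependent_of_weights
      (fun t : Q => (LinearMap.mulRight K (T t⁻¹)).comp (LinearMap.mulLeft K (T t)))
      (fun c t => β t (Quotient.out c)) ?_ _ ?_ ?_
    · intro c d hcd
      rw [← QuotientGroup.out_eq' c, ← QuotientGroup.out_eq' d, QuotientGroup.eq, hZ]
      intro t
      have h := congrFun hcd t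
      simp only at h
      rw [map_mul, ← h, ← map_mul, inv_mul_cancel, map_one]
    · intro c h0
      obtain ⟨u, hu, hu0⟩ := Submodule.exists_mem_ne_zero_of_ne_bot hW
      exact rho_ne_zero hu0 (congrArg Subtype.val (LinearMap.congr_fun h0 ⟨u, hu⟩))
    · intro c t
      refine LinearMap.ext fun w => Subtype.ext ?_
      generalize Quotient.out c = e
      show ρ (t : G) (ρ (e : G) (ρ ((t⁻¹ : Q) : G) (w : V))) = β t e • ρ (e : G) (w : V)
      rw [rho_mul_apply, rho_mul_apply, Subgroup.coe_inv,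
        show (t : G) * e * (t : G)⁻¹ = ⁅(t : G), (e : G)⁆ * e by rw [commutatorElement_def]; group,
        ← rho_mul_apply, hβ t e _ (hQW e e.2 _ w.2)]
  have h := hli.fintype_card_le_finrank
  rwa [← Nat.card_eq_fintype_card, Module.finrank_linearMap] at h

/-- In the image, `a` centralises a `p`-group of class two normalised by it. -/
theorem classTwo (D : Small ρ r m p a) {H : Subgroup G} (hH : IsPGroup p H)
    (haH : a ∈ Subgroup.normalizer (H : Set G))
    (hcl : ∀ h₁ ∈ H, ∀ h₂ ∈ H, ∀ h₃ ∈ H, ρ ⁅⁅h₁, h₂⁆, h₃⁆ = 1) {h : G} (hh : h ∈ H) :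
    ρ (a * h * a⁻¹) = ρ h := by
  classical
  set C : Subgroup G := ⁅H, H⁆ with hCdef
  have hCH : C ≤ H := Subgroup.commutator_le.2 fun x hx y hy =>
    mul_mem (mul_mem (mul_mem hx hy) (inv_mem hx)) (inv_mem hy)
  have hcent : ∀ c ∈ C, ∀ y ∈ H, ρ c * ρ y = ρ y * ρ c := by
    intro c hc y hy
    induction hc using Subgroup.closure_induction with
    | mem c hc =>
      obtain ⟨x₁, hx₁, x₂, hx₂, rfl⟩ := hc
      have h1 := hcl x₁ hx₁ x₂ hx₂ y hy
      rw [← map_mul, ← map_mul,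
        show ⁅x₁, x₂⁆ * y = ⁅⁅x₁, x₂⁆, y⁆ * (y * ⁅x₁, x₂⁆) by
          rw [commutatorElement_def ⁅x₁, x₂⁆ y]; group,
        map_mul, h1, one_mul]
    | one => rw [map_one, one_mul, mul_one]
    | mul u w _ _ hu hw => rw [map_mul, mul_assoc, hw, ← mul_assoc, hu, mul_assoc]
    | inv u _ hu =>
      have h1 : ρ u⁻¹ * (ρ u * ρ y) * ρ u⁻¹ = ρ u⁻¹ * (ρ y * ρ u) * ρ u⁻¹ := by rw [hu]
      simp only [← map_mul] at h1 ⊢
      rw [show u⁻¹ * (u * y) * u⁻¹ = y * u⁻¹ by group,
        show u⁻¹ * (y * u) * u⁻¹ = u⁻¹ * y by group] at h1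
      exact h1.symm
  have hCab : ∀ x ∈ C, ∀ y ∈ C, ρ x * ρ y = ρ y * ρ x := fun x hx y hy => hcent x hx y (hCH hy)
  have haC : a ∈ Subgroup.normalizer (C : Set G) := by
    rw [Subgroup.mem_normalizer_iff_map_conj_eq, hCdef, Subgroup.map_commutator,
      Subgroup.mem_normalizer_iff_map_conj_eq.1 haH]
  have hCp : IsPGroup p C := hH.to_le hCH
  have hCa : ∀ c ∈ C, ρ (a * c * a⁻¹) = ρ c := fun c hc => abelian D hCp haC hCab hc
  set q := h * (a * h⁻¹ * a⁻¹) with hqdef
  have haconj : ∀ i : ℕ, ∀ g ∈ H, a ^ i * g * (a ^ i)⁻¹ ∈ H := fun i g hg =>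
    (Subgroup.mem_normalizer_iff.1 (pow_mem haH i) g).1 hg
  have hqH : q ∈ H := mul_mem hh ((Subgroup.mem_normalizer_iff.1 haH _).1 (inv_mem hh))
  set Q : Subgroup G := Subgroup.closure (Set.range fun i : ℕ => a ^ i * q * (a ^ i)⁻¹) with hQdef
  have hQH : Q ≤ H := (Subgroup.closure_le _).2 (by rintro _ ⟨i, rfl⟩; exact haconj i q hqH)
  have hgen : ∀ i : ℕ, a ^ i * q * (a ^ i)⁻¹ ∈ Q := fun i => Subgroup.subset_closure ⟨i, rfl⟩
  have hqQ : q ∈ Q := by simpa using hgen 0
  have hQa : ∀ g ∈ Q, a * g * a⁻¹ ∈ Q := fun g hg => by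
    induction hg using Subgroup.closure_induction with
    | mem g hg =>
      obtain ⟨i, rfl⟩ := hg
      have := hgen (i + 1)
      rwa [pow_succ', show a * a ^ i * q * (a * a ^ i)⁻¹ =
        a * (a ^ i * q * (a ^ i)⁻¹) * a⁻¹ by group] at this
    | one => simp [one_mem]
    | mul u w _ _ hu hw =>
      rw [show a * (u * w) * a⁻¹ = (a * u * a⁻¹) * (a * w * a⁻¹) by group]; exact mul_mem hu hw
    | inv u _ hu =>
      rw [show a * u⁻¹ * a⁻¹ = (a * u * a⁻¹)⁻¹ by group]; exact inv_mem hu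
  have haQ : a ∈ Subgroup.normalizer (Q : Set G) := by
    rw [Subgroup.mem_normalizer_iff_map_conj_eq]
    refine Subgroup.eq_of_le_of_card_ge ?_
      (Subgroup.card_map_of_injective (MulAut.conj a).injective).ge
    rintro _ ⟨g, hg, rfl⟩
    exact hQa g hg
  have hQp : IsPGroup p Q := hH.to_le hQH
  -- common fixed points of `a` and its conjugate
  set U := fixSub ρ a ⊓ (fixSub ρ a).map (ρ h) with hUdef
  have hU : finrank K V ≤ finrank K U + 4 * m := by
    have h1 := Submodule.finrank_sup_add_finrank_inf_eq (fixSub ρ a) ((fixSub ρ a).map (ρ h))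
    have h2 := Submodule.finrank_le (fixSub ρ a ⊔ (fixSub ρ a).map (ρ h))
    have h3 : finrank K ((fixSub ρ a).map (ρ h)) = finrank K (fixSub ρ a) :=
      (Submodule.equivMapOfInjective (ρ h) (fun u w huw => by
        simpa [rho_apply_inv] using congrArg (ρ h⁻¹) huw) _).finrank_eq.symm
    have h4 := D.rank
    rw [← hUdef] at h1
    omega
  have hQU : Q ≤ fixer ρ U := by
    refine (Subgroup.closure_le _).2 ?_
    rintro _ ⟨i, rfl⟩ u ⟨(hu : ρ a u = u), hu'⟩
    obtain ⟨w, (hw : ρ a w = w), rfl⟩ := hu'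
    have hpow : ∀ x : V, ρ a x = x → ∀ n : ℕ, ρ (a ^ n) x = x := fun x hx n => by
      induction n with
      | zero => rw [pow_zero, map_one, End.one_apply]
      | succ n ih => rw [pow_succ, ← rho_mul_apply, hx, ih]
    have hinv : ∀ x : V, ∀ g : G, ρ g x = x → ρ g⁻¹ x = x := fun x g hx => by
      conv_lhs => rw [← hx]
      exact rho_apply_inv g x
    have hqu : ρ q (ρ h w) = ρ h w := by
      rw [hqdef, ← rho_mul_apply, ← rho_mul_apply, ← rho_mul_apply, hinv _ _ hu, rho_apply_inv, hw]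
    rw [← rho_mul_apply, ← rho_mul_apply, hinv _ _ (hpow _ hu i), hqu, hpow _ hu i]
  by_cases hQab : ∀ x ∈ Q, ∀ y ∈ Q, ρ x * ρ y = ρ y * ρ x
  · have hfix := abelian D hQp haQ hQab (inv_mem hqQ)
    have hstep : ρ (a * h * a⁻¹) = ρ q⁻¹ * ρ h := by
      rw [← map_mul, hqdef]; congr 1; group
    have hind : ∀ i : ℕ, ρ (a ^ i * h * (a ^ i)⁻¹) = ρ q⁻¹ ^ i * ρ h := by
      intro i
      induction i with
      | zero => simp
      | succ i ih =>
        rw [pow_succ', show a * a ^ i * h * (a * a ^ i)⁻¹ = a * (a ^ i * h * (a ^ i)⁻¹) * a⁻¹ by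
          group, map_mul, map_mul, ih, ← map_pow, ← map_mul, ← map_mul, ← map_mul,
          show a * (q⁻¹ ^ i * h) * a⁻¹ = (a * q⁻¹ * a⁻¹) ^ i * (a * h * a⁻¹) by
            rw [conj_pow]; group,
          map_mul, map_pow, hfix, hstep, pow_succ, mul_assoc]
    have hr1 : ρ q⁻¹ ^ r = 1 := by
      have h1 := hind r
      rw [D.pow_eq_one, one_mul, inv_one, mul_one] at h1
      have h2 := congrArg (· * ρ h⁻¹) h1
      simpa only [mul_assoc, ← map_mul, mul_inv_cancel, map_one, mul_one] using h2.symm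
    obtain ⟨k, hk⟩ := exists_pow hH (inv_mem hqH)
    have hq1 : ρ q⁻¹ = 1 := eq_one_of_pow D (by rw [← map_pow, hk, map_one]) hr1
    rw [hstep, hq1, one_mul]
  exfalso
  push Not at hQab
  obtain ⟨x₀, hx₀, y₀, hy₀, hxy⟩ := hQab
  set z := ⁅x₀, y₀⁆ with hzdef
  have hzC : z ∈ C := Subgroup.commutator_mem_commutator (hQH hx₀) (hQH hy₀)
  have hzQ : z ∈ Q := mul_mem (mul_mem (mul_mem hx₀ hy₀) (inv_mem hx₀)) (inv_mem hy₀)
  have hz1 : ρ z ≠ 1 := fun h1 => hxy (by
    rw [← map_mul, ← map_mul, show x₀ * y₀ = z * (y₀ * x₀) by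
      rw [hzdef, commutatorElement_def]; group, map_mul, h1, one_mul])
  obtain ⟨χ, v, hv, hv0, hzv⟩ := exists_weight_moved hCab (fun c hc => hcent z hzC c (hCH hc))
    hz1 (orderOf_ne_zero D hCp hzC)
  have hχz : χ z ≠ 1 := fun h1 => hzv (by rw [hv z hzC, h1, one_smul])
  set W := wspace ρ C χ with hWdef
  have hWH : ∀ g ∈ H, ∀ w ∈ W, ρ g w ∈ W := fun g hg w hw c hc => by
    rw [← End.mul_apply, hcent c hc g hg, End.mul_apply, hw c hc, map_smul]
  have hχc : ∀ {c c' : G}, c ∈ C → c' ∈ C → ρ c = ρ c' → χ c = χ c' := fun {c c'} hc hc' he =>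
    smul_left_injective K hv0 (show χ c • v = χ c' • v by rw [← hv c hc, ← hv c' hc', he])
  have hconjC : ∀ e ∈ H, ∀ c ∈ C, e * c * e⁻¹ ∈ C ∧ χ (e * c * e⁻¹) = χ c := fun e he c hc => by
    have h1 : e * c * e⁻¹ ∈ C := by
      rw [show e * c * e⁻¹ = ⁅e, c⁆ * c by rw [commutatorElement_def]; group]
      exact mul_mem (Subgroup.commutator_mem_commutator he (hCH hc)) hc
    refine ⟨h1, hχc h1 hc ?_⟩
    rw [map_mul, map_mul, ← hcent c hc e he, mul_assoc, ← map_mul, mul_inv_cancel, map_one, mul_one]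
  have hmem : ∀ t e : Q, ⁅(t : G), (e : G)⁆ ∈ C := fun t e =>
    Subgroup.commutator_mem_commutator (hQH t.2) (hQH e.2)
  let β : Q → Q →* K := fun t =>
    { toFun := fun e => χ ⁅(t : G), (e : G)⁆
      map_one' := by
        simp only [Subgroup.coe_one, commutatorElement_one_right]
        exact weight_one hv hv0
      map_mul' := fun e₁ e₂ => by
        obtain ⟨h1, h2⟩ := hconjC e₁ (hQH e₁.2) _ (hmem t e₂)
        rw [show ⁅(t : G), ((e₁ * e₂ : Q) : G)⁆ =
          ⁅(t : G), (e₁ : G)⁆ * ((e₁ : G) * ⁅(t : G), (e₂ : G)⁆ * (e₁ : G)⁻¹) by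
            simp only [Subgroup.coe_mul, commutatorElement_def]; group,
          weight_mul hv hv0 (hmem t e₁) h1, h2] }
  have hβ : ∀ t e : Q, β t e = χ ⁅(t : G), (e : G)⁆ := fun _ _ => rfl
  have hswap : ∀ t e : Q, β t e = 1 → β e t = 1 := fun t e h1 => by
    rw [hβ] at h1 ⊢
    rw [← commutatorElement_inv (t : G) (e : G)]
    have h2 := weight_mul hv hv0 (inv_mem (hmem t e)) (hmem t e)
    rwa [inv_mul_cancel, weight_one hv hv0, h1, mul_one, eq_comm] at h2
  let Z : Subgroup Q :=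
    { carrier := {e | ∀ t, β t e = 1}
      mul_mem' := fun {e₁ e₂} h1 h2 t => by rw [map_mul, h1 t, h2 t, one_mul]
      one_mem' := fun t => map_one _
      inv_mem' := fun {e} h1 t => by
        have h2 := map_mul (β t) e⁻¹ e
        rwa [inv_mul_cancel, map_one, h1 t, mul_one, eq_comm] at h2 }
  have hle := card_le (ρ := ρ) (Q := Q) (W := W) (fun hb => hv0 (by
    have : v ∈ W := hv
    rwa [hb, Submodule.mem_bot] at this)) (fun g hg => hWH g (hQH hg)) β
    (fun t e w hw => hw _ (hmem t e)) Z (fun e => Iff.rfl)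
  have hd : finrank K W ≤ 4 * m := by
    have h1 := Submodule.finrank_sup_add_finrank_inf_eq W U
    have h2 : W ⊓ U = ⊥ := by
      rw [Submodule.eq_bot_iff]
      rintro u ⟨hu, hu'⟩
      have h3 := hQU hzQ u hu'
      rw [hu z hzC, ← sub_eq_zero, ← one_smul K u, smul_smul, mul_one, ← sub_smul] at h3
      exact (smul_eq_zero.1 h3).resolve_left (sub_ne_zero.2 hχz)
    rw [h2, finrank_bot, add_zero] at h1
    have := Submodule.finrank_le (W ⊔ U)
    omega
  haveI : Fact p.Prime := ⟨D.prime_p⟩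
  obtain ⟨e, he⟩ : ∃ e, Z.index = p ^ e := by
    obtain ⟨n, hn⟩ := IsPGroup.iff_card.1 hQp
    obtain ⟨e, -, he⟩ := (Nat.dvd_prime_pow D.prime_p).1 (hn ▸ Z.index_dvd_card)
    exact ⟨e, he⟩
  have he2 : 2 ≤ e := by
    by_contra hlt
    obtain ⟨g, hg⟩ : ∃ g : Q, g ∉ Z := by
      by_contra hall
      push Not at hall
      exact hχz (hall ⟨y₀, hy₀⟩ ⟨x₀, hx₀⟩)
    have htop : Z ⊔ Subgroup.zpowers g = ⊤ := by
      rw [← Subgroup.index_eq_one]
      have h1 : (Z ⊔ Subgroup.zpowers g).index ∣ Z.index := Subgroup.index_dvd_of_le le_sup_left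
      have hlt' : Z < Z ⊔ Subgroup.zpowers g := lt_of_le_of_ne le_sup_left fun heq =>
        hg (heq.symm ▸ Subgroup.mem_sup_right (Subgroup.mem_zpowers g))
      have h2 := Subgroup.index_strictAnti hlt'
      rcases Nat.eq_zero_or_pos e with rfl | hpos
      · rw [he, pow_zero, Nat.dvd_one] at h1
        exact h1
      · rw [he, show e = 1 by omega, pow_one] at h1 h2
        exact ((Nat.dvd_prime D.prime_p).1 h1).resolve_right (fun h3 => by omega)
    refine hg fun t => hswap g t ?_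
    have hker : Z ⊔ Subgroup.zpowers g ≤ (β g).ker := by
      refine sup_le (fun x hx => MonoidHom.mem_ker.2 (hx g)) (Subgroup.zpowers_le.2 ?_)
      rw [MonoidHom.mem_ker, hβ, commutatorElement_self, weight_one hv hv0]
    exact MonoidHom.mem_ker.1 (hker (htop ▸ Subgroup.mem_top t))
  -- `a` has no fixed point on the classes
  have hβa : ∀ (t e : Q), β ⟨_, hQa t t.2⟩ ⟨_, hQa e e.2⟩ = β t e := fun t e => by
    rw [hβ, hβ]
    have heq : ⁅a * (t : G) * a⁻¹, a * (e : G) * a⁻¹⁆ = a * ⁅(t : G), (e : G)⁆ * a⁻¹ := by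
      simp only [commutatorElement_def]; group
    simp only [heq]
    exact hχc ((Subgroup.mem_normalizer_iff.1 haC _).1 (hmem t e)) (hmem t e) (hCa _ (hmem t e))
  have hfree : ∀ k : Q, k⁻¹ * ⟨_, hQa k k.2⟩ ∈ Z → k ∈ Z := by
    intro k hk
    have hk' : ∀ t, β t ⟨_, hQa k k.2⟩ = β t k := fun t => by
      rw [← mul_inv_cancel_left k (⟨_, hQa k k.2⟩ : Q), map_mul, hk t, mul_one]
    let ψ : Q →* K :=
      { toFun := fun t => β t k
        map_one' := hswap k 1 (map_one _)
        map_mul' := fun t₁ t₂ => by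
          have hinv : ∀ t, β t k * β k t = 1 := fun t => by
            rw [hβ, hβ, ← commutatorElement_inv (k : G) (t : G),
              ← weight_mul hv hv0 (inv_mem (hmem k t)) (hmem k t), inv_mul_cancel,
              weight_one hv hv0]
          refine mul_right_cancel₀ (right_ne_zero_of_mul_eq_one (hinv (t₁ * t₂))) ?_
          rw [hinv, map_mul, mul_mul_mul_comm, hinv, hinv, one_mul] }
    have hψa : ∀ t : Q, ψ ⟨_, hQa t t.2⟩ = ψ t := fun t => by
      show β _ k = β t k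
      rw [← hk' ⟨_, hQa t t.2⟩, hβa]
    have hgenψ : ∀ i : ℕ, ψ ⟨_, hgen i⟩ = ψ ⟨q, hqQ⟩ := by
      intro i
      induction i with
      | zero => congr 2; simp
      | succ i ih =>
        rw [← ih, ← hψa ⟨_, hgen i⟩]
        congr 2
        simp only [pow_succ']; group
    have hnorm : ∀ n : ℕ, ∃ hm : h * (a ^ n * h⁻¹ * (a ^ n)⁻¹) ∈ Q,
        ψ ⟨_, hm⟩ = ψ ⟨q, hqQ⟩ ^ n := by
      intro n
      induction n with
      | zero =>
        exact ⟨by simp [one_mem],
          (congrArg ψ (Subtype.ext (by simp))).trans ((map_one ψ).trans (pow_zero _).symm)⟩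
      | succ n ih =>
        obtain ⟨hm, hψ⟩ := ih
        have heq : h * (a ^ (n + 1) * h⁻¹ * (a ^ (n + 1))⁻¹) =
            h * (a ^ n * h⁻¹ * (a ^ n)⁻¹) * (a ^ n * q * (a ^ n)⁻¹) := by
          rw [hqdef, pow_succ]; group
        refine ⟨heq ▸ mul_mem hm (hgen n),
          (congrArg ψ (a₂ := ⟨_, hm⟩ * ⟨_, hgen n⟩) (Subtype.ext heq)).trans ?_⟩
        rw [map_mul, hψ, hgenψ n, ← pow_succ]
    obtain ⟨hm, hψr⟩ := hnorm r
    have hq0 : ψ ⟨q, hqQ⟩ = 1 := by
      obtain ⟨l, hl⟩ := hQp ⟨q, hqQ⟩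
      refine eq_one_of_pow D (k := l) (by rw [← map_pow, hl, map_one]) ?_
      rw [← hψr, ← map_one ψ]
      congr 2
      simp [D.pow_eq_one]
    have hall : ∀ t : Q, ψ t = 1 := fun t => by
      obtain ⟨g, hg⟩ := t
      induction hg using Subgroup.closure_induction with
      | mem g hg =>
        obtain ⟨i, rfl⟩ := hg
        rw [← hq0, ← hgenψ i]
      | one => exact map_one ψ
      | mul u w hu' hw' hu hw =>
        rw [show (⟨u * w, _⟩ : Q) = ⟨u, hu'⟩ * ⟨w, hw'⟩ from rfl, map_mul, hu, hw, one_mul]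
      | inv u hu' hu =>
        have h2 := map_mul ψ ⟨u, hu'⟩⁻¹ ⟨u, hu'⟩
        rwa [inv_mul_cancel, map_one, hu, mul_one, eq_comm] at h2
    exact hall
  have hQa' : ∀ (n : ℕ) (g : G), g ∈ Q → a ^ n * g * (a ^ n)⁻¹ ∈ Q := fun n g hg =>
    (Subgroup.mem_normalizer_iff.1 (pow_mem haQ n) g).1 hg
  have hZa : ∀ k : Q, k ∈ Z → (⟨_, hQa k k.2⟩ : Q) ∈ Z := fun k hk t => by
    obtain ⟨t', ht'⟩ : ∃ t' : Q, t = ⟨_, hQa t' t'.2⟩ :=
      ⟨⟨a⁻¹ * t * a, (Subgroup.mem_normalizer_iff''.1 haQ t).1 t.2⟩, Subtype.ext (by simp; group)⟩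
    rw [ht', hβa]
    exact hk t'
  let θ : Q →* Q :=
    { toFun := fun k => ⟨_, hQa k k.2⟩
      map_one' := Subtype.ext (by simp)
      map_mul' := fun u w => Subtype.ext (by simp only [Subgroup.coe_mul]; group) }
  let f : Q ⧸ Z → Q ⧸ Z := Quotient.map' θ fun u w huw => by
    rw [QuotientGroup.leftRel_apply] at huw ⊢
    rw [← map_inv, ← map_mul]
    exact hZa _ huw
  have hfmk : ∀ k : Q, f k = θ k := fun k => rfl
  have hiter : ∀ (n : ℕ) (k : Q), (f^[n]) k = ((⟨_, hQa' n k k.2⟩ : Q) : Q ⧸ Z) := by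
    intro n
    induction n with
    | zero => intro k; simp
    | succ n ih =>
      intro k
      rw [Function.iterate_succ_apply', ih, hfmk]
      congr 1
      exact Subtype.ext (by simp only [θ, pow_succ', MonoidHom.coe_mk, OneHom.coe_mk]; group)
  have hfr : ∀ c, (f^[r]) c = c := fun c => by
    induction c using QuotientGroup.induction_on with
    | H k => rw [hiter]; congr 1; exact Subtype.ext (by simp [D.pow_eq_one])
  have hfi : ∀ c, (f^[r - 1]) (f c) = c := fun c => by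
    rw [← Function.iterate_succ_apply, show (r - 1).succ = r by have := D.prime_r.pos; omega, hfr]
  have hif : ∀ c, f ((f^[r - 1]) c) = c := fun c => by
    rw [← Function.iterate_succ_apply' f, show (r - 1).succ = r by have := D.prime_r.pos; omega,
      hfr]
  haveI : Fintype (Q ⧸ Z) := Fintype.ofFinite _
  let σ : Equiv.Perm (Q ⧸ Z) := ⟨f, f^[r - 1], hfi, hif⟩
  have hσ : σ ^ r ^ 1 = 1 := Equiv.ext fun c => by
    rw [pow_one, Equiv.Perm.coe_pow, Equiv.Perm.one_apply]
    exact hfr c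
  haveI : Fact r.Prime := ⟨D.prime_r⟩
  have hmod := Equiv.Perm.card_compl_support_modEq (σ := σ) hσ
  have hsupp : σ.supportᶜ = {((1 : Q) : Q ⧸ Z)} := by
    ext c
    rw [Finset.mem_compl, Equiv.Perm.notMem_support, Finset.mem_singleton]
    induction c using QuotientGroup.induction_on with
    | H k =>
      show f k = k ↔ _
      rw [hfmk]
      refine ⟨fun hk => ?_, fun hk => ?_⟩
      · rw [QuotientGroup.eq, mul_one, inv_mem_iff]
        refine hfree k ?_
        rw [eq_comm, QuotientGroup.eq] at hk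
        exact hk
      · rw [QuotientGroup.eq, mul_one, inv_mem_iff] at hk
        rw [QuotientGroup.eq]
        exact mul_mem (inv_mem (hZa k hk)) hk
  rw [hsupp, Finset.card_singleton, ← Nat.card_eq_fintype_card,
    show Nat.card (Q ⧸ Z) = Z.index from rfl, he] at hmod
  have hbig := arith D.prime_p D.p_odd D.p_ne_r D.m_pos D.prime_r D.r_eq he2 hmod.symm
  rw [he] at hle
  nlinarith

end CfsgLib.TurullFit.ExcStab
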