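import Cfsg.Agent.Lib.TurullFit.Stmts
import Cfsg.Agent.Lib.TurullFit.ExcStabAux

/-!
# The stabiliser of an exceptional kernel

`X / R` carries the commutator form with values in `N`. Its dual over the algebraic closure of the
field of two elements is self dual, and `a` moves at most `2 * m` dimensions of it.
-/

set_option autoImplicit false
set_option linter.style.haveILetI false
set_option linter.unusedSectionVars false

open Module
open scoped commutatorElement

namespace CfsgLib.TurullFit.ExcStab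

open CfsgLib.FgsC.HallHigman

/-- Few elements generate a finite group over a subgroup. -/
theorem exists_generators {P : Type*} [Group P] [Finite P] (D : Subgroup P) :
    ∃ S : Finset P, D ⊔ Subgroup.closure (S : Set P) = ⊤ ∧ 2 ^ S.card ≤ D.index := by
  classical
  induction h : D.index using Nat.strong_induction_on generalizing D with
  | _ n ih =>
    subst h
    by_cases htop : D = ⊤
    · exact ⟨∅, by simp [htop], by simp [htop]⟩
    obtain ⟨g, hg⟩ : ∃ g, g ∉ D := by
      by_contra hall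
      push Not at hall
      exact htop ((Subgroup.eq_top_iff' D).2 hall)
    set D' := D ⊔ Subgroup.zpowers g with hD'
    have hlt : D < D' := lt_of_le_of_ne le_sup_left fun heq =>
      hg (heq.symm ▸ Subgroup.mem_sup_right (Subgroup.mem_zpowers g))
    have hidx := Subgroup.index_strictAnti hlt
    obtain ⟨S, hS, hcard⟩ := ih _ hidx D' rfl
    refine ⟨insert g S, ?_, ?_⟩
    · rw [eq_top_iff, ← hS, hD', Finset.coe_insert, Set.insert_eq, Subgroup.closure_union,
        ← Subgroup.zpowers_eq_closure, ← sup_assoc]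
    · have h2 : 2 * D'.index ≤ D.index := by
        obtain ⟨c, hc⟩ := Subgroup.index_dvd_of_le (le_of_lt hlt)
        rw [hc] at hidx ⊢
        have : 2 ≤ c := by
          rcases c with _ | _ | c <;> simp_all
        rw [mul_comm 2]
        exact Nat.mul_le_mul_left _ this
      calc 2 ^ (insert g S).card ≤ 2 ^ (S.card + 1) :=
            Nat.pow_le_pow_right two_pos (Finset.card_insert_le g S)
        _ = 2 * 2 ^ S.card := pow_succ' 2 _
        _ ≤ _ := le_trans (Nat.mul_le_mul_left 2 hcard) h2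

section Eval

variable {Γ : Type*} [Group Γ] {F : Type*} [Field F] {P Q : Subgroup Γ}

theorem dual_map_one (f : ↥(dualSub F P Q)) : (f : ↥P → F) 1 = 0 := by
  have h := f.2.1 1 1
  rw [mul_one, eq_comm, add_eq_left] at h
  exact h

/-- An additive map vanishing on generators is zero. -/
theorem dual_eq_zero {D : Subgroup P} {S : Finset P} (hS : D ⊔ Subgroup.closure (S : Set P) = ⊤)
    (f : ↥(dualSub F P Q)) (hD : ∀ x ∈ D, (f : ↥P → F) x = 0)
    (h0 : ∀ s ∈ S, (f : ↥P → F) s = 0) : f = 0 := by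
  let Z : Subgroup P :=
    { carrier := {x | (f : ↥P → F) x = 0}
      mul_mem' := fun {x y} (hx : (f : ↥P → F) x = 0) (hy : (f : ↥P → F) y = 0) => by
        show (f : ↥P → F) (x * y) = 0
        rw [f.2.1, hx, hy, add_zero]
      one_mem' := dual_map_one f
      inv_mem' := fun {x} (hx : (f : ↥P → F) x = 0) => by
        have h := f.2.1 x x⁻¹
        rw [mul_inv_cancel, dual_map_one, hx, zero_add] at h
        exact h.symm }
  have hZ : ⊤ ≤ Z := hS ▸ sup_le hD ((Subgroup.closure_le _).2 h0)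
  exact Subtype.ext (funext fun x => hZ (Subgroup.mem_top x))

end Eval

section Form

variable {Γ : Type*} [Group Γ] (X R N : Subgroup Γ)

/-- The group acting. -/
abbrev ambient : Subgroup Γ :=
  Subgroup.normalizer (X : Set Γ) ⊓ Subgroup.normalizer (R : Set Γ) ⊓
    Subgroup.normalizer (N : Set Γ)

/-- `X` in the group acting. -/
abbrev inX : Subgroup ↥(ambient X R N) := X.subgroupOf (ambient X R N)

/-- `R` in the group acting. -/
abbrev inR : Subgroup ↥(ambient X R N) := R.subgroupOf (ambient X R N)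

instance inX_normal : (inX X R N).Normal :=
  ⟨fun x hx g => Subgroup.mem_subgroupOf.2
    ((Subgroup.mem_normalizer_iff.1 g.2.1.1 _).1 (Subgroup.mem_subgroupOf.1 hx))⟩

instance inR_normal : (inR X R N).Normal :=
  ⟨fun x hx g => Subgroup.mem_subgroupOf.2
    ((Subgroup.mem_normalizer_iff.1 g.2.1.2 _).1 (Subgroup.mem_subgroupOf.1 hx))⟩

/-- An element of `inX` in the big group. -/
abbrev big {X R N : Subgroup Γ} (x : ↥(inX X R N)) : Γ := ((x : ↥(ambient X R N)) : Γ)

/-- The conditions on the form. -/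
structure FormData : Prop where
  le : R ≤ X
  normR : X ≤ Subgroup.normalizer (R : Set Γ)
  normN : X ≤ Subgroup.normalizer (N : Set Γ)
  sq : ∀ x ∈ X, x ^ 2 ∈ R
  comm : ∀ x ∈ X, ∀ y ∈ X, ⁅x, y⁆ ∈ R
  central : ∀ x ∈ R, ∀ y ∈ X, ⁅x, y⁆ ∈ N
  rad : ∀ x ∈ X, (∀ y ∈ X, ⁅x, y⁆ ∈ N) → x ∈ R
  two : ∀ x ∈ X, ∀ y ∈ X, ∀ x' ∈ X, ∀ y' ∈ X, ⁅x, y⁆ ∉ N → ⁅x', y'⁆ ∉ N →
    ⁅x, y⁆⁻¹ * ⁅x', y'⁆ ∈ N

open Classical in
/-- The commutator form. -/
noncomputable def form (y x : ↥(inX X R N)) : ZMod 2 := if ⁅big y, big x⁆ ∈ N then 0 else 1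

variable {X R N}

theorem form_symm (y x : ↥(inX X R N)) : form X R N y x = form X R N x y := by
  have h : ⁅big y, big x⁆ ∈ N ↔ ⁅big x, big y⁆ ∈ N := by
    rw [← commutatorElement_inv (big x) (big y), inv_mem_iff]
  unfold form
  by_cases h1 : ⁅big y, big x⁆ ∈ N
  · rw [if_pos h1, if_pos (h.1 h1)]
  · rw [if_neg h1, if_neg fun h2 => h1 (h.2 h2)]

theorem form_add (D : FormData X R N) (y x₁ x₂ : ↥(inX X R N)) :
    form X R N y (x₁ * x₂) = form X R N y x₁ + form X R N y x₂ := by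
  have hy : big y ∈ X := Subgroup.mem_subgroupOf.1 y.2
  have h1 : big x₁ ∈ X := Subgroup.mem_subgroupOf.1 x₁.2
  have h2 : big x₂ ∈ X := Subgroup.mem_subgroupOf.1 x₂.2
  set c₁ := ⁅big y, big x₁⁆ with hc₁
  set c₂ := ⁅big y, big x₂⁆ with hc₂
  have hd : ⁅big x₁, c₂⁆ ∈ N := by
    rw [← commutatorElement_inv c₂ (big x₁)]
    exact inv_mem (D.central _ (D.comm _ hy _ h2) _ h1)
  have heq : ⁅big y, big (x₁ * x₂)⁆ = c₁ * ⁅big x₁, c₂⁆ * c₂ := by
    simp only [big, Subgroup.coe_mul, hc₁, hc₂, commutatorElement_def]; group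
  have hkey : ⁅big y, big (x₁ * x₂)⁆ ∈ N ↔ (c₁ ∈ N ↔ c₂ ∈ N) := by
    rw [heq]
    by_cases hn1 : c₁ ∈ N
    · simp only [hn1, true_iff, Subgroup.mul_mem_cancel_left N (mul_mem hn1 hd)]
    by_cases hn2 : c₂ ∈ N
    · simp only [hn1, hn2, Subgroup.mul_mem_cancel_right N hn2,
        Subgroup.mul_mem_cancel_right N hd, false_iff, not_true]
    simp only [hn1, hn2, iff_self, iff_true]
    have hsq : c₁ * c₁ ∈ N := by
      have he : ⁅big y ^ 2, big x₁⁆ = ⁅big y, c₁⁆ * (c₁ * c₁) := by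
        simp only [hc₁, sq, commutatorElement_def]; group
      have hl : ⁅big y, c₁⁆ ∈ N := by
        rw [← commutatorElement_inv c₁ (big y)]
        exact inv_mem (D.central _ (D.comm _ hy _ h1) _ hy)
      exact (Subgroup.mul_mem_cancel_left N hl).1 (he ▸ D.central _ (D.sq _ hy) _ h1)
    have hcross := D.two _ hy _ h1 _ hy _ h2 hn1 hn2
    have hR1 : c₁ ∈ R := D.comm _ hy _ h1
    have hnd : c₁ * ⁅big x₁, c₂⁆ * c₁⁻¹ ∈ N := by
      have hc1N : c₁ ∈ Subgroup.normalizer (N : Set Γ) := by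
        have hG : ∀ z : ↥(inX X R N), big z ∈ Subgroup.normalizer (N : Set Γ) := fun z => z.1.2.2
        rw [hc₁, commutatorElement_def]
        exact mul_mem (mul_mem (mul_mem (hG y) (hG x₁)) (inv_mem (hG y))) (inv_mem (hG x₁))
      exact (Subgroup.mem_normalizer_iff.1 hc1N _).1 hd
    rw [show c₁ * ⁅big x₁, c₂⁆ * c₂ =
      (c₁ * ⁅big x₁, c₂⁆ * c₁⁻¹) * (c₁ * c₁) * (c₁⁻¹ * c₂) by group]
    exact mul_mem (mul_mem hnd hsq) hcross
  unfold form
  rw [← hc₁, ← hc₂]
  by_cases hn1 : c₁ ∈ N <;> by_cases hn2 : c₂ ∈ N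
  · rw [if_pos hn1, if_pos hn2, if_pos (hkey.2 (iff_of_true hn1 hn2)), add_zero]
  · rw [if_pos hn1, if_neg hn2, if_neg fun hh => hn2 ((hkey.1 hh).1 hn1), zero_add]
  · rw [if_neg hn1, if_pos hn2, if_neg fun hh => hn1 ((hkey.1 hh).2 hn2), add_zero]
  · rw [if_neg hn1, if_neg hn2, if_pos (hkey.2 (iff_of_false hn1 hn2))]
    decide

/-- The form as a map to the dual. -/
noncomputable def toDual (D : FormData X R N) (F : Type*) [Field F] [CharP F 2]
    (y : ↥(inX X R N)) : ↥(dualSub F (inX X R N) (inR X R N)) :=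
  ⟨fun x => ZMod.castHom (dvd_refl 2) F (form X R N y x),
    fun x₁ x₂ => by simp only [form_add D, map_add],
    fun x hx => by
      have h : ⁅big y, big x⁆ ∈ N := by
        rw [← commutatorElement_inv (big x) (big y)]
        exact inv_mem (D.central _ (Subgroup.mem_subgroupOf.1 hx) _
          (Subgroup.mem_subgroupOf.1 y.2))
      simp [form, h]⟩

theorem toDual_apply (D : FormData X R N) (F : Type*) [Field F] [CharP F 2]
    (y x : ↥(inX X R N)) :
    (toDual D F y : ↥(inX X R N) → F) x = ZMod.castHom (dvd_refl 2) F (form X R N y x) := rfl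

theorem toDual_conj (D : FormData X R N) (F : Type*) [Field F] [CharP F 2]
    (g : ↥(ambient X R N)) (y : ↥(inX X R N)) :
    dualRep F (inX X R N) (inR X R N) g (toDual D F y) =
      toDual D F ⟨g * y * g⁻¹, (inX_normal X R N).conj_mem y y.2 g⟩ := by
  refine Subtype.ext (funext fun x => ?_)
  rw [dualRep_apply, toDual_apply, toDual_apply]
  congr 1
  have h : ∀ u w : Γ, ⁅u, (g : Γ)⁻¹ * w * g⁆ ∈ N ↔ ⁅(g : Γ) * u * (g : Γ)⁻¹, w⁆ ∈ N := by
    intro u w
    rw [Subgroup.mem_normalizer_iff.1 g.2.2 ⁅u, (g : Γ)⁻¹ * w * g⁆]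
    refine iff_of_eq (congrArg (· ∈ N) ?_)
    simp only [commutatorElement_def]; group
  unfold form
  simp only [big, Subgroup.coe_mul, Subgroup.coe_inv]
  split_ifs with h1 h2 h2 <;>
    first | rfl | exact absurd ((h _ _).1 h1) h2 | exact absurd ((h _ _).2 h2) h1

/-- Elements with the same image differ by an element of `R`. -/
theorem eq_mod (D : FormData X R N) {F : Type*} [Field F] [CharP F 2] {y y' : ↥(inX X R N)}
    (h : toDual D F y = toDual D F y') : (y⁻¹ * y' : ↥(inX X R N)).1 ∈ inR X R N := by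
  refine Subgroup.mem_subgroupOf.2 (D.rad _ (Subgroup.mem_subgroupOf.1 (y⁻¹ * y').2) fun u hu => ?_)
  have hG : u ∈ ambient X R N := ⟨⟨Subgroup.le_normalizer hu, D.normR hu⟩, D.normN hu⟩
  let x : ↥(inX X R N) := ⟨⟨u, hG⟩, Subgroup.mem_subgroupOf.2 hu⟩
  have h1 := congrFun (congrArg Subtype.val h) x
  rw [toDual_apply, toDual_apply] at h1
  have h2 := (RingHom.injective _ h1)
  have h3 := form_add D x y (y⁻¹ * y')
  rw [mul_inv_cancel_left, form_symm x y, form_symm x y', form_symm x (y⁻¹ * y'), ← h2,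
    left_eq_add] at h3
  by_contra hne
  simp [form, big, x] at h3
  exact hne h3

variable [Finite Γ]

open Classical in
/-- The forms span the dual. -/
theorem spanned (D : FormData X R N) (F : Type*) [Field F] [CharP F 2]
    (f : ↥(dualSub F (inX X R N) (inR X R N))) :
    ∃ (S : Finset ↥(inX X R N)) (c : ↥(inX X R N) → F) (y : ↥(inX X R N) → ↥(inX X R N)),
      f = ∑ s ∈ S, c s • toDual D F (y s) := by
  set Q := (inR X R N).subgroupOf (inX X R N) with hQ
  obtain ⟨S, hS, hcard⟩ := exists_generators Q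
  let ev : ↥(dualSub (ZMod 2) (inX X R N) (inR X R N)) → (↥S → ZMod 2) := fun e s => (e : ↥(inX X R N) → ZMod 2) s
  let φ : ↥(inX X R N) ⧸ Q → (↥S → ZMod 2) := fun q => ev (toDual D (ZMod 2) (Quotient.out q))
  have hφ : Function.Injective φ := fun q q' hqq => by
    have h := dual_eq_zero hS (toDual D (ZMod 2) q.out - toDual D (ZMod 2) q'.out)
      (fun x hx => (toDual D (ZMod 2) q.out - toDual D (ZMod 2) q'.out).2.2 x
        (Subgroup.mem_subgroupOf.1 hx))
      (fun s hs => by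
        simp only [AddSubgroupClass.coe_sub, Pi.sub_apply, sub_eq_zero]
        exact congrFun hqq ⟨s, hs⟩)
    rw [← QuotientGroup.out_eq' q, ← QuotientGroup.out_eq' q', QuotientGroup.eq]
    exact Subgroup.mem_subgroupOf.2 (eq_mod D (sub_eq_zero.1 h))
  have hφ' : Function.Surjective φ := by
    refine ((Nat.bijective_iff_injective_and_card φ).2 ⟨hφ, le_antisymm
      (Nat.card_le_card_of_injective φ hφ) ?_⟩).2
    simpa [Subgroup.index] using hcard
  choose y hy using fun s : ↥(inX X R N) => hφ' fun t => if (t : ↥(inX X R N)) = s then 1 else 0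
  refine ⟨S, fun s => (f : ↥(inX X R N) → F) s, fun s => (y s).out, ?_⟩
  rw [← sub_eq_zero]
  refine dual_eq_zero hS _ ?_ fun t ht => ?_
  · intro x hx
    exact (Subtype.prop (f - _ : ↥(dualSub F (inX X R N) (inR X R N)))).2 x
      (Subgroup.mem_subgroupOf.1 hx)
  simp only [AddSubgroupClass.coe_sub, Pi.sub_apply, AddSubmonoidClass.coe_finset_sum,
    Finset.sum_apply, SetLike.val_smul, Pi.smul_apply, smul_eq_mul]
  rw [sub_eq_zero, Finset.sum_eq_single t]
  · have h := congrFun (hy t) ⟨t, ht⟩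
    simp only [φ, ev, toDual_apply, ZMod.castHom_self, RingHom.id_apply, if_true] at h
    rw [toDual_apply, h, map_one, mul_one]
  · intro s _ hst
    have h := congrFun (hy s) ⟨t, ht⟩
    simp only [φ, ev, toDual_apply, ZMod.castHom_self, RingHom.id_apply, if_neg (Ne.symm hst)] at h
    rw [toDual_apply, h, map_zero, mul_zero]
  · exact fun hn => absurd ht hn

variable {F : Type*} [Field F] [CharP F 2]

/-- The dual is self dual. -/
theorem self_dual (D : FormData X R N) (A : Subgroup ↥(ambient X R N)) (χ : ↥(ambient X R N) → F)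
    (v : ↥(dualSub F (inX X R N) (inR X R N))) (hA : (Nat.card A : F) ≠ 0)
    (hv : v ∈ wspace (dualRep F (inX X R N) (inR X R N)) A χ) (hv0 : v ≠ 0) :
    ∃ w ∈ wspace (dualRep F (inX X R N) (inR X R N)) A (fun g => χ g⁻¹), w ≠ 0 := by
  classical
  haveI : Fintype A := Fintype.ofFinite _
  set ρ := dualRep F (inX X R N) (inR X R N)
  obtain ⟨x, hx⟩ : ∃ x, (v : ↥(inX X R N) → F) x ≠ 0 := by
    by_contra hall
    push Not at hall
    exact hv0 (Subtype.ext (funext hall))
  let w := ∑ g : A, χ (g : ↥(ambient X R N)) • ρ g (toDual D F x)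
  have hmul : ∀ {g h : ↥(ambient X R N)}, g ∈ A → h ∈ A → χ (g * h) = χ g * χ h :=
    fun hg hh => FgsC.CoprimeWeights.weight_mul hv hv0 hg hh
  refine ⟨w, fun h hh => ?_, fun hw0 => ?_⟩
  · simp only [w, map_sum, Finset.smul_sum, map_smul, smul_smul, rho_mul_apply]
    refine Fintype.sum_equiv (Equiv.mulLeft (⟨h, hh⟩ : A)) _ _ fun g => ?_
    simp only [Equiv.coe_mulLeft, Subgroup.coe_mul]
    rw [← hmul (inv_mem hh) (mul_mem hh g.2), inv_mul_cancel_left]
  · obtain ⟨S, c, y, hvS⟩ := spanned D F v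
    have hval : ∀ g : A, (v : ↥(inX X R N) → F)
        ⟨(g : ↥(ambient X R N)) * x * (g : ↥(ambient X R N))⁻¹,
          (inX_normal X R N).conj_mem x x.2 g⟩ = χ (g : ↥(ambient X R N))⁻¹ *
            (v : ↥(inX X R N) → F) x := fun g => by
      have h := congrFun (congrArg Subtype.val (hv _ (inv_mem g.2))) x
      rw [dualRep_apply] at h
      simpa [mul_assoc] using h
    have hsum : ∑ g : A, χ (g : ↥(ambient X R N)) * (v : ↥(inX X R N) → F)
        ⟨(g : ↥(ambient X R N)) * x * (g : ↥(ambient X R N))⁻¹,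
          (inX_normal X R N).conj_mem x x.2 g⟩ = (Nat.card A : F) * (v : ↥(inX X R N) → F) x := by
      have h1 : ∀ g : A, χ (g : ↥(ambient X R N)) * χ (g : ↥(ambient X R N))⁻¹ = 1 := fun g => by
        rw [← hmul g.2 (inv_mem g.2), mul_inv_cancel,
          FgsC.CoprimeWeights.weight_one hv hv0]
      simp only [hval, ← mul_assoc, h1, one_mul]
      rw [Finset.sum_const, Finset.card_univ, nsmul_eq_mul, Nat.card_eq_fintype_card]
    refine mul_ne_zero hA hx (hsum ▸ ?_)
    have hw : ∀ z, ∑ g : A, χ (g : ↥(ambient X R N)) *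
        ((ρ g (toDual D F x) : ↥(dualSub F (inX X R N) (inR X R N))) : ↥(inX X R N) → F) z = 0 :=
      fun z => by
        have h := congrFun (congrArg Subtype.val hw0) z
        simpa [w, AddSubmonoidClass.coe_finset_sum, Finset.sum_apply] using h
    rw [hvS]
    simp only [AddSubmonoidClass.coe_finset_sum, Finset.sum_apply, SetLike.val_smul,
      Pi.smul_apply, smul_eq_mul, Finset.mul_sum]
    rw [Finset.sum_comm]
    refine Finset.sum_eq_zero fun s _ => ?_
    have h := hw (y s)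
    simp only [ρ, toDual_conj] at h
    calc _ = c s * ∑ g : A, χ (g : ↥(ambient X R N)) * (toDual D F
          ⟨(g : ↥(ambient X R N)) * x * (g : ↥(ambient X R N))⁻¹,
            (inX_normal X R N).conj_mem x x.2 g⟩ : ↥(inX X R N) → F) (y s) := by
          rw [Finset.mul_sum]
          refine Finset.sum_congr rfl fun g _ => ?_
          rw [toDual_apply, toDual_apply, form_symm]
          ring
      _ = 0 := by rw [h, mul_zero]

/-- An element moves few dimensions. -/
theorem rank_le (hle : R ≤ X) (D : FormData X R N) {a : ↥(ambient X R N)} {m : ℕ}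
    (hidx : R.relIndex X =
      4 ^ m * R.relIndex ((X ⊓ Subgroup.centralizer {(a : Γ)}) ⊔ R)) :
    finrank F ↥(dualSub F (inX X R N) (inR X R N)) ≤
      finrank F (fixSub (dualRep F (inX X R N) (inR X R N)) a) + 2 * m := by
  classical
  set C := (X ⊓ Subgroup.centralizer {(a : Γ)}) ⊔ R with hC
  have hCX : C ≤ X := sup_le inf_le_left hle
  have hCidx : C.relIndex X = 4 ^ m := by
    have h := Subgroup.relIndex_mul_relIndex R C X le_sup_right hCX
    have hpos : R.relIndex C ≠ 0 := fun h0 => by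
      rw [Subgroup.relIndex, Subgroup.index] at h0
      exact Nat.card_pos.ne' h0
    rw [hidx, mul_comm] at h
    exact mul_right_cancel₀ hpos h
  let D' : Subgroup (inX X R N) := (C.subgroupOf (ambient X R N)).subgroupOf (inX X R N)
  have hD' : D'.index = 4 ^ m := by
    rw [← hCidx]
    show (C.subgroupOf (ambient X R N)).relIndex (X.subgroupOf (ambient X R N)) = _
    rw [Subgroup.relIndex_subgroupOf]
    intro u hu
    exact ⟨⟨Subgroup.le_normalizer hu, D.normR hu⟩, D.normN hu⟩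
  obtain ⟨S, hS, hcard⟩ := exists_generators D'
  set ρ := dualRep F (inX X R N) (inR X R N)
  have hker : LinearMap.ker (ρ a - 1) = fixSub ρ a := by
    ext f
    rw [LinearMap.mem_ker, LinearMap.sub_apply, End.one_apply, sub_eq_zero, mem_fixSub]
  have hrank := LinearMap.finrank_range_add_finrank_ker (ρ a - 1)
  rw [hker] at hrank
  -- evaluation on the generators
  let L : ↥(LinearMap.range (ρ a - 1)) →ₗ[F] (↥S → F) :=
    { toFun := fun f s => ((f : ↥(dualSub F (inX X R N) (inR X R N))) : ↥(inX X R N) → F) s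
      map_add' := fun _ _ => rfl
      map_smul' := fun _ _ => rfl }
  have hL : Function.Injective L := by
    suffices key : ∀ f, L f = 0 → f = 0 by
      exact fun f₁ f₂ he => sub_eq_zero.1 (key _ (by rw [map_sub, he, sub_self]))
    rintro ⟨f, hf⟩ h0
    refine Subtype.ext (dual_eq_zero hS f (fun x hx => ?_) fun s hs => congrFun h0 ⟨s, hs⟩)
    obtain ⟨g, rfl⟩ := hf
    let Z : Subgroup (inX X R N) :=
      { carrier := {x | (((ρ a - 1) g : ↥(dualSub F (inX X R N) (inR X R N))) : ↥(inX X R N) → F) x = 0}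
        mul_mem' := fun {u u'} (hu : _ = 0) (hu' : _ = 0) => by
          show _ = 0
          rw [((ρ a - 1) g).2.1, hu, hu', add_zero]
        one_mem' := dual_map_one _
        inv_mem' := fun {u} (hu : _ = 0) => by
          have h := ((ρ a - 1) g).2.1 u u⁻¹
          rw [mul_inv_cancel, dual_map_one, hu, zero_add] at h
          exact h.symm }
    have hCZ : ∀ u ∈ C, ∀ hu : u ∈ ambient X R N, ∀ hux : (⟨u, hu⟩ : ↥(ambient X R N)) ∈ (inX X R N),
        (⟨⟨u, hu⟩, hux⟩ : (inX X R N)) ∈ Z := by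
      have hG : X ≤ ambient X R N := fun u hu =>
        ⟨⟨Subgroup.le_normalizer hu, D.normR hu⟩, D.normN hu⟩
      have hle' : C ≤ (Z.map (inX X R N).subtype).map (ambient X R N).subtype := by
        refine sup_le ?_ ?_
        · rintro u ⟨hu, hua⟩
          refine ⟨_, ⟨⟨⟨u, hG hu⟩, Subgroup.mem_subgroupOf.2 hu⟩, ?_, rfl⟩, rfl⟩
          show _ = 0
          simp only [LinearMap.sub_apply, End.one_apply, AddSubgroupClass.coe_sub, Pi.sub_apply,
            sub_eq_zero]
          rw [dualRep_apply]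
          refine congrArg _ (Subtype.ext (Subtype.ext ?_))
          show (a : Γ)⁻¹ * u * a = u
          rw [mul_assoc, Subgroup.mem_centralizer_singleton_iff.1 hua, inv_mul_cancel_left]
        · intro u hu
          refine ⟨_, ⟨⟨⟨u, hG (hle hu)⟩, Subgroup.mem_subgroupOf.2 (hle hu)⟩, ?_, rfl⟩, rfl⟩
          exact ((ρ a - 1) g).2.2 _ (Subgroup.mem_subgroupOf.2 hu)
      intro u hu hu1 hux
      obtain ⟨_, ⟨z, hz, rfl⟩, hz'⟩ := hle' hu
      have he : z = ⟨⟨u, hu1⟩, hux⟩ := Subtype.ext (Subtype.ext hz')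
      exact he ▸ hz
    exact hCZ _ (Subgroup.mem_subgroupOf.1 (Subgroup.mem_subgroupOf.1 hx)) _ _
  have h1 := L.finrank_le_finrank_of_injective hL
  rw [Module.finrank_fintype_fun_eq_card, Fintype.card_coe] at h1
  have h2 : S.card ≤ 2 * m := by
    rw [hD', show (4 : ℕ) = 2 ^ 2 by norm_num, ← pow_mul] at hcard
    exact (Nat.pow_le_pow_iff_right (by norm_num)).1 hcard
  omega

end Form

/-- An odd prime is nonzero in characteristic two. -/
theorem map_ne_zero_of_prime {p : ℕ} (hp : p.Prime) (hp2 : p ≠ 2) {F : Type*} [Field F]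
    [CharP F 2] : (p : F) ≠ 0 := fun h => by
  rw [CharP.cast_eq_zero_iff F 2] at h
  exact hp2 ((Nat.prime_dvd_prime_iff_eq Nat.prime_two hp).1 h).symm

end CfsgLib.TurullFit.ExcStab

namespace CfsgLib.TurullFit

open CfsgLib.TurullFit.ExcStab

universe u

/-- The stabiliser of an exceptional kernel acts trivially modulo the centre through `⁅h, a⁆`. -/
theorem excStab : StmtExcStab.{u} := by
  intro Γ _ _ X R N H a r m p hr hm hr2 har hNR hRX hX2 hXN hXR hHX hHR hHN haX haR haN haH hsq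
    hcomm hcentral hrad htwo hidx hp hp2 hpr hH hcl h hh x hx
  have D : FormData X R N := ⟨hRX, hXR, hXN, hsq, hcomm, hcentral, hrad, htwo⟩
  let K := AlgebraicClosure (ZMod 2)
  haveI : CharP K 2 := charP_of_injective_algebraMap (algebraMap (ZMod 2) K).injective 2
  let a₀ : ↥(ambient X R N) := ⟨a, ⟨haX, haR⟩, haN⟩
  have hHG : H ≤ ambient X R N := fun g hg => ⟨⟨hHX hg, hHR hg⟩, hHN hg⟩
  set ρ := dualRep K (inX X R N) (inR X R N) with hρ
  have hsmall : Small ρ r m p a₀ :=
    ⟨hr, hr2, hm, Subtype.ext (by simpa using har), hp, hp2, hpr, map_ne_zero_of_prime hp hp2,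
      rank_le hRX D (a := a₀) hidx, fun A χ v hA hv hv0 => self_dual D A χ v hA hv hv0⟩
  let H₀ := H.subgroupOf (ambient X R N)
  have hH₀ : IsPGroup p H₀ := hH.of_equiv (Subgroup.subgroupOfEquivOfLe hHG).symm
  have haH₀ : a₀ ∈ Subgroup.normalizer (H₀ : Set ↥(ambient X R N)) :=
    Subgroup.mem_normalizer_iff.2 fun g => by
      simpa [H₀, Subgroup.mem_subgroupOf] using Subgroup.mem_normalizer_iff.1 haH (g : Γ)
  have hcl₀ : ∀ h₁ ∈ H₀, ∀ h₂ ∈ H₀, ∀ h₃ ∈ H₀, ρ ⁅⁅h₁, h₂⁆, h₃⁆ = 1 := by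
    intro h₁ m₁ h₂ m₂ h₃ m₃
    refine LinearMap.ext fun f => Subtype.ext (funext fun z => ?_)
    rw [hρ, dualRep_apply, End.one_apply]
    set c := ⁅⁅h₁, h₂⁆, h₃⁆ with hc
    set z' : ↥(inX X R N) := ⟨c⁻¹ * z * c, by
      simpa using (inX_normal X R N).conj_mem z z.2 c⁻¹⟩ with hz'
    have hR : (z * z'⁻¹ : ↥(inX X R N)).1 ∈ inR X R N := by
      refine Subgroup.mem_subgroupOf.2 ?_
      have h1 := hcl _ (Subgroup.mem_subgroupOf.1 m₁) _ (Subgroup.mem_subgroupOf.1 m₂) _
        (Subgroup.mem_subgroupOf.1 m₃) _ (Subgroup.mem_subgroupOf.1 z'.2)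
      have h2 : (((z * z'⁻¹ : ↥(inX X R N)) : ↥(ambient X R N)) : Γ) =
          ⁅⁅⁅(h₁ : Γ), (h₂ : Γ)⁆, (h₃ : Γ)⁆, ((z' : ↥(ambient X R N)) : Γ)⁆ := by
        simp only [hz', hc, Subgroup.coe_mul, Subgroup.coe_inv, commutatorElement_def]; group
      rw [h2]
      exact h1
    have h3 := f.2.1 (z * z'⁻¹) z'
    rw [inv_mul_cancel_right, f.2.2 _ hR, zero_add] at h3
    exact h3.symm
  have key : ∀ g ∈ H₀, ρ (a₀ * g * a₀⁻¹) = ρ g := fun g hg => classTwo hsmall hH₀ haH₀ hcl₀ hg
  let h₀ : ↥(ambient X R N) := ⟨h, hHG hh⟩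
  have hh₀ : h₀ ∈ H₀ := Subgroup.mem_subgroupOf.2 hh
  set t := ⁅h₀, a₀⁆ with ht
  have hρt : ρ t = 1 := by
    rw [ht, commutatorElement_def, show h₀ * a₀ * h₀⁻¹ * a₀⁻¹ = h₀ * (a₀ * h₀⁻¹ * a₀⁻¹) by group,
      map_mul, key _ (inv_mem hh₀), ← map_mul, mul_inv_cancel, map_one]
  have hfix : ∀ z : ↥(inX X R N), (z⁻¹ * ⟨t⁻¹ * z * t, by
      simpa using (inX_normal X R N).conj_mem z z.2 t⁻¹⟩ : ↥(inX X R N)).1 ∈ inR X R N := by
    intro z
    refine eq_mod D (F := K) (Subtype.ext (funext fun y => ?_))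
    have h1 := congrFun (congrArg Subtype.val (LinearMap.congr_fun hρt (toDual D K y))) z
    rw [hρ, dualRep_apply, End.one_apply, toDual_apply, toDual_apply] at h1
    rw [toDual_apply, toDual_apply, form_symm z y, ← h1, form_symm]
  have htX : ⁅h, a⁆ * x * ⁅h, a⁆⁻¹ ∈ X := by
    have h1 := (inX_normal X R N).conj_mem ⟨x, ⟨Subgroup.le_normalizer hx, hXR hx⟩, hXN hx⟩
      (Subgroup.mem_subgroupOf.2 hx) t
    simpa [inX, Subgroup.mem_subgroupOf, ht, h₀, a₀, commutatorElement_def] using h1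
  set u := ⁅h, a⁆ * x * ⁅h, a⁆⁻¹ with hu
  have h2 := Subgroup.mem_subgroupOf.1 (hfix ⟨⟨u, ⟨Subgroup.le_normalizer htX, hXR htX⟩, hXN htX⟩,
    Subgroup.mem_subgroupOf.2 htX⟩)
  have h3 : u⁻¹ * x ∈ R := by
    have he : ⁅h, a⁆⁻¹ * u * ⁅h, a⁆ = x := by rw [hu]; group
    simpa [ht, h₀, a₀, commutatorElement_def, ← mul_assoc, hu] using h2
  have h4 := (Subgroup.mem_normalizer_iff.1 (hXR hx) _).1 (inv_mem h3)
  rwa [show x * (u⁻¹ * x)⁻¹ * x⁻¹ = ⁅⁅h, a⁆, x⁆ by
    rw [hu, commutatorElement_def]; group] at h4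

end CfsgLib.TurullFit
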