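import Cfsg.Agent.Lib.TurullFit.HyperWeight
import Cfsg.Agent.Lib.FgsC.PrimePowerStable

/-!
# Turull's bound for the Fitting height: an element fixing `T` and commuting with `a`

`hyper : StmtFixedIrr → StmtHyper`.
-/

set_option autoImplicit false
set_option linter.style.haveILetI false
set_option linter.unusedSectionVars false

open Module
open scoped commutatorElement

namespace CfsgLib.TurullFit

namespace Hy

open CfsgLib.FgsC.HallHigman CfsgLib.FgsC.CoprimeWeights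

variable {F : Type*} [Field F] {Γ : Type*} [Group Γ] [Finite Γ] {V : Type*} [AddCommGroup V]
  [Module F V] {ρ : Representation F Γ V} {s r : ℕ} {X : Subgroup Γ} {a : Γ}

theorem commutator_normalizer {g : Γ} (hg : g ∈ Subgroup.normalizer (X : Set Γ)) :
    g ∈ Subgroup.normalizer ((⁅X, X⁆ : Subgroup Γ) : Set Γ) := by
  refine mem_normalizer_of_conj fun x hx => ?_
  have hle : Subgroup.map (MulAut.conj g).toMonoidHom X ≤ X := by
    rintro _ ⟨z, hz, rfl⟩
    exact conj_mem' hg hz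
  have h1 : (MulAut.conj g).toMonoidHom x ∈ Subgroup.map (MulAut.conj g).toMonoidHom ⁅X, X⁆ :=
    Subgroup.mem_map_of_mem _ hx
  rw [Subgroup.map_commutator] at h1
  exact Subgroup.commutator_mono hle hle h1

theorem commutator_le_self : ⁅X, X⁆ ≤ X := Subgroup.commutator_le.mpr fun x hx y hy => by
  rw [commutatorElement_def]
  exact X.mul_mem (X.mul_mem (X.mul_mem hx hy) (X.inv_mem hx)) (X.inv_mem hy)

theorem comm_of_scalar {U : Submodule F V} (hUa : ∀ v ∈ U, ρ a v ∈ U) {q : Γ}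
    (hq : IsScalarOn ρ U q) : ∀ v ∈ U, ρ (a * q * a⁻¹) v = ρ q v := by
  obtain ⟨c, hc⟩ := hq
  intro v hv
  conv_lhs => arg 2; rw [← rho_inv_apply (ρ := ρ) a v]
  rw [rho_conj_apply, hc _ (inv_stable hUa v hv), map_smul, rho_inv_apply, hc v hv]

/-- On pieces of a subspace with scalar commutators the centre is the same. -/
theorem centerOn_iff {W U : Submodule F V} (hW : StableUnder ρ X W) {lam : Γ → F}
    (hlam : ∀ d ∈ ⁅X, X⁆, ∀ v ∈ W, ρ d v = lam d • v) (hU : StableUnder ρ X U) (hUW : U ≤ W)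
    (hU0 : U ≠ ⊥) {x : Γ} : CenterOn ρ X U x ↔ CenterOn ρ X W x := by
  refine ⟨fun hx => ⟨hx.1, fun z hz v hv => ?_⟩, fun hx => ⟨hx.1, fun z hz v hv =>
    hx.2 z hz v (hUW hv)⟩⟩
  have hd : ⁅x, z⁆ ∈ ⁅X, X⁆ := Subgroup.commutator_mem_commutator hx.1 hz
  have key : ∀ w ∈ W, ρ (x * z) w = lam ⁅x, z⁆ • ρ (z * x) w := by
    intro w hw
    rw [← hlam _ hd _ (by rw [← rho_mul_apply]; exact hW z hz _ (hW x hx.1 w hw)),
      rho_mul_apply, commutatorElement_def]
    congr 2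
    group
  obtain ⟨u, hu, hu0⟩ := Submodule.exists_mem_ne_zero_of_ne_bot hU0
  have h1 : lam ⁅x, z⁆ = 1 := by
    have h2 := key u (hUW hu)
    rw [hx.2 z hz u hu] at h2
    exact (smul_left_injective F (rho_ne_zero hu0) ((one_smul F _).trans h2)).symm
  rw [key v hv, h1, one_smul]

/-- What holds for a component that `y` does not fix. -/
structure Central (ρ : Representation F Γ V) (X : Subgroup Γ) (a y : Γ) (S W : Submodule F V)
    (lam μ : Γ → F) : Prop where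
  fixedType : FixedType ρ X S
  inv : Inv ρ X a W
  y_stable : ∀ v ∈ W, ρ y v ∈ W
  le : S ≤ W
  scalar : ∀ d ∈ ⁅X, X⁆, ∀ v ∈ W, ρ d v = lam d • v
  nontriv : ∃ d ∈ ⁅X, X⁆, lam d ≠ 1
  weight : ∀ x, CenterOn ρ X W x → ∀ v ∈ S, ρ x v = μ x • v
  weight_a : ∀ x, CenterOn ρ X W x → μ (a⁻¹ * x * a) = μ x
  weight_y : ∀ x, CenterOn ρ X W x → μ (y⁻¹ * x * y) = μ x

theorem Central.conj_eq {y : Γ} {S W : Submodule F V} {lam μ : Γ → F}
    (C : Central ρ X a y S W lam μ) (hS : StableUnder ρ X S) (hS0 : S ≠ ⊥)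
    (hyX : y ∈ Subgroup.normalizer (X : Set Γ)) {x : Γ} (hx : CenterOn ρ X S x) :
    ∀ v ∈ S, ρ (y * x * y⁻¹) v = ρ x v := by
  rw [centerOn_iff C.inv.1 C.scalar hS C.le hS0] at hx
  have hx' : CenterOn ρ X W (y * x * y⁻¹) :=
    conj_mem' (A := cen ρ X W C.inv.1) (cen_normalizer hyX C.y_stable) hx
  intro v hv
  rw [C.weight _ hx' v hv, C.weight _ hx v hv, ← C.weight_y _ hx',
    show y⁻¹ * (y * x * y⁻¹) * y = x by group]

variable [IsAlgClosed F] [FiniteDimensional F V]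

/-- The dichotomy. -/
theorem fix_or_central (L : Layer ρ s r X a) {T : Submodule F V} {Ω : Set V}
    (hT : HypT ρ r X a T Ω) (hCF : CentralFix ρ X a)
    (hFI : ∀ S, Comp ρ X a S → Noncentral ρ X a S → FixedType ρ X S → Heis ρ s r X a S)
    {y : Γ} (hyX : y ∈ Subgroup.normalizer (X : Set Γ)) (hya : a * y = y * a)
    (hTy : T ≤ fixSub ρ y) {S : Submodule F V} (hG : Good ρ X a S) :
    (¬ FixedType ρ X S ∧ ∀ v ∈ S, ρ a v = v → ρ y v = v) ∨
      ∃ (W : Submodule F V) (lam μ : Γ → F), Central ρ X a y S W lam μ := by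
  classical
  obtain ⟨hS, hnc, hfix⟩ := hG
  have hSX := hS.2.1.1
  have hTopX : StableUnder ρ X (⊤ : Submodule F V) := fun _ _ _ _ => Submodule.mem_top
  have hTop : Inv ρ X a (⊤ : Submodule F V) := ⟨hTopX, fun _ _ => Submodule.mem_top⟩
  set D : Subgroup Γ := ⁅X, X⁆ with hD
  have hDX : D ≤ X := commutator_le_self
  have hDc : ∀ d ∈ D, ∀ x ∈ X, ∀ v ∈ (⊤ : Submodule F V), ρ d (ρ x v) = ρ x (ρ d v) :=
    fun d hd x hx v hv => by
      rw [rho_mul_apply, rho_mul_apply]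
      exact (commutator_le_cen L.classTwo hTopX hd).2 x hx v hv
  have haD := commutator_normalizer L.mem_normalizer
  have hyD := commutator_normalizer hyX
  by_cases hne : ∃ q ∈ D, ∃ v ∈ S, ρ (a * q * a⁻¹) v ≠ ρ q v
  · refine Or.inl ⟨fun hft => ?_, fix_of_noncomm L hTop hDX hDc haD hyD hya
      (fun _ _ => Submodule.mem_top) (hypW_top hT) hTy hS le_top hne⟩
    obtain ⟨q, hq, v, hv, h⟩ := hne
    exact h (comm_of_scalar hS.2.1.2 (hft q (commutator_le_cen L.classTwo hSX hq)) v hv)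
  push Not at hne
  have hDsc : ∀ q ∈ D, IsScalarOn ρ S q := fun q hq =>
    scalar_of_comm hS (commutator_le_cen L.classTwo hSX hq) (hne q hq)
  choose l hl using hDsc
  set lam : Γ → F := fun q => if h : q ∈ D then l q h else 0 with hlamdef
  have hlamS : ∀ q ∈ D, ∀ v ∈ S, ρ q v = lam q • v := fun q hq v hv => by
    simp only [hlamdef, dif_pos hq]
    exact hl q hq v hv
  obtain ⟨v₀, hv₀, hv₀0⟩ := Submodule.exists_mem_ne_zero_of_ne_bot hS.1
  have hlch : IsChar D lam := isChar_of_weight (fun q hq => hlamS q hq v₀ hv₀) hv₀0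
  have hlam_a : ∀ q ∈ D, lam (a⁻¹ * q * a) = lam q := by
    intro q hq
    have h := hne _ (conj_mem haD hq) v₀ hv₀
    rw [show a * (a⁻¹ * q * a) * a⁻¹ = q by group, hlamS q hq v₀ hv₀,
      hlamS _ (conj_mem haD hq) v₀ hv₀] at h
    exact (smul_left_injective F hv₀0 h).symm
  have hlam_y : ∀ q ∈ D, lam (y⁻¹ * q * y) = lam q := by
    by_cases htriv : ∀ q ∈ D, lam q = 1
    · exact fun q hq => by rw [htriv _ (conj_mem hyD hq), htriv q hq]
    push Not at htriv
    obtain ⟨d, hd, hd1⟩ := htriv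
    refine weight_fixed L hTop hDX hDc haD hyD hya (fun _ _ => Submodule.mem_top) (hypW_top hT) hTy
      hS le_top hfix hne hlch hlamS fun ν hν U hU hUi u hu hau hu0 => ?_
    rcases hν with rfl | rfl
    · exact exists_moved_trace L hCF hFI hUi hd hd1 (fun v hv => (hU hv).2 d hd) hu hau hu0
    · refine exists_moved_trace L hCF hFI hUi (conj_mem hyD hd) (c := lam d) hd1 (fun v hv => ?_)
        hu hau hu0
      exact ((hU hv).2 _ (conj_mem hyD hd)).trans
        (congrArg (fun q => lam q • v) (show y * (y⁻¹ * d * y) * y⁻¹ = d by group))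
  set W : Submodule F V := wspace ρ D lam with hWdef
  have hWg : ∀ g ∈ Subgroup.normalizer (D : Set Γ), (∀ q ∈ D, lam (g⁻¹ * q * g) = lam q) →
      ∀ v ∈ W, ρ g v ∈ W := fun g hg h v hv q hq =>
    (rho_mem_wspace' hv hg q hq).trans (congrArg (· • ρ g v) (h q hq))
  have hW : Inv ρ X a W := ⟨fun x hx v hv q hq => by
    rw [hDc q hq x hx v trivial, hv q hq, map_smul], hWg a haD hlam_a⟩
  have hWy := hWg y hyD hlam_y
  have hD0 := card_ne_zero L hDX
  have hcomm : ∀ g ∈ Subgroup.normalizer (D : Set Γ), (∀ q ∈ D, lam (g⁻¹ * q * g) = lam q) →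
      ∀ v : V, wproj ρ D lam (ρ g v) = ρ g (wproj ρ D lam v) := by
    intro g hg h v
    rw [rho_wproj hg v]
    exact (LinearMap.congr_fun (wproj_congr h) _).symm
  have hSW : S ≤ W := fun v hv q hq => hlamS q hq v hv
  have H := (hypW_top hT).map (W' := W) hTop le_top (π := wproj ρ D lam)
    (fun v _ => wproj_mem hlch v) (fun v hv => wproj_self hD0 hlch hv)
    (fun x hx v hv => (rho_wproj_central (U := ⊤) hv fun q hq u hu => (hDc q hq x hx u hu).symm).symm)
    (fun v _ => hcomm a haD hlam_a v)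
  have hTy' : T.map (wproj ρ D lam) ≤ fixSub ρ y :=
    (hypW_top hT).map_le_fix hTy fun v _ => hcomm y hyD hlam_y v
  set A := cen ρ X W hW.1 with hA
  have hAc : ∀ q ∈ A, ∀ x ∈ X, ∀ v ∈ W, ρ q (ρ x v) = ρ x (ρ q v) := fun q hq x hx v hv => by
    rw [rho_mul_apply, rho_mul_apply]
    exact hq.2 x hx v hv
  have haA : a ∈ Subgroup.normalizer (A : Set Γ) := cen_normalizer L.mem_normalizer hW.2
  have hyA : y ∈ Subgroup.normalizer (A : Set Γ) := cen_normalizer hyX hWy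
  have hiff : ∀ x, CenterOn ρ X S x ↔ CenterOn ρ X W x := fun x =>
    centerOn_iff hW.1 (fun d hd v hv => hv d hd) hSX hSW hS.1
  by_cases hne' : ∃ q ∈ A, ∃ v ∈ S, ρ (a * q * a⁻¹) v ≠ ρ q v
  · refine Or.inl ⟨fun hft => ?_, fix_of_noncomm L hW cen_le hAc haA hyA hya hWy H hTy' hS hSW hne'⟩
    obtain ⟨q, hq, v, hv, h⟩ := hne'
    exact h (comm_of_scalar hS.2.1.2 (hft q ((hiff q).mpr hq)) v hv)
  push Not at hne'
  obtain ⟨d, hd, hd1⟩ : ∃ d ∈ D, lam d ≠ 1 := by
    by_contra hall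
    push Not at hall
    obtain ⟨x, hx, v, hv, hxv⟩ := hnc
    refine hxv (hne' x ⟨hx, fun z hz w hw => ?_⟩ v hv)
    have hd : ⁅x, z⁆ ∈ D := Subgroup.commutator_mem_commutator hx hz
    conv_rhs => rw [← one_smul F (ρ (z * x) w), ← hall _ hd,
      ← (show ρ (z * x) w ∈ W by rw [← rho_mul_apply]; exact hW.1 z hz _ (hW.1 x hx w hw)) _ hd,
      rho_mul_apply, commutatorElement_def]
    congr 2
    group
  have hsc : ∀ q ∈ A, IsScalarOn ρ S q := fun q hq =>
    scalar_of_comm hS ((hiff q).mpr hq) (hne' q hq)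
  choose m hm using hsc
  set μ : Γ → F := fun q => if h : q ∈ A then m q h else 0 with hμdef
  have hμS : ∀ q ∈ A, ∀ v ∈ S, ρ q v = μ q • v := fun q hq v hv => by
    simp only [hμdef, dif_pos hq]
    exact hm q hq v hv
  have hμch : IsChar A μ := isChar_of_weight (fun q hq => hμS q hq v₀ hv₀) hv₀0
  have hμy : ∀ q ∈ A, μ (y⁻¹ * q * y) = μ q :=
    weight_fixed L hW cen_le hAc haA hyA hya hWy H hTy' hS hSW hfix hne' hμch hμS
      fun ν _ U hU hUi u hu hau hu0 =>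
        exists_moved_trace L hCF hFI hUi hd hd1 (fun v hv => (hU hv).1 d hd) hu hau hu0
  refine Or.inr ⟨W, lam, μ, ⟨fun x hx => ⟨μ x, hμS x ((hiff x).mp hx)⟩, hW, hWy, hSW,
    fun q hq v hv => hv q hq, ⟨d, hd, hd1⟩, hμS, fun x hx => ?_, hμy⟩⟩
  have h := hne' _ (conj_mem haA hx) v₀ hv₀
  rw [show a * (a⁻¹ * x * a) * a⁻¹ = x by group, hμS x hx v₀ hv₀,
    hμS _ (conj_mem haA hx) v₀ hv₀] at h
  exact (smul_left_injective F hv₀0 h).symm

/-- An `X`-irreducible good piece stable under `y`, of the same type. -/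
theorem exists_piece (L : Layer ρ s r X a) {T : Submodule F V} {Ω : Set V}
    (hT : HypT ρ r X a T Ω) (hCF : CentralFix ρ X a)
    (hFI : ∀ S, Comp ρ X a S → Noncentral ρ X a S → FixedType ρ X S → Heis ρ s r X a S)
    {y : Γ} (hyX : y ∈ Subgroup.normalizer (X : Set Γ)) (hya : a * y = y * a)
    (hTy : T ≤ fixSub ρ y) (hcop : (orderOf y).Coprime r) (hy0 : (orderOf y : F) ≠ 0)
    {S W : Submodule F V} (hG : Good ρ X a S) {lam μ : Γ → F}
    (C : Central ρ X a y S W lam μ) :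
    ∃ S', Good ρ X a S' ∧ Heis ρ s r X a S' ∧
      (∀ x ∈ X, x ∈ fixer ρ S ↔ x ∈ fixer ρ S') ∧
      (∀ x, CenterOn ρ X S x ↔ CenterOn ρ X S' x) ∧ y ∈ stabSub ρ S' ∧
      (finrank F (S' ⊓ fixSub ρ a : Submodule F V) ≤
          finrank F (S' ⊓ fixSub ρ a ⊓ fixSub ρ y : Submodule F V) ∨
        finrank F S' + (r - 1) = r * finrank F (S' ⊓ fixSub ρ a : Submodule F V) ∧
          finrank F (S' ⊓ fixSub ρ a : Submodule F V) ≤
            finrank F (S' ⊓ fixSub ρ a ⊓ fixSub ρ y : Submodule F V) + 1) := by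
  classical
  obtain ⟨hS, hnc, hfix⟩ := hG
  set A := cen ρ X W C.inv.1 with hA
  have haA : a ∈ Subgroup.normalizer (A : Set Γ) := cen_normalizer L.mem_normalizer C.inv.2
  have hyA : y ∈ Subgroup.normalizer (A : Set Γ) := cen_normalizer hyX C.y_stable
  set W₂ : Submodule F V := W ⊓ wspace ρ A μ with hW₂def
  have hW₂g : ∀ g ∈ Subgroup.normalizer (A : Set Γ), (∀ v ∈ W, ρ g v ∈ W) →
      (∀ q ∈ A, μ (g⁻¹ * q * g) = μ q) → ∀ v ∈ W₂, ρ g v ∈ W₂ := fun g hg hgW h v hv =>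
    ⟨hgW v hv.1, fun q hq =>
      (rho_mem_wspace' hv.2 hg q hq).trans (congrArg (· • ρ g v) (h q hq))⟩
  have hW₂X : StableUnder ρ X W₂ := fun x hx v hv => ⟨C.inv.1 x hx v hv.1, fun q hq => by
    rw [rho_mul_apply, hq.2 x hx v hv.1, ← rho_mul_apply, hv.2 q hq, map_smul]⟩
  set g := a * y with hgdef
  have hgX : g ∈ Subgroup.normalizer (X : Set Γ) := mul_mem L.mem_normalizer hyX
  set n := orderOf y with hn
  have hac : Commute a y := hya
  have hgpow : g ^ (r * n) = 1 := by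
    rw [hgdef, hac.mul_pow, pow_mul, L.pow_eq_one, one_pow, one_mul, mul_comm, pow_mul,
      pow_orderOf_eq_one, one_pow]
  set H := X ⊔ Subgroup.zpowers g with hH
  have hH0 : (Nat.card H : F) ≠ 0 := card_sup_ne_zero L hgX hgpow (by
    rw [Nat.cast_mul]; exact mul_ne_zero L.r_ne_zero hy0)
  have hXH : X ≤ H := le_sup_left
  have hgH : g ∈ H := Subgroup.mem_sup_right (Subgroup.mem_zpowers g)
  have haH : a ∈ H := by
    obtain ⟨l, -, hl⟩ := Nat.exists_mul_mod_eq_one_of_coprime hcop L.prime_r.one_lt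
    have h1 : g ^ (n * l) = a := by
      rw [hgdef, hac.mul_pow, pow_mul y, pow_orderOf_eq_one, one_pow, mul_one,
        pow_eq_pow_mod _ L.pow_eq_one, hl, pow_one]
    exact h1 ▸ pow_mem hgH _
  have hyH : y ∈ H := by
    have h1 := H.mul_mem (H.inv_mem haH) hgH
    rwa [hgdef, inv_mul_cancel_left] at h1
  have hW₂H : StableUnder ρ H W₂ := stable_sup hW₂X fun v hv => by
    rw [hgdef, map_mul, End.mul_apply]
    exact hW₂g a haA C.inv.2 C.weight_a _ (hW₂g y hyA C.y_stable C.weight_y v hv)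
  have hSW₂ : S ≤ W₂ := fun v hv => ⟨C.le hv, fun q hq => C.weight q hq v hv⟩
  obtain ⟨S', ⟨hle, hstab, hS'fix⟩, hmin⟩ := wellFounded_lt.has_min
    {U : Submodule F V | U ≤ W₂ ∧ StableUnder ρ H U ∧ U ⊓ fixSub ρ a ≠ ⊥}
    ⟨W₂, le_rfl, hW₂H, ne_bot_of_le_ne_bot hfix (inf_le_inf_right _ hSW₂)⟩
  have hS'0 : S' ≠ ⊥ := ne_bot_of_le_ne_bot hS'fix inf_le_left
  have hirrH : ∀ U ≤ S', StableUnder ρ H U → U = ⊥ ∨ U = S' := by
    intro U hU hUH
    by_contra hboth
    push Not at hboth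
    obtain ⟨hU0, hUne⟩ := hboth
    obtain ⟨π, hπW, hπid, hπc⟩ := exists_proj hH0 hUH
    have hUfix : U ⊓ fixSub ρ a = ⊥ := by
      by_contra h
      exact hmin U ⟨hU.trans hle, hUH, h⟩ (lt_of_le_of_ne hU hUne)
    let K : Submodule F V := S' ⊓ LinearMap.ker π
    have hKne : K ≠ S' := by
      intro hK
      obtain ⟨v, hv, hv0⟩ := Submodule.exists_mem_ne_zero_of_ne_bot hU0
      exact hv0 (by rw [← hπid v hv, LinearMap.mem_ker.mp (hK.symm ▸ hU hv : v ∈ K).2])
    refine hmin K ⟨inf_le_left.trans hle, fun h hh v hv => ⟨hstab h hh v hv.1, ?_⟩, ?_⟩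
      (lt_of_le_of_ne inf_le_left hKne)
    · rw [SetLike.mem_coe, LinearMap.mem_ker, hπc h hh v, LinearMap.mem_ker.mp hv.2, map_zero]
    · refine ne_bot_of_le_ne_bot hS'fix fun v hv => ⟨⟨hv.1, ?_⟩, hv.2⟩
      rw [SetLike.mem_coe, LinearMap.mem_ker]
      have h1 : π v ∈ U ⊓ fixSub ρ a :=
        ⟨hπW v, by rw [SetLike.mem_coe, mem_fixSub, ← hπc a haH, mem_fixSub.mp hv.2]⟩
      rwa [hUfix, Submodule.mem_bot] at h1
  -- `S'` is irreducible under `X`
  obtain ⟨W₀, ⟨hW₀0, hW₀le, hW₀X⟩, hW₀min⟩ := wellFounded_lt.has_min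
    {U : Submodule F V | U ≠ ⊥ ∧ U ≤ S' ∧ StableUnder ρ X U}
    ⟨S', hS'0, le_rfl, fun x hx => hstab x (hXH hx)⟩
  have hW₀irr : ∀ U ≤ W₀, StableUnder ρ X U → U = ⊥ ∨ U = W₀ := fun U hU hUX => by
    by_cases h0 : U = ⊥
    · exact Or.inl h0
    · exact Or.inr ((eq_or_lt_of_le hU).resolve_right (hW₀min U ⟨h0, hU.trans hW₀le, hUX⟩))
  set U₁ : Submodule F V := W₀.map (ρ g) with hU₁def
  have hU₁le : U₁ ≤ S' := by
    rintro _ ⟨v, hv, rfl⟩
    exact hstab g hgH v (hW₀le hv)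
  have hU₁X : StableUnder ρ X U₁ := by
    rintro x hx _ ⟨v, hv, rfl⟩
    refine ⟨ρ (g⁻¹ * x * g) v, hW₀X _ (conj_mem hgX hx) v hv, ?_⟩
    rw [rho_mul_apply, rho_mul_apply, mul_assoc g⁻¹, mul_inv_cancel_left]
  have hU₁0 : U₁ ≠ ⊥ := by
    obtain ⟨v, hv, hv0⟩ := Submodule.exists_mem_ne_zero_of_ne_bot hW₀0
    exact fun h => rho_ne_zero hv0 ((Submodule.eq_bot_iff _).mp h _ (Submodule.mem_map_of_mem hv))
  have hU₁irr : ∀ U ≤ U₁, StableUnder ρ X U → U = ⊥ ∨ U = U₁ := by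
    intro U hU hUX
    have hU' : U.comap (ρ g) ≤ W₀ := fun v hv => by
      obtain ⟨w, hw, he⟩ := hU hv
      rwa [← rho_inj he]
    have hmap : U ≤ (U.comap (ρ g)).map (ρ g) := fun v hv =>
      ⟨ρ g⁻¹ v, by rwa [SetLike.mem_coe, Submodule.mem_comap, rho_inv_apply], rho_inv_apply g v⟩
    rcases hW₀irr _ hU' (fun x hx v hv => by
      rw [Submodule.mem_comap] at hv ⊢
      rw [← rho_conj_apply]
      exact hUX _ (conj_mem' hgX hx) _ hv) with h | h
    · left
      rw [h, Submodule.map_bot] at hmap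
      exact le_bot_iff.mp hmap
    · right
      exact le_antisymm hU (by rw [hU₁def, ← h]; exact Submodule.map_comap_le _ _)
  have hiffW : ∀ {U : Submodule F V}, StableUnder ρ X U → U ≤ W₂ → U ≠ ⊥ →
      ∀ x, CenterOn ρ X U x ↔ CenterOn ρ X W x := fun hUX hU hU0 x =>
    centerOn_iff C.inv.1 C.scalar hUX (fun v hv => (hU hv).1) hU0
  have hcs : ∀ x ∈ X, ∀ z ∈ X, ∃ c : F, c ≠ 0 ∧
      ∀ v ∈ U₁, ρ x (ρ z v) = c • ρ z (ρ x v) := by
    intro x hx z hz
    have hd : ⁅x, z⁆ ∈ ⁅X, X⁆ := Subgroup.commutator_mem_commutator hx hz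
    refine ⟨lam ⁅x, z⁆, fun h0 => ?_, fun v hv => ?_⟩
    · obtain ⟨v, hv, hv0⟩ := Submodule.exists_mem_ne_zero_of_ne_bot hS.1
      exact rho_ne_zero hv0 (by rw [C.scalar _ hd v (C.le hv), h0, zero_smul])
    · rw [← C.scalar _ hd _ (hle (hU₁le (hU₁X z hz _ (hU₁X x hx v hv)))).1]
      simp only [rho_mul_apply, commutatorElement_def]
      congr 2
      group
  obtain ⟨φ, hφW, ⟨u, hu, hu0⟩, hφk⟩ := exists_map hU₁X hW₀X hU₁0 hW₀0 hU₁irr hcs (A := A)
    (fun x hx => (hiffW hU₁X (hU₁le.trans hle) hU₁0 x).mp hx) (μ := μ)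
    (fun q hq v hv => (hle (hU₁le hv)).2 q hq) (fun q hq v hv => (hle (hW₀le hv)).2 q hq)
  obtain ⟨π, hπW, hπid, hπc⟩ := exists_proj hH0 hstab
  obtain ⟨d, hd, hd1⟩ := C.nontriv
  have hXle : X ≤ stabSub ρ S' := fun x hx => mem_stabSub_of_stable (hstab x (hXH hx))
  set G' := stabSub ρ S'
  set g' : G' := ⟨g, mem_stabSub_of_stable (hstab g hgH)⟩
  set σ : Representation F ↥G' ↥S' := restrictRep ρ S'
  set Q : Subgroup ↥G' := X.subgroupOf G'
  have hgood : FgsC.HallHigmanB.IsGood σ Q (W₀.comap S'.subtype) := by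
    refine ⟨fun h => ?_, fun k hk v hv => hW₀X _ (Subgroup.mem_subgroupOf.mp hk) _ hv,
      fun U hU hUi => ?_, ?_⟩
    · obtain ⟨v, hv, hv0⟩ := Submodule.exists_mem_ne_zero_of_ne_bot hW₀0
      exact hv0 (congrArg Subtype.val ((Submodule.eq_bot_iff _).mp h ⟨v, hW₀le hv⟩ hv))
    · rcases hW₀irr (U.map S'.subtype) (Submodule.map_le_iff_le_comap.mpr hU) (by
        rintro x hx _ ⟨w, hw, rfl⟩
        exact ⟨_, hUi (⟨x, hXle hx⟩ : G') (Subgroup.mem_subgroupOf.mpr hx) w hw, rfl⟩) with h | h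
      · left
        refine Submodule.map_injective_of_injective S'.injective_subtype ?_
        rw [h, Submodule.map_bot]
      · right
        rw [← h, Submodule.comap_map_eq_of_injective S'.injective_subtype]
    · obtain ⟨v, hv, hv0⟩ := Submodule.exists_mem_ne_zero_of_ne_bot hW₀0
      refine ⟨⟨d, hXle (commutator_le_self hd)⟩, Subgroup.mem_subgroupOf.mpr (commutator_le_self hd),
        ⟨v, hW₀le hv⟩, hv, fun h => hd1 ?_⟩
      have h1 : ρ d v = v := congrArg Subtype.val h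
      rw [C.scalar d hd v (hle (hW₀le hv)).1] at h1
      exact smul_left_injective F hv0 (h1.trans (one_smul F v).symm)
  have hgQ : g' ∈ Subgroup.normalizer (Q : Set ↥G') := mem_normalizer_of_conj fun k hk => by
    rw [Subgroup.mem_subgroupOf] at hk ⊢
    exact conj_mem' hgX hk
  have hstable : FgsC.HallHigmanB.IsStable σ Q (W₀.comap S'.subtype) g' := by
    refine ⟨(π.codRestrict S' hπW) ∘ₗ φ ∘ₗ ρ g ∘ₗ S'.subtype, fun v hv => ?_, ?_,
      fun k hk v hv => Subtype.ext ?_⟩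
    · show π (φ (ρ g (v : V))) ∈ W₀
      have h1 := hφW _ (Submodule.mem_map_of_mem (f := ρ g) (show (v : V) ∈ W₀ from hv))
      rw [hπid _ (hW₀le h1)]
      exact h1
    · obtain ⟨w, hw, rfl⟩ := hu
      refine ⟨⟨w, hW₀le hw⟩, hw, fun h => hu0 ?_⟩
      have h1 : π (φ (ρ g w)) = 0 := congrArg Subtype.val h
      rwa [hπid _ (hW₀le (hφW _ (Submodule.mem_map_of_mem hw)))] at h1
    · show π (φ (ρ g (ρ (k : Γ) (v : V)))) = ρ (g * (k : Γ) * g⁻¹) (π (φ (ρ g (v : V))))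
      rw [← rho_conj_apply, hφk _ (conj_mem' hgX (Subgroup.mem_subgroupOf.mp hk)) _
        (Submodule.mem_map_of_mem (show (v : V) ∈ W₀ from hv)), hπc _ (hXH (conj_mem' hgX (Subgroup.mem_subgroupOf.mp hk)))]
  obtain ⟨W', hW', hW'g⟩ := FgsC.PrimePower.exists_invariant_of_stable hgood hgQ hstable
  have hW'eq : W'.map S'.subtype = S' := by
    refine (hirrH _ (Submodule.map_subtype_le _ _) (stable_sup ?_ ?_)).resolve_left fun h =>
      hW'.ne_bot (Submodule.map_injective_of_injective S'.injective_subtype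
        (h.trans (Submodule.map_bot _).symm))
    · rintro x hx _ ⟨w, hw, rfl⟩
      exact ⟨_, hW'.inv (⟨x, hXle hx⟩ : G') (Subgroup.mem_subgroupOf.mpr hx) w hw, rfl⟩
    · rintro _ ⟨w, hw, rfl⟩
      exact ⟨_, hW'g w hw, rfl⟩
  have hW'top : W' = ⊤ := by
    refine Submodule.map_injective_of_injective S'.injective_subtype ?_
    rw [hW'eq, Submodule.map_top, Submodule.range_subtype]
  have hirrX : ∀ U ≤ S', StableUnder ρ X U → U = ⊥ ∨ U = S' := by
    intro U hU hUX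
    rcases hW'.minimal (U.comap S'.subtype) (hW'top.symm ▸ le_top) (fun k hk v hv => by
      rw [Submodule.mem_comap] at hv ⊢
      exact hUX _ (Subgroup.mem_subgroupOf.mp hk) _ hv) with h | h
    · left
      rw [← inf_eq_right.mpr hU, ← Submodule.map_comap_subtype, h, Submodule.map_bot]
    · right
      rw [← inf_eq_right.mpr hU, ← Submodule.map_comap_subtype, h, hW'eq]
  have hS'X : StableUnder ρ X S' := fun x hx => hstab x (hXH hx)
  have hS'inv : Inv ρ X a S' := ⟨hS'X, hstab a haH⟩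
  have hComp : Comp ρ X a S' :=
    ⟨hS'0, hS'inv, fun U hU hU0 hUi => (hirrX U hU hUi.1).resolve_left hU0⟩
  have hNC : Noncentral ρ X a S' := by
    obtain ⟨v, hv, hv0⟩ := Submodule.exists_mem_ne_zero_of_ne_bot hS'0
    refine noncentral_of_commutator L hCF hS'inv ⟨d, hd, v, hv, fun h => hd1 ?_⟩
    rw [C.scalar d hd v (hle hv).1] at h
    exact smul_left_injective F hv0 (h.trans (one_smul F v).symm)
  have hS'iff := hiffW hS'X hle hS'0
  have hSiff : ∀ x, CenterOn ρ X S x ↔ CenterOn ρ X W x := fun x =>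
    centerOn_iff C.inv.1 C.scalar hS.2.1.1 C.le hS.1
  have hFT : FixedType ρ X S' := fun x hx => ⟨μ x, fun v hv => (hle hv).2 x ((hS'iff x).mp hx)⟩
  have hHeis := hFI S' hComp hNC hFT
  refine ⟨S', ⟨hComp, hNC, hS'fix⟩, hHeis, ?_, fun x => (hSiff x).trans (hS'iff x).symm,
    mem_stabSub_of_stable (hstab y hyH), ?_⟩
  · -- the fixer is the kernel of the weight
    have key : ∀ {U U' : Submodule F V}, StableUnder ρ X U → U ≠ ⊥ → U ≤ W₂ → U' ≤ W₂ →
        ∀ x ∈ X, x ∈ fixer ρ U → x ∈ fixer ρ U' := by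
      intro U U' hU hU0 hUle hU'le x hx hfx
      have hxA : x ∈ A := (hiffW hU hUle hU0 x).mp ⟨hx, fun z hz v hv => by
        rw [map_mul, map_mul, End.mul_apply, End.mul_apply, hfx _ (hU z hz v hv), hfx v hv]⟩
      obtain ⟨v, hv, hv0⟩ := Submodule.exists_mem_ne_zero_of_ne_bot hU0
      have h1 : μ x = 1 := smul_left_injective F hv0
        (((hUle hv).2 x hxA).symm.trans ((hfx v hv).trans (one_smul F v).symm))
      intro w hw
      rw [(hU'le hw).2 x hxA, h1, one_smul]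
    exact fun x hx => ⟨key hS.2.1.1 hS.1 hSW₂ hle x hx, key hS'X hS'0 hle hSW₂ x hx⟩
  · have HS := (hypW_top hT).map (W' := S') ⟨fun _ _ _ _ => Submodule.mem_top, fun _ _ => Submodule.mem_top⟩
      le_top (π := π) (fun v _ => hπW v) hπid (fun x hx v _ => hπc x (hXH hx) v)
      (fun v _ => hπc a haH v)
    have hT' : T.map π ≤ S' ⊓ fixSub ρ a ⊓ fixSub ρ y :=
      le_inf HS.le ((hypW_top hT).map_le_fix hTy fun v _ => hπc y hyH v)
    by_cases hall : S' ⊓ fixSub ρ a ≤ T.map π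
    · exact Or.inl (Submodule.finrank_mono (hall.trans hT'))
    right
    obtain ⟨χ, hχ, hχT⟩ : ∃ χ ∈ π '' Ω, χ ∉ T.map π := by
      by_contra hsub
      push Not at hsub
      exact hall (HS.span.trans (sup_le le_rfl (Submodule.span_le.mpr hsub)))
    obtain ⟨f, hf0, hf1⟩ :=
      LinearMap.exists_extend_of_notMem (0 : (T.map π : Submodule F V) →ₗ[F] F) hχT 1
    have hχ0 : χ ≠ 0 := fun h => hχT (h ▸ zero_mem _)
    have haχ := mem_fixSub.mp (HS.omega hχ).2
    refine ⟨line_count hHeis (HS.omega hχ).1 hχ0 haχ (φ := f) (by rw [hf1]; exact one_ne_zero)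
      (fun x hx hne => LinearMap.congr_fun hf0 ⟨_, HS.moved χ hχ x hx hne⟩), ?_⟩
    have h1 := Submodule.finrank_mono
      (fix_le_line hHeis (HS.omega hχ).1 hχ0 haχ (P := T.map π) (HS.moved χ hχ))
    have h2 := Submodule.finrank_add_le_finrank_add_finrank (T.map π)
      (Submodule.span F ({χ} : Set V))
    have h3 := Submodule.finrank_mono hT'
    rw [finrank_span_singleton hχ0] at h2
    omega

/-- The last clause. -/
theorem projection_bound (L : Layer ρ s r X a) {T : Submodule F V} {Ω : Set V}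
    (hT : HypT ρ r X a T Ω)
    (hFI : ∀ S, Comp ρ X a S → Noncentral ρ X a S → FixedType ρ X S → Heis ρ s r X a S)
    {S : Submodule F V} (hG : Good ρ X a S) (hft : FixedType ρ X S) (π : End F V)
    (hπ2 : π * π = π) (hπr : LinearMap.range π = S) (hπX : ∀ x ∈ X, π * ρ x = ρ x * π)
    (hπa : π * ρ a = ρ a * π) :
    T.map π ≠ ⊥ ∧ finrank F (S ⊓ fixSub ρ a : Submodule F V) ≤ finrank F (T.map π) + 1 := by
  have hH := hFI S hG.1 hG.2.1 hft
  have HS := (hypW_top hT).map (W' := S) ⟨fun _ _ _ _ => Submodule.mem_top, fun _ _ => Submodule.mem_top⟩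
    le_top (π := π) (fun v _ => hπr ▸ LinearMap.mem_range_self π v)
    (fun v hv => by
      obtain ⟨w, rfl⟩ := (hπr.symm ▸ hv : v ∈ LinearMap.range π)
      exact LinearMap.congr_fun hπ2 w)
    (fun x hx v _ => LinearMap.congr_fun (hπX x hx) v) (fun v _ => LinearMap.congr_fun hπa v)
  refine ⟨fun hb => ?_, ?_⟩
  · obtain ⟨χ, hχ, hχ0⟩ : ∃ χ ∈ π '' Ω, χ ≠ 0 := by
      by_contra hall
      push Not at hall
      refine hG.2.2 (le_bot_iff.mp (HS.span.trans (sup_le hb.le (Submodule.span_le.mpr ?_))))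
      exact fun χ hχ => by rw [SetLike.mem_coe, Submodule.mem_bot]; exact hall χ hχ
    obtain ⟨x, hx, hne, htr⟩ :=
      exists_moved_trace_piece hH (HS.omega hχ).1 hχ0 (mem_fixSub.mp (HS.omega hχ).2)
    exact htr ((Submodule.mem_bot F).mp (hb ▸ HS.moved χ hχ x hx hne))
  · by_cases hall : S ⊓ fixSub ρ a ≤ T.map π
    · exact (Submodule.finrank_mono hall).trans (Nat.le_succ _)
    obtain ⟨χ, hχ, hχT⟩ : ∃ χ ∈ π '' Ω, χ ∉ T.map π := by
      by_contra hsub
      push Not at hsub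
      exact hall (HS.span.trans (sup_le le_rfl (Submodule.span_le.mpr hsub)))
    have hχ0 : χ ≠ 0 := fun h => hχT (h ▸ zero_mem _)
    have h1 := Submodule.finrank_mono (fix_le_line hH (HS.omega hχ).1 hχ0
      (mem_fixSub.mp (HS.omega hχ).2) (P := T.map π) (HS.moved χ hχ))
    have h2 := Submodule.finrank_add_le_finrank_add_finrank (T.map π)
      (Submodule.span F ({χ} : Set V))
    rw [finrank_span_singleton hχ0] at h2
    omega

end Hy

open Hy

universe u

/-- An element commuting with `a` and fixing `T`. -/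
theorem hyper (hFI : StmtFixedIrr.{u}) : StmtHyper.{u} := by
  intro F _ _ Γ V _ _ _ _ _ ρ s r X a T Ω y L hT hCF hyX hya hTy hcop S hG
  have hFI' : ∀ S, Comp ρ X a S → Noncentral ρ X a S → FixedType ρ X S → Heis ρ s r X a S :=
    fun S => hFI F Γ V ρ s r X a S L hCF
  have hXS := hG.1.2.1.1
  rcases fix_or_central L hT hCF hFI' hyX hya hTy hG with ⟨hnf, hC⟩ | ⟨W, lam, μ, C⟩
  · have hle : S ≤ fixSub ρ y := le_fix_of_fix L hyX hya hcop hG.1 hnf hG.2.2 hC
    have hconj : ∀ x ∈ X, ∀ v ∈ S, ρ (y * x * y⁻¹) v = ρ x v := by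
      intro x hx v hv
      conv_lhs => arg 2; rw [← mem_fixSub.mp (hle hv)]
      rw [rho_conj_apply, mem_fixSub.mp (hle (hXS x hx v hv))]
    exact ⟨⟨fun x hx hf v hv => by rw [hconj x hx v hv]; exact hf v hv,
      fun x hx => hconj x hx.1⟩, fun _ => hle, fun hft => absurd hft hnf,
      fun hft => absurd hft hnf⟩
  · refine ⟨⟨fun x hx hf v hv => ?_, fun x hx => C.conj_eq hXS hG.1.1 hyX hx⟩,
      fun hnf => absurd C.fixedType hnf, fun _ hy0 => exists_piece L hT hCF hFI' hyX hya hTy hcop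
        hy0 hG C, fun hft => projection_bound L hT hFI' hG hft⟩
    have hcx : CenterOn ρ X S x := ⟨hx, fun z hz w hw => by
      rw [map_mul, map_mul, End.mul_apply, End.mul_apply, hf _ (hXS z hz w hw), hf w hw]⟩
    rw [C.conj_eq hXS hG.1.1 hyX hcx v hv]
    exact hf v hv

end CfsgLib.TurullFit
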