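import Cfsg.Agent.Lib.TurullFit.Count
import Cfsg.Agent.Lib.TurullFit.SmallCommForm

/-!
# No involution with an eleven dimensional fixed space on a piece of dimension sixteen

Conjugation permutes a basis of `End U` up to scalars, so the commutant of an involution is at most
half the number of basis vectors plus half the number of fixed ones.
-/

set_option autoImplicit false
set_option linter.style.haveILetI false

open Module
open scoped commutatorElement

namespace CfsgLib.TurullFit.SmallCommBinary

open CountSetup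

universe u

/-- The fixed space of a monomial involution. -/
theorem finrank_fixed_le {K : Type*} [Field K] {W : Type*} [AddCommGroup W] [Module K W]
    [FiniteDimensional K W] {ι : Type*} [Fintype ι] (b : ι → W)
    (hspan : ⊤ ≤ Submodule.span K (Set.range b)) (T : End K W) (hT : T ^ 2 = 1)
    (h2 : (2 : K) ≠ 0) (τ : Equiv.Perm ι) (hτ : τ ^ 2 = 1)
    (hperm : ∀ x, ∃ c : K, c ≠ 0 ∧ T (b x) = c • b (τ x)) :
    2 * finrank K (LinearMap.ker (T - 1)) ≤
      Fintype.card ι + Nat.card {x // τ x = x} := by
  classical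
  have hTT : ∀ v, T (T v) = v := fun v => by
    rw [← End.mul_apply, ← pow_two, hT, End.one_apply]
  have hττ : ∀ x, τ (τ x) = x := fun x => by
    rw [← Equiv.Perm.mul_apply, ← pow_two, hτ, Equiv.Perm.one_apply]
  let e := Fintype.equivFin ι
  set R : Finset ι := Finset.univ.filter fun x => e x ≤ e (τ x) with hR
  let Nm : End K W := T + 1
  have hle : LinearMap.ker (T - 1) ≤ Submodule.span K (Set.range fun x : R => Nm (b x)) := by
    intro v hv
    have hv1 : T v = v := by
      rwa [LinearMap.mem_ker, LinearMap.sub_apply, End.one_apply, sub_eq_zero] at hv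
    have hgen : ∀ w : W, Nm w ∈ Submodule.span K (Set.range fun x : R => Nm (b x)) := by
      intro w
      induction hspan (Submodule.mem_top : w ∈ ⊤) using Submodule.span_induction with
      | mem z hz =>
        obtain ⟨x, rfl⟩ := hz
        rcases le_total (e x) (e (τ x)) with hx | hx
        · exact Submodule.subset_span ⟨⟨x, by simp [hR, hx]⟩, rfl⟩
        · obtain ⟨c, -, hc⟩ := hperm (τ x)
          rw [hττ] at hc
          have : Nm (b x) ∈ Submodule.span K (Set.range fun x : R => Nm (b x)) := by
            obtain ⟨d, hd0, hd⟩ := hperm x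
            have e1 : Nm (b x) = d • Nm (b (τ x)) := by
              show T (b x) + b x = d • (T (b (τ x)) + b (τ x))
              rw [smul_add, ← map_smul, ← hd, hTT, hd, add_comm]
            rw [e1]
            exact Submodule.smul_mem _ _ (Submodule.subset_span ⟨⟨τ x, by simp [hR, hττ, hx]⟩, rfl⟩)
          exact this
      | zero => rw [map_zero]; exact zero_mem _
      | add y z _ _ hy hz => rw [map_add]; exact add_mem hy hz
      | smul c y _ hy => rw [map_smul]; exact Submodule.smul_mem _ _ hy
    have h3 : v = (2 : K)⁻¹ • Nm v := by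
      show v = (2 : K)⁻¹ • (T v + v)
      rw [hv1, ← two_smul K, smul_smul, inv_mul_cancel₀ h2, one_smul]
    rw [h3]
    exact Submodule.smul_mem _ _ (hgen v)
  have h1 := (Submodule.finrank_mono hle).trans (finrank_range_le_card (R := K) fun x : R => Nm (b x))
  rw [Fintype.card_coe] at h1
  have h4 : R ∪ R.map τ.toEmbedding = Finset.univ := by
    ext x
    simp only [Finset.mem_union, Finset.mem_map_equiv, Finset.mem_univ, iff_true, hR,
      Finset.mem_filter, true_and]
    rcases le_total (e x) (e (τ x)) with hx | hx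
    · exact Or.inl hx
    · refine Or.inr ?_
      rw [show τ.symm x = τ x from τ.injective (by rw [Equiv.apply_symm_apply, hττ]), hττ]
      exact hx
  have h5 : (R ∩ R.map τ.toEmbedding).card ≤ Nat.card {x // τ x = x} := by
    rw [Nat.card_eq_fintype_card, Fintype.card_subtype]
    refine Finset.card_le_card fun x hx => ?_
    simp only [Finset.mem_inter, Finset.mem_map_equiv, hR, Finset.mem_filter, Finset.mem_univ,
      true_and] at hx
    rw [show τ.symm x = τ x from τ.injective (by rw [Equiv.apply_symm_apply, hττ]), hττ] at hx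
    simp only [Finset.mem_filter, Finset.mem_univ, true_and]
    exact (e.injective (le_antisymm hx.1 hx.2)).symm
  have h6 := Finset.card_union_add_card_inter R (R.map τ.toEmbedding)
  rw [h4, Finset.card_map, Finset.card_univ] at h6
  omega

variable {F : Type} [Field F] [IsAlgClosed F] {Γ V : Type u} [Group Γ] [Finite Γ] [AddCommGroup V]
  [Module F V] [FiniteDimensional F V] {ρ : Representation F Γ V} {X : Subgroup Γ} {a g : Γ}
  {U : Submodule F V}

theorem no_involution (h : Heis ρ 2 5 X a U) (hd : finrank F U = 16)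
    (hgn : g ∈ Subgroup.normalizer (X : Set Γ)) (hag : a * g = g * a) (hgU : g ∈ stabSub ρ U)
    (h2 : (2 : F) ≠ 0) (hsc : IsScalarOn ρ U (g ^ 2))
    (hd1 : finrank F (U ⊓ fixSub ρ g : Submodule F V) = 11)
    (hmove : ∃ x ∈ X, ¬ IsScalarOn ρ U ⁅g, x⁆) : False := by
  classical
  haveI := nontrivial_piece h
  haveI : Fintype (Cos ρ U X) := Fintype.ofFinite _
  haveI : Fact (Nat.Prime 5) := ⟨by norm_num⟩
  haveI : Fact (Nat.Prime 2) := ⟨Nat.prime_two⟩
  set g' : ↥(nGrp ρ U X) := ⟨g, hgU, hgn⟩ with hg'
  set a' : ↥(nGrp ρ U X) := ⟨a, mem_nGrp_a h⟩ with ha'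
  obtain ⟨v, hv, hv0⟩ : ∃ v ∈ (U ⊓ fixSub ρ g : Submodule F V), v ≠ 0 :=
    Submodule.exists_mem_ne_zero_of_ne_bot fun h0 => by rw [h0, finrank_bot] at hd1; omega
  obtain ⟨c, hc⟩ := hsc
  have hc1 : c = 1 := by
    have e1 := hc v hv.1
    rw [pow_two, map_mul, End.mul_apply, mem_fixSub.mp hv.2, mem_fixSub.mp hv.2] at e1
    exact smul_left_injective F hv0 (e1.symm.trans (one_smul F v).symm)
  subst hc1
  have hg2 : res ρ U X g' ^ 2 = (1 : F) • (1 : End F U) := by
    rw [← map_pow]
    exact LinearMap.ext fun w => Subtype.ext (hc w w.2)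
  -- lower bound
  obtain ⟨hC, hS⟩ := CountBasis.finrank_commutant (A := res ρ U X g') (n := 2) (c := (1 : F))
    (by exact_mod_cast h2) one_ne_zero hg2
  rw [hd] at hS
  have hroots := CountBasis.card_roots_one (K := F) (n := 2) (by exact_mod_cast h2)
  let i₀ : CountBasis.Roots 2 (1 : F) :=
    ⟨1, (Polynomial.mem_nthRootsFinset two_pos 1).mpr (one_pow 2)⟩
  have hi₀ : finrank F (End.eigenspace (res ρ U X g') (i₀ : F)) = 11 := (finrank_fix g').trans hd1
  obtain ⟨i₁, hi₁⟩ := Finset.card_eq_one.mp (show (Finset.univ.erase i₀).card = 1 by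
    rw [Finset.card_erase_of_mem (Finset.mem_univ _), Finset.card_univ, hroots])
  rw [← Finset.add_sum_erase _ _ (Finset.mem_univ i₀), hi₁, Finset.sum_singleton, hi₀] at hC hS
  rw [show finrank F (End.eigenspace (res ρ U X g') (i₁ : F)) = 5 by omega] at hC
  -- upper bound
  obtain ⟨hli, hspan, -, hcard, -⟩ := basis_facts h
  rw [hd] at hcard
  have hgs : FgsC.HallHigman.IsScalar (res ρ U X) (g' ^ 2) := ⟨1, by rw [map_pow]; exact hg2⟩
  let P : ↥(nGrp ρ U X) →* Equiv.Perm (Cos ρ U X) := (MulAut.toPerm (Cos ρ U X)).comp conjCos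
  have hub := finrank_fixed_le
    (fun c : Cos ρ U X => res ρ U X ((Quotient.out c : eSub ρ U X) : ↥(nGrp ρ U X))) hspan
    (conjEnd ρ U X g') (by rw [← map_pow, conjEnd_eq_one hgs]) h2 (P g')
    (by rw [← map_pow]; show MulAut.toPerm _ (conjCos (g' ^ 2)) = 1; rw [conjCos_eq_one hgs, map_one])
    (conjEnd_perm h g')
  rw [ker_conjEnd_sub_one, hC, ← Nat.card_eq_fintype_card, hcard] at hub
  -- the fixed cosets
  let C : Subgroup (Cos ρ U X) :=
    { carrier := {c | conjCos g' c = c}
      one_mem' := map_one _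
      mul_mem' := fun {x y} hx hy => by
        show conjCos g' (x * y) = x * y
        rw [map_mul, show conjCos g' x = x from hx, show conjCos g' y = y from hy]
      inv_mem' := fun {x} hx => by
        show conjCos g' x⁻¹ = x⁻¹
        rw [map_inv, show conjCos g' x = x from hx] }
  have hCcard : Nat.card C = Nat.card {x // P g' x = x} := rfl
  obtain ⟨k, hk, hCk⟩ : ∃ k ≤ 8, Nat.card C = 2 ^ k :=
    (Nat.dvd_prime_pow Nat.prime_two).mp (by
      have h1 := Subgroup.card_subgroup_dvd_card C
      rw [hcard] at h1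
      simpa using h1)
  have hk8 : k ≠ 8 := by
    rintro rfl
    obtain ⟨x, hx, hxs⟩ := hmove
    have hxN : x ∈ nGrp ρ U X := le_nGrp h hx
    let kx : eSub ρ U X := ⟨⟨x, hxN⟩, hx⟩
    have hall : (QuotientGroup.mk kx : Cos ρ U X) ∈ C := by
      rw [(Subgroup.card_eq_iff_eq_top C).mp (by rw [hCk, hcard]; norm_num)]
      trivial
    have e1 : conjCos g' (QuotientGroup.mk kx : Cos ρ U X) = QuotientGroup.mk kx := hall
    rw [conjCos_mk, QuotientGroup.eq] at e1
    obtain ⟨-, e2⟩ := FgsC.HallHigman.mem_scalarSubgroup.mp (Subgroup.mem_subgroupOf.mp e1)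
    rw [isScalar_iff] at e2
    simp only [Subgroup.coe_mul, Subgroup.coe_inv, MulAut.conjNormal_apply] at e2
    obtain ⟨z, hz⟩ := e2
    apply hxs
    refine (SmallCommForm.rad ρ X U).inv_mem (x := ⟨(g * x * g⁻¹)⁻¹ * x, X.mul_mem (X.inv_mem
      ((Subgroup.mem_normalizer_iff.mp hgn x).mp hx)) hx⟩) ⟨z, hz⟩ |> fun hi => ?_
    obtain ⟨t, ht⟩ := hi
    refine ⟨t, fun v hv => ?_⟩
    rw [show ⁅g, x⁆ = x * (((g * x * g⁻¹)⁻¹ * x)⁻¹) * x⁻¹ by
      simp only [commutatorElement_def]; group, map_mul, map_mul, End.mul_apply, End.mul_apply]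
    have hxi := h.inv.1 _ (X.inv_mem hx) v hv
    rw [show ρ ((g * x * g⁻¹)⁻¹ * x)⁻¹ (ρ x⁻¹ v) = t • ρ x⁻¹ v from ht _ hxi, map_smul,
      ← End.mul_apply, ← map_mul, mul_inv_cancel, map_one, End.one_apply]
  have hfive : Nat.card C % 5 = 1 := by
    have hstab : ∀ c, c ∈ C → conjCos a' c ∈ C := fun c hc => by
      show conjCos g' (conjCos a' c) = conjCos a' c
      rw [← MulAut.mul_apply, ← map_mul, show g' * a' = a' * g' from Subtype.ext hag.symm, map_mul,
        MulAut.mul_apply, show conjCos g' c = c from hc]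
    let σ : Equiv.Perm C := Equiv.ofBijective (fun c => ⟨conjCos a' c, hstab c c.2⟩)
      (Finite.injective_iff_bijective.mp fun x y e =>
        Subtype.ext ((conjCos a').injective (congrArg Subtype.val e)))
    have hσp : ∀ (i : ℕ) (c : C), ((σ ^ i) c : Cos ρ U X) = conjCos (a' ^ i) c := by
      intro i
      induction i with
      | zero => intro c; rw [pow_zero, pow_zero, map_one]; rfl
      | succ i ih =>
        intro c
        rw [pow_succ', Equiv.Perm.mul_apply, pow_succ', map_mul, MulAut.mul_apply, ← ih]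
        rfl
    have h5 : σ ^ 5 ^ 1 = 1 := Equiv.ext fun c => Subtype.ext (by
      rw [hσp, pow_one, show a' ^ 5 = 1 from Subtype.ext h.layer.pow_eq_one, map_one]; rfl)
    haveI : Fintype C := Fintype.ofFinite _
    have h6 := Equiv.Perm.card_compl_support_modEq h5
    have h7 : σ.supportᶜ = {1} := by
      ext c
      rw [Finset.mem_compl, Equiv.Perm.notMem_support, Finset.mem_singleton]
      constructor
      · exact fun e => Subtype.ext (conjCos_fix h (congrArg Subtype.val e))
      · rintro rfl; exact Subtype.ext (map_one (conjCos a'))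
    rw [h7, Finset.card_singleton, ← Nat.card_eq_fintype_card] at h6
    exact h6.symm
  rw [← hCcard, hCk] at hub
  rw [hCk] at hfive
  interval_cases k <;> omega

end CfsgLib.TurullFit.SmallCommBinary
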