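import Mathlib

/-!
# Isometries commuting with a fixed-point-free isometry of prime order

`M` is a finite space over `ZMod s` with a nondegenerate form `B` and `u` preserves `B`.  For an
irreducible `f` with nonzero kernel `K` of `f(u)`, either `K` is totally isotropic or some power
of `s` is `-1` modulo the order of `u`.
-/

set_option autoImplicit false
set_option linter.unusedSectionVars false

open Polynomial Module

namespace CfsgLib.TurullFit

variable {s : ℕ} [hs : Fact s.Prime] {M : Type*} [AddCommGroup M] [Module (ZMod s) M] [Finite M]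
  (B : M →ₗ[ZMod s] M →ₗ[ZMod s] ZMod s)

theorem card_isotropic (hB : ∀ x, (∀ y, B x y = 0) → x = 0) (K : Submodule (ZMod s) M)
    (hK : ∀ x ∈ K, ∀ y ∈ K, B x y = 0) : Nat.card K * Nat.card K ≤ Nat.card M := by
  have hinj : Function.Injective B := by
    rw [← LinearMap.ker_eq_bot, LinearMap.ker_eq_bot']
    exact fun x hx => hB x fun y => by rw [hx]; rfl
  have hle : K.map B ≤ K.dualAnnihilator := by
    rintro _ ⟨x, hx, rfl⟩
    rw [Submodule.mem_dualAnnihilator]
    exact fun y hy => hK x hx y hy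
  have h1 := Submodule.finrank_mono hle
  rw [LinearEquiv.finrank_eq (Submodule.equivMapOfInjective B hinj K).symm] at h1
  have h2 := Subspace.finrank_add_finrank_dualAnnihilator_eq K
  rw [Module.natCard_eq_pow_finrank (K := ZMod s) (V := K),
    Module.natCard_eq_pow_finrank (K := ZMod s) (V := M), Nat.card_zmod, ← pow_add]
  exact Nat.pow_le_pow_right hs.out.pos ((Nat.add_le_add_left h1 _).trans_eq h2)

variable {B}

theorem aeval_adjoint {u u' : Module.End (ZMod s) M} (hu' : u * u' = 1)
    (hu : ∀ x y, B (u x) (u y) = B x y) (P : (ZMod s)[X]) :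
    ∀ x y, B (aeval u P x) y = B x (aeval u' P y) := by
  have h1 : ∀ x y, B (u x) y = B x (u' y) := fun x y => by
    conv_lhs => rw [show y = u (u' y) from (LinearMap.congr_fun hu' y).symm]
    exact hu _ _
  induction P using Polynomial.induction_on' with
  | add p q hp hq => intro x y; simp [map_add, hp, hq]
  | monomial n c =>
    intro x y
    simp only [aeval_monomial, Module.End.mul_apply, Module.algebraMap_end_apply]
    rw [map_smul, LinearMap.smul_apply, map_smul]
    congr 1
    induction n generalizing x y with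
    | zero => rfl
    | succ n ih =>
      rw [pow_succ', Module.End.mul_apply, h1, ih, pow_succ, Module.End.mul_apply]

/-- Polynomials in `u` reach exactly `s ^ deg f` elements from a vector killed by `f(u)`. -/
theorem exists_span {u : Module.End (ZMod s) M} {f : (ZMod s)[X]} (hf : Irreducible f) {v : M}
    (hv : aeval u f v = 0) (hv0 : v ≠ 0) :
    ∃ ψ : AdjoinRoot f →ₗ[ZMod s] M, Function.Injective ψ ∧
      ∀ P : (ZMod s)[X], ψ (AdjoinRoot.mk f P) = aeval u P v := by
  haveI : Fact (Irreducible f) := ⟨hf⟩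
  let ev : (ZMod s)[X] →ₗ[ZMod s] M :=
    (LinearMap.applyₗ (R := ZMod s) v).comp (aeval u).toLinearMap
  have hker : ∀ P, AdjoinRoot.mk f P = 0 → ev P = 0 := fun P hP => by
    obtain ⟨Q, rfl⟩ := AdjoinRoot.mk_eq_zero.1 hP
    show aeval u (f * Q) v = 0
    rw [mul_comm, map_mul, Module.End.mul_apply, hv, map_zero]
  have hwd : ∀ P, ev (Function.surjInv AdjoinRoot.mk_surjective (AdjoinRoot.mk f P)) = ev P :=
    fun P => by
      rw [← sub_eq_zero, ← map_sub]
      exact hker _ (by rw [map_sub, Function.surjInv_eq AdjoinRoot.mk_surjective, sub_self])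
  refine ⟨
    { toFun := fun z => ev (Function.surjInv AdjoinRoot.mk_surjective z)
      map_add' := fun x y => by
        obtain ⟨P, rfl⟩ := AdjoinRoot.mk_surjective x
        obtain ⟨Q, rfl⟩ := AdjoinRoot.mk_surjective y
        rw [← map_add, hwd, hwd, hwd, map_add]
      map_smul' := fun c x => by
        obtain ⟨P, rfl⟩ := AdjoinRoot.mk_surjective x
        rw [AdjoinRoot.smul_mk, hwd, hwd, RingHom.id_apply, map_smul] }, ?_, hwd⟩
  rw [← LinearMap.ker_eq_bot, LinearMap.ker_eq_bot']
  intro z hz
  obtain ⟨P, rfl⟩ := AdjoinRoot.mk_surjective z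
  by_contra hne
  rw [AdjoinRoot.mk_eq_zero] at hne
  obtain ⟨a, b, hab⟩ := (hf.coprime_iff_not_dvd).2 hne
  have he : aeval u P v = 0 := (hwd P).symm.trans hz
  apply hv0
  have h := LinearMap.congr_fun (congrArg (aeval u) hab) v
  rw [map_add, map_mul, map_mul, map_one, LinearMap.add_apply, Module.End.mul_apply,
    Module.End.mul_apply, hv, he, map_zero, map_zero, add_zero] at h
  simpa using h.symm

theorem card_adjoinRoot {f : (ZMod s)[X]} (hf : f ≠ 0) :
    Nat.card (AdjoinRoot f) = s ^ f.natDegree := by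
  haveI : FiniteDimensional (ZMod s) (AdjoinRoot f) := (AdjoinRoot.powerBasis hf).finite
  haveI : Finite (AdjoinRoot f) := Module.finite_of_finite (ZMod s)
  rw [Module.natCard_eq_pow_finrank (K := ZMod s), Nat.card_zmod,
    (AdjoinRoot.powerBasis hf).finrank, AdjoinRoot.powerBasis_dim]

/-- The key dichotomy. -/
theorem kernel_dichotomy (hB : ∀ x, (∀ y, B x y = 0) → x = 0) {u : Module.End (ZMod s) M} {n : ℕ}
    (hn : 0 < n) (hun : u ^ n = 1) (hu : ∀ x y, B (u x) (u y) = B x y) {f : (ZMod s)[X]}
    (hf : Irreducible f) {C : Submodule (ZMod s) M} (hC : ∀ x ∈ C, u x ∈ C)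
    (hfree : ∀ x ∈ C, x ≠ 0 → ∀ i : ℕ, (u ^ i) x = x → n ∣ i) {v : M} (hvC : v ∈ C) (hv0 : v ≠ 0)
    (hv : aeval u f v = 0) :
    n ∣ s ^ f.natDegree - 1 ∧ s ^ f.natDegree ≤ Nat.card M ∧
      (Nat.card ↥(C ⊓ LinearMap.ker (aeval u f)) * Nat.card ↥(C ⊓ LinearMap.ker (aeval u f)) ≤
          Nat.card M ∨
        ∃ j < f.natDegree, n ∣ s ^ j + 1) := by
  classical
  haveI : Fact (Irreducible f) := ⟨hf⟩
  haveI : FiniteDimensional (ZMod s) (AdjoinRoot f) := (AdjoinRoot.powerBasis hf.ne_zero).finite
  haveI : Finite (AdjoinRoot f) := Module.finite_of_finite (ZMod s)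
  haveI : Fintype (AdjoinRoot f) := Fintype.ofFinite _
  obtain ⟨ψ, hψ, hψP⟩ := exists_span hf hv hv0
  have hroot : ∀ i : ℕ, AdjoinRoot.root f ^ i = 1 → n ∣ i := fun i hi => by
    refine hfree v hvC hv0 i ?_
    have := hψP ((X : (ZMod s)[X]) ^ i)
    simp only [map_pow, AdjoinRoot.mk_X, aeval_X] at this
    rw [hi, ← (AdjoinRoot.mk f).map_one, hψP, map_one] at this
    simpa using this.symm
  have hrootn : AdjoinRoot.root f ^ n = 1 := hψ (by
    have h := hψP ((X : (ZMod s)[X]) ^ n)
    simp only [map_pow, AdjoinRoot.mk_X, aeval_X] at h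
    rw [h, hun, ← (AdjoinRoot.mk f).map_one, hψP, map_one])
  have hξ0 : AdjoinRoot.root f ≠ 0 := fun h => by
    rw [h, zero_pow hn.ne'] at hrootn; exact zero_ne_one hrootn
  refine ⟨?_, (card_adjoinRoot hf.ne_zero).symm.trans_le (Nat.card_le_card_of_injective ψ hψ), ?_⟩
  · refine hroot _ ?_
    rw [← card_adjoinRoot hf.ne_zero, Nat.card_eq_fintype_card]
    exact FiniteField.pow_card_sub_one_eq_one _ hξ0
  set u' := u ^ (n - 1) with hu'def
  have hu' : u * u' = 1 := by rw [hu'def, ← pow_succ', Nat.sub_add_cancel hn, hun]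
  have hadj := aeval_adjoint hu' hu
  have hcommP : ∀ P Q : (ZMod s)[X], Commute (aeval u P) (aeval u' Q) := fun P Q => by
    have : aeval u' Q = aeval u (Q.comp (X ^ (n - 1))) := by
      rw [aeval_comp, map_pow, aeval_X]
    rw [this]
    exact (Commute.all P _).map (aeval u)
  set K := C ⊓ LinearMap.ker (aeval u f) with hK
  by_cases hz : ∃ x ∈ K, x ≠ 0 ∧ aeval u' f x = 0
  · right
    obtain ⟨x, hx, hx0, hx'⟩ := hz
    obtain ⟨φ, hφ, hφP⟩ := exists_span hf (LinearMap.mem_ker.1 hx.2) hx0
    have hinv : aeval (AdjoinRoot.root f ^ (n - 1)) f = 0 := hφ (by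
      have h1 : aeval (AdjoinRoot.root f ^ (n - 1)) f =
          AdjoinRoot.mk f (f.comp (X ^ (n - 1))) := by
        rw [← AdjoinRoot.aeval_eq, aeval_comp, map_pow, aeval_X]
      rw [h1, hφP, map_zero, aeval_comp, map_pow, aeval_X]
      exact hx')
    let σ : AdjoinRoot f →ₐ[ZMod s] AdjoinRoot f :=
      AdjoinRoot.liftAlgHom f (Algebra.ofId (ZMod s) (AdjoinRoot f)) (AdjoinRoot.root f ^ (n - 1))
        (by simpa [aeval_def] using hinv)
    obtain ⟨⟨j, hj⟩, hje⟩ := (FiniteField.bijective_frobeniusAlgHom_pow (ZMod s) (AdjoinRoot f)).2 σ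
    rw [(AdjoinRoot.powerBasis hf.ne_zero).finrank, AdjoinRoot.powerBasis_dim] at hj
    refine ⟨j, hj, hroot _ ?_⟩
    have h := AlgHom.congr_fun hje (AdjoinRoot.root f)
    simp only [AlgHom.coe_pow, FiniteField.coe_frobeniusAlgHom] at h
    simp only [pow_iterate, ZMod.card] at h
    rw [show σ (AdjoinRoot.root f) = AdjoinRoot.root f ^ (n - 1) from
      AdjoinRoot.liftAlgHom_root _ _ _ _] at h
    rw [pow_succ, h, ← pow_succ, Nat.sub_add_cancel hn, hrootn]
  · left
    push Not at hz
    refine card_isotropic B hB K fun x hx y hy => ?_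
    have hKinv : ∀ y ∈ K, aeval u' f y ∈ K := fun y hy => by
      refine ⟨?_, LinearMap.mem_ker.2 ?_⟩
      · have hu'C : ∀ (P : (ZMod s)[X]), ∀ x ∈ C, aeval u P x ∈ C := fun P => by
          induction P using Polynomial.induction_on' with
          | add p q hp hq => intro x hx; simp only [map_add, LinearMap.add_apply]; exact add_mem (hp x hx) (hq x hx)
          | monomial m c =>
            intro x hx
            rw [aeval_monomial, Module.End.mul_apply, Module.algebraMap_end_apply]
            refine C.smul_mem c ?_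
            induction m with
            | zero => exact hx
            | succ m ih => rw [pow_succ', Module.End.mul_apply]; exact hC _ ih
        have : aeval u' f = aeval u (f.comp (X ^ (n - 1))) := by rw [aeval_comp, map_pow, aeval_X]
        rw [this]
        exact hu'C _ y hy.1
      · rw [← Module.End.mul_apply, (hcommP f f).eq, Module.End.mul_apply, LinearMap.mem_ker.1 hy.2,
          map_zero]
    let θ : K → K := fun y => ⟨aeval u' f y, hKinv y y.2⟩
    have hθ : Function.Injective θ := fun y z e => by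
      by_contra hne
      refine hz ((y : M) - z) (sub_mem y.2 z.2) (fun h => hne (Subtype.ext (sub_eq_zero.1 h))) ?_
      rw [map_sub, sub_eq_zero]; exact congrArg Subtype.val e
    obtain ⟨y', hy'⟩ := (Finite.surjective_of_injective hθ) ⟨y, hy⟩
    rw [show y = aeval u' f (y' : M) from (congrArg Subtype.val hy').symm, ← hadj,
      LinearMap.mem_ker.1 hx.2, map_zero, LinearMap.zero_apply]

/-- Endomorphisms commuting with a fixed-point-free isometry of prime order commute, or the space
is large. -/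
theorem commute_or_large (hB : ∀ x, (∀ y, B x y = 0) → x = 0) {A : Module.End (ZMod s) M} {r : ℕ}
    (hr : r.Prime) (hrs : r ≠ s) (hA : A ^ r = 1) (hAB : ∀ x y, B (A x) (A y) = B x y)
    (hfpf : ∀ x, A x = x → x = 0) {g h : Module.End (ZMod s) M} (hg : Commute g A)
    (hh : Commute h A) :
    g * h = h * g ∨
      ((r - 1) ^ 4 ≤ Nat.card M ∧ (r ≠ 2 → s ^ 4 ≤ Nat.card M)) := by
  classical
  by_contra hne
  obtain ⟨hgh, hsmall⟩ := not_or.1 hne
  have hfree : ∀ x ∈ (⊤ : Submodule (ZMod s) M), x ≠ 0 → ∀ i : ℕ, (A ^ i) x = x → r ∣ i := by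
    intro x _ hx i hi
    by_contra hri
    obtain ⟨j, hj⟩ : ∃ j : ℕ, i * j ≡ 1 [MOD r] := by
      obtain ⟨j, hj⟩ := Nat.exists_mul_mod_eq_one_of_coprime
        ((hr.coprime_iff_not_dvd.2 hri).symm) hr.one_lt
      exact ⟨j, by rw [Nat.ModEq, hj.2, Nat.mod_eq_of_lt hr.one_lt]⟩
    refine hx (hfpf x ?_)
    have h1 : ∀ m, ((A ^ i) ^ m) x = x := fun m => by
      induction m with
      | zero => rfl
      | succ m ih => rw [pow_succ, Module.End.mul_apply, hi, ih]
    have h2 : A ^ (i * j) = A := by
      rw [← Nat.div_add_mod (i * j) r, hj, Nat.mod_eq_of_lt hr.one_lt, pow_add, pow_mul, hA, one_pow,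
        one_mul, pow_one]
    rw [← h2, pow_mul]; exact h1 j
  -- agreement on the kernel of every irreducible factor
  have key : ∀ f : (ZMod s)[X], Irreducible f → ∀ v, aeval A f v = 0 → (g * h) v = (h * g) v := by
    intro f hf v hv
    by_contra hv'
    have hv0 : v ≠ 0 := fun e => hv' (by rw [e, map_zero, map_zero])
    haveI : Fact (Irreducible f) := ⟨hf⟩
    obtain ⟨ψ, hψ, hψP⟩ := exists_span hf hv hv0
    obtain ⟨hdvd, -, hdich⟩ :=
      kernel_dichotomy hB hr.pos hA hAB hf (fun x _ => Submodule.mem_top) hfree Submodule.mem_top hv0 hv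
    set K := (⊤ : Submodule (ZMod s) M) ⊓ LinearMap.ker (aeval A f) with hK
    have hKmem : ∀ w, w ∈ K ↔ aeval A f w = 0 := fun w => by simp [hK]
    have hcg : ∀ {e : Module.End (ZMod s) M}, Commute e A → ∀ (P : (ZMod s)[X]) (w : M),
        e (aeval A P w) = aeval A P (e w) := fun {e} he P w => by
      have : Commute e (aeval A P) := by
        induction P using Polynomial.induction_on' with
        | add p q hp hq => rw [map_add]; exact hp.add_right hq
        | monomial m c =>
          rw [aeval_monomial]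
          exact (Algebra.commute_algebraMap_right c e).mul_right (he.pow_right m)
      exact LinearMap.congr_fun this.eq w
    by_cases hcyc : ∀ w ∈ K, ∃ P : (ZMod s)[X], w = aeval A P v
    · apply hv'
      obtain ⟨P, hP⟩ := hcyc (g v) ((hKmem _).2 (by rw [← hcg hg, hv, map_zero]))
      obtain ⟨Q, hQ⟩ := hcyc (h v) ((hKmem _).2 (by rw [← hcg hh, hv, map_zero]))
      rw [Module.End.mul_apply, Module.End.mul_apply, hQ, hcg hg, hP, hcg hh, hQ,
        ← Module.End.mul_apply, ← Module.End.mul_apply, ← map_mul, ← map_mul, mul_comm]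
    push Not at hcyc
    obtain ⟨w, hwK, hw⟩ := hcyc
    have hw0 : w ≠ 0 := fun e => hw 0 (by rw [e, map_zero, LinearMap.zero_apply])
    obtain ⟨φ, hφ, hφP⟩ := exists_span hf ((hKmem w).1 hwK) hw0
    have hcard : s ^ f.natDegree * s ^ f.natDegree ≤ Nat.card K := by
      let Φ : AdjoinRoot f × AdjoinRoot f → K := fun p => ⟨ψ p.1 + φ p.2, (hKmem _).2 (by
        obtain ⟨P, hP⟩ := AdjoinRoot.mk_surjective p.1
        obtain ⟨Q, hQ⟩ := AdjoinRoot.mk_surjective p.2
        rw [← hP, ← hQ, hψP, hφP, map_add, ← Module.End.mul_apply, ← Module.End.mul_apply,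
          ← map_mul, ← map_mul, mul_comm f, mul_comm f, map_mul, map_mul, Module.End.mul_apply,
          Module.End.mul_apply, hv, (hKmem w).1 hwK, map_zero, map_zero, add_zero])⟩
      have hΦ : Function.Injective Φ := by
        rintro ⟨p₁, q₁⟩ ⟨p₂, q₂⟩ e
        have e' : ψ p₁ + φ q₁ = ψ p₂ + φ q₂ := congrArg Subtype.val e
        have e2 : ψ (p₁ - p₂) = φ (q₂ - q₁) := by
          rw [map_sub, map_sub, sub_eq_sub_iff_add_eq_add, e', add_comm]
        have hq : q₂ - q₁ = 0 := by
          by_contra hq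
          obtain ⟨P, hP⟩ := AdjoinRoot.mk_surjective (p₁ - p₂)
          obtain ⟨Q, hQ⟩ := AdjoinRoot.mk_surjective (q₂ - q₁)
          obtain ⟨Q', hQ'⟩ := AdjoinRoot.mk_surjective ((q₂ - q₁)⁻¹)
          refine hw (Q' * P) ?_
          rw [← hP, ← hQ, hψP, hφP] at e2
          rw [map_mul, Module.End.mul_apply, e2, ← Module.End.mul_apply, ← map_mul, ← hφP, map_mul,
            hQ, hQ', inv_mul_cancel₀ hq, ← (AdjoinRoot.mk f).map_one, hφP, map_one]
          rfl
        rw [hq, map_zero] at e2
        have hp : p₁ - p₂ = 0 := hψ (by rw [e2, map_zero])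
        exact Prod.ext (sub_eq_zero.1 hp) (sub_eq_zero.1 hq).symm
      haveI : Finite (AdjoinRoot f) := by
        haveI := (AdjoinRoot.powerBasis hf.ne_zero).finite
        exact Module.finite_of_finite (ZMod s)
      have := Nat.card_le_card_of_injective Φ hΦ
      rwa [Nat.card_prod, card_adjoinRoot hf.ne_zero] at this
    have hKM : Nat.card K ≤ Nat.card M := Nat.card_le_card_of_injective _ Subtype.val_injective
    set e := f.natDegree with he
    have he1 : 0 < e := Irreducible.natDegree_pos hf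
    have hs2 : 2 ≤ s := hs.out.two_le
    have hr1 : r ≤ s ^ e - 1 := Nat.le_of_dvd (by
      have := Nat.pow_le_pow_right (show 0 < s by omega) he1
      rw [pow_one] at this; omega) hdvd
    rcases hdich with hiso | ⟨j, hj, hjd⟩
    · apply hsmall
      have h4 : (s ^ e) ^ 4 ≤ Nat.card M := by
        refine le_trans ?_ hiso
        calc (s ^ e) ^ 4 = (s ^ e * s ^ e) * (s ^ e * s ^ e) := by ring
          _ ≤ _ := Nat.mul_le_mul hcard hcard
      exact ⟨(Nat.pow_le_pow_left (by omega) 4).trans h4, fun _ =>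
        (Nat.pow_le_pow_left (Nat.le_self_pow (by omega) s) 4).trans h4⟩
    · apply hsmall
      rcases eq_or_ne r 2 with rfl | hr2
      · exact ⟨le_of_eq_of_le (by norm_num) (Nat.card_pos (α := M)), fun h => absurd rfl h⟩
      -- `s ^ j = -1` modulo `r` forces `(r - 1) ^ 2 ≤ s ^ e`
      have hje : r ∣ s ^ (e - j) + 1 := by
        have h1 : r ∣ s ^ (e - j) * (s ^ j + 1) := Dvd.dvd.mul_left hjd _
        rw [mul_add, mul_one, ← pow_add, Nat.sub_add_cancel hj.le,
          show s ^ e + s ^ (e - j) = (s ^ e - 1) + (s ^ (e - j) + 1) by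
            have := Nat.one_le_pow e s (by omega); omega] at h1
        exact (Nat.dvd_add_right hdvd).1 h1
      have hj0 : j ≠ 0 := fun h0 => by
        rw [h0, pow_zero] at hjd
        exact hr2 ((Nat.prime_dvd_prime_iff_eq hr Nat.prime_two).1 hjd)
      obtain ⟨i, hi, hi2, hid⟩ : ∃ i, 0 < i ∧ 2 * i ≤ e ∧ r ∣ s ^ i + 1 := by
        rcases le_total (2 * j) e with h | h
        · exact ⟨j, by omega, h, hjd⟩
        · exact ⟨e - j, by omega, by omega, hje⟩
      have hri : r - 1 ≤ s ^ i := by have := Nat.le_of_dvd (by omega) hid; omega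
      have hsq : (s ^ i) ^ 2 ≤ s ^ e := by
        rw [← pow_mul]; exact Nat.pow_le_pow_right (by omega) (by omega)
      have h4 : (s ^ e) ^ 2 ≤ Nat.card M := by rw [pow_two]; exact hcard.trans hKM
      refine ⟨le_trans ?_ h4, fun _ => le_trans ?_ h4⟩
      · calc (r - 1) ^ 4 ≤ (s ^ i) ^ 4 := Nat.pow_le_pow_left hri 4
          _ = ((s ^ i) ^ 2) ^ 2 := by ring
          _ ≤ (s ^ e) ^ 2 := Nat.pow_le_pow_left hsq 2
      · calc s ^ 4 = (s ^ 2) ^ 2 := by ring
          _ ≤ (s ^ e) ^ 2 := Nat.pow_le_pow_left (Nat.pow_le_pow_right (by omega) (by omega)) 2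
  -- the kernels span
  apply hgh
  have hall : ∀ P : (ZMod s)[X], Squarefree P → ∀ v, aeval A P v = 0 → (g * h) v = (h * g) v := by
    intro P
    induction P using UniqueFactorizationMonoid.induction_on_prime with
    | h₁ => intro h0; exact absurd h0 not_squarefree_zero
    | h₂ P hP =>
      intro _ v hv
      obtain ⟨Q, hQ⟩ := hP.exists_left_inv
      have : v = 0 := by
        have := LinearMap.congr_fun (congrArg (aeval A) hQ) v
        rw [map_mul, Module.End.mul_apply, hv, map_zero, map_one] at this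
        simpa using this.symm
      rw [this, map_zero, map_zero]
    | h₃ a q _ hq ih =>
      intro hsq v hv
      have hco : IsCoprime q a := (hq.irreducible.coprime_iff_not_dvd).2 fun hd => by
        obtain ⟨c, rfl⟩ := hd
        exact hq.irreducible.not_isUnit (hsq q ⟨c, by ring⟩)
      obtain ⟨c, d, hcd⟩ := hco
      have hsplit : v = aeval A (d * a) v + aeval A (c * q) v := by
        rw [← LinearMap.add_apply, ← map_add, add_comm, hcd, map_one]; rfl
      rw [hsplit, map_add, map_add]
      congr 1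
      · refine key q hq.irreducible _ ?_
        rw [← Module.End.mul_apply, ← map_mul, show q * (d * a) = d * (q * a) by ring, map_mul,
          Module.End.mul_apply, hv, map_zero]
      · refine ih (hsq.squarefree_of_dvd (dvd_mul_left a q)) _ ?_
        rw [← Module.End.mul_apply, ← map_mul, show a * (c * q) = c * (q * a) by ring, map_mul,
          Module.End.mul_apply, hv, map_zero]
  refine LinearMap.ext fun v => hall (X ^ r - 1) ?_ v ?_
  · have h : ((r : ℕ) : ZMod s) ≠ 0 := by
      rw [Ne, ZMod.natCast_eq_zero_iff]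
      exact fun h => hrs ((Nat.prime_dvd_prime_iff_eq hs.out hr).1 h).symm
    simpa using (Polynomial.separable_X_pow_sub_C (1 : ZMod s) h one_ne_zero).squarefree
  · simp [hA]

/-- No isometry of prime order `p ≥ 5` commutes with a fixed-point-free isometry of order three of
a binary space of at most `64` elements. -/
theorem eq_one_of_three {B : M →ₗ[ZMod s] M →ₗ[ZMod s] ZMod s} (hs2 : s = 2)
    (hB : ∀ x, (∀ y, B x y = 0) → x = 0) {A G : Module.End (ZMod s) M} (hA : A ^ 3 = 1)
    (hAB : ∀ x y, B (A x) (A y) = B x y) (hfpf : ∀ x, A x = x → x = 0) (hcard : Nat.card M ≤ 64)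
    (hG : Commute G A) (hGB : ∀ x y, B (G x) (G y) = B x y) {p : ℕ} (hp : p.Prime) (hp2 : p ≠ 2)
    (hp3 : p ≠ 3) (hGp : G ^ p = 1) : G = 1 := by
  classical
  subst hs2
  by_contra hne
  obtain ⟨v, hv⟩ : ∃ v, G v ≠ v := by
    by_contra h; push Not at h; exact hne (LinearMap.ext h)
  set u := A * G with hu
  have hun : u ^ (3 * p) = 1 := by
    rw [hu, hG.symm.mul_pow, pow_mul, hA, one_pow, one_mul, mul_comm 3 p, pow_mul, hGp, one_pow]
  set C := LinearMap.ker (∑ i ∈ Finset.range p, G ^ i) with hC
  have hGC : ∀ x ∈ C, G x = x → x = 0 := fun x hx hGx => by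
    have hi : ∀ i : ℕ, (G ^ i) x = x := fun i => by
      induction i with
      | zero => rfl
      | succ i ih => rw [pow_succ, Module.End.mul_apply, hGx, ih]
    have h := LinearMap.mem_ker.1 hx
    rw [LinearMap.sum_apply, Finset.sum_congr rfl (fun i _ => hi i), Finset.sum_const, Finset.card_range,
      ← Nat.cast_smul_eq_nsmul (ZMod 2)] at h
    have h1 : (p : ZMod 2) = 1 := ZMod.natCast_eq_one_iff_odd.2 (hp.odd_of_ne_two hp2)
    rwa [h1, one_smul] at h
  have huC : ∀ x ∈ C, u x ∈ C := fun x hx => by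
    rw [LinearMap.mem_ker] at hx ⊢
    have hc : Commute (∑ i ∈ Finset.range p, G ^ i) u := Commute.sum_left _ _ _ fun i _ =>
      (hG.pow_left i).mul_right ((Commute.refl G).pow_left i)
    rw [← Module.End.mul_apply, hc.eq, Module.End.mul_apply, hx, map_zero]
  have hpowA : ∀ i, i % 3 ≠ 0 → ∀ x, (A ^ i) x = x → x = 0 := fun i hi x hx => by
    refine hfpf x ?_
    have : A = (A ^ i) ^ i := by
      rw [← pow_mul, ← Nat.div_add_mod (i * i) 3, pow_add, pow_mul, hA, one_pow, one_mul,
        Nat.mul_mod]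
      rcases (show i % 3 = 1 ∨ i % 3 = 2 by omega) with e | e <;> rw [e] <;> simp
    rw [this, Module.End.pow_apply]
    exact Function.iterate_fixed hx i
  have hfree : ∀ x ∈ C, x ≠ 0 → ∀ i : ℕ, (u ^ i) x = x → 3 * p ∣ i := by
    intro x hx hx0 i hi
    have h3 : (u ^ (3 * i)) x = x := by
      rw [mul_comm, pow_mul, Module.End.pow_apply]; exact Function.iterate_fixed hi 3
    have hGi : (G ^ (3 * i)) x = x := by
      rwa [hu, hG.symm.mul_pow, pow_mul A, hA, one_pow, one_mul] at h3
    have hpi : p ∣ i := by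
      by_contra hpi
      have hco : Nat.Coprime p (3 * i) := hp.coprime_iff_not_dvd.2 fun h =>
        (hp.dvd_mul.1 h).elim (fun h => hp3 ((Nat.prime_dvd_prime_iff_eq hp Nat.prime_three).1 h)) hpi
      obtain ⟨j, -, hj⟩ := Nat.exists_mul_mod_eq_one_of_coprime hco.symm hp.one_lt
      refine hx0 (hGC x hx ?_)
      have : G = (G ^ (3 * i)) ^ j := by
        rw [← pow_mul, ← Nat.div_add_mod (3 * i * j) p, hj, pow_add, pow_mul, hGp, one_pow, one_mul,
          pow_one]
      rw [this, Module.End.pow_apply]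
      exact Function.iterate_fixed hGi j
    refine Nat.Coprime.mul_dvd_of_dvd_of_dvd ((Nat.coprime_primes Nat.prime_three hp).2 hp3.symm) ?_ hpi
    by_contra h3i
    obtain ⟨l, rfl⟩ := hpi
    rw [hu, hG.symm.mul_pow, pow_mul G, hGp, one_pow, mul_one] at hi
    exact hx0 (hpowA _ (by omega) x hi)
  have hv1 : G v - v ∈ C := by
    rw [LinearMap.mem_ker, map_sub, ← Module.End.mul_apply, sub_eq_zero, Finset.sum_mul]
    simp only [← pow_succ]
    rw [LinearMap.sum_apply, LinearMap.sum_apply]
    have h := Finset.sum_range_succ' (fun i => (G ^ i) v) p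
    rw [Finset.sum_range_succ, hGp] at h
    simpa using h.symm
  -- an irreducible polynomial with nonzero kernel
  obtain ⟨f, hf, w, hwC, hw0, hw⟩ : ∃ f : (ZMod 2)[X], Irreducible f ∧
      ∃ w ∈ C, w ≠ 0 ∧ aeval u f w = 0 := by
    have : ∀ P : (ZMod 2)[X], P ≠ 0 → ∀ w ∈ C, w ≠ 0 → aeval u P w = 0 →
        ∃ f : (ZMod 2)[X], Irreducible f ∧ ∃ w ∈ C, w ≠ 0 ∧ aeval u f w = 0 := by
      intro P
      induction P using UniqueFactorizationMonoid.induction_on_prime with
      | h₁ => intro h; exact absurd rfl h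
      | h₂ P hP =>
        intro _ w _ hw0 hw
        obtain ⟨Q, hQ⟩ := hP.exists_left_inv
        have := LinearMap.congr_fun (congrArg (aeval u) hQ) w
        rw [map_mul, Module.End.mul_apply, hw, map_zero, map_one] at this
        exact absurd this.symm hw0
      | h₃ a q ha hq ih =>
        intro hqa w hwC hw0 hw
        by_cases h0 : aeval u a w = 0
        · exact ih ha w hwC hw0 h0
        · refine ⟨q, hq.irreducible, aeval u a w, ?_, h0, by
            rw [← Module.End.mul_apply, ← map_mul]; exact hw⟩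
          clear hw h0 ih ha hqa
          induction a using Polynomial.induction_on' with
          | add p q hp hq => rw [map_add, LinearMap.add_apply]; exact add_mem hp hq
          | monomial m c =>
            rw [aeval_monomial, Module.End.mul_apply, Module.algebraMap_end_apply]
            refine C.smul_mem c ?_
            induction m with
            | zero => exact hwC
            | succ m ih => rw [pow_succ', Module.End.mul_apply]; exact huC _ ih
    refine this (X ^ (3 * p) - 1) (by simpa using X_pow_sub_C_ne_zero (R := ZMod 2) (show 0 < 3 * p by have := hp.pos; omega) 1) _ hv1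
      (sub_ne_zero.2 hv) (by simp [hun])
  obtain ⟨hdvd, hle, hdich⟩ := kernel_dichotomy hB (by have := hp.pos; omega) hun
    (fun x y => by rw [hu, Module.End.mul_apply, Module.End.mul_apply, hAB, hGB]) hf huC hfree hwC hw0 hw
  obtain ⟨ψ, hψ, hψP⟩ := exists_span hf hw hw0
  set e := f.natDegree with he
  have hlow : 2 ^ e ≤ Nat.card ↥(C ⊓ LinearMap.ker (aeval u f)) := by
    haveI : Finite (AdjoinRoot f) := by
      haveI := (AdjoinRoot.powerBasis hf.ne_zero).finite
      exact Module.finite_of_finite (ZMod 2)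
    rw [← card_adjoinRoot hf.ne_zero]
    refine Nat.card_le_card_of_injective (fun z => ⟨ψ z, ?_⟩) fun a b h => hψ (congrArg Subtype.val h)
    obtain ⟨P, rfl⟩ := AdjoinRoot.mk_surjective z
    rw [hψP]
    refine ⟨?_, LinearMap.mem_ker.2 ?_⟩
    · induction P using Polynomial.induction_on' with
      | add p q hp hq => rw [map_add, LinearMap.add_apply]; exact add_mem hp hq
      | monomial m c =>
        rw [aeval_monomial, Module.End.mul_apply, Module.algebraMap_end_apply]
        refine C.smul_mem c ?_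
        induction m with
        | zero => exact hwC
        | succ m ih => rw [pow_succ', Module.End.mul_apply]; exact huC _ ih
    · rw [← Module.End.mul_apply, ← map_mul, mul_comm, map_mul, Module.End.mul_apply, hw, map_zero]
  have he6 : e ≤ 6 := (Nat.pow_le_pow_iff_right one_lt_two).1 (hle.trans (hcard.trans (by norm_num)))
  have hp5 : 5 ≤ p := by
    have := hp.two_le
    rcases (show p = 4 ∨ 5 ≤ p by omega) with rfl | h
    · exact absurd hp (by norm_num)
    · exact h
  have key : ∀ e : Fin 7, ∀ p : Fin 22, 5 ≤ p.1 → p.1 ≠ 9 → 0 < e.1 → 3 * p.1 ∣ 2 ^ e.1 - 1 →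
      (3 < e.1 ∧ ∀ j : Fin 7, j.1 < e.1 → ¬ 3 * p.1 ∣ 2 ^ j.1 + 1) := by decide +kernel
  have he0 : 0 < e := Irreducible.natDegree_pos hf
  have hp22 : p < 22 := by
    have h1 := Nat.le_of_dvd (by
      have := Nat.pow_le_pow_right (show 0 < 2 by omega) he0; omega) hdvd
    have h2 := hle.trans hcard
    omega
  obtain ⟨he3, hnoj⟩ := key ⟨e, by omega⟩ ⟨p, hp22⟩ hp5
    (fun h : p = 9 => absurd (h ▸ hp) (by norm_num)) he0 hdvd
  rcases hdich with hiso | ⟨j, hj, hjd⟩
  · have := (Nat.mul_le_mul hlow hlow).trans (hiso.trans hcard)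
    have : 2 ^ 4 ≤ 2 ^ e := Nat.pow_le_pow_right (by omega) he3
    nlinarith
  · exact hnoj ⟨j, by omega⟩ hj hjd

end CfsgLib.TurullFit
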