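import Cfsg.Agent.Lib.TurullFit.CountSetup
import Cfsg.Agent.Lib.TurullFit.SmallCommForm

/-!
# Fixed spaces on a piece of extraspecial type

The fixed space of an element of `X` outside the scalars has at most half the dimension; this bounds
the fixed space of an element moving `X` modulo scalars.
-/

set_option autoImplicit false
set_option linter.style.haveILetI false

open Module
open scoped commutatorElement

namespace CfsgLib.TurullFit.SmallCommPiece

universe u

variable {F : Type} [Field F] {Γ V : Type u} [Group Γ] [AddCommGroup V] [Module F V]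
  [FiniteDimensional F V] {ρ : Representation F Γ V} {X : Subgroup Γ} {a : Γ} {U : Submodule F V}
  {s r : ℕ}

theorem inj (g : Γ) : Function.Injective (ρ g) :=
  Function.LeftInverse.injective (SmallCommForm.inv_apply (ρ := ρ) g)

theorem fix_half (h : Heis ρ s r X a U) {e : Γ} (he : e ∈ X) (hns : ¬ IsScalarOn ρ U e) :
    2 * finrank F (U ⊓ fixSub ρ e : Submodule F V) ≤ finrank F U := by
  obtain ⟨y, hy, hne⟩ : ∃ y ∈ X, ¬ CommOn ρ U e y := by
    by_contra hc
    push Not at hc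
    exact hns (h.scalar e he hc)
  obtain ⟨c, hc⟩ := SmallCommForm.scalar_comm h he hy
  have hc1 : c ≠ 1 := fun h1 => hne ((SmallCommForm.fixes_comm_iff h he hy).mp fun v hv => by
    rw [hc v hv, h1, one_smul])
  set P := (U ⊓ fixSub ρ e : Submodule F V) with hP
  have h1 : finrank F (P.map (ρ y)) = finrank F P :=
    (Submodule.equivMapOfInjective _ (inj y) P).finrank_eq.symm
  have h2 : P.map (ρ y) ≤ U ⊓ End.eigenspace (ρ e) c := by
    rintro _ ⟨v, ⟨hv, hfix⟩, rfl⟩
    refine ⟨h.inv.1 y hy v hv, End.mem_eigenspace_iff.mpr ?_⟩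
    rw [← End.mul_apply, ← map_mul, show e * y = ⁅e, y⁆ * (y * e) by
      simp only [commutatorElement_def]; group, map_mul, map_mul, End.mul_apply, End.mul_apply,
      mem_fixSub.mp hfix, hc _ (h.inv.1 y hy v hv)]
  have h3 : P.map (ρ y) ⊓ P = ⊥ := by
    refine Submodule.eq_bot_iff _ |>.mpr fun v hv => ?_
    have e1 := End.mem_eigenspace_iff.mp (h2 hv.1).2
    rw [mem_fixSub.mp hv.2.2] at e1
    by_contra hv0
    exact hc1 (smul_left_injective F hv0 (e1.symm.trans (one_smul F v).symm))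
  have h4 := Submodule.finrank_sup_add_finrank_inf_eq (P.map (ρ y)) P
  rw [h3, finrank_bot] at h4
  have h5 : finrank F (P.map (ρ y) ⊔ P : Submodule F V) ≤ finrank F U :=
    Submodule.finrank_mono (sup_le (h2.trans inf_le_left) inf_le_left)
  omega

omit [FiniteDimensional F V] in
/-- Elements not commuting on `U` have no common fixed point. -/
theorem common_fix (h : Heis ρ s r X a U) {e₁ e₂ : Γ} (h₁ : e₁ ∈ X) (h₂ : e₂ ∈ X)
    (hne : ¬ ∀ v ∈ U, ρ ⁅e₁, e₂⁆ v = v) : U ⊓ fixSub ρ e₁ ⊓ fixSub ρ e₂ = ⊥ := by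
  refine Submodule.eq_bot_iff _ |>.mpr fun v hv => ?_
  obtain ⟨⟨hvU, hv1⟩, hv2⟩ := hv
  obtain ⟨c, hc⟩ := SmallCommForm.scalar_comm h h₁ h₂
  have hfix : ρ ⁅e₁, e₂⁆ v = v := by
    set K := fixer ρ (Submodule.span F {v}) with hK
    have hmem : ∀ {g : Γ}, ρ g v = v → g ∈ K := fun {g} hg => by
      intro w hw
      obtain ⟨k, rfl⟩ := Submodule.mem_span_singleton.mp hw
      rw [map_smul, hg]
    have hm : ⁅e₁, e₂⁆ ∈ K := by
      rw [commutatorElement_def]
      exact K.mul_mem (K.mul_mem (K.mul_mem (hmem hv1) (hmem hv2)) (K.inv_mem (hmem hv1)))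
        (K.inv_mem (hmem hv2))
    exact hm v (Submodule.mem_span_singleton_self v)
  by_contra hv0
  refine hne fun w hw => ?_
  rw [hc w hw, smul_left_injective F hv0 (((hc v hvU).symm.trans hfix).trans (one_smul F v).symm),
    one_smul]

omit [FiniteDimensional F V] in
theorem inter_le {g x : Γ} :
    U ⊓ fixSub ρ g ⊓ (U ⊓ fixSub ρ g).map (ρ x) ≤ U ⊓ fixSub ρ ⁅g, x⁆ := by
  rintro v ⟨⟨hv, hgv⟩, w, ⟨hw, hgw⟩, rfl⟩
  refine ⟨hv, ?_⟩
  rw [SetLike.mem_coe, mem_fixSub] at *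
  have e1 : ρ g⁻¹ w = w := by
    conv_lhs => rw [← hgw]
    exact SmallCommForm.inv_apply g w
  rw [← End.mul_apply, ← map_mul, show ⁅g, x⁆ * x = g * x * g⁻¹ by
    simp only [commutatorElement_def]; group, map_mul, map_mul, End.mul_apply, End.mul_apply, e1,
    hgv]

theorem inter_ge (h : Heis ρ s r X a U) {g x : Γ} (hx : x ∈ X) :
    2 * finrank F (U ⊓ fixSub ρ g : Submodule F V) ≤ finrank F U +
      finrank F (U ⊓ fixSub ρ g ⊓ (U ⊓ fixSub ρ g).map (ρ x) : Submodule F V) := by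
  set P := (U ⊓ fixSub ρ g : Submodule F V) with hP
  have h1 : finrank F (P.map (ρ x)) = finrank F P :=
    (Submodule.equivMapOfInjective _ (inj x) P).finrank_eq.symm
  have h4 := Submodule.finrank_sup_add_finrank_inf_eq P (P.map (ρ x))
  have h5 : finrank F (P ⊔ P.map (ρ x) : Submodule F V) ≤ finrank F U :=
    Submodule.finrank_mono (sup_le inf_le_left (by
      rintro _ ⟨v, hv, rfl⟩
      exact h.inv.1 x hx v hv.1))
  omega

theorem four_fix (h : Heis ρ s r X a U) {g x : Γ} (hgX : g ∈ Subgroup.normalizer (X : Set Γ))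
    (hx : x ∈ X) (hns : ¬ IsScalarOn ρ U ⁅g, x⁆) :
    4 * finrank F (U ⊓ fixSub ρ g : Submodule F V) ≤ 3 * finrank F U := by
  have he : ⁅g, x⁆ ∈ X := by
    rw [commutatorElement_def]
    exact X.mul_mem ((Subgroup.mem_normalizer_iff.mp hgX x).mp hx) (X.inv_mem hx)
  have := fix_half h he hns
  have := inter_ge (g := g) h hx
  have := Submodule.finrank_mono (R := F) (inter_le (U := U) (ρ := ρ) (g := g) (x := x))
  omega

theorem three_fix (h : Heis ρ s r X a U) {g x₁ x₂ : Γ} (hgX : g ∈ Subgroup.normalizer (X : Set Γ))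
    (h₁ : x₁ ∈ X) (h₂ : x₂ ∈ X) (hne : ¬ ∀ v ∈ U, ρ ⁅⁅g, x₁⁆, ⁅g, x₂⁆⁆ v = v) :
    3 * finrank F (U ⊓ fixSub ρ g : Submodule F V) ≤ 2 * finrank F U := by
  have he : ∀ {x}, x ∈ X → ⁅g, x⁆ ∈ X := fun {x} hx => by
    rw [commutatorElement_def]
    exact X.mul_mem ((Subgroup.mem_normalizer_iff.mp hgX x).mp hx) (X.inv_mem hx)
  set P := (U ⊓ fixSub ρ g : Submodule F V) with hP
  have e1 := inter_ge (g := g) h h₁
  have e2 := inter_ge (g := g) h h₂
  rw [← hP] at e1 e2
  have hbot : (P ⊓ P.map (ρ x₁)) ⊓ (P ⊓ P.map (ρ x₂)) = ⊥ := by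
    refine le_bot_iff.mp ?_
    rw [← common_fix h (he h₁) (he h₂) hne]
    exact le_inf (le_trans inf_le_left inter_le)
      (le_trans inf_le_right (inter_le.trans inf_le_right))
  have h4 := Submodule.finrank_sup_add_finrank_inf_eq (P ⊓ P.map (ρ x₁)) (P ⊓ P.map (ρ x₂))
  rw [hbot, finrank_bot] at h4
  have h5 : finrank F ((P ⊓ P.map (ρ x₁)) ⊔ (P ⊓ P.map (ρ x₂)) : Submodule F V) ≤ finrank F P :=
    Submodule.finrank_mono (sup_le inf_le_left inf_le_left)
  omega

end CfsgLib.TurullFit.SmallCommPiece
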