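import Mathlib

/-!
# Isometry groups of odd prime power order of a small symplectic plane

Such a group acts freely on the nonzero vectors, so it has order at most three and every element of
odd order normalising it centralises it.
-/

set_option autoImplicit false
set_option linter.style.haveILetI false

open Module

namespace CfsgLib.TurullFit

variable {s : ℕ} [hs : Fact s.Prime] {M : Type*} [AddCommGroup M] [Module (ZMod s) M] [Finite M]
  {B : M →ₗ[ZMod s] M →ₗ[ZMod s] ZMod s}

theorem eq_one_of_fix_plane (halt : ∀ x, B x x = 0) (hB : ∀ x, (∀ y, B x y = 0) → x = 0)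
    (hcard : Nat.card M = s ^ 2) {p k : ℕ} (hp : p.Prime) (hps : p ≠ s) {G : Module.End (ZMod s) M}
    (hGB : ∀ x y, B (G x) (G y) = B x y) (hGp : G ^ p ^ k = 1) {v : M} (hv : v ≠ 0) (hGv : G v = v) :
    G = 1 := by
  have hfr : finrank (ZMod s) M = 2 := by
    have := Module.natCard_eq_pow_finrank (K := ZMod s) (V := M)
    rw [hcard, Nat.card_zmod] at this
    exact (Nat.pow_right_injective hs.out.two_le this).symm
  have hker : finrank (ZMod s) (LinearMap.ker (B v)) = 1 := by
    have hne : B v ≠ 0 := fun h0 => hv (hB v fun y => by rw [h0]; rfl)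
    have h1 := LinearMap.finrank_range_add_finrank_ker (B v)
    rw [LinearMap.range_eq_top.mpr (LinearMap.surjective hne), finrank_top, finrank_self, hfr] at h1
    omega
  have hspan : LinearMap.ker (B v) ≤ Submodule.span (ZMod s) {v} := by
    refine (Submodule.eq_of_le_of_finrank_eq ((Submodule.span_singleton_le_iff_mem _ _).mpr
      (LinearMap.mem_ker.mpr (halt v))) ?_).ge
    rw [finrank_span_singleton hv, hker]
  set D := G - 1 with hD
  have hDD : D * D = 0 := LinearMap.ext fun m => by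
    have h1 : D m ∈ LinearMap.ker (B v) := by
      rw [LinearMap.mem_ker]
      show B v (G m - m) = 0
      conv_lhs => rw [map_sub]; arg 1; rw [← hGv]
      rw [hGB, sub_self]
    obtain ⟨c, hc⟩ := Submodule.mem_span_singleton.mp (hspan h1)
    rw [End.mul_apply, ← hc, map_smul, LinearMap.zero_apply]
    show c • (G v - v) = 0
    rw [hGv, sub_self, smul_zero]
  have hpow : ∀ n : ℕ, G ^ n = 1 + n • D := fun n => by
    induction n with
    | zero => simp
    | succ n ih =>
      rw [pow_succ, ih, show G = 1 + D by rw [hD]; abel, add_mul, one_mul, smul_mul_assoc, mul_add,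
        mul_one, hDD, add_zero, succ_nsmul]
      abel
  have hGs : G ^ s = 1 := by
    rw [hpow, ← Nat.cast_smul_eq_nsmul (ZMod s), ZMod.natCast_self, zero_smul, add_zero]
  have := (pow_gcd_eq_one (a := G)).mpr ⟨hGs, hGp⟩
  rwa [Nat.Coprime.gcd_eq_one ((Nat.coprime_primes hs.out hp).mpr (Ne.symm hps) |>.pow_right k),
    pow_one] at this

/-- An element of odd order normalising the group centralises it. -/
theorem commute_plane (halt : ∀ x, B x x = 0) (hB : ∀ x, (∀ y, B x y = 0) → x = 0)
    (hcard : Nat.card M = s ^ 2) (hs7 : s = 3 ∨ s = 5 ∨ s = 7) {p : ℕ} (hp : p.Prime) (hp2 : p ≠ 2)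
    (hps : p ≠ s) {Y : Type*} [Group Y] (hY : IsPGroup p Y)
    (φ : Y →* Module.End (ZMod s) M) (hφ : ∀ y x x', B (φ y x) (φ y x') = B x x')
    {T : Module.End (ZMod s) M} {n : ℕ} (hn : Odd n) (hT : T ^ n = 1)
    (hTn : ∀ y, ∃ y', T * φ y = φ y' * T) (y : Y) : T * φ y = φ y * T := by
  classical
  rcases eq_or_ne (φ y) 1 with h1 | h1
  · rw [h1, mul_one, one_mul]
  let H := φ.toHomUnits.range
  have hfree : ∀ (u : H) (m : M), m ≠ 0 → u • m = m → u = 1 := by
    rintro ⟨_, y₁, rfl⟩ m hm hum
    obtain ⟨k, hk⟩ := hY y₁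
    refine Subtype.ext (Units.ext ?_)
    exact eq_one_of_fix_plane (k := k) (G := φ y₁) halt hB hcard hp hps (hφ y₁)
      (by rw [← map_pow, hk, map_one]) hm hum
  haveI : Finite H := by
    haveI : Finite (Module.End (ZMod s) M) := Finite.of_injective _ DFunLike.coe_injective
    haveI : Finite (Module.End (ZMod s) M)ˣ := Finite.of_injective _ Units.val_injective
    infer_instance
  haveI : Fintype (MulAction.orbitRel.Quotient H M) := Fintype.ofFinite _
  have hsum : Nat.card M = ∑ ω : MulAction.orbitRel.Quotient H M,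
      Nat.card (H ⧸ MulAction.stabilizer H ω.out) := by
    rw [← Nat.card_sigma]
    exact Nat.card_congr (MulAction.selfEquivSigmaOrbitsQuotientStabilizer H M)
  rw [← Finset.add_sum_erase _ _ (Finset.mem_univ (Quotient.mk (MulAction.orbitRel H M) 0))] at hsum
  have h0 : (Quotient.mk (MulAction.orbitRel H M) (0 : M)).out = 0 := by
    obtain ⟨u, hu⟩ := MulAction.orbitRel_apply.mp (Quotient.mk_out (s := MulAction.orbitRel H M) (0 : M))
    rw [← hu]
    exact smul_zero u
  rw [h0, Finset.sum_congr rfl (fun ω hω => show Nat.card (H ⧸ MulAction.stabilizer H ω.out) =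
      Nat.card H by
    have hne : ω.out ≠ 0 := fun h => (Finset.ne_of_mem_erase hω) (by rw [← Quotient.out_eq ω, h])
    rw [show MulAction.stabilizer H ω.out = ⊥ from
      (Subgroup.eq_bot_iff_forall _).mpr fun u hu => hfree u _ hne hu]
    exact Subgroup.index_bot), Finset.sum_const, smul_eq_mul] at hsum
  have hone : Nat.card (H ⧸ MulAction.stabilizer H (0 : M)) = 1 := by
    rw [show MulAction.stabilizer H (0 : M) = ⊤ from eq_top_iff.mpr fun u _ => smul_zero u]
    exact Subgroup.index_top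
  rw [hone, hcard] at hsum
  have hdvd : Nat.card H ∣ s ^ 2 - 1 := by rw [hsum, Nat.add_sub_cancel_left]; exact dvd_mul_left _ _
  haveI := Fact.mk hp
  have hH : IsPGroup p H := by
    rintro ⟨_, y₁, rfl⟩
    obtain ⟨k, hk⟩ := hY y₁
    exact ⟨k, Subtype.ext (by rw [Subgroup.coe_pow, ← map_pow, hk, map_one]; rfl)⟩
  obtain ⟨k, hk⟩ := IsPGroup.iff_card.mp hH
  have hyne : (⟨φ.toHomUnits y, y, rfl⟩ : H) ≠ 1 := fun e =>
    h1 (by simpa using congrArg (fun u : H => ((u : (Module.End (ZMod s) M)ˣ) : Module.End (ZMod s) M)) e)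
  have hH3 : Nat.card H = 3 := by
    have hodd : (Nat.card H).Coprime 16 := by
      rw [hk, show 16 = 2 ^ 4 by norm_num]
      exact Nat.Coprime.pow _ _ ((Nat.coprime_primes hp Nat.prime_two).mpr hp2)
    have h48 : Nat.card H ∣ 16 * 3 := hdvd.trans (by rcases hs7 with rfl | rfl | rfl <;> norm_num)
    refine ((Nat.dvd_prime Nat.prime_three).mp (hodd.dvd_of_dvd_mul_left h48)).resolve_left fun hc => ?_
    haveI := (Nat.card_eq_one_iff_unique.mp hc).1
    exact hyne (Subsingleton.elim _ _)
  haveI : Fact (Nat.Prime 3) := ⟨Nat.prime_three⟩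
  obtain ⟨y', hy'⟩ := hTn y
  have hgen : (⟨φ.toHomUnits y', y', rfl⟩ : H) ∈ Submonoid.powers (⟨φ.toHomUnits y, y, rfl⟩ : H) :=
    mem_powers_iff_mem_zpowers.mpr (mem_zpowers_of_prime_card hH3 hyne)
  obtain ⟨i, hi⟩ := hgen
  have hG3 : φ y ^ 3 = 1 := by
    have := pow_card_eq_one' (x := (⟨φ.toHomUnits y, y, rfl⟩ : H))
    rw [hH3] at this
    simpa using congrArg (fun u : H => ((u : (Module.End (ZMod s) M)ˣ) : Module.End (ZMod s) M)) this
  have hy'i : φ y' = φ y ^ (i % 3) := by
    rw [← pow_eq_pow_mod i hG3]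
    simpa using congrArg (fun u : H => ((u : (Module.End (ZMod s) M)ˣ) : Module.End (ZMod s) M)) hi.symm
  rw [hy'i] at hy'
  rcases (show i % 3 = 0 ∨ i % 3 = 1 ∨ i % 3 = 2 by omega) with e | e | e <;> rw [e] at hy'
  · rw [pow_zero, one_mul] at hy'
    obtain ⟨m, rfl⟩ : ∃ m, n = m + 1 := ⟨n - 1, by have := hn.pos; omega⟩
    exact absurd (by
      calc φ y = T ^ (m + 1) * φ y := by rw [hT, one_mul]
        _ = T ^ m * (T * φ y) := by rw [pow_succ, mul_assoc]
        _ = 1 := by rw [hy', ← pow_succ, hT]) h1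
  · rwa [pow_one] at hy'
  · have hc : Commute (φ y) (T ^ 2) := by
      have e1 : T * φ y ^ 2 = φ y ^ 4 * T := by
        rw [pow_two, ← mul_assoc, hy', mul_assoc, hy', ← mul_assoc, ← pow_add]
      show φ y * T ^ 2 = T ^ 2 * φ y
      conv_rhs => rw [pow_two, mul_assoc, hy', ← mul_assoc, e1, pow_succ, hG3, one_mul, mul_assoc,
        ← pow_two]
    obtain ⟨m, hm⟩ := hn
    have hTT : T = (T ^ 2) ^ (m + 1) := by
      rw [← pow_mul, show 2 * (m + 1) = n + 1 by omega, pow_succ, hT, one_mul]
    rw [hTT]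
    exact (hc.pow_right _).eq.symm

end CfsgLib.TurullFit
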