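import Cfsg.Agent.Lib.TurullFit.Stmts
import Cfsg.Agent.Lib.TurullFit.SmallCommForm
import Cfsg.Agent.Lib.TurullFit.SmallCommLin
import Cfsg.Agent.Lib.TurullFit.SmallCommPiece
import Cfsg.Agent.Lib.TurullFit.SmallCommPlane
import Cfsg.Agent.Lib.TurullFit.SmallCommBinary

/-!
# Two groups of fixed points commute modulo the centre of a good component

If the images do not commute then `X` modulo scalars is large; the fixed space of a suitable element
is then too large unless `r ≤ 5`, and the small cases are excluded one by one.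
-/

set_option autoImplicit false
set_option linter.style.haveILetI false
set_option maxHeartbeats 1000000

open Module
open scoped commutatorElement

namespace CfsgLib.TurullFit

universe u

theorem exists_pow_order {G : Type*} [Monoid G] {θ : G} {o : ℕ} (hne : θ ≠ 1)
    (h : ∃ k, θ ^ o ^ k = 1) : ∃ j, θ ^ o ^ j ≠ 1 ∧ (θ ^ o ^ j) ^ o = 1 := by
  classical
  have h1 := Nat.find_spec h
  rcases Nat.eq_zero_or_pos (Nat.find h) with h0 | h0
  · rw [h0, pow_zero, pow_one] at h1; exact absurd h1 hne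
  · refine ⟨Nat.find h - 1, Nat.find_min h (by omega), ?_⟩
    rw [← pow_mul, ← pow_succ, Nat.sub_add_cancel h0]
    exact h1

theorem smallComm (hH : StmtHyper.{u}) (hCC : StmtCommCount.{u}) (hC : StmtCount.{u})
    (hFI : StmtFixedIrr.{u}) : StmtSmallComm.{u} := by
  classical
  intro F _ _ Γ V _ _ _ _ _ ρ s r p p' X Y Z a T Ω L hT hCF hexp hp hp' hpp hps hpr hp'r hY hZ
    hYX hZX hZY hYa hZa S hS z hz y hy
  have hcopY : ∀ g ∈ Y, (orderOf g).Coprime r := fun g hg => by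
    obtain ⟨k, hk⟩ := hY ⟨g, hg⟩
    refine Nat.Coprime.coprime_dvd_left (orderOf_dvd_of_pow_eq_one (n := p ^ k) ?_) ?_
    · simpa using congrArg Subtype.val hk
    · exact ((Nat.coprime_primes hp L.prime_r).mpr hpr).pow_left k
  have hzy : ⁅z, y⁆ ∈ Y := by
    rw [commutatorElement_def]
    exact Y.mul_mem ((Subgroup.mem_normalizer_iff.mp (hZY hz) y).mp hy) (Y.inv_mem hy)
  refine ⟨fun hF x₀ hx₀ => ?_, fun hF => ((hH F Γ V ρ s r X a T Ω ⁅z, y⁆ L hT hCF (hYX hzy)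
    (hYa _ hzy).1 (hYa _ hzy).2 (hcopY _ hzy) S hS).2.1 hF)⟩
  have hS0 : Heis ρ s r X a S := hFI F Γ V ρ s r X a S L hCF hS.1 hS.2.1 hF
  have hcs : ∀ x ∈ X, IsScalarOn ρ S x → CenterOn ρ X S x := fun x hx hxs =>
    ⟨hx, fun w hw => SmallCommForm.commOn_of_scalar hS0 hxs hw⟩
  have hsX : ∀ x ∈ X, IsScalarOn ρ S (x ^ s) := fun x hx => hS0.scalar _ (X.pow_mem hx s)
    fun w hw => (SmallCommForm.fixes_comm_iff hS0 (X.pow_mem hx s) hw).mp fun v _ => by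
      rw [hexp x hx w hw]; rfl
  obtain ⟨M, _, _, _, π, B, hπs, hπ, hπ0, hBfix, halt, hnd, hMcard, θ, hθ, hθB⟩ :=
    SmallCommForm.exists_form hS0 hsX
  haveI := Fact.mk L.prime_s
  let K := SmallCommForm.keep ρ X S
  have hYK : Y ≤ K := fun g hg => ⟨hYX hg, fun x hx hxs =>
    (hH F Γ V ρ s r X a T Ω g L hT hCF (hYX hg) (hYa g hg).1 (hYa g hg).2 (hcopY g hg) S hS).1.2 x
      (hcs x hx hxs)⟩
  have hZK : Z ≤ K := fun g hg => ⟨hZX hg, fun x hx hxs =>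
    ((hZa g hg).2.1 S hS hF).2 x (hcs x hx hxs)⟩
  have haS : a ∈ stabSub ρ S := CountSetup.mem_stabSub_of_map_le hS0.inv.2
  have haK : a ∈ K := ⟨L.mem_normalizer, fun x _ ⟨c, hc⟩ v hv => by
    rw [map_mul, map_mul, End.mul_apply, End.mul_apply, hc _ (((stabSub ρ S).inv_mem haS v).mpr hv),
      map_smul, ← End.mul_apply, ← map_mul, mul_inv_cancel, map_one, End.one_apply, hc v hv]⟩
  set A := θ ⟨a, haK⟩ with hAdef
  have hA : A ^ r = 1 := by
    rw [hAdef, ← map_pow, show (⟨a, haK⟩ : K) ^ r = 1 from Subtype.ext L.pow_eq_one, map_one]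
  have hAc : ∀ g (hg : g ∈ K), a * g = g * a → Commute (θ ⟨g, hg⟩) A := fun g hg e =>
    (show Commute (⟨g, hg⟩ : K) ⟨a, haK⟩ from Subtype.ext e.symm).map θ
  have hπinv : ∀ x, π x⁻¹ = - π x := fun x => by
    refine eq_neg_of_add_eq_zero_left ?_
    rw [← hπ, inv_mul_cancel]
    exact (hπ0 1).mpr ⟨1, fun v _ => by simp⟩
  have hfpf : ∀ m, A m = m → m = 0 := fun m hm => by
    obtain ⟨x, rfl⟩ := hπs m
    rw [hAdef, hθ] at hm
    refine (hπ0 x).mpr (hS0.fpf x x.2 ?_)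
    have e : π (x⁻¹ * ⟨a * x * a⁻¹, (Subgroup.mem_normalizer_iff.mp L.mem_normalizer x).mp x.2⟩)
        = 0 := by rw [hπ, hπinv, hm, neg_add_cancel]
    exact (hπ0 _).mp e
  -- it suffices that the images commute
  suffices hmain : θ ⟨z, hZK hz⟩ * θ ⟨y, hYK hy⟩ = θ ⟨y, hYK hy⟩ * θ ⟨z, hZK hz⟩ by
    have hw : θ ⟨⁅z, y⁆, hYK hzy⟩ = 1 := by
      have e : (⟨⁅z, y⁆, hYK hzy⟩ : K) = ⁅(⟨z, hZK hz⟩ : K), (⟨y, hYK hy⟩ : K)⁆ := Subtype.ext rfl
      have hu : Commute (θ.toHomUnits ⟨z, hZK hz⟩) (θ.toHomUnits ⟨y, hYK hy⟩) :=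
        Units.ext hmain
      rw [e, ← MonoidHom.coe_toHomUnits, map_commutatorElement,
        commutatorElement_eq_one_iff_commute.mpr hu, Units.val_one]
    have h1 := hθ ⟨⁅z, y⁆, hYK hzy⟩ ⟨x₀, hx₀⟩
    rw [hw, End.one_apply] at h1
    have hwx : ⁅z, y⁆ * x₀ * ⁅z, y⁆⁻¹ ∈ X :=
      (Subgroup.mem_normalizer_iff.mp (hYX hzy) x₀).mp hx₀
    have h2 : π (⟨⁅z, y⁆ * x₀ * ⁅z, y⁆⁻¹, hwx⟩ * (⟨x₀, hx₀⟩ : ↥X)⁻¹) = 0 := by
      rw [hπ, hπinv, ← h1, add_neg_cancel]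
    have h3 := (hπ0 _).mp h2
    refine hcs _ (by rw [commutatorElement_def]; exact X.mul_mem hwx (X.inv_mem hx₀)) ?_
    rw [commutatorElement_def]
    exact h3
  by_contra hne
  have hlarge := (commute_or_large (B := B) hnd L.prime_r L.s_ne_r.symm hA (hθB _) hfpf
    (hAc z (hZK hz) (hZa z hz).1) (hAc y (hYK hy) (hYa y hy).1)).resolve_left hne
  -- an element of prime order modulo scalars, fixing `T`
  obtain ⟨g₀, o, hg₀K, ho, hor, hoF, hg₀a, hg₀T, ⟨k₀, hk₀⟩, hg₀ne⟩ : ∃ (g₀ : Γ) (o : ℕ) (h₀ : g₀ ∈ K),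
      o.Prime ∧ o ≠ r ∧ (o : F) ≠ 0 ∧ a * g₀ = g₀ * a ∧ T ≤ fixSub ρ g₀ ∧
      (∃ k, g₀ ^ o ^ k = 1) ∧ θ ⟨g₀, h₀⟩ ≠ 1 := by
    by_cases hpF : (p : F) = 0
    · refine ⟨z, p', hZK hz, hp', hp'r, ?_⟩
      have hp'F : (p' : F) ≠ 0 := fun h0 => by
        have e := congrArg (fun i : ℤ => (i : F)) (Nat.gcd_eq_gcd_ab p p')
        rw [((Nat.coprime_primes hp hp').mpr hpp)] at e
        simp [hpF, h0] at e
      refine ⟨hp'F, (hZa z hz).1, (hZa z hz).2.2 hp'F, ?_, fun h1 => hne (by rw [h1, one_mul, mul_one])⟩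
      obtain ⟨k, hk⟩ := hZ ⟨z, hz⟩
      exact ⟨k, by simpa using congrArg Subtype.val hk⟩
    · refine ⟨y, p, hYK hy, hp, hpr, hpF, (hYa y hy).1, (hYa y hy).2, ?_,
        fun h1 => hne (by rw [h1, one_mul, mul_one])⟩
      obtain ⟨k, hk⟩ := hY ⟨y, hy⟩
      exact ⟨k, by simpa using congrArg Subtype.val hk⟩
  obtain ⟨j, hGne, hGo⟩ := exists_pow_order (o := o) hg₀ne ⟨k₀, by
    rw [← map_pow, show (⟨g₀, hg₀K⟩ : K) ^ o ^ k₀ = 1 from Subtype.ext hk₀, map_one]⟩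
  set g := g₀ ^ o ^ j with hgdef
  have hgK : g ∈ K := K.pow_mem hg₀K _
  have hθg : θ ⟨g, hgK⟩ = θ ⟨g₀, hg₀K⟩ ^ o ^ j := by
    rw [← map_pow]; rfl
  rw [← hθg] at hGne hGo
  have hga : a * g = g * a := ((show Commute a g₀ from hg₀a).pow_right _).eq
  have hgT : T ≤ fixSub ρ g := fun v hv => by
    have : g ∈ fixer ρ T :=
      (fixer ρ T).pow_mem (mem_fixer.mpr fun w hw => hg₀T hw) _
    exact this v hv
  have hgord : orderOf g ∣ o ^ k₀ :=
    orderOf_dvd_of_pow_eq_one (by rw [hgdef, ← pow_mul, mul_comm, pow_mul, hk₀, one_pow])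
  have hgcop : (orderOf g).Coprime r := Nat.Coprime.coprime_dvd_left hgord
    (((Nat.coprime_primes ho L.prime_r).mpr hor).pow_left k₀)
  have hgF : (orderOf g : F) ≠ 0 := by
    obtain ⟨c, hc⟩ := hgord
    intro h0
    refine pow_ne_zero k₀ hoF ?_
    rw [← Nat.cast_pow, hc, Nat.cast_mul, h0, zero_mul]
  obtain ⟨U, -, hU, hfx, hcn, hgU, halts⟩ :=
    (hH F Γ V ρ s r X a T Ω g L hT hCF hgK.1 hga hgT hgcop S hS).2.2.1 hF hgF
  -- transfer to `U`
  have hsc : ∀ x ∈ X, IsScalarOn ρ S x ↔ IsScalarOn ρ U x := fun x hx =>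
    ⟨fun h1 => hU.scalar x hx ((hcn x).mp (hcs x hx h1)).2,
      fun h1 => hF x ((hcn x).mpr ⟨hx, fun w hw => SmallCommForm.commOn_of_scalar hU h1 hw⟩)⟩
  have hπU : ∀ x : ↥X, π x = 0 ↔ IsScalarOn ρ U (x : Γ) := fun x => (hπ0 x).trans (hsc x x.2)
  obtain ⟨⟨b, hb0, hbd⟩, hfour, -, hidx⟩ := hC F Γ V ρ s r X a U hU
  have hMd : Nat.card M = finrank F U * finrank F U := by
    let Zs : Subgroup Γ := (SmallCommForm.rad ρ X U).map X.subtype
    have hZs : ∀ x, x ∈ Zs ↔ x ∈ X ∧ IsScalarOn ρ U x := fun x =>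
      ⟨fun ⟨w, hw, e⟩ => e ▸ ⟨w.2, hw⟩, fun h1 => ⟨⟨x, h1.1⟩, h1.2, rfl⟩⟩
    rw [hMcard Zs fun x => (hZs x).trans (and_congr_right fun hx => (hsc x hx).symm), hidx Zs hZs]
  -- `g ^ o` is a scalar on `U`
  set w := g ^ o with hwdef
  have hwK : w ∈ K := K.pow_mem hgK o
  have hwU : w ∈ stabSub ρ U := (stabSub ρ U).pow_mem hgU o
  have hwθ : θ ⟨w, hwK⟩ = 1 := by
    rw [show (⟨w, hwK⟩ : K) = ⟨g, hgK⟩ ^ o from rfl, map_pow, hGo]
  have hwa : a * w = w * a := ((show Commute a g from hga).pow_right _).eq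
  have hKU : ∀ x : ↥X, ∀ v ∈ U, ρ (w * (x : Γ) * w⁻¹) v = ρ x v := by
    have hmul : ∀ x x' : ↥X, (∀ v ∈ U, ρ (w * (x : Γ) * w⁻¹) v = ρ x v) →
        (∀ v ∈ U, ρ (w * (x' : Γ) * w⁻¹) v = ρ x' v) →
        ∀ v ∈ U, ρ (w * ((x * x' : ↥X) : Γ) * w⁻¹) v = ρ ((x * x' : ↥X) : Γ) v := by
      intro x x' h1 h2 v hv
      rw [Subgroup.coe_mul, show w * ((x : Γ) * x') * w⁻¹ = (w * x * w⁻¹) * (w * x' * w⁻¹) by group,
        map_mul, End.mul_apply, h2 v hv, h1 _ (hU.inv.1 _ x'.2 v hv), ← End.mul_apply, ← map_mul]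
    have hscal : ∀ x : ↥X, IsScalarOn ρ U (x : Γ) →
        ∀ v ∈ U, ρ (w * (x : Γ) * w⁻¹) v = ρ x v := fun x ⟨c, hc⟩ v hv => by
      rw [map_mul, map_mul, End.mul_apply, End.mul_apply,
        hc _ (((stabSub ρ U).inv_mem hwU v).mpr hv), map_smul, ← End.mul_apply, ← map_mul,
        mul_inv_cancel, map_one, End.one_apply, hc v hv]
    have hsurj : Function.Surjective (fun m => A m - m) :=
      Finite.surjective_of_injective fun m m' e => sub_eq_zero.mp (hfpf (m - m') (by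
        have e' : A m - m = A m' - m' := e
        rw [map_sub]; linear_combination (norm := abel) e'))
    intro x
    obtain ⟨m, hm⟩ := hsurj (π x)
    obtain ⟨x', rfl⟩ := hπs m
    have hax : a * x' * a⁻¹ ∈ X := (Subgroup.mem_normalizer_iff.mp L.mem_normalizer x').mp x'.2
    set u : ↥X := x'⁻¹ * ⟨a * x' * a⁻¹, hax⟩ with hudef
    have hπu : π u = π x := by
      rw [hudef, hπ, hπinv, ← hm]; dsimp only; rw [hAdef, hθ]; abel
    have hz0 : IsScalarOn ρ U ((u⁻¹ * x : ↥X) : Γ) := (hπU _).mp (by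
      rw [hπ, hπinv, hπu, neg_add_cancel])
    rw [show x = u * (u⁻¹ * x) by rw [mul_inv_cancel_left]]
    refine hmul _ _ ?_ (hscal _ hz0)
    have hwx : w * x' * w⁻¹ ∈ X := (Subgroup.mem_normalizer_iff.mp hwK.1 x').mp x'.2
    have ht : π (x'⁻¹ * ⟨w * x' * w⁻¹, hwx⟩) = 0 := by
      have := hθ ⟨w, hwK⟩ x'
      rw [hwθ, End.one_apply] at this
      rw [hπ, hπinv, ← this, neg_add_cancel]
    obtain ⟨c, hc⟩ := (hπU _).mp ht
    set t : Γ := ((x'⁻¹ * ⟨w * x' * w⁻¹, hwx⟩ : ↥X) : Γ) with htdef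
    intro v hv
    have e : w * (u : Γ) * w⁻¹ = t⁻¹ * ((x' : Γ)⁻¹ * a * x') * t * a⁻¹ := by
      simp only [hudef, htdef, Subgroup.coe_mul, Subgroup.coe_inv]
      calc w * ((x' : Γ)⁻¹ * (a * x' * a⁻¹)) * w⁻¹
          = (w * (x' : Γ)⁻¹ * w⁻¹) * (w * a) * x' * (w * a)⁻¹ := by group
        _ = (w * (x' : Γ)⁻¹ * w⁻¹) * (a * w) * x' * (a * w)⁻¹ := by rw [hwa]
        _ = _ := by group
    have hv1 : ρ a⁻¹ v ∈ U :=
      ((stabSub ρ U).inv_mem (CountSetup.mem_stabSub_of_map_le hU.inv.2) v).mpr hv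
    have hv2 : ρ ((x' : Γ)⁻¹ * a * x') (ρ a⁻¹ v) ∈ U := by
      rw [map_mul, map_mul, End.mul_apply, End.mul_apply]
      exact hU.inv.1 _ (X.inv_mem x'.2) _ (hU.inv.2 _ (hU.inv.1 _ x'.2 _ hv1))
    have hu : (u : Γ) = (x' : Γ)⁻¹ * a * x' * a⁻¹ := by
      simp only [hudef, Subgroup.coe_mul, Subgroup.coe_inv]; group
    rw [e, hu, map_mul, map_mul, map_mul, map_mul _ ((x' : Γ)⁻¹ * a * x') a⁻¹, End.mul_apply,
      End.mul_apply, End.mul_apply, End.mul_apply, hc _ hv1, map_smul, map_smul]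
    have htX : t ∈ X := SetLike.coe_mem _
    conv_rhs => rw [← SmallCommForm.inv_apply (ρ := ρ) t (ρ ((x' : Γ)⁻¹ * a * x') (ρ a⁻¹ v)),
      hc _ hv2, map_smul]
  have hwsc : IsScalarOn ρ U w := by
    haveI := CountSetup.nontrivial_piece hU
    have hwn : w ∈ CountSetup.nGrp ρ U X := ⟨hwU, hwK.1⟩
    refine CountSetup.isScalar_iff (g := ⟨w, hwn⟩) |>.mp (FgsC.HallHigman.isScalar_of_commute
      (CountSetup.isIrredOn hU) fun x hx => LinearMap.ext fun v => Subtype.ext ?_)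
    show ρ (x : Γ) (ρ w v) = ρ w (ρ (x : Γ) v)
    rw [← hKU ⟨x, hx⟩ _ ((hwU v).mpr v.2), ← End.mul_apply, ← map_mul]
    show ρ (w * (x : Γ) * w⁻¹ * w) v = ρ w (ρ (x : Γ) v)
    rw [inv_mul_cancel_right, map_mul, End.mul_apply]
  -- `g` moves `X` modulo scalars
  have hgX : ∀ {x}, x ∈ X → g * x * g⁻¹ ∈ X := fun {x} hx =>
    (Subgroup.mem_normalizer_iff.mp hgK.1 x).mp hx
  have hπg : ∀ x : ↥X, θ ⟨g, hgK⟩ (π x) - π x =
      π (⟨g * x * g⁻¹, hgX x.2⟩ * x⁻¹) := fun x => by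
    rw [hθ, hπ, hπinv, sub_eq_add_neg]
  have hcom : ∀ x : ↥X, ((⟨g * x * g⁻¹, hgX x.2⟩ * x⁻¹ : ↥X) : Γ) = ⁅g, (x : Γ)⁆ := fun x => by
    rw [Subgroup.coe_mul, Subgroup.coe_inv, commutatorElement_def]
  obtain ⟨x₁, hx₁, hmove⟩ : ∃ x ∈ X, ¬ IsScalarOn ρ U ⁅g, x⁆ := by
    by_contra hc
    push Not at hc
    refine hGne (LinearMap.ext fun m => ?_)
    obtain ⟨x, rfl⟩ := hπs m
    rw [End.one_apply, ← sub_eq_zero, hπg, hπU, hcom]
    exact hc x x.2
  have h4 := SmallCommPiece.four_fix hU hgK.1 hx₁ hmove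
  obtain ⟨-, hcc⟩ := hCC F Γ V ρ s r o X a g U hU hgK.1 hga ho hor hoF hgU hwsc
  have hf2le : finrank F (U ⊓ fixSub ρ a ⊓ fixSub ρ g : Submodule F V) ≤
      finrank F (U ⊓ fixSub ρ a : Submodule F V) := Submodule.finrank_mono inf_le_left
  set d := finrank F U with hd
  set d₁ := finrank F (U ⊓ fixSub ρ g : Submodule F V) with hd₁
  set fa := finrank F (U ⊓ fixSub ρ a : Submodule F V) with hfa
  set f₂ := finrank F (U ⊓ fixSub ρ a ⊓ fixSub ρ g : Submodule F V) with hf₂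
  have hdpos : 0 < d := by rw [hbd]; exact pow_pos L.prime_s.pos _
  have hr2 := L.prime_r.two_le
  have hm : (d₁ = r * f₂ ∧ d ≤ d₁ + (r - 1)) ∨ d = d₁ + r := by
    rcases hcc (by rcases halts with e | ⟨-, e⟩ <;> omega) with ⟨e1, -⟩ | e1 | e1
    · refine Or.inl ⟨e1, ?_⟩
      rcases (show fa = f₂ ∨ fa = f₂ + 1 by rcases halts with e | ⟨-, e⟩ <;> omega) with e | e
      · rw [e, ← e1] at hfour
        omega
      · rcases halts with h' | ⟨h', -⟩
        · omega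
        · rw [e, mul_add, mul_one, ← e1] at h'
          omega
    · exact Or.inr e1
    · omega
  have hd4 : d ≤ 4 * r := by rcases hm with ⟨-, e⟩ | e <;> omega
  have hsq : (r - 1) ^ 2 ≤ d ∧ (r ≠ 2 → s ^ 2 ≤ d) := by
    rw [hMd, show d * d = d ^ 2 by ring, show (r - 1) ^ 4 = ((r - 1) ^ 2) ^ 2 by ring,
      show s ^ 4 = (s ^ 2) ^ 2 by ring] at hlarge
    exact ⟨(Nat.pow_le_pow_iff_left two_ne_zero).mp hlarge.1,
      fun h2 => (Nat.pow_le_pow_iff_left two_ne_zero).mp (hlarge.2 h2)⟩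
  have hr5 : r = 2 ∨ r = 3 ∨ r = 5 := by
    have h6 : r ≤ 5 := by
      by_contra h
      have : 5 * (r - 1) ≤ (r - 1) * (r - 1) := Nat.mul_le_mul_right _ (by omega)
      have := hsq.1
      rw [pow_two] at this
      omega
    rcases (show r = 2 ∨ r = 3 ∨ r = 4 ∨ r = 5 by omega) with e | e | e | e
    · exact Or.inl e
    · exact Or.inr (Or.inl e)
    · exact absurd (e ▸ L.prime_r) (by norm_num)
    · exact Or.inr (Or.inr e)
  have hyY : θ ⟨y, hYK hy⟩ ≠ 1 := fun h1 => hne (by rw [h1, one_mul, mul_one])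
  rcases hr5 with rfl | rfl | rfl
  · -- `r = 2`
    have hd8 : d ≤ 8 := by omega
    have hs2 : s ≠ 2 := L.s_ne_r
    have hs3 : 3 ≤ s := by have := L.prime_s.two_le; omega
    have hb1 : b = 1 := by
      by_contra hb
      have := Nat.pow_le_pow_right L.prime_s.pos (show 2 ≤ b by omega)
      have := Nat.pow_le_pow_left hs3 2
      omega
    rw [hb1, pow_one] at hbd
    have hs7 : s = 3 ∨ s = 5 ∨ s = 7 := by
      rcases (show s = 3 ∨ s = 4 ∨ s = 5 ∨ s = 6 ∨ s = 7 ∨ s = 8 by omega) with e | e | e | e | e | e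
      all_goals first
        | omega
        | exact absurd (e ▸ L.prime_s) (by norm_num)
    obtain ⟨k, hk⟩ := hZ ⟨z, hz⟩
    have hzk : z ^ p' ^ k = 1 := by simpa using congrArg Subtype.val hk
    refine hne (commute_plane (T := θ ⟨z, hZK hz⟩) halt hnd (by rw [hMd, hbd, pow_two]) hs7 hp hpr
      hps (Y := ↥Y) hY (θ.comp (Subgroup.inclusion hYK)) (fun y' => hθB _)
      ((hp'.odd_of_ne_two hp'r).pow (n := k))
      (by rw [← map_pow, show (⟨z, hZK hz⟩ : K) ^ p' ^ k = 1 from Subtype.ext hzk, map_one])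
      (fun y' => ⟨⟨z * y' * z⁻¹, (Subgroup.mem_normalizer_iff.mp (hZY hz) y').mp y'.2⟩, ?_⟩)
      ⟨y, hy⟩)
    rw [MonoidHom.comp_apply, MonoidHom.comp_apply, ← map_mul, ← map_mul]
    exact congrArg θ (Subtype.ext (by simp))
  · -- `r = 3`
    have hs2 : s = 2 := by
      have h1 := hsq.2 (by norm_num)
      rcases (show s = 2 ∨ s = 3 ∨ 4 ≤ s by have := L.prime_s.two_le; omega) with e | e | e
      · exact e
      · exact absurd e L.s_ne_r
      · have := Nat.pow_le_pow_left e 2; omega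
    have hb3 : b ≤ 3 := by
      by_contra hb
      have := Nat.pow_le_pow_right L.prime_s.pos (show 4 ≤ b by omega)
      rw [hs2] at this hbd
      omega
    have hd8 : d ≤ 8 := by
      rw [hbd, hs2]; exact Nat.pow_le_pow_right two_pos hb3
    obtain ⟨k, hk⟩ := hY ⟨y, hy⟩
    obtain ⟨j', hne', hp1⟩ := exists_pow_order (o := p) hyY ⟨k, by
      rw [← map_pow, show (⟨y, hYK hy⟩ : K) ^ p ^ k = 1 from
        Subtype.ext (by simpa using congrArg Subtype.val hk), map_one]⟩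
    refine hne' (eq_one_of_three (B := B) hs2 hnd hA (hθB _) hfpf ?_ ?_ ?_ hp (hs2 ▸ hps) hpr hp1)
    · rw [hMd]
      calc d * d ≤ 8 * 8 := Nat.mul_le_mul hd8 hd8
        _ = 64 := rfl
    · exact (hAc y (hYK hy) (hYa y hy).1).pow_left _
    · rw [← map_pow]; exact hθB _
  · -- `r = 5`
    have hlow : 16 ≤ d := hsq.1
    have hs2 : s = 2 := by
      have h1 := hsq.2 (by norm_num)
      rcases (show s = 2 ∨ s = 3 ∨ s = 4 ∨ 5 ≤ s by have := L.prime_s.two_le; omega) with e | e | e | e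
      · exact e
      · exfalso
        rw [e] at hbd
        rcases (show b ≤ 2 ∨ 3 ≤ b by omega) with hb | hb
        · have := Nat.pow_le_pow_right (show 0 < 3 by norm_num) hb; omega
        · have := Nat.pow_le_pow_right (show 0 < 3 by norm_num) hb; omega
      · exact absurd (e ▸ L.prime_s) (by norm_num)
      · have := Nat.pow_le_pow_left e 2; omega
    subst hs2
    have hd16 : d = 16 := by
      rcases (show b ≤ 4 ∨ 5 ≤ b by omega) with hb | hb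
      · have := Nat.pow_le_pow_right two_pos hb; omega
      · have := Nat.pow_le_pow_right two_pos hb; omega
    have hd11 : d₁ = 11 := by omega
    by_cases ho2 : o = 2
    · subst ho2
      exact SmallCommBinary.no_involution hU hd16 hgK.1 hga hgU hoF hwsc hd11 ⟨x₁, hx₁, hmove⟩
    obtain ⟨m₁, m₂, hB12⟩ : ∃ m₁ m₂, B (θ ⟨g, hgK⟩ m₁ - m₁) (θ ⟨g, hgK⟩ m₂ - m₂) ≠ 0 := by
      by_contra hc
      push Not at hc
      set G := θ ⟨g, hgK⟩ with hG
      have hanti : ∀ m m', B m' m = - B m m' := fun m m' => by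
        have e := halt (m + m')
        simp only [map_add, LinearMap.add_apply, halt, zero_add, add_zero] at e
        exact eq_neg_of_add_eq_zero_left (by first | exact e | (rw [add_comm]; exact e))
      refine hGne (pow_one G ▸ (Nat.Coprime.gcd_eq_one
        ((Nat.coprime_primes ho Nat.prime_two).mpr ho2)) ▸ pow_gcd_eq_one.mpr ⟨hGo, ?_⟩)
      refine LinearMap.ext fun m' => sub_eq_zero.mp (hnd _ fun m => ?_)
      rw [hanti m, neg_eq_zero, End.one_apply, pow_two, End.mul_apply, map_sub]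
      have e := hc m (G m')
      simp only [map_sub, LinearMap.sub_apply, hθB, hG] at e ⊢
      have h2 : ∀ q : ZMod 2, q + q = 0 := fun q => CharTwo.add_self_eq_zero q
      linear_combination (norm := abel_nf) (-1 : ℤ) • e + (1 : ℤ) • h2 (B m (θ ⟨g, hgK⟩ m')) +
        (-1 : ℤ) • h2 (B m m')
    obtain ⟨y₁, rfl⟩ := hπs m₁
    obtain ⟨y₂, rfl⟩ := hπs m₂
    rw [hπg, hπg, Ne, hBfix, hcom, hcom] at hB12
    have h3 := SmallCommPiece.three_fix hU hgK.1 y₁.2 y₂.2 (fun hall => hB12 ?_)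
    · omega
    intro v hv
    have hmem : ⁅⁅g, (y₁ : Γ)⁆, ⁅g, (y₂ : Γ)⁆⁆ ∈ fixer ρ U := hall
    refine (hfx _ ?_).mpr hmem v hv
    rw [← hcom, ← hcom, commutatorElement_def]
    exact X.mul_mem (X.mul_mem (X.mul_mem (SetLike.coe_mem _) (SetLike.coe_mem _))
      (X.inv_mem (SetLike.coe_mem _))) (X.inv_mem (SetLike.coe_mem _))

end CfsgLib.TurullFit
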