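import Cfsg.Agent.Lib.TurullFit.SmallFixTorus

/-!
# Turull's bound for the Fitting height: above a level with exceptional components only

An exceptional component of the dual of `Z / Q` is moved by some element of `Y`. In characteristic
not two this is impossible, as `Y` commutes with the fixed points of `a` in `X` modulo `Q`. In
characteristic two the moved component makes the dimension of a fixed component of `Z` at least
`27 ^ ((r - 1) / 2)`, while the element moving it keeps it below a multiple of `r`.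
-/

set_option autoImplicit false

open Module
open scoped commutatorElement
open CfsgLib.FgsC.HallHigman CfsgLib.FgsC.CoprimeWeights
open CfsgLib.TurullFit.SFBasic CfsgLib.TurullFit.SFCentre

namespace CfsgLib.TurullFit

universe u

namespace SFMain

variable {F F₁ : Type} [Field F] [Field F₁] [IsAlgClosed F₁] {Γ V : Type u}
  [Group Γ] [Finite Γ] [AddCommGroup V] [Module F V]
  {ρ : Representation F Γ V} {q r p : ℕ} {Z Q X Y : Subgroup Γ} [Z.Normal] [Q.Normal] {a : Γ}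
  {T : Submodule F V} {Ω : Set V}

/-- The facts on a noncentral component of the dual. -/
theorem exc_facts (D : Data F₁ ρ q r p Z Q X Y a T Ω) (hFI : StmtFixedIrr.{u})
    (hEF : StmtExcFacts.{u}) (hC : StmtCount.{u})
    {U : Submodule F₁ ↥(dualSub F₁ Z Q)} (hU : Comp (dualRep F₁ Z Q) X a U)
    (hUN : Noncentral (dualRep F₁ Z Q) X a U) :
    (∀ x ∈ X, CenterOn (dualRep F₁ Z Q) X U (x ^ 2)) ∧ FixedType (dualRep F₁ Z Q) X U ∧
      Heis (dualRep F₁ Z Q) 2 r X a U ∧ finrank F₁ U + 1 = r ∧ ∃ m, 0 < m ∧ r = 2 ^ m + 1 := by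
  have hUfix : U ⊓ fixSub (dualRep F₁ Z Q) a = ⊥ := by
    by_contra h
    exact D.noGood U ⟨hU, hUN, h⟩
  have hcen2 : ∀ x ∈ X, CenterOn (dualRep F₁ Z Q) X U (x ^ 2) := fun x hx =>
    ⟨X.pow_mem hx 2, fun w hw v _ => by
      rw [show x ^ 2 * w = ⁅x ^ 2, w⁆ * (w * x ^ 2) by rw [commutatorElement_def]; group, map_mul,
        D.sq x hx w hw, one_mul]⟩
  obtain ⟨-, hUF, -, m, hm, hrm, -⟩ :=
    hEF F₁ Γ _ (dualRep F₁ Z Q) 2 r X a U D.LX ⟨hU, hUN, hUfix⟩ hcen2
  have hHU := hFI F₁ Γ _ (dualRep F₁ Z Q) 2 r X a U D.LX D.centralFixX hU hUN hUF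
  exact ⟨hcen2, hUF, hHU, ((hC F₁ Γ _ _ 2 r X a U hHU).2.2.1 hUfix).2, m, hm, hrm⟩

/-- Some element of `Y` moves a noncentral component of the dual. -/
theorem exists_moving (D : Data F₁ ρ q r p Z Q X Y a T Ω) (hFI : StmtFixedIrr.{u})
    (hEF : StmtExcFacts.{u}) (hC : StmtCount.{u})
    {U : Submodule F₁ ↥(dualSub F₁ Z Q)} (hU : Comp (dualRep F₁ Z Q) X a U)
    (hUN : Noncentral (dualRep F₁ Z Q) X a U) :
    ∃ y ∈ Y, ¬ ∀ x, CenterOn (dualRep F₁ Z Q) X U x →
      CenterOn (dualRep F₁ Z Q) X U (y * x * y⁻¹) ∧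
        ∀ v ∈ U, dualRep F₁ Z Q (y * x * y⁻¹) v = dualRep F₁ Z Q x v := by
  obtain ⟨-, hUF, hHU, hdim, -⟩ := exc_facts D hFI hEF hC hU hUN
  by_contra hall
  push Not at hall
  have hbl : ∀ g ∈ Y, ∀ x ∈ X, CenterOn (dualRep F₁ Z Q) X U ⁅g, x⁆ := by
    intro g hg x hx
    obtain ⟨e, he⟩ := exists_pow D hg
    refine centerOn_of_scalar hU.2.1.1 ?_ (SFPiece.block hHU hdim (D.normY hg) (D.commY g hg)
      (fun w hw h => (hall g hg w (centerOn_of_scalar hU.2.1.1 hw h)).2)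
      (pow_pos D.prime_p.pos e) he
      (Nat.Coprime.pow_left e ((Nat.coprime_primes D.prime_p D.LZ.prime_r).mpr D.p_ne_r)) x hx)
    rw [commutatorElement_def]
    exact X.mul_mem ((Subgroup.mem_normalizer_iff.mp (D.normY hg) x).mp hx) (X.inv_mem hx)
  have hle : ⁅X, Y⁆ ⊔ (fixer (dualRep F₁ Z Q) ⊤ ⊓ X) ≤ cenSub (dualRep F₁ Z Q) X U hU.2.1.1 :=
    sup_le (Subgroup.commutator_le.mpr fun x hx g hg => by
      rw [← commutatorElement_inv]
      exact Subgroup.inv_mem _ (mem_cenSub.mpr (hbl g hg x hx)))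
      fun k hk => centerOn_of_fix hU.2.1.1 hk.2 fun v _ => hk.1 v Submodule.mem_top
  obtain ⟨x, hx, hxne⟩ := hHU.nonscalar
  exact hxne (hUF x (mem_cenSub.mp (hle (D.gen hx))))

/-- If `y` commutes on the dual with the fixed points of `a` in `X`, it stabilises every
noncentral component. -/
theorem not_moving (D : Data F₁ ρ q r p Z Q X Y a T Ω) (hSS : StmtSemisimple.{u})
    (hFI : StmtFixedIrr.{u}) (hEF : StmtExcFacts.{u}) (hC : StmtCount.{u})
    (htriv : ∀ g ∈ ⁅X ⊓ Subgroup.centralizer {a}, Y⁆, dualRep F₁ Z Q g = 1)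
    {U : Submodule F₁ ↥(dualSub F₁ Z Q)} (hU : Comp (dualRep F₁ Z Q) X a U)
    (hUN : Noncentral (dualRep F₁ Z Q) X a U) {y : Γ} (hy : y ∈ Y) :
    ∀ x, CenterOn (dualRep F₁ Z Q) X U x →
      CenterOn (dualRep F₁ Z Q) X U (y * x * y⁻¹) ∧
        ∀ v ∈ U, dualRep F₁ Z Q (y * x * y⁻¹) v = dualRep F₁ Z Q x v := by
  classical
  set σ := dualRep F₁ Z Q with hσ
  obtain ⟨-, hUF, hHU, -, -⟩ := exc_facts D hFI hEF hC hU hUN
  haveI := Fact.mk D.LX.prime_r
  haveI := Fact.mk D.LX.prime_s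
  have hord : ∃ i, orderOf a = r ^ i := by
    obtain ⟨i, -, hi⟩ := (Nat.dvd_prime_pow D.LX.prime_r).mp
      (orderOf_dvd_of_pow_eq_one (x := a) (n := r ^ 1) (by rw [pow_one]; exact D.LX.pow_eq_one))
    exact ⟨i, hi⟩
  have hr2 : r ≠ 2 := fun h => D.LX.s_ne_r h.symm
  -- fixed points of `a` commute with `Y` on the dual
  have hconj : ∀ c ∈ X, a * c = c * a → ∀ g ∈ Y, σ (g * c * g⁻¹) = σ c := by
    intro c hc hac g hg
    have h : ⁅c⁻¹, g⁆ ∈ ⁅X ⊓ Subgroup.centralizer {a}, Y⁆ :=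
      Subgroup.commutator_mem_commutator (Subgroup.inv_mem _ ⟨hc,
        Subgroup.mem_centralizer_singleton_iff.mpr hac.symm⟩) hg
    rw [show g * c * g⁻¹ = c * ⁅c⁻¹, g⁆ by rw [commutatorElement_def]; group, map_mul, hσ,
      htriv _ h, mul_one]
  -- central elements on all of the dual
  have hcentral : ∀ c ∈ X, (∀ w ∈ X, σ (c * w) = σ (w * c)) → σ (y * c * y⁻¹) = σ c := by
    intro c hc hcc
    let M₀ : Subgroup Γ := fixer σ ⊤ ⊓ X
    have haM : a ∈ Subgroup.normalizer (M₀ : Set Γ) := Subgroup.mem_normalizer_iff.mpr fun w => by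
      constructor
      · intro h
        refine ⟨fun v _ => ?_, (Subgroup.mem_normalizer_iff.mp D.LX.mem_normalizer w).mp h.2⟩
        rw [map_mul, map_mul, End.mul_apply, End.mul_apply, h.1 _ Submodule.mem_top, rho_inv_apply]
      · intro h
        refine ⟨fun v _ => ?_, (Subgroup.mem_normalizer_iff.mp D.LX.mem_normalizer w).mpr h.2⟩
        have h1 := h.1 (σ a v) Submodule.mem_top
        rw [map_mul, map_mul, End.mul_apply, End.mul_apply, rho_apply_inv] at h1
        have h2 := congrArg (σ a⁻¹) h1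
        rwa [rho_apply_inv, rho_apply_inv] at h2
    have heq : ∀ v, σ (a * c * a⁻¹) v = σ c v := by
      intro v
      have htop : (⊤ : Submodule F₁ ↥(dualSub F₁ Z Q)) ≤
          LinearMap.eqLocus (σ (a * c * a⁻¹)) (σ c) := by
        rw [← (hSS F₁ Γ _ σ 2 r X a D.LX).2]
        refine sSup_le fun W hW v hv => ?_
        show σ (a * c * a⁻¹) v = σ c v
        by_cases hN : Noncentral σ X a W
        · obtain ⟨-, hWF, hHW, -, -⟩ := exc_facts D hFI hEF hC hW hN
          obtain ⟨l, hl⟩ := hWF c ⟨hc, fun w hw u _ => by rw [hcc w hw]⟩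
          have hai : σ a⁻¹ v ∈ W := by
            have h := (Subgroup.inv_mem _ (SFPiece.mem_grp hHW)).1 v
            exact h.mpr hv
          rw [← rho_mul_apply, ← rho_mul_apply, hl _ hai, map_smul, rho_inv_apply, hl v hv]
        · by_contra h
          exact hN ⟨c, hc, v, hv, h⟩
      exact htop Submodule.mem_top
    obtain ⟨c', hc', hcM⟩ := exists_fixed_in_coset (p := r) (q := 2) hr2 D.LX.isPGroup
      (M := M₀) inf_le_right hord haM (k := c) ⟨fun v _ => by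
        rw [map_mul, End.mul_apply, heq, rho_apply_inv],
        X.mul_mem (X.inv_mem hc) ((Subgroup.mem_normalizer_iff.mp D.LX.mem_normalizer c).mp hc)⟩
    have hc'X : c' ∈ X := by
      have := X.mul_mem hc hcM.2
      rwa [mul_inv_cancel_left] at this
    have hsame : σ c' = σ c := by
      have h : σ (c⁻¹ * c') = 1 := LinearMap.ext fun v => hcM.1 v Submodule.mem_top
      rw [show c' = c * (c⁻¹ * c') by group, map_mul, h, mul_one]
    rw [map_mul, map_mul, ← hsame, ← map_mul, ← map_mul]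
    exact hconj c' hc'X hc'.eq.symm y hy
  have hxX : ∀ x ∈ X, y * x * y⁻¹ ∈ X := fun x hx =>
    (Subgroup.mem_normalizer_iff.mp (D.normY hy) x).mp hx
  have hyi : ∀ w ∈ X, y⁻¹ * w * y ∈ X := fun w hw =>
    (Subgroup.mem_normalizer_iff''.mp (D.normY hy) w).mp hw
  intro x hx
  -- the centre is preserved
  have hcen : CenterOn σ X U (y * x * y⁻¹) := by
    refine ⟨hxX x hx.1, fun w hw v hv => ?_⟩
    set w' := y⁻¹ * w * y
    have hw' : w' ∈ X := hyi w hw
    set c := ⁅x, w'⁆ with hc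
    have hcX : c ∈ X := by
      rw [hc, commutatorElement_def]
      exact X.mul_mem (X.mul_mem (X.mul_mem hx.1 hw') (X.inv_mem hx.1)) (X.inv_mem hw')
    have hcc : σ (y * c * y⁻¹) = σ c := hcentral c hcX fun u hu => by
      rw [show c * u = ⁅c, u⁆ * (u * c) by simp only [commutatorElement_def]; group, map_mul, hc,
        hσ, D.LX.classTwo x hx.1 w' hw' u hu, one_mul]
    have hc1 : ∀ u ∈ U, σ c u = u := fun u hu => by
      have ht : σ (x⁻¹ * w'⁻¹) u ∈ U :=
        hU.2.1.1 _ (X.mul_mem (X.inv_mem hx.1) (X.inv_mem hw')) u hu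
      have h := hx.2 w' hw' _ ht
      rw [rho_mul_apply, rho_mul_apply,
        show w' * x * (x⁻¹ * w'⁻¹) = 1 by group, map_one, End.one_apply,
        show x * w' * (x⁻¹ * w'⁻¹) = c by
          simp only [c, commutatorElement_def]; group] at h
      exact h
    have hwv : σ (w * (y * x * y⁻¹)) v ∈ U := hU.2.1.1 _ (X.mul_mem hw (hxX x hx.1)) v hv
    calc σ (y * x * y⁻¹ * w) v = σ (y * c * y⁻¹) (σ (w * (y * x * y⁻¹)) v) := by
          rw [rho_mul_apply]
          congr 2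
          simp only [c, w', commutatorElement_def]
          group
      _ = σ (w * (y * x * y⁻¹)) v := by rw [hcc, hc1 _ hwv]
  refine ⟨hcen, fun v hv => ?_⟩
  -- the scalars are preserved
  let M₁ : Subgroup Γ :=
    (fixer σ U ⊓ (fixer σ U).comap (MulAut.conj y).toMonoidHom) ⊓ X
  have haU : ∀ w : Γ, w ∈ fixer σ U → a * w * a⁻¹ ∈ fixer σ U := by
    intro w hw u hu
    have hai : σ a⁻¹ u ∈ U := by
      have h := (Subgroup.inv_mem _ (SFPiece.mem_grp hHU)).1 u
      exact h.mpr hu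
    rw [map_mul, map_mul, End.mul_apply, End.mul_apply, hw _ hai, rho_inv_apply]
  have haU' : ∀ w : Γ, a * w * a⁻¹ ∈ fixer σ U → w ∈ fixer σ U := by
    intro w hw u hu
    have h := hw (σ a u) (hU.2.1.2 u hu)
    rw [map_mul, map_mul, End.mul_apply, End.mul_apply, rho_apply_inv] at h
    have h2 := congrArg (σ a⁻¹) h
    rwa [rho_apply_inv, rho_apply_inv] at h2
  have hay : ∀ w, y * (a * w * a⁻¹) * y⁻¹ = a * (y * w * y⁻¹) * a⁻¹ := fun w => by
    calc y * (a * w * a⁻¹) * y⁻¹ = (y * a) * w * (y * a)⁻¹ := by group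
      _ = (a * y) * w * (a * y)⁻¹ := by rw [D.commY y hy]
      _ = _ := by group
  have haM : a ∈ Subgroup.normalizer (M₁ : Set Γ) := Subgroup.mem_normalizer_iff.mpr fun w => by
    constructor
    · rintro ⟨⟨h1, h2⟩, h3⟩
      refine ⟨⟨haU w h1, ?_⟩, (Subgroup.mem_normalizer_iff.mp D.LX.mem_normalizer w).mp h3⟩
      show y * (a * w * a⁻¹) * y⁻¹ ∈ fixer σ U
      rw [hay]; exact haU _ h2
    · rintro ⟨⟨h1, h2⟩, h3⟩
      refine ⟨⟨haU' w h1, haU' _ ?_⟩, (Subgroup.mem_normalizer_iff.mp D.LX.mem_normalizer w).mpr h3⟩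
      show a * (y * w * y⁻¹) * a⁻¹ ∈ fixer σ U
      rw [← hay]; exact h2
  have hinvar : ∀ z, CenterOn σ X U z → ∀ u ∈ U, σ (a * z * a⁻¹) u = σ z u := by
    intro z hz u hu
    obtain ⟨l, hl⟩ := hUF z hz
    have hai : σ a⁻¹ u ∈ U := by
      have h := (Subgroup.inv_mem _ (SFPiece.mem_grp hHU)).1 u
      exact h.mpr hu
    rw [← rho_mul_apply, ← rho_mul_apply, hl _ hai, map_smul, rho_inv_apply, hl u hu]
  have hk : x⁻¹ * (a * x * a⁻¹) ∈ M₁ := by
    refine ⟨⟨fun u hu => ?_, ?_⟩, X.mul_mem (X.inv_mem hx.1)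
      ((Subgroup.mem_normalizer_iff.mp D.LX.mem_normalizer x).mp hx.1)⟩
    · rw [map_mul, End.mul_apply, hinvar x hx u hu, rho_apply_inv]
    · show y * (x⁻¹ * (a * x * a⁻¹)) * y⁻¹ ∈ fixer σ U
      rw [show y * (x⁻¹ * (a * x * a⁻¹)) * y⁻¹ = (y * x * y⁻¹)⁻¹ * (y * (a * x * a⁻¹) * y⁻¹) by
        group, hay]
      intro u hu
      rw [map_mul, End.mul_apply, hinvar _ hcen u hu, rho_apply_inv]
  obtain ⟨c', hc', hcM⟩ := exists_fixed_in_coset (p := r) (q := 2) hr2 D.LX.isPGroup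
    (M := M₁) inf_le_right hord haM (k := x) hk
  have hc'X : c' ∈ X := by
    have := X.mul_mem hx.1 hcM.2
    rwa [mul_inv_cancel_left] at this
  have h1 : σ c' v = σ x v := by
    rw [show c' = x * (x⁻¹ * c') by group, map_mul, End.mul_apply, hcM.1.1 v hv]
  have h2 : σ (y * c' * y⁻¹) v = σ (y * x * y⁻¹) v := by
    rw [show y * c' * y⁻¹ = (y * x * y⁻¹) * (y * (x⁻¹ * c') * y⁻¹) by group, map_mul,
      End.mul_apply]
    exact congrArg _ (hcM.1.2 v hv)
  rw [← h2, ← h1, hconj c' hc'X hc'.eq.symm y hy]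

end SFMain

/-- Above a level with exceptional components only the fixed points of `a` move `T`. -/
theorem smallFix (hSS : StmtSemisimple.{u}) (hFI : StmtFixedIrr.{u}) (hEF : StmtExcFacts.{u})
    (hC : StmtCount.{u}) (hHy : StmtHyper.{u}) (hCC : StmtCommCount.{u})
    (hFH : StmtFixHalf.{u}) : StmtSmallFix.{u} := by
  intro F F₁ _ _ _ _ Γ V _ _ _ _ _ ρ q r p Z Q X Y _ _ a T Ω LZ hT hcf hphi hchar hq2 hpow hcomm
    hfpf LX hcfX hsq hnoGood hnonc hp hp2 hpr hY hYX hYa hgen hpresv hfixA hfixY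
  classical
  have D : Data F₁ ρ q r p Z Q X Y a T Ω := ⟨LZ, hT, hcf, hphi, hchar, hq2, hpow, hcomm, hfpf, LX,
    hcfX, hsq, hnoGood, hnonc, hp, hp2, hpr, hY, hYX, hYa, hgen, hpresv, hfixA, hfixY⟩
  by_cases h2 : (2 : F) = 0
  swap
  · obtain ⟨U, hU, hUN⟩ := hnonc
    obtain ⟨-, -, -, -, m, hm, hrm⟩ := SFMain.exc_facts D hFI hEF hC hU hUN
    have htriv : ∀ g ∈ ⁅X ⊓ Subgroup.centralizer {a}, Y⁆, dualRep F₁ Z Q g = 1 := by
      intro g hg
      have hgC := SFTorus.commutator_le_fixed D hg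
      obtain ⟨e, he⟩ : ∃ e, g ^ (2 ^ e) = 1 := by
        obtain ⟨e, he⟩ := LX.isPGroup ⟨g, hgC.1⟩
        exact ⟨e, congrArg Subtype.val he⟩
      have hord : (orderOf g).Coprime r :=
        Nat.Coprime.coprime_dvd_left (orderOf_dvd_of_pow_eq_one he)
          (Nat.Coprime.pow_left e ((Nat.coprime_primes Nat.prime_two LZ.prime_r).mpr LX.s_ne_r))
      refine dual_eq_one (commutator_mem_radical D hSS hEF (fun S hS hnF => ?_) fun S hS hF => ?_)
      · exact (hHy F Γ V ρ q r Z a T Ω g LZ hT hcf (mem_normalizer D g)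
          (Subgroup.mem_centralizer_singleton_iff.mp hgC.2).symm (hfixA h2 g hg) hord S hS).2.1 hnF
      · exact SFTorus.centralised D hC hHy hCC hFH h2 hm hrm hS hF
          (hFI F Γ V ρ q r Z a S LZ hcf hS.1 hS.2.1 hF) g hg
    obtain ⟨y, hy, hblk⟩ := SFMain.exists_moving D hFI hEF hC hU hUN
    exact hblk (SFMain.not_moving D hSS hFI hEF hC htriv hU hUN hy)
  have hno := hfixY h2
  haveI := hchar
  haveI : Fact q.Prime := ⟨LZ.prime_s⟩
  obtain ⟨S, hG, hF, hH, ⟨x₀, hx₀, z₀, hz₀, hne₀⟩, hpres⟩ := find_fixed D hSS hFI hEF hHy hno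
  set σ := dualRep F₁ Z Q with hσ
  set R := cenSub ρ Z S hH.inv.1 with hRdef
  have hQR : Q ≤ R := fun z hz => centerOn_of_central hphi.le hphi.central S hz
  have hRle : R ≤ Z := fun z hz => hz.1
  have hsect := SFDim.dual_section (K := F₁) (q := q) hQR (fun z hz => hQR (hpow z hz))
    (fun z hz w hw => hQR (hcomm z hz w hw))
  -- functionals vanishing on the centre
  let MR : Submodule F₁ ↥(dualSub F₁ Z Q) :=
    { carrier := {f | ∀ z : Z, (z : Γ) ∈ R → (f : ↥Z → F₁) z = 0}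
      add_mem' := fun {f f'} hf hf' z hz => by
        show (f : ↥Z → F₁) z + (f' : ↥Z → F₁) z = 0
        rw [hf z hz, hf' z hz, add_zero]
      zero_mem' := fun z _ => rfl
      smul_mem' := fun c f hf z hz => by
        show c * (f : ↥Z → F₁) z = 0
        rw [hf z hz, mul_zero] }
  have hMstab : ∀ g, g ∈ X ∨ g ∈ Y ∨ g = a → ∀ f ∈ MR, σ g f ∈ MR := by
    intro g hg f hf z hz
    rw [hσ, dualRep_apply]
    refine hf _ ?_
    show CenterOn ρ Z S (g⁻¹ * z * g)
    rw [hpres g hg, show g * (g⁻¹ * (z : Γ) * g) * g⁻¹ = z by group]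
    exact hz
  have hMinv : Inv σ X a MR :=
    ⟨fun x hx => hMstab x (Or.inl hx), hMstab a (Or.inr (Or.inr rfl))⟩
  have hdiff : ∀ (g : Γ) (f : ↥(dualSub F₁ Z Q)), f ∈ MR → ∀ w : Z, ⁅g, (w : Γ)⁆ ∈ R →
      (f : ↥Z → F₁) ⟨g * w * g⁻¹, (inferInstance : Z.Normal).conj_mem w w.2 g⟩ =
        (f : ↥Z → F₁) w := by
    intro g f hf w hw
    have h := f.2.1 ⟨⁅g, (w : Γ)⁆, commutator_mem_normal w.2⟩ w
    rw [show (⟨⁅g, (w : Γ)⁆, commutator_mem_normal w.2⟩ : Z) * w =
        ⟨g * w * g⁻¹, (inferInstance : Z.Normal).conj_mem w w.2 g⟩ from Subtype.ext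
      (show ⁅g, (w : Γ)⁆ * (w : Γ) = _ by rw [commutatorElement_def, inv_mul_cancel_right]),
      hf ⟨⁅g, (w : Γ)⁆, commutator_mem_normal w.2⟩ hw, zero_add] at h
    exact h
  -- an exceptional component among them
  obtain ⟨U, hU, hUM, hUN⟩ : ∃ U, Comp σ X a U ∧ U ≤ MR ∧ Noncentral σ X a U := by
    by_contra hnone
    push Not at hnone
    refine hne₀ ?_
    have htriv : ∀ f ∈ MR, σ ⁅a, x₀⁆ f = f := by
      intro f hf
      have hf' : σ x₀⁻¹ f ∈ MR := hMstab _ (Or.inl (X.inv_mem hx₀)) f hf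
      have hle : MR ≤ LinearMap.eqLocus (σ (a * x₀ * a⁻¹)) (σ x₀) := by
        rw [← comp_span hSS LX hMinv]
        refine sSup_le fun U hU f hf => ?_
        by_contra h
        exact hnone U hU.1 hU.2 ⟨x₀, hx₀, f, hf, h⟩
      have h : σ (a * x₀ * a⁻¹) (σ x₀⁻¹ f) = σ x₀ (σ x₀⁻¹ f) := hle hf'
      rw [commutatorElement_def, ← rho_mul_apply, h, rho_inv_apply]
    exact hsect.1 ⟨_, commutator_mem_normal hz₀⟩ fun f hf hfR =>
      apply_commutator (f := ⟨f, hf⟩) (htriv ⟨f, hf⟩ hfR) ⟨z₀, hz₀⟩ _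
  obtain ⟨hcen2, hUF, -, hdim, m, hm, hrm⟩ := SFMain.exc_facts D hFI hEF hC hU hUN
  have hr : 3 ≤ r := by
    rw [hrm]
    have : 2 ^ 1 ≤ 2 ^ m := Nat.pow_le_pow_right two_pos hm
    omega
  -- an element of `Y` moving the component
  have hgX : ∀ g ∈ Y, g ∈ Subgroup.normalizer (X : Set Γ) := fun g hg => hYX hg
  obtain ⟨y, hy, hblk⟩ := SFMain.exists_moving D hFI hEF hC hU hUN
  obtain ⟨u₀, hu₀, hu₀0⟩ := Submodule.exists_mem_ne_zero_of_ne_bot hU.1
  let χ : Γ → F₁ := fun g => if h : CenterOn σ X U g then (hUF g h).choose else 0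
  have hχ : ∀ g, CenterOn σ X U g → ∀ v ∈ U, σ g v = χ g • v := fun g h v hv => by
    show σ g v = (if h : CenterOn σ X U g then (hUF g h).choose else 0) • v
    rw [dif_pos h]
    exact (hUF g h).choose_spec v hv
  let A₀ : Subgroup Γ := Subgroup.closure
    ({w | ∃ x ∈ X, w = x ^ 2} ∪ {w | ∃ x ∈ X, ∃ x' ∈ X, w = ⁅x, x'⁆})
  have hA₀ : ∀ w ∈ A₀, CenterOn σ X U w := by
    intro w hw
    refine mem_cenSub.mp ((Subgroup.closure_le (cenSub σ X U hU.2.1.1)).mpr ?_ hw)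
    rintro w (⟨x, hx, rfl⟩ | ⟨x, hx, x', hx', rfl⟩)
    · exact hcen2 x hx
    · refine ⟨?_, fun z hz v _ => ?_⟩
      · rw [commutatorElement_def]
        exact X.mul_mem (X.mul_mem (X.mul_mem hx hx') (X.inv_mem hx)) (X.inv_mem hx')
      · rw [show ⁅x, x'⁆ * z = ⁅⁅x, x'⁆, z⁆ * (z * ⁅x, x'⁆) by
          simp only [commutatorElement_def]; group, map_mul, hσ, LX.classTwo x hx x' hx' z hz,
          one_mul]
  have hnormA : ∀ g ∈ Y, ∀ w ∈ A₀, g * w * g⁻¹ ∈ A₀ := by
    intro g hg w hw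
    refine (Subgroup.closure_le (A₀.comap (MulAut.conj g).toMonoidHom)).mpr ?_ hw
    have hc : ∀ x ∈ X, g * x * g⁻¹ ∈ X := fun x hx =>
      (Subgroup.mem_normalizer_iff.mp (hgX g hg) x).mp hx
    rintro w (⟨x, hx, rfl⟩ | ⟨x, hx, x', hx', rfl⟩)
    · refine Subgroup.subset_closure (Or.inl ⟨g * x * g⁻¹, hc x hx, ?_⟩)
      show g * x ^ 2 * g⁻¹ = _
      rw [conj_pow]
    · refine Subgroup.subset_closure (Or.inr ⟨g * x * g⁻¹, hc x hx, g * x' * g⁻¹, hc x' hx', ?_⟩)
      show g * ⁅x, x'⁆ * g⁻¹ = _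
      simp only [commutatorElement_def]
      group
  have hnorm_of : ∀ B : Subgroup Γ, ∀ g, (∀ w ∈ B, g * w * g⁻¹ ∈ B) →
      (∀ w ∈ B, g⁻¹ * w * g ∈ B) → g ∈ Subgroup.normalizer (B : Set Γ) := fun B g h h' =>
    Subgroup.mem_normalizer_iff.mpr fun w => ⟨h w, fun hw => by
      simpa [mul_assoc] using h' _ hw⟩
  have hyA : y ∈ Subgroup.normalizer (A₀ : Set Γ) :=
    hnorm_of A₀ y (hnormA y hy) fun w hw => by simpa using hnormA y⁻¹ (Y.inv_mem hy) w hw
  obtain ⟨e, he⟩ := exists_pow D hy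
  have hinj : Function.Injective (SFDim.translateSum σ y p U) := by
    by_cases hfix : Fixes A₀ χ y
    swap
    · exact SFDim.translateSum_injective σ hyA hp he hfix fun v hv w hw => hχ w (hA₀ w hw) v hv
    have hcen : ∀ g ∈ Y, Fixes A₀ χ g → ∀ x, CenterOn σ X U x →
        CenterOn σ X U (g * x * g⁻¹) := by
      intro g hg hg' x hx
      refine ⟨(Subgroup.mem_normalizer_iff.mp (hgX g hg) x).mp hx.1, fun w hw v hv => ?_⟩
      set w' := g⁻¹ * w * g
      have hw' : w' ∈ X := (Subgroup.mem_normalizer_iff''.mp (hgX g hg) w).mp hw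
      set c := ⁅x, w'⁆
      have hcA : c ∈ A₀ := Subgroup.subset_closure (Or.inr ⟨x, hx.1, w', hw', rfl⟩)
      have hc'A : g * c * g⁻¹ ∈ A₀ := hnormA g hg c hcA
      have hc1 : ∀ u ∈ U, σ c u = u := fun u hu => by
        have ht : σ (x⁻¹ * w'⁻¹) u ∈ U :=
          hU.2.1.1 _ (X.mul_mem (X.inv_mem hx.1) (X.inv_mem hw')) u hu
        have h := hx.2 w' hw' _ ht
        rw [rho_mul_apply, rho_mul_apply,
          show w' * x * (x⁻¹ * w'⁻¹) = 1 by group, map_one, End.one_apply,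
          show x * w' * (x⁻¹ * w'⁻¹) = c by
            simp only [c, commutatorElement_def]; group] at h
        exact h
      have hχc : χ (g * c * g⁻¹) = 1 := by
        rw [← hg' _ hc'A, show g⁻¹ * (g * c * g⁻¹) * g = c by group]
        refine smul_left_injective F₁ hu₀0 ?_
        show χ c • u₀ = (1 : F₁) • u₀
        rw [← hχ c (hA₀ c hcA) u₀ hu₀, hc1 u₀ hu₀, one_smul]
      have hwv : σ (w * (g * x * g⁻¹)) v ∈ U :=
        hU.2.1.1 _ (X.mul_mem hw ((Subgroup.mem_normalizer_iff.mp (hgX g hg) x).mp hx.1)) v hv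
      calc σ (g * x * g⁻¹ * w) v = σ (g * c * g⁻¹) (σ (w * (g * x * g⁻¹)) v) := by
            rw [rho_mul_apply]
            congr 2
            simp only [c, w', commutatorElement_def]
            group
        _ = σ (w * (g * x * g⁻¹)) v := by rw [hχ _ (hA₀ _ hc'A) _ hwv, hχc, one_smul]
    have hfix' : Fixes A₀ χ y⁻¹ := (Subgroup.inv_mem _ (mem_stab.mpr ⟨hyA, hfix⟩)).2
    have hyR : y ∈ Subgroup.normalizer (cenSub σ X U hU.2.1.1 : Set Γ) :=
      hnorm_of _ y (fun x hx => hcen y hy hfix x hx) fun x hx => mem_cenSub.mpr (by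
        simpa using hcen y⁻¹ (Y.inv_mem hy) hfix' x hx)
    refine SFDim.translateSum_injective σ (χ := χ) hyR hp he (fun hf => hblk fun x hx => ?_)
      fun v hv w hw => hχ w hw v hv
    have hC' := hcen y hy hfix x hx
    refine ⟨hC', fun v hv => ?_⟩
    rw [hχ _ hC' v hv, hχ x hx v hv, ← hf _ hC', show y⁻¹ * (y * x * y⁻¹) * y = x by group]
  -- dimensions
  have hMy : ∀ f ∈ MR, σ y f ∈ MR := hMstab y (Or.inr (Or.inl hy))
  have hdimU : finrank F₁ U = r - 1 := by omega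
  have hR : ∀ x, x ∈ R ↔ x ∈ Z ∧ IsScalarOn ρ S x := fun x =>
    ⟨fun h => ⟨h.1, hF x h⟩, fun h => centerOn_of_scalar hH.inv.1 h.1 h.2⟩
  have hd : R.relIndex Z = finrank F S * finrank F S := (hC F Γ V ρ q r Z a S hH).2.2.2 R hR
  have hq3 : 3 ≤ q := by
    have := LZ.prime_s.two_le
    omega
  have hp3 : 3 ≤ p := by
    have := hp.two_le
    omega
  have hbig : 27 ^ (r - 1) ≤ finrank F S * finrank F S := by
    have h1 := SFDim.le_finrank_of_translates σ hinj hUM hMy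
    have h2 := hsect.2 (MR.map (dualSub F₁ Z Q).subtype) (Submodule.map_subtype_le _ _)
      (fun f hf z hz => by obtain ⟨f, hf, rfl⟩ := hf; exact hf z hz)
    rw [Submodule.finrank_map_subtype_eq, hd] at h2
    rw [hdimU] at h1
    calc 27 ^ (r - 1) = 3 ^ (3 * (r - 1)) := by rw [pow_mul]; norm_num
      _ ≤ q ^ (3 * (r - 1)) := Nat.pow_le_pow_left hq3 _
      _ ≤ q ^ finrank F₁ MR := Nat.pow_le_pow_right (by omega)
          ((Nat.mul_le_mul_right _ hp3).trans h1)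
      _ ≤ _ := h2
  have himg := SFDim.le_finrank_image σ hp.pos hinj hUM hMy
  rw [hdimU] at himg
  have hpF : (p : F) ≠ 0 := fun h => by
    obtain ⟨c, hc⟩ := CharP.exists F
    have h1 := (CharP.cast_eq_zero_iff F c p).mp h
    have h2' := (CharP.cast_eq_zero_iff F c 2).mp (by exact_mod_cast h2)
    have h3 := Nat.eq_one_of_dvd_coprimes ((Nat.coprime_primes hp Nat.prime_two).mpr hp2) h1 h2'
    exact CharP.char_ne_one F c h3
  have hmove : ∃ z ∈ Z, ¬ CenterOn ρ Z S ⁅y, z⁆ := by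
    by_contra hall
    push Not at hall
    have h0 : MR.map (σ y - 1) = ⊥ := by
      rw [Submodule.eq_bot_iff]
      rintro _ ⟨f, hf, rfl⟩
      rw [LinearMap.sub_apply, End.one_apply, sub_eq_zero]
      refine Subtype.ext (funext fun z => ?_)
      rw [hσ, dualRep_apply]
      have h := hdiff y f hf ⟨y⁻¹ * z * y, by
        simpa using (inferInstance : Z.Normal).conj_mem z z.2 y⁻¹⟩
        (hall _ (by simpa using (inferInstance : Z.Normal).conj_mem z z.2 y⁻¹))
      rw [← h]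
      exact congrArg _ (Subtype.ext (by group))
    rw [h0, finrank_bot] at himg
    have : 0 < (p - 1) * (r - 1) := Nat.mul_pos (by omega) (by omega)
    omega
  have h5 := SFBound.dim_bound D hC hHy hCC hFH hG hF hH hp hpr hpF he (hYa y hy) (hno y hy) hmove
  have h6 := SFBound.pow_bound hr
  nlinarith

end CfsgLib.TurullFit
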