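import Cfsg.Agent.Lib.TurullFit.TowerBuild

/-!
# Existence of towers

The levels built from the system normalisers are shrunk to minimal invariant supplements; by
induction on the order the group is generated by them, which gives irreducibility under them.
-/

set_option autoImplicit false
set_option linter.style.haveILetI false
set_option linter.unusedSectionVars false

open CfsgLib.FgsB.FixedPointHeight
open scoped commutatorElement

namespace CfsgLib.TurullFit

universe u

variable {Γ : Type u} [Group Γ] [Finite Γ]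
  {G : Subgroup Γ} {a : Γ} {r : ℕ} {K : Nat.Primes → Subgroup Γ}

/-- Shrunk levels. -/
structure Small (a : Γ) (P Q P' : ℕ → Subgroup Γ) (n : ℕ) : Prop where
  le : ∀ k, k < n → P' k ≤ P k
  sup : ∀ k, k < n → P k ≤ P' k ⊔ Q k
  a_norm : ∀ k, k < n → a ∈ Subgroup.normalizer (P' k : Set Γ)
  norm : ∀ i k, i < k → k < n → P' i ≤ Subgroup.normalizer (P' k : Set Γ)
  minimal : ∀ k, k < n → ∀ U : Subgroup Γ, U ≤ P' k → a ∈ Subgroup.normalizer (U : Set Γ) →
    (∀ i, i < k → P' i ≤ Subgroup.normalizer (U : Set Γ)) → P k ≤ U ⊔ Q k → U = P' k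

theorem exists_small {P Q : ℕ → Subgroup Γ} {pr : ℕ → ℕ} {h : ℕ}
    (L : ∀ k, k ≤ h → Lvl G K a r k (P k) (Q k) (pr k)) :
    ∀ n, n ≤ h + 1 → ∃ P', Small a P Q P' n := by
  intro n
  induction n with
  | zero =>
    exact fun _ => ⟨P, fun k hk => absurd hk (Nat.not_lt_zero k),
      fun k hk => absurd hk (Nat.not_lt_zero k), fun k hk => absurd hk (Nat.not_lt_zero k),
      fun i k _ hk => absurd hk (Nat.not_lt_zero k), fun k hk => absurd hk (Nat.not_lt_zero k)⟩
  | succ n ih =>
    intro hn
    obtain ⟨P', S⟩ := ih (Nat.le_of_succ_le hn)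
    have Ln := L n (Nat.lt_succ_iff.1 hn)
    obtain ⟨U, ⟨hU, hUa, hUn, hUs⟩, hmin⟩ := (Set.toFinite
      {U : Subgroup Γ | U ≤ P n ∧ a ∈ Subgroup.normalizer (U : Set Γ) ∧
        (∀ i, i < n → P' i ≤ Subgroup.normalizer (U : Set Γ)) ∧ P n ≤ U ⊔ Q n}).exists_minimal
      ⟨P n, le_rfl, Ln.B_norm (a_mem_opsAt n), fun i hi => (S.le i hi).trans
        (((L i (by omega)).le_Dn.trans (Dn_le_opsAt hi)).trans Ln.B_norm), le_sup_left⟩
    refine ⟨Function.update P' n U, fun k hk => ?_, fun k hk => ?_, fun k hk => ?_,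
      fun i k hik hk => ?_, fun k hk V hV hVa hVn hVs => ?_⟩
    all_goals rcases Nat.lt_or_eq_of_le (Nat.lt_succ_iff.1 hk) with hk' | rfl
    · rw [Function.update_of_ne hk'.ne]; exact S.le k hk'
    · rw [Function.update_self]; exact hU
    · rw [Function.update_of_ne hk'.ne]; exact S.sup k hk'
    · rw [Function.update_self]; exact hUs
    · rw [Function.update_of_ne hk'.ne]; exact S.a_norm k hk'
    · rw [Function.update_self]; exact hUa
    · rw [Function.update_of_ne hk'.ne, Function.update_of_ne (hik.trans hk').ne]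
      exact S.norm i k hik hk'
    · rw [Function.update_self, Function.update_of_ne hik.ne]; exact hUn i hik
    · rw [Function.update_of_ne hk'.ne] at hV ⊢
      refine S.minimal k hk' V hV hVa (fun i hi => ?_) hVs
      have := hVn i hi
      rwa [Function.update_of_ne (hi.trans hk').ne] at this
    · rw [Function.update_self] at hV ⊢
      exact le_antisymm hV (hmin ⟨hV.trans hU, hVa, fun i hi => by
        have := hVn i hi
        rwa [Function.update_of_ne hi.ne] at this, hVs⟩ hV)

/-- The group generated by levels. -/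
def genUpTo (P : ℕ → Subgroup Γ) (h : ℕ) : Subgroup Γ := ⨆ k : ℕ, ⨆ _ : k ≤ h, P k

theorem le_genUpTo {P : ℕ → Subgroup Γ} {h k : ℕ} (hk : k ≤ h) : P k ≤ genUpTo P h :=
  le_iSup₂ (f := fun (j : ℕ) (_ : j ≤ h) => P j) k hk

/-- The shrunk levels generate a group of the same height. -/
theorem res_gen_ne_bot {P Q P' : ℕ → Subgroup Γ} {pr : ℕ → ℕ} {h : ℕ}
    (L : ∀ k, k ≤ h → Lvl G K a r k (P k) (Q k) (pr k))
    (N : ∀ k, k < h → Link P Q pr k) (M : Small a P Q P' (h + 1)) :
    res (genUpTo P' h) h ≠ ⊥ := by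
  set G' := genUpTo P' h
  have key : ∀ k, k ≤ h → ¬ res G' k ⊓ P' k ≤ Q k := by
    intro k
    induction k with
    | zero =>
      intro hk hle
      refine (L 0 hk).not_le ((M.sup 0 (by omega)).trans (sup_le ?_ le_rfl))
      exact (le_inf (le_genUpTo hk) le_rfl).trans hle
    | succ k ih =>
      intro hk hle
      have hk' : k < h := hk
      haveI : Fact (pr k).Prime := ⟨(L k hk'.le).prime⟩
      haveI : Fact (pr (k + 1)).Prime := ⟨(L (k + 1) hk).prime⟩
      set W := res G' k ⊓ P' k with hWdef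
      set P₁ := P' (k + 1) with hP₁def
      have hWP : W ≤ P k := inf_le_right.trans (M.le k (by omega))
      have hW1 : W ≤ Subgroup.normalizer (P₁ : Set Γ) :=
        inf_le_right.trans (M.norm k (k + 1) (Nat.lt_succ_self k) (by omega))
      have hWB : W ≤ Subgroup.normalizer (Q (k + 1) : Set Γ) :=
        ((hWP.trans (L k hk'.le).le_Dn).trans (Dn_le_opsAt (Nat.lt_succ_self k))).trans
          (L (k + 1) hk).B_normQ
      -- the coprime commutator
      have hcop : (Nat.card W).Coprime (Nat.card P₁) := by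
        obtain ⟨i, hi⟩ := IsPGroup.iff_card.1 ((L k hk'.le).isPGroup.to_le hWP)
        obtain ⟨i', hi'⟩ := IsPGroup.iff_card.1
          ((L (k + 1) hk).isPGroup.to_le (M.le (k + 1) (by omega)))
        rw [hi, hi']
        exact Nat.Coprime.pow _ _ ((Nat.coprime_primes (L k hk'.le).prime (L (k + 1) hk).prime).2
          (N k hk').p_ne)
      haveI : Group.IsNilpotent P₁ :=
        ((L (k + 1) hk).isPGroup.to_le (M.le (k + 1) (by omega))).isNilpotent
      set T := ⁅P₁, W⁆ with hT
      have hTT : ⁅T, W⁆ = T :=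
        CfsgLib.Coprime.commutator_commutator_eq hW1 hcop (Or.inr inferInstance)
      have hTP : T ≤ P₁ := CfsgLib.Coprime.commutator_le_of_le_normalizer hW1
      have hWR : W ≤ res G' k := inf_le_left
      have hTR : T ≤ res G' k := by
        refine (Subgroup.commutator_mono le_rfl hWR).trans ?_
        rw [Subgroup.commutator_comm, ← Subgroup.le_normalizer_iff_commutator_le_left]
        exact fun g hg => mem_normalizer_res (Subgroup.le_normalizer (le_genUpTo hk hg)) k
      have hTlcs : ∀ m, T ≤ (res G' k).lowerCentralSeries m := by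
        intro m
        induction m with
        | zero => exact hTR
        | succ m ihm =>
          rw [Subgroup.lowerCentralSeries_succ, ← hTT]
          exact Subgroup.commutator_mono ihm hWR
      have hTres : T ≤ res G' (k + 1) := le_iInf hTlcs
      have hTQ : T ≤ Q (k + 1) := (le_inf hTres hTP).trans hle
      refine ih hk'.le fun x hx => (N k hk').ker_le x (hWP hx) fun d hd => ?_
      have hd' := M.sup (k + 1) (by omega) hd
      rw [← SetLike.mem_coe, Subgroup.coe_mul_of_left_le_normalizer_right _ _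
        ((M.le (k + 1) (by omega)).trans (L (k + 1) hk).self_normQ)] at hd'
      obtain ⟨d', hd', q, hq, rfl⟩ := hd'
      show ⁅x, d' * q⁆ ∈ Q (k + 1)
      rw [show ⁅x, d' * q⁆ = ⁅x, d'⁆ * (d' * ⁅x, q⁆ * d'⁻¹) by
        simp only [commutatorElement_def]; group]
      have h1 : ⁅x, d'⁆ ∈ Q (k + 1) := by
        rw [← commutatorElement_inv]
        exact (Q (k + 1)).inv_mem (hTQ (Subgroup.commutator_mem_commutator hd' hx))
      refine (Q (k + 1)).mul_mem h1 (conj_mem_of_mem_normalizer
        ((L (k + 1) hk).self_normQ (M.le (k + 1) (by omega) hd')) ?_)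
      rw [commutatorElement_def]
      exact (Q (k + 1)).mul_mem (conj_mem_of_mem_normalizer (hWB hx) hq) ((Q (k + 1)).inv_mem hq)
  intro h0
  refine key h le_rfl ?_
  rw [h0]
  exact inf_le_left.trans bot_le

/-- With `G` generated by the shrunk levels, the operators reduce to `a` and those. -/
theorem opsAt_le_normalizer {P Q P' : ℕ → Subgroup Γ} {pr : ℕ → ℕ} {h j : ℕ}
    (L : ∀ k, k ≤ h → Lvl G K a r k (P k) (Q k) (pr k))
    (M : Small a P Q P' (h + 1)) (hG : genUpTo P' h = G) (hj : j ≤ h) {U : Subgroup Γ}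
    (hQU : Q j ≤ U) (hUP : U ≤ P j) (ha : a ∈ Subgroup.normalizer (U : Set Γ))
    (hn : ∀ i, i < j → P' i ≤ Subgroup.normalizer (U : Set Γ)) :
    opsAt G K a j ≤ Subgroup.normalizer (U : Set Γ) := by
  refine opsAt_le ha fun i hi x hx => ?_
  set W := ⨆ i : ℕ, ⨆ _ : i < j, P' i with hW
  set Z := ⨆ i : ℕ, ⨆ _ : j < i ∧ i ≤ h, P' i with hZ
  have hYZ : W ⊔ P' j ≤ Subgroup.normalizer (Z : Set Γ) :=
    sup_le (iSup₂_le fun i' hi' g hg => mem_normalizer_iSup fun m => mem_normalizer_iSup fun hm =>
        M.norm i' m (hi'.trans hm.1) (Nat.lt_succ_of_le hm.2) hg)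
      fun g hg => mem_normalizer_iSup fun m => mem_normalizer_iSup fun hm =>
        M.norm j m hm.1 (Nat.lt_succ_of_le hm.2) hg
  have hGle : G ≤ (W ⊔ P' j) ⊔ Z := by
    rw [← hG]
    refine iSup₂_le fun k hk => ?_
    rcases lt_trichotomy k j with h1 | rfl | h1
    · exact (le_iSup₂ (f := fun (i : ℕ) (_ : i < j) => P' i) k h1).trans
        (le_sup_left.trans le_sup_left)
    · exact le_sup_right.trans le_sup_left
    · exact (le_iSup₂ (f := fun (i : ℕ) (_ : j < i ∧ i ≤ h) => P' i) k ⟨h1, hk⟩).trans le_sup_right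
  have hZres : Z ≤ res G (j + 1) := iSup₂_le fun m hm =>
    (M.le m (Nat.lt_succ_of_le hm.2)).trans (((L m hm.2).le_Dn.trans (Dn_le m)).trans
      (res_antitone G hm.1))
  have hx' : x ∈ (W ⊔ P' j) ⊔ Z := hGle (Dn_le_self i hx)
  rw [← SetLike.mem_coe, Subgroup.coe_mul_of_left_le_normalizer_right _ _ hYZ] at hx'
  obtain ⟨y, hy, z, hz, rfl⟩ := hx'
  have hWP : W ⊔ P' j ≤ Subgroup.normalizer (P j : Set Γ) :=
    sup_le (iSup₂_le fun i' hi' => ((M.le i' (by omega)).trans
      ((L i' (by omega)).le_Dn.trans (Dn_le_opsAt hi'))).trans (L j hj).B_norm)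
      ((M.le j (by omega)).trans Subgroup.le_normalizer)
  have hzP : z ∈ Subgroup.normalizer (P j : Set Γ) := by
    have h1 := mul_mem (inv_mem (hWP hy)) ((L j hj).B_norm (Dn_le_opsAt hi hx))
    rwa [show y⁻¹ * (y * z) = z by group] at h1
  have hzG : z ∈ res G (j + 1) := hZres hz
  have hzU : z ∈ Subgroup.normalizer (U : Set Γ) := by
    refine mem_normalizer_of_conj_mem fun u hu => ?_
    have huP : u ∈ P j := hUP hu
    have hc : ⁅z, u⁆ ∈ Q j := by
      refine (L j hj).lay ⟨?_, ?_⟩
      · rw [commutatorElement_def]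
        exact (P j).mul_mem (conj_mem_of_mem_normalizer hzP huP) ((P j).inv_mem huP)
      · have hug : u ∈ Subgroup.normalizer (res G (j + 1) : Set Γ) :=
          mem_normalizer_res (Subgroup.le_normalizer (Dn_le_self j ((L j hj).le_Dn huP))) _
        rw [show ⁅z, u⁆ = z * (u * z⁻¹ * u⁻¹) by simp only [commutatorElement_def]; group]
        exact mul_mem hzG (conj_mem_of_mem_normalizer hug (inv_mem hzG))
    rw [show z * u * z⁻¹ = ⁅z, u⁆ * u by simp only [commutatorElement_def]; group]
    exact U.mul_mem (hQU hc) hu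
  have hyU : W ⊔ P' j ≤ Subgroup.normalizer (U : Set Γ) := by
    refine sup_le (iSup₂_le hn) fun g hg => mem_normalizer_of_conj_mem fun u hu => ?_
    rw [show g * u * g⁻¹ = ⁅g, u⁆ * u by simp only [commutatorElement_def]; group]
    exact U.mul_mem (hQU ((L j hj).comm g (M.le j (by omega) hg) u (hUP hu))) hu
  exact mul_mem (hyU hy) hzU

/-- Towers exist, by induction on the order. -/
theorem exists_tower : ∀ (n : ℕ) (G : Subgroup Γ) (a : Γ) (r h : ℕ), Nat.card G ≤ n →
    a ∈ Subgroup.normalizer (G : Set Γ) → Group.IsSolvable G → r.Prime → a ^ r = 1 →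
    ¬ r ∣ Nat.card G → res G h ≠ ⊥ →
    ∃ (P Q : ℕ → Subgroup Γ) (p : ℕ → ℕ), Tower G a r (h + 1) P Q p := by
  intro n
  induction n with
  | zero =>
    intro G a r h hn
    exact absurd hn (Nat.not_le.2 Nat.card_pos)
  | succ n ih =>
    intro G a r h hn ha hs hr hpow hnd hne
    obtain ⟨K, S⟩ := exists_sys ha hs hr hpow hnd
    obtain ⟨P, Q, pr, L, N⟩ := S.exists_levels_top hne
    obtain ⟨P', M⟩ := exists_small L (h + 1) le_rfl
    have hle : genUpTo P' h ≤ G := iSup₂_le fun k hk =>
      (M.le k (by omega)).trans ((L k hk).le_Dn.trans (Dn_le_self k))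
    have hne' := res_gen_ne_bot L N M
    by_cases hlt : genUpTo P' h = G
    swap
    · have hcard : Nat.card (genUpTo P' h) < Nat.card G := by
        refine lt_of_le_of_ne (Subgroup.card_le_of_le hle) fun e => hlt ?_
        exact Subgroup.eq_of_le_of_card_ge hle e.ge
      haveI := hs
      obtain ⟨P₁, Q₁, p₁, T⟩ := ih (genUpTo P' h) a r h (by omega)
        (mem_normalizer_iSup fun k => mem_normalizer_iSup fun hk => M.a_norm k (by omega))
        (Group.isSolvable_of_isSolvable_injective (Subgroup.inclusion_injective hle)) hr hpow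
        (fun hd => hnd (hd.trans (Subgroup.card_dvd_of_le hle))) hne'
      exact ⟨P₁, Q₁, p₁, { T with le := fun j hj => (T.le j hj).trans hle }⟩
    refine ⟨P', fun k => P' k ⊓ Q k, pr, ?_⟩
    -- decomposition modulo `Q`
    have hdec : ∀ k, k ≤ h → ∀ x ∈ P k, ∃ u ∈ P' k, ∃ q ∈ Q k, x = u * q := by
      intro k hk x hx
      have h1 := M.sup k (by omega) hx
      rw [← SetLike.mem_coe, Subgroup.coe_mul_of_left_le_normalizer_right _ _
        ((M.le k (by omega)).trans (L k hk).self_normQ)] at h1
      obtain ⟨u, hu, q, hq, e⟩ := h1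
      exact ⟨u, hu, q, hq, e.symm⟩
    have hP'i : ∀ i k, i < k → k ≤ h → P' i ≤ opsAt G K a k := fun i k hik hk =>
      (M.le i (by omega)).trans ((L i (by omega)).le_Dn.trans (Dn_le_opsAt hik))
    have hcommP : ∀ k, k ≤ h → ∀ x ∈ P' k, ∀ y ∈ P' k, ⁅x, y⁆ ∈ P' k := by
      intro k _ x hx y hy
      rw [commutatorElement_def]
      exact (P' k).mul_mem ((P' k).mul_mem ((P' k).mul_mem hx hy) ((P' k).inv_mem hx))
        ((P' k).inv_mem hy)
    -- the kernels do not change
    have hker : ∀ k, k < h → ∀ x ∈ P' k,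
        (InKer P' (fun i => P' i ⊓ Q i) k x ↔ InKer P Q k x) := by
      intro k hk x hx
      have hxo : x ∈ opsAt G K a (k + 1) := hP'i k (k + 1) (Nat.lt_succ_self k) hk hx
      refine ⟨fun hi d hd => ?_, fun hi d hd => ⟨?_, hi d (M.le (k + 1) (by omega) hd)⟩⟩
      · obtain ⟨u, hu, q, hq, rfl⟩ := hdec (k + 1) hk d hd
        rw [show ⁅x, u * q⁆ = ⁅x, u⁆ * (u * ⁅x, q⁆ * u⁻¹) by
          simp only [commutatorElement_def]; group]
        refine (Q (k + 1)).mul_mem (hi u hu).2 (conj_mem_of_mem_normalizer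
          ((L (k + 1) hk).self_normQ (M.le (k + 1) (by omega) hu)) ?_)
        rw [commutatorElement_def]
        exact (Q (k + 1)).mul_mem (conj_mem_of_mem_normalizer ((L (k + 1) hk).B_normQ hxo) hq)
          ((Q (k + 1)).inv_mem hq)
      · show ⁅x, d⁆ ∈ P' (k + 1)
        rw [commutatorElement_def]
        exact (P' (k + 1)).mul_mem (conj_mem_of_mem_normalizer
          (M.norm k (k + 1) (Nat.lt_succ_self k) (by omega) hx) hd) ((P' (k + 1)).inv_mem hd)
    -- invariant subgroups between the levels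
    have hirr : ∀ j, j ≤ h → ∀ U : Subgroup Γ, U ≤ P' j →
        a ∈ Subgroup.normalizer (U : Set Γ) →
        (∀ i, i < j → P' i ≤ Subgroup.normalizer (U : Set Γ)) →
        U ≤ Q j ∨ P j ≤ U ⊔ Q j := by
      intro j hj U hU hUa hUn
      have hle' : U ⊔ Q j ≤ P j := sup_le (hU.trans (M.le j (by omega))) (L j hj).Q_le
      rcases (L j hj).irred (U ⊔ Q j) le_sup_right hle'
        (opsAt_le_normalizer L M hlt hj le_sup_right hle'
          (mem_normalizer_sup hUa ((L j hj).B_normQ (a_mem_opsAt j))) fun i hi g hg =>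
            mem_normalizer_sup (hUn i hi hg) ((L j hj).B_normQ (hP'i i j hi hj hg))) with e | e
      · exact Or.inl (le_sup_left.trans e.le)
      · exact Or.inr e.ge
    refine
      { prime := fun j hj => (L j (by omega)).prime
        ne_r := fun j hj => (L j (by omega)).ne_r
        isPGroup := fun j hj => (L j (by omega)).isPGroup.to_le (M.le j hj)
        le := fun j hj => ((M.le j hj).trans (L j (by omega)).le_Dn).trans (Dn_le_self j)
        Q_le := fun j _ => inf_le_left
        ne := fun j hj hle' => (L j (by omega)).not_le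
          ((M.sup j hj).trans (sup_le (hle'.trans inf_le_right) le_rfl))
        a_norm := fun j hj => M.a_norm j hj
        a_normQ := fun j hj => mem_normalizer_inf (M.a_norm j hj)
          ((L j (by omega)).B_normQ (a_mem_opsAt j))
        norm := fun i j hij hj => ?_
        normQ := fun i j hij hj => ?_
        pow := fun j hj x hx => ⟨(P' j).pow_mem hx _, (L j (by omega)).pow x (M.le j hj hx)⟩
        comm := fun j hj x hx y hy => ⟨hcommP j (by omega) x hx y hy,
          (L j (by omega)).comm x (M.le j hj hx) y (M.le j hj hy)⟩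
        p_ne := fun j hj => (N j (by omega)).p_ne
        ker_le := fun j hj x hx hk => ⟨hx, (N j (by omega)).ker_le x (M.le j (by omega) hx)
          ((hker j (by omega) x hx).1 hk)⟩
        cent := fun j hj x hx y hy => (hker j (by omega) _ (hcommP j (by omega) x hx.1 y hy)).2
          ((N j (by omega)).cent x hx.2 y (M.le j (by omega) hy))
        spec := fun j hj => ?_
        irred := fun j hj U hQU hUP hUa hUn => ?_
        minimal := fun j hj U hUP hUa hUn => ?_ }
    · rcases Nat.lt_or_eq_of_le hij with h1 | rfl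
      · exact M.norm i j h1 hj
      · exact Subgroup.le_normalizer
    · rcases Nat.lt_or_eq_of_le hij with h1 | rfl
      · exact fun g hg => mem_normalizer_inf (M.norm i j h1 hj hg)
          ((L j (by omega)).B_normQ (hP'i i j h1 (by omega) hg))
      · exact fun g hg => mem_normalizer_inf (Subgroup.le_normalizer hg)
          ((L i (by omega)).self_normQ (M.le i hj hg))
    · have hjh : j < h := by omega
      rcases (N j hjh).spec with h1 | h1
      · exact Or.inl fun x hx => (hker j hjh x hx.1).2 (h1 x hx.2)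
      refine Or.inr fun x hx hc => ⟨hx, h1 x (M.le j (by omega) hx) fun y hy => ?_⟩
      have hsup : P j ≤ P' j ⊔ Q j := M.sup j (by omega)
      obtain ⟨u, hu, hyu⟩ := (N j hjh).gen (P' j) (M.le j (by omega)) hsup y hy
      have hxu := (hker j hjh _ (hcommP j hjh.le x hx u hu)).1 (hc u hu)
      -- `[x, u c] = [x, u] u [x, c] u⁻¹` with `c` in the kernel
      set c := u⁻¹ * y with hcdef
      have hP : P j ≤ opsAt G K a (j + 1) := (L j hjh.le).le_Dn.trans (Dn_le_opsAt (Nat.lt_succ_self j))
      have hnP : ∀ g ∈ P j, g ∈ Subgroup.normalizer (P (j + 1) : Set Γ) := fun g hg =>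
        (L (j + 1) hjh).B_norm (hP hg)
      have hnQ : ∀ g ∈ P j, g ∈ Subgroup.normalizer (Q (j + 1) : Set Γ) := fun g hg =>
        (L (j + 1) hjh).B_normQ (hP hg)
      have hxP : x ∈ P j := M.le j (by omega) hx
      have huP : u ∈ P j := M.le j (by omega) hu
      have hcP : c ∈ P j := (P j).mul_mem ((P j).inv_mem huP) hy
      have hcK : c ∈ kerS (P j) (P (j + 1)) (Q (j + 1)) := ⟨hcP, hnQ c hcP, hyu⟩
      have hconj : ∀ g ∈ P j, g * c * g⁻¹ ∈ kerS (P j) (P (j + 1)) (Q (j + 1)) := fun g hg =>
        conj_mem_of_mem_normalizer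
          (normalizer_le_kerS (Subgroup.le_normalizer hg) (hnP g hg) (hnQ g hg)) hcK
      have hprod : ⁅x, y⁆ ∈ kerS (P j) (P (j + 1)) (Q (j + 1)) := by
        rw [show y = u * c by rw [hcdef]; group,
          show ⁅x, u * c⁆ = ⁅x, u⁆ * ((u * x) * c * (u * x)⁻¹ * (u * c * u⁻¹)⁻¹) by
            simp only [commutatorElement_def]; group]
        exact mul_mem ⟨M.le j (by omega) (hcommP j hjh.le x hx u hu),
          hnQ _ (M.le j (by omega) (hcommP j hjh.le x hx u hu)), hxu⟩
          (mul_mem (hconj _ ((P j).mul_mem huP hxP)) (inv_mem (hconj u huP)))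
      exact hprod.2.2
    · rcases hirr j (by omega) U hUP hUa hUn with h1 | h1
      · exact Or.inl (le_antisymm (le_inf hUP h1) hQU)
      · refine Or.inr (le_antisymm hUP fun x hx => ?_)
        have hn' : U ≤ Subgroup.normalizer (Q j : Set Γ) :=
          (hUP.trans (M.le j hj)).trans (L j (by omega)).self_normQ
        have h2 := h1 (M.le j hj hx)
        rw [← SetLike.mem_coe, Subgroup.coe_mul_of_left_le_normalizer_right _ _ hn'] at h2
        obtain ⟨u, hu, q, hq, rfl⟩ := h2
        refine U.mul_mem hu (hQU ⟨?_, hq⟩)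
        have := (P' j).mul_mem ((P' j).inv_mem (hUP hu)) hx
        simpa using this
    · rcases hirr j (by omega) U hUP hUa hUn with h1 | h1
      · exact Or.inl (le_inf hUP h1)
      · exact Or.inr (M.minimal j (by omega) U hUP hUa hUn h1)

/-- A solvable group with nontrivial iterated residual has a tower. -/
theorem tower : StmtTower.{u} := by
  intro Γ _ _ G a r h hG hs hr hpow hnd hne
  haveI := hG
  exact exists_tower (Nat.card G) G a r h le_rfl (by rw [Subgroup.normalizer_eq_top]; trivial)
    hs hr hpow hnd hne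

end CfsgLib.TurullFit
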