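import Cfsg.Agent.Lib.TurullFit.TopStmt

/-!
# Turull's bound for the Fitting height: from the residual form to nilpotent series

An automorphism of prime order gives a semidirect product in which the residual form applies.
-/

set_option autoImplicit false
set_option linter.style.haveILetI false

namespace CfsgLib.TurullFit

open CfsgLib.FgsB.FixedPointHeight

universe u

/-- Trivial iterated residuals give a nilpotent series. -/
theorem series_of_res_eq_bot {H : Type u} [Group H] [Finite H] (n : ℕ)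
    (h : res (⊤ : Subgroup H) n = ⊥) :
    ∃ F : Fin (n + 1) → Subgroup H, F 0 = ⊥ ∧ F (Fin.last n) = ⊤ ∧ Monotone F ∧
      (∀ i, (F i).Normal) ∧
      ∀ i : Fin n, ∃ k : ℕ, (F i.succ).lowerCentralSeries k ≤ F i.castSucc := by
  refine ⟨fun i => res ⊤ (n - i), by simpa using h, by simp [res],
    Fin.monotone_iff_le_succ.mpr fun i => ?_, fun i => res_normal _, fun i => ?_⟩
  all_goals
    have e : n - (i.castSucc : ℕ) = n - (i.succ : ℕ) + 1 := by
      have := i.2; simp; omega
  · show res ⊤ (n - (i.castSucc : ℕ)) ≤ res ⊤ (n - (i.succ : ℕ))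
    rw [e]; exact res_succ_le _ _
  · obtain ⟨k, hk⟩ := exists_series_eq (⊤ : Subgroup H) (n - (i.succ : ℕ))
    refine ⟨k, ?_⟩
    show (res ⊤ (n - (i.succ : ℕ))).lowerCentralSeries k ≤ res ⊤ (n - (i.castSucc : ℕ))
    rw [e, hk k le_rfl]

/-- The bound for the automorphism from the bound for residuals. -/
theorem s4363_of_top (hTop : StmtTop.{u}) {G : Type u} [Group G] [Finite G]
    (hG : Group.IsSolvable G) (σ : MulAut G) (r : ℕ) (hr : r.Prime) (hσ : orderOf σ = r)
    (hcop : ¬ r ∣ Nat.card G) (C : Subgroup G) (hC : ∀ g : G, g ∈ C ↔ σ g = g) (n : ℕ)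
    (hn : ∃ F : Fin (n + 1) → Subgroup ↥C, F 0 = ⊥ ∧ F (Fin.last n) = ⊤ ∧ Monotone F ∧
      (∀ i, (F i).Normal) ∧
      ∀ i : Fin n, ∃ k : ℕ, (F i.succ).lowerCentralSeries k ≤ F i.castSucc) :
    ∃ F : Fin ((n + 2) + 1) → Subgroup G, F 0 = ⊥ ∧ F (Fin.last (n + 2)) = ⊤ ∧ Monotone F ∧
      (∀ i, (F i).Normal) ∧
      ∀ i : Fin (n + 2), ∃ k : ℕ, (F i.succ).lowerCentralSeries k ≤ F i.castSucc := by
  classical
  let A : Subgroup (MulAut G) := Subgroup.zpowers σ
  let φ : A →* MulAut G := A.subtype
  haveI : Finite (MulAut G) :=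
    Finite.of_injective (fun f : MulAut G => (f : G → G)) fun _ _ h => MulEquiv.ext fun x => congrFun h x
  let S := SemidirectProduct G A φ
  haveI : Finite S := Finite.of_equiv _ SemidirectProduct.equivProd.symm
  let Gs : Subgroup S := (SemidirectProduct.inl : G →* S).range
  have hGn : Gs.Normal := by
    show (SemidirectProduct.inl : G →* S).range.Normal
    rw [SemidirectProduct.range_inl_eq_ker_rightHom]
    infer_instance
  have hGs : Group.IsSolvable Gs :=
    Group.isSolvable_of_surjective (MonoidHom.rangeRestrict_surjective (SemidirectProduct.inl : G →* S))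
  let a : S := SemidirectProduct.inr ⟨σ, Subgroup.mem_zpowers σ⟩
  have har : a ^ r = 1 := by
    rw [← map_pow, show (⟨σ, Subgroup.mem_zpowers σ⟩ : A) ^ r = 1 from
      Subtype.ext (by rw [SubgroupClass.coe_pow, ← hσ, pow_orderOf_eq_one, OneMemClass.coe_one]),
      map_one]
  have hcard : ¬ r ∣ Nat.card Gs := by
    rwa [show Nat.card Gs = Nat.card G from (Nat.card_congr
      (MonoidHom.ofInjective SemidirectProduct.inl_injective).toEquiv).symm]
  have hfix : Gs ⊓ Subgroup.centralizer {a} = C.map (SemidirectProduct.inl : G →* S) := by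
    have hconj : ∀ x : G, a * SemidirectProduct.inl x * a⁻¹ = (SemidirectProduct.inl (σ x) : S) :=
      fun x => by rw [← map_inv]; exact (SemidirectProduct.inl_aut _ x).symm
    ext s
    constructor
    · rintro ⟨⟨x, rfl⟩, hx⟩
      refine ⟨x, (hC x).2 (SemidirectProduct.inl_injective (φ := φ) ?_), rfl⟩
      rw [← hconj, ← Subgroup.mem_centralizer_singleton_iff.mp hx, mul_inv_cancel_right]
    · rintro ⟨x, hx, rfl⟩
      refine ⟨⟨x, rfl⟩, Subgroup.mem_centralizer_singleton_iff.mpr ?_⟩
      have h1 := hconj x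
      rw [(hC x).1 hx, mul_inv_eq_iff_eq_mul] at h1
      exact h1.symm
  obtain ⟨F, hF0, hFt, -, -, hF⟩ := hn
  have hCn : res C n = ⊥ := by
    have h0 := res_le_of_chain F hFt hF 0
    rw [hF0, le_bot_iff, Fin.val_zero, Nat.sub_zero] at h0
    have h2 := map_res C.subtype ⊤ n
    rw [← MonoidHom.range_eq_map, Subgroup.range_subtype, h0, Subgroup.map_bot] at h2
    exact h2.symm
  have hbot := hTop S Gs a r n hGn hGs hr har hcard (by
    rw [hfix, ← map_res, hCn, Subgroup.map_bot])
  refine series_of_res_eq_bot (n + 2) ?_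
  have hmap := map_res (SemidirectProduct.inl : G →* S) ⊤ (n + 2)
  rw [← MonoidHom.range_eq_map] at hmap
  exact (Subgroup.map_eq_bot_iff_of_injective _ SemidirectProduct.inl_injective).mp (hmap.trans hbot)

end CfsgLib.TurullFit
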