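import Cfsg.Agent.Lib.TurullFit.Main
import Cfsg.Agent.Lib.TurullFit.CaseExc
import Cfsg.Agent.Lib.TurullFit.Core
import Cfsg.Agent.Lib.TurullFit.Struct
import Cfsg.Agent.Lib.TurullFit.CountExc
import Cfsg.Agent.Lib.TurullFit.CountHalf
import Cfsg.Agent.Lib.TurullFit.ExcStab
import Cfsg.Agent.Lib.TurullFit.Tower
import Cfsg.Agent.Lib.TurullFit.SmallComm
import Cfsg.Agent.Lib.TurullFit.SmallFix
import Cfsg.Agent.Lib.TurullFit.Hyper
import Cfsg.Agent.Lib.TurullFit.Wrapper

/-!
# Turull's bound for the Fitting height: assembly
-/

set_option autoImplicit false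

namespace CfsgLib.TurullFit

universe u

/-- The parts of the proof, from the hyperplane lemma. -/
theorem parts_of_hyper (hH : StmtHyper.{u}) : Parts.{u} where
  semi := semisimple
  moved := movedFix
  uniform := uniformFixer
  exc := excFacts
  stab := excStab
  core := core semisimple
  tne := tne semisimple
  hyper := hH
  smallComm := smallComm hH commCount count fixedIrr
  smallFix := smallFix semisimple fixedIrr excFacts count hH commCount fixHalf

/-- The residual form of Turull's bound, from the hyperplane lemma. -/
theorem top_of_hyper (hH : StmtHyper.{u}) : StmtTop.{u} :=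
  top_of_parts (parts_of_hyper hH)
    (fun {Γ} _ _ {P Q p G a r h} T hr har {k} hk hb hn _ hng =>
      T.case_exc (parts_of_hyper hH) hr har hk hb hn hng) tower

/-- The residual form of Turull's bound. -/
theorem top : StmtTop.{u} :=
  top_of_hyper (hyper fixedIrr)

end CfsgLib.TurullFit
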