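import Cfsg.Agent.Lib.TurullFit.Stmts

/-!
# Elements fixing the traces: subgroups central on a subspace, weights, projections

The basic facts behind `StmtHyper`: the centre of the action of `X` on an invariant subspace,
the projection on a weight space of a central subgroup, and the part of a central subgroup on
which `a` has no fixed points.
-/

set_option autoImplicit false
set_option linter.style.haveILetI false
set_option linter.unusedSectionVars false

open Module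
open scoped commutatorElement

namespace CfsgLib.TurullFit.Hy

open CfsgLib.FgsC.HallHigman CfsgLib.FgsC.CoprimeWeights

variable {F : Type*} [Field F] {Γ : Type*} [Group Γ] {V : Type*} [AddCommGroup V] [Module F V]
  {ρ : Representation F Γ V}

section elementary

theorem rho_conj_apply (g x : Γ) (v : V) : ρ (g * x * g⁻¹) (ρ g v) = ρ g (ρ x v) := by
  rw [rho_mul_apply, rho_mul_apply, inv_mul_cancel_right]

theorem rho_inj {g : Γ} {u v : V} (h : ρ g u = ρ g v) : u = v := by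
  rw [← rho_apply_inv (ρ := ρ) g u, h, rho_apply_inv]

theorem rho_comm_apply {g k : Γ} (h : g * k = k * g) (v : V) : ρ g (ρ k v) = ρ k (ρ g v) := by
  rw [rho_mul_apply, h, rho_mul_apply]

theorem conj_mem' {A : Subgroup Γ} {g x : Γ} (hg : g ∈ Subgroup.normalizer (A : Set Γ))
    (hx : x ∈ A) : g * x * g⁻¹ ∈ A :=
  (Subgroup.mem_normalizer_iff.mp hg x).mp hx

theorem mem_normalizer_of_conj [Finite Γ] {A : Subgroup Γ} {g : Γ}
    (h : ∀ x ∈ A, g * x * g⁻¹ ∈ A) : g ∈ Subgroup.normalizer (A : Set Γ) :=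
  Subgroup.mem_normalizer_fintype h

variable [Finite Γ]

theorem pow_orderOf_stable {U : Submodule F V} {g : Γ} (hg : ∀ v ∈ U, ρ g v ∈ U) :
    ∀ (n : ℕ), ∀ v ∈ U, ρ (g ^ n) v ∈ U := by
  intro n
  induction n with
  | zero => intro v hv; rw [pow_zero, map_one, End.one_apply]; exact hv
  | succ n ih => intro v hv; rw [pow_succ', map_mul, End.mul_apply]; exact hg _ (ih v hv)

theorem inv_stable {U : Submodule F V} {g : Γ} (hg : ∀ v ∈ U, ρ g v ∈ U) :
    ∀ v ∈ U, ρ g⁻¹ v ∈ U := by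
  intro v hv
  rw [show g⁻¹ = g ^ (orderOf g - 1) by
    refine inv_eq_of_mul_eq_one_left ?_
    rw [← pow_succ, Nat.sub_add_cancel (orderOf_pos g), pow_orderOf_eq_one]]
  exact pow_orderOf_stable hg _ v hv

theorem mem_stabSub_of_stable {U : Submodule F V} {g : Γ} (hg : ∀ v ∈ U, ρ g v ∈ U) :
    g ∈ stabSub ρ U := fun v =>
  ⟨fun h => by rw [← rho_apply_inv (ρ := ρ) g v]; exact inv_stable hg _ h, hg v⟩

theorem fix_inv {v : V} {g : Γ} (hg : ρ g v = v) : ρ g⁻¹ v = v := by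
  conv_lhs => rw [← hg]
  exact rho_apply_inv g v

end elementary

section trace

variable (ρ) in
/-- The trace of `a`. -/
abbrev tr (a : Γ) (r : ℕ) : End F V := normEnd ρ a r

theorem rho_tr [Finite Γ] {a : Γ} {r : ℕ} (ha : a ^ r = 1) (v : V) : ρ a (tr ρ a r v) = tr ρ a r v := by
  rw [← End.mul_apply, show ρ a * tr ρ a r = tr ρ a r by
    have h := pow_mul_normEnd (ρ := ρ) ha 1
    rwa [pow_one] at h]

theorem tr_of_fix {a : Γ} {r : ℕ} {v : V} (hv : ρ a v = v) : tr ρ a r v = (r : F) • v := by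
  have h : ∀ i : ℕ, ρ (a ^ i) v = v := by
    intro i
    induction i with
    | zero => rw [pow_zero, map_one, End.one_apply]
    | succ i ih => rw [pow_succ', map_mul, End.mul_apply, ih, hv]
  rw [tr, normEnd_apply, Finset.sum_congr rfl (fun (i : Fin r) _ => h i), Finset.sum_const,
    Finset.card_univ, Fintype.card_fin, Nat.cast_smul_eq_nsmul]

theorem tr_mem {a : Γ} {r : ℕ} {U : Submodule F V} (hU : ∀ v ∈ U, ρ a v ∈ U) {v : V} (hv : v ∈ U) :
    tr ρ a r v ∈ U := by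
  rw [tr, normEnd_apply]
  refine sum_mem fun i _ => ?_
  generalize (i : ℕ) = n
  induction n with
  | zero => rw [pow_zero, map_one, End.one_apply]; exact hv
  | succ n ih => rw [pow_succ', map_mul, End.mul_apply]; exact hU _ ih

theorem tr_map {a : Γ} {r : ℕ} {π : End F V} {W : Submodule F V} (hWa : ∀ v ∈ W, ρ a v ∈ W)
    (hπ : ∀ v ∈ W, π (ρ a v) = ρ a (π v)) {v : V} (hv : v ∈ W) :
    π (tr ρ a r v) = tr ρ a r (π v) := by
  rw [tr, normEnd_apply, normEnd_apply, map_sum]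
  refine Finset.sum_congr rfl fun i _ => ?_
  generalize (i : ℕ) = n
  suffices ∀ n : ℕ, ρ (a ^ n) v ∈ W ∧ π (ρ (a ^ n) v) = ρ (a ^ n) (π v) from (this n).2
  intro n
  induction n with
  | zero => rw [pow_zero, map_one, End.one_apply, End.one_apply]; exact ⟨hv, rfl⟩
  | succ n ih =>
    rw [pow_succ', map_mul, End.mul_apply, End.mul_apply]
    exact ⟨hWa _ ih.1, by rw [hπ _ ih.1, ih.2]⟩

theorem tr_comm {a g : Γ} {r : ℕ} (h : a * g = g * a) (v : V) :
    tr ρ a r (ρ g v) = ρ g (tr ρ a r v) := by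
  rw [tr, normEnd_apply, normEnd_apply, map_sum]
  exact Finset.sum_congr rfl fun i _ => rho_comm_apply ((Commute.pow_left h _).eq) v

theorem r_smul_mem {F : Type*} [Field F] {V : Type*} [AddCommGroup V] [Module F V] {c : F}
    (hc : c ≠ 0) {U : Submodule F V} {v : V} (h : c • v ∈ U) : v ∈ U := by
  have := U.smul_mem c⁻¹ h
  rwa [smul_smul, inv_mul_cancel₀ hc, one_smul] at this

end trace

section central

variable (ρ) in
/-- The elements of `X` commuting with `X` on an invariant subspace. -/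
def cen (X : Subgroup Γ) (U : Submodule F V) (hU : StableUnder ρ X U) : Subgroup Γ where
  carrier := {x | CenterOn ρ X U x}
  mul_mem' := fun {x x'} hx hx' => ⟨X.mul_mem hx.1 hx'.1, fun z hz v hv => by
    have h1 := hx.2 z hz (ρ x' v) (hU x' hx'.1 v hv)
    have h2 := hx'.2 z hz v hv
    simp only [map_mul, End.mul_apply] at h1 h2 ⊢
    rw [h2, h1]⟩
  one_mem' := ⟨X.one_mem, fun z _ v _ => by rw [one_mul, mul_one]⟩
  inv_mem' := fun {x} hx => ⟨X.inv_mem hx.1, fun z hz v hv => by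
    have h := hx.2 z hz (ρ x⁻¹ v) (hU _ (X.inv_mem hx.1) v hv)
    simp only [map_mul, End.mul_apply] at h ⊢
    rw [rho_inv_apply] at h
    rw [← h, rho_apply_inv]⟩

theorem mem_cen {X : Subgroup Γ} {U : Submodule F V} {hU : StableUnder ρ X U} {x : Γ} :
    x ∈ cen ρ X U hU ↔ CenterOn ρ X U x := Iff.rfl

theorem cen_le {X : Subgroup Γ} {U : Submodule F V} {hU : StableUnder ρ X U} :
    cen ρ X U hU ≤ X := fun _ hx => hx.1

theorem cen_normalizer [Finite Γ] {X : Subgroup Γ} {U : Submodule F V} {hU : StableUnder ρ X U}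
    {g : Γ} (hg : g ∈ Subgroup.normalizer (X : Set Γ)) (hgU : ∀ v ∈ U, ρ g v ∈ U) :
    g ∈ Subgroup.normalizer (cen ρ X U hU : Set Γ) := by
  refine mem_normalizer_of_conj fun x hx => ⟨conj_mem' hg hx.1, fun z hz v hv => ?_⟩
  obtain ⟨w, hw, rfl⟩ : ∃ w ∈ U, ρ g w = v :=
    ⟨ρ g⁻¹ v, inv_stable hgU v hv, rho_inv_apply g v⟩
  have h := hx.2 (g⁻¹ * z * g) (conj_mem hg hz) w hw
  rw [rho_mul_apply, rho_mul_apply, show g * x * g⁻¹ * z * g = g * (x * (g⁻¹ * z * g)) by group,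
    show z * (g * x * g⁻¹) * g = g * (g⁻¹ * z * g * x) by group, ← rho_mul_apply g,
    ← rho_mul_apply g, h]

/-- A central element commuting with `a` acts on a component as a scalar. -/
theorem scalar_of_comm [IsAlgClosed F] [FiniteDimensional F V] {X : Subgroup Γ} {a : Γ}
    {S : Submodule F V} (hS : Comp ρ X a S) {q : Γ} (hq : CenterOn ρ X S q)
    (hqa : ∀ v ∈ S, ρ (a * q * a⁻¹) v = ρ q v) : IsScalarOn ρ S q := by
  haveI : Nontrivial S := Submodule.nontrivial_iff_ne_bot.mpr hS.1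
  obtain ⟨c, hc⟩ := End.exists_eigenvalue ((ρ q).restrict (hS.2.1.1 q hq.1))
  obtain ⟨u, hu, hu0⟩ := Submodule.exists_mem_ne_zero_of_ne_bot hc
  let W : Submodule F V := S ⊓ End.eigenspace (ρ q) c
  have hW : W = S := by
    refine hS.2.2 W inf_le_left ?_ ⟨fun x hx v hv => ⟨hS.2.1.1 x hx v hv.1, ?_⟩,
      fun v hv => ⟨hS.2.1.2 v hv.1, ?_⟩⟩
    · intro h
      refine hu0 (Subtype.ext ?_)
      have hmem : (u : V) ∈ W := ⟨u.2, End.mem_eigenspace_iff.mpr
        (congrArg Subtype.val (End.mem_eigenspace_iff.mp hu))⟩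
      rwa [h, Submodule.mem_bot] at hmem
    · rw [SetLike.mem_coe, End.mem_eigenspace_iff, rho_mul_apply, hq.2 x hx v hv.1, ← rho_mul_apply,
        End.mem_eigenspace_iff.mp hv.2, map_smul]
    · rw [SetLike.mem_coe, End.mem_eigenspace_iff, ← hqa _ (hS.2.1.2 v hv.1), rho_conj_apply,
        End.mem_eigenspace_iff.mp hv.2, map_smul]
  exact ⟨c, fun v hv => End.mem_eigenspace_iff.mp (hW.symm ▸ hv : v ∈ W).2⟩

/-- Commutators of `X` are central. -/
theorem commutator_le_cen {X : Subgroup Γ}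
    (h2 : ∀ x ∈ X, ∀ y ∈ X, ∀ z ∈ X, ρ ⁅⁅x, y⁆, z⁆ = 1) {U : Submodule F V}
    (hU : StableUnder ρ X U) : ⁅X, X⁆ ≤ cen ρ X U hU := by
  rw [Subgroup.commutator_le]
  refine fun x hx y hy => ⟨?_, fun z hz v _ => ?_⟩
  · rw [commutatorElement_def]
    exact X.mul_mem (X.mul_mem (X.mul_mem hx hy) (X.inv_mem hx)) (X.inv_mem hy)
  · have h := LinearMap.congr_fun (h2 x hx y hy z hz) (ρ (z * ⁅x, y⁆) v)
    rw [rho_mul_apply, End.one_apply, commutatorElement_def (g₁ := ⁅x, y⁆) (g₂ := z)] at h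
    rwa [show ⁅x, y⁆ * z * ⁅x, y⁆⁻¹ * z⁻¹ * (z * ⁅x, y⁆) = ⁅x, y⁆ * z by group] at h

end central

section weight

/-- A character of `A`. -/
def IsChar (A : Subgroup Γ) (μ : Γ → F) : Prop :=
  μ 1 = 1 ∧ ∀ p ∈ A, ∀ q ∈ A, μ (p * q) = μ p * μ q

theorem IsChar.inv_mul {A : Subgroup Γ} {μ : Γ → F} (hμ : IsChar A μ) {q : Γ} (hq : q ∈ A) :
    μ q⁻¹ * μ q = 1 := by rw [← hμ.2 _ (A.inv_mem hq) q hq, inv_mul_cancel, hμ.1]

theorem IsChar.ne_zero {A : Subgroup Γ} {μ : Γ → F} (hμ : IsChar A μ) {q : Γ} (hq : q ∈ A) :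
    μ q ≠ 0 := right_ne_zero_of_mul_eq_one (hμ.inv_mul hq)

theorem IsChar.conj {A : Subgroup Γ} {μ : Γ → F} (hμ : IsChar A μ) {g : Γ}
    (hg : g ∈ Subgroup.normalizer (A : Set Γ)) : IsChar A fun q => μ (g⁻¹ * q * g) := by
  refine ⟨?_, fun p hp q hq => ?_⟩
  · show μ (g⁻¹ * 1 * g) = 1
    rw [mul_one, inv_mul_cancel, hμ.1]
  · show μ (g⁻¹ * (p * q) * g) = μ (g⁻¹ * p * g) * μ (g⁻¹ * q * g)
    rw [← hμ.2 _ (conj_mem hg hp) _ (conj_mem hg hq)]
    congr 1
    group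

theorem isChar_one (A : Subgroup Γ) : IsChar A fun _ => (1 : F) :=
  ⟨rfl, fun _ _ _ _ => (one_mul 1).symm⟩

theorem isChar_of_weight {A : Subgroup Γ} {μ : Γ → F} {v : V} (hv : v ∈ wspace ρ A μ)
    (hv0 : v ≠ 0) : IsChar A μ :=
  ⟨weight_one hv hv0, fun _ hp _ hq => weight_mul hv hv0 hp hq⟩

/-- A common eigenvector in an invariant subspace on which `A` is commutative. -/
theorem exists_weight_on [IsAlgClosed F] [FiniteDimensional F V] {A : Subgroup Γ}
    {S : Submodule F V} (hS : S ≠ ⊥) (hA : ∀ q ∈ A, ∀ v ∈ S, ρ q v ∈ S)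
    (hab : ∀ p ∈ A, ∀ q ∈ A, ∀ v ∈ S, ρ p (ρ q v) = ρ q (ρ p v)) :
    ∃ μ : Γ → F, ∃ v ∈ S, v ≠ 0 ∧ v ∈ wspace ρ A μ := by
  classical
  let σ : Representation F A S :=
    { toFun := fun q => (ρ (q : Γ)).restrict (hA q q.2)
      map_one' := LinearMap.ext fun w => Subtype.ext (by simp)
      map_mul' := fun g h => LinearMap.ext fun w => Subtype.ext (by simp) }
  haveI : Nontrivial S := Submodule.nontrivial_iff_ne_bot.mpr hS
  obtain ⟨χ, hχ⟩ := exists_weight (ρ := σ) (⊤ : Subgroup A) fun p _ q _ =>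
    LinearMap.ext fun w => Subtype.ext (hab p p.2 q q.2 w w.2)
  obtain ⟨u, hu, hu0⟩ := Submodule.exists_mem_ne_zero_of_ne_bot hχ
  refine ⟨fun g => if hg : g ∈ A then χ ⟨g, hg⟩ else 0, u, u.2, fun h => hu0 (Subtype.ext h),
    fun q hq => ?_⟩
  show ρ q (u : V) = (if hg : q ∈ A then χ ⟨q, hg⟩ else 0) • (u : V)
  rw [dif_pos hq]
  exact congrArg Subtype.val (hu ⟨q, hq⟩ (Subgroup.mem_top _))

/-- Conjugation on a normalised subgroup. -/
def conjEquiv (A : Subgroup Γ) {g : Γ} (hg : g ∈ Subgroup.normalizer (A : Set Γ)) : A ≃ A where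
  toFun q := ⟨g * q * g⁻¹, conj_mem' hg q.2⟩
  invFun q := ⟨g⁻¹ * q * g, conj_mem hg q.2⟩
  left_inv q := Subtype.ext (by group)
  right_inv q := Subtype.ext (by group)

variable [Finite Γ]

variable (ρ) in
/-- The projection on a weight space. -/
noncomputable def wproj (A : Subgroup Γ) (μ : Γ → F) : End F V :=
  haveI := Fintype.ofFinite A
  (Nat.card A : F)⁻¹ • ∑ q : A, (μ (q : Γ))⁻¹ • ρ (q : Γ)

theorem wproj_apply (A : Subgroup Γ) [Fintype A] (μ : Γ → F) (v : V) :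
    wproj ρ A μ v = (Nat.card A : F)⁻¹ • ∑ q : A, (μ (q : Γ))⁻¹ • ρ (q : Γ) v := by
  rw [wproj, LinearMap.smul_apply, LinearMap.sum_apply]
  congr 1
  refine Finset.sum_congr ?_ fun q _ => rfl
  exact Finset.ext fun q => by simp

theorem wproj_mem_of {A : Subgroup Γ} {μ : Γ → F} {U : Submodule F V}
    (hU : ∀ q ∈ A, ∀ v ∈ U, ρ q v ∈ U) {v : V} (hv : v ∈ U) : wproj ρ A μ v ∈ U := by
  haveI := Fintype.ofFinite A
  rw [wproj_apply]
  exact U.smul_mem _ (sum_mem fun q _ => U.smul_mem _ (hU q q.2 v hv))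

theorem wproj_mem {A : Subgroup Γ} {μ : Γ → F} (hμ : IsChar A μ) (v : V) :
    wproj ρ A μ v ∈ wspace ρ A μ := by
  intro p hp
  haveI := Fintype.ofFinite A
  rw [wproj_apply, map_smul, map_sum, smul_comm (μ p) ((Nat.card A : F)⁻¹)
    (∑ q : A, (μ (q : Γ))⁻¹ • ρ (q : Γ) v)]
  refine congrArg (fun w : V => (Nat.card A : F)⁻¹ • w) ?_
  rw [Finset.smul_sum]
  refine Fintype.sum_equiv (Equiv.mulLeft (⟨p, hp⟩ : A)) _ _ fun q => ?_
  show ρ p ((μ (q : Γ))⁻¹ • ρ (q : Γ) v) = μ p • (μ (p * q))⁻¹ • ρ (p * q) v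
  rw [map_smul, rho_mul_apply, smul_smul, hμ.2 p hp q q.2, mul_inv, ← mul_assoc,
    mul_inv_cancel₀ (hμ.ne_zero hp), one_mul]

theorem wproj_self {A : Subgroup Γ} (hA : (Nat.card A : F) ≠ 0) {μ : Γ → F} (hμ : IsChar A μ)
    {v : V} (hv : v ∈ wspace ρ A μ) : wproj ρ A μ v = v := by
  haveI := Fintype.ofFinite A
  rw [wproj_apply, Finset.sum_congr rfl (fun (q : A) _ => show (μ (q : Γ))⁻¹ • ρ (q : Γ) v = v by
      rw [hv q q.2, smul_smul, inv_mul_cancel₀ (hμ.ne_zero q.2), one_smul]),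
    Finset.sum_const, Finset.card_univ, ← Nat.card_eq_fintype_card, ← Nat.cast_smul_eq_nsmul F,
    smul_smul, inv_mul_cancel₀ hA, one_smul]

theorem wproj_ne {A : Subgroup Γ} {μ ν : Γ → F} (hμ : IsChar A μ) {v : V}
    (hv : v ∈ wspace ρ A ν) {q₀ : Γ} (hq₀ : q₀ ∈ A) (hne : μ q₀ ≠ ν q₀) :
    wproj ρ A μ v = 0 := by
  have h0 : wproj ρ A μ v ∈ Submodule.span F ({v} : Set V) := by
    refine wproj_mem_of (fun q hq u hu => ?_) (Submodule.mem_span_singleton_self v)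
    obtain ⟨c, rfl⟩ := Submodule.mem_span_singleton.mp hu
    rw [map_smul, hv q hq]
    exact Submodule.smul_mem _ _ (Submodule.smul_mem _ _ (Submodule.mem_span_singleton_self v))
  have h1 : wproj ρ A μ v ∈ wspace ρ A ν :=
    Submodule.span_le.mpr (Set.singleton_subset_iff.mpr hv) h0
  have h2 := (wproj_mem hμ v q₀ hq₀).symm.trans (h1 q₀ hq₀)
  rw [← sub_eq_zero, ← sub_smul, smul_eq_zero, sub_eq_zero] at h2
  exact h2.resolve_left hne

theorem rho_wproj {A : Subgroup Γ} {μ : Γ → F} {g : Γ}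
    (hg : g ∈ Subgroup.normalizer (A : Set Γ)) (v : V) :
    ρ g (wproj ρ A μ v) = wproj ρ A (fun q => μ (g⁻¹ * q * g)) (ρ g v) := by
  haveI := Fintype.ofFinite A
  rw [wproj_apply, wproj_apply, map_smul, map_sum]
  congr 1
  refine Fintype.sum_equiv ((conjEquiv A hg)) _ _ fun q => ?_
  show ρ g ((μ (q : Γ))⁻¹ • ρ (q : Γ) v) =
    (μ (g⁻¹ * (g * q * g⁻¹) * g))⁻¹ • ρ (g * q * g⁻¹) (ρ g v)
  rw [map_smul, rho_conj_apply, show g⁻¹ * (g * (q : Γ) * g⁻¹) * g = q by group]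

theorem wproj_congr {A : Subgroup Γ} {μ ν : Γ → F} (h : ∀ q ∈ A, μ q = ν q) :
    wproj ρ A μ = wproj ρ A ν := by
  simp only [wproj]
  congr 1
  exact Finset.sum_congr rfl fun q _ => by rw [h q q.2]

theorem rho_wproj_central {A : Subgroup Γ} {μ : Γ → F} {U : Submodule F V} {g : Γ} {v : V}
    (hv : v ∈ U) (hc : ∀ q ∈ A, ∀ u ∈ U, ρ g (ρ q u) = ρ q (ρ g u)) :
    ρ g (wproj ρ A μ v) = wproj ρ A μ (ρ g v) := by
  haveI := Fintype.ofFinite A
  rw [wproj_apply, wproj_apply, map_smul, map_sum]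
  congr 1
  exact Finset.sum_congr rfl fun q _ => by rw [map_smul, hc q q.2 v hv]

end weight

attribute [irreducible] wproj

end CfsgLib.TurullFit.Hy
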