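import Cfsg.Agent.Lib.TurullFit.HyperMoved
import Cfsg.Agent.Lib.FgsC.Commutant
import Cfsg.Agent.Lib.Modular.SimpleRep

/-!
# Fixed points of `a` on a piece of extraspecial type

A fixed vector `s₀` has moved translates with nonzero traces; these traces and `s₀` span the fixed
space, and a functional killing the traces but not `s₀` makes the fixed space as large as possible.
-/

set_option autoImplicit false
set_option linter.style.haveILetI false
set_option linter.unusedSectionVars false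

open Module
open scoped commutatorElement

namespace CfsgLib.TurullFit.Hy

open CfsgLib.FgsC.HallHigman CfsgLib.FgsC.CoprimeWeights

variable {F : Type*} [Field F] {Γ : Type*} [Group Γ] {V : Type*} [AddCommGroup V] [Module F V]
  {ρ : Representation F Γ V} {s r : ℕ} {X : Subgroup Γ} {a : Γ} {S : Submodule F V}

section irreducible

variable [IsAlgClosed F] [FiniteDimensional F V] [Finite Γ] {U U₁ U₂ : Submodule F V}

/-- Burnside: an irreducible piece sees every linear map. -/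
theorem burnside [Fintype X] (hU : StableUnder ρ X U) (hU0 : U ≠ ⊥)
    (hirr : ∀ W ≤ U, StableUnder ρ X W → W = ⊥ ∨ W = U) (f : End F V) (hf : ∀ v ∈ U, f v ∈ U) :
    ∃ c : X → F, ∀ v ∈ U, ∑ x : X, c x • ρ (x : Γ) v = f v := by
  classical
  let σ : Representation F X U :=
    { toFun := fun x => (ρ (x : Γ)).restrict (hU x x.2)
      map_one' := LinearMap.ext fun w => Subtype.ext (by simp)
      map_mul' := fun g h => LinearMap.ext fun w => Subtype.ext (by simp) }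
  have hσ : CfsgLib.Modular.IsSimpleRep σ := by
    refine ⟨Submodule.nontrivial_iff_ne_bot.mpr hU0, fun W hW => ?_⟩
    rcases hirr (W.map U.subtype) (Submodule.map_subtype_le _ _) (by
      rintro x hx _ ⟨w, hw, rfl⟩
      exact ⟨_, hW ⟨x, hx⟩ w hw, rfl⟩) with h | h
    · left
      refine Submodule.map_injective_of_injective U.injective_subtype ?_
      rw [h, Submodule.map_bot]
    · right
      refine Submodule.map_injective_of_injective U.injective_subtype ?_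
      rw [h, Submodule.map_top, Submodule.range_subtype]
  have key : ∀ el : MonoidAlgebra F X, ∃ c : X → F, ∀ v : U,
      σ.asAlgebraHom el v = ∑ x : X, c x • σ x v := by
    intro el
    induction el using MonoidAlgebra.induction_on with
    | of g =>
      refine ⟨Pi.single g 1, fun v => ?_⟩
      rw [Representation.asAlgebraHom_of, Finset.sum_eq_single g
        (fun x _ hx => by rw [Pi.single_eq_of_ne hx, zero_smul])
        (fun h => absurd (Finset.mem_univ g) h), Pi.single_eq_same, one_smul]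
    | add p q hp hq =>
      obtain ⟨c, hc⟩ := hp
      obtain ⟨d, hd⟩ := hq
      exact ⟨c + d, fun v => by
        simp only [map_add, LinearMap.add_apply, hc, hd, Pi.add_apply, add_smul,
          Finset.sum_add_distrib]⟩
    | smul t p hp =>
      obtain ⟨c, hc⟩ := hp
      exact ⟨t • c, fun v => by
        simp only [map_smul, LinearMap.smul_apply, hc, Finset.smul_sum, smul_smul, Pi.smul_apply,
          smul_eq_mul]⟩
  obtain ⟨el, hel⟩ := hσ.asAlgebraHom_surjective (f.restrict hf)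
  obtain ⟨c, hc⟩ := key el
  refine ⟨c, fun v hv => ?_⟩
  have h := congrArg Subtype.val (hc ⟨v, hv⟩)
  rw [hel] at h
  simp only [Submodule.coe_sum, Submodule.coe_smul] at h
  exact h.symm

/-- An irreducible piece maps into every piece with the same central character. -/
theorem exists_map (hU₁ : StableUnder ρ X U₁) (hU₂ : StableUnder ρ X U₂) (hU₁0 : U₁ ≠ ⊥)
    (hU₂0 : U₂ ≠ ⊥) (hirr : ∀ W ≤ U₁, StableUnder ρ X W → W = ⊥ ∨ W = U₁)
    (hcs : ∀ x ∈ X, ∀ z ∈ X, ∃ c : F, c ≠ 0 ∧ ∀ v ∈ U₁, ρ x (ρ z v) = c • ρ z (ρ x v))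
    {A : Subgroup Γ} (hA : ∀ x, CenterOn ρ X U₁ x → x ∈ A) {μ : Γ → F}
    (h₁ : ∀ q ∈ A, ∀ v ∈ U₁, ρ q v = μ q • v) (h₂ : ∀ q ∈ A, ∀ v ∈ U₂, ρ q v = μ q • v) :
    ∃ φ : End F V, (∀ v ∈ U₁, φ v ∈ U₂) ∧ (∃ v ∈ U₁, φ v ≠ 0) ∧
      ∀ k ∈ X, ∀ v ∈ U₁, φ (ρ k v) = ρ k (φ v) := by
  classical
  haveI : Fintype X := Fintype.ofFinite _
  haveI : Fintype (X ⧸ A.subgroupOf X) := Fintype.ofFinite _
  let C := X ⧸ A.subgroupOf X
  let σ : Representation F X U₁ :=
    { toFun := fun x => (ρ (x : Γ)).restrict (hU₁ x x.2)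
      map_one' := LinearMap.ext fun w => Subtype.ext (by simp)
      map_mul' := fun g h => LinearMap.ext fun w => Subtype.ext (by simp) }
  -- the images of coset representatives are independent
  choose κ hκ0 hκ using hcs
  have hconj : ∀ w k : X,
      σ w * σ k * σ w⁻¹ = κ w w.2 k k.2 • σ k := fun w k => LinearMap.ext fun v => Subtype.ext (by
    show ρ (w : Γ) (ρ (k : Γ) (ρ ((w⁻¹ : X) : Γ) v)) = κ w w.2 k k.2 • ρ (k : Γ) v
    rw [hκ w w.2 k k.2 _ (hU₁ _ (w⁻¹).2 _ v.2), Subgroup.coe_inv, rho_inv_apply])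
  haveI : Nontrivial U₁ := Submodule.nontrivial_iff_ne_bot.mpr hU₁0
  have hli : LinearIndependent F fun c : C => σ (Quotient.out c) := by
    refine linearIndependent_of_weights
      (fun w : X => (LinearMap.mulRight F (σ w⁻¹)).comp (LinearMap.mulLeft F (σ w)))
      (fun (c : C) (w : X) => κ w w.2 (Quotient.out c : X) (Quotient.out c : X).2) ?_ _
      (fun c => rho_mul_left_ne_zero _) (fun c w => hconj w _)
    intro c d hcd
    rw [← QuotientGroup.out_eq' c, ← QuotientGroup.out_eq' d, QuotientGroup.eq]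
    set k : X := Quotient.out c
    set l : X := Quotient.out d
    refine Subgroup.mem_subgroupOf.mpr (hA _ ⟨(k⁻¹ * l).2, fun z hz v hv => ?_⟩)
    have e1 : ∀ u ∈ U₁, ρ z (ρ (k : Γ) u) = κ z hz k k.2 • ρ (k : Γ) (ρ z u) := hκ z hz k k.2
    have e2 : ∀ u ∈ U₁, ρ z (ρ (l : Γ) u) = κ z hz k k.2 • ρ (l : Γ) (ρ z u) := by
      intro u hu
      rw [hκ z hz l l.2 u hu]
      exact congrArg (· • _) (congrFun hcd ⟨z, hz⟩).symm
    have hm : ρ ((k⁻¹ * l : X) : Γ) v ∈ U₁ := hU₁ _ (k⁻¹ * l).2 v hv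
    have h1 := e1 _ hm
    rw [show ρ (k : Γ) (ρ ((k⁻¹ * l : X) : Γ) v) = ρ (l : Γ) v by
      rw [rho_mul_apply, Subgroup.coe_mul, Subgroup.coe_inv, mul_inv_cancel_left], e2 v hv] at h1
    have h2 : ρ (l : Γ) (ρ z v) = ρ (k : Γ) (ρ z (ρ ((k⁻¹ * l : X) : Γ) v)) :=
      (smul_right_inj (hκ0 z hz k k.2)).mp h1
    rw [← rho_mul_apply, ← rho_mul_apply]
    apply rho_inj (ρ := ρ) (g := (k : Γ))
    rw [← h2, rho_mul_apply (k : Γ), Subgroup.coe_mul, Subgroup.coe_inv, mul_inv_cancel_left]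
  -- relations pass from `U₁` to `U₂`
  let cl : X → C := fun x => QuotientGroup.mk x
  have hq : ∀ x : X, ((Quotient.out (cl x) : X) : Γ)⁻¹ * (x : Γ) ∈ A := fun x => by
    have h := QuotientGroup.eq.mp (QuotientGroup.out_eq' (cl x))
    exact Subgroup.mem_subgroupOf.mp h
  let m : X → F := fun x => μ (((Quotient.out (cl x) : X) : Γ)⁻¹ * (x : Γ))
  have hsplit : ∀ (U : Submodule F V), (∀ q ∈ A, ∀ v ∈ U, ρ q v = μ q • v) →
      ∀ (c : X → F), ∀ v ∈ U, ∑ x : X, c x • ρ (x : Γ) v =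
        ∑ C₀ : C, (∑ x ∈ Finset.univ.filter (fun x => cl x = C₀), c x * m x) •
          ρ ((Quotient.out C₀ : X) : Γ) v := by
    intro U hUμ c v hv
    rw [← Finset.sum_fiberwise Finset.univ cl]
    refine Finset.sum_congr rfl fun C₀ _ => ?_
    rw [Finset.sum_smul]
    refine Finset.sum_congr rfl fun x hx => ?_
    conv_lhs => rw [show (x : Γ) = ((Quotient.out (cl x) : X) : Γ) *
      (((Quotient.out (cl x) : X) : Γ)⁻¹ * (x : Γ)) by group, map_mul, End.mul_apply,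
      hUμ _ (hq x) v hv, map_smul, smul_smul, (Finset.mem_filter.mp hx).2]
    rw [show m x = μ (((Quotient.out (cl x) : X) : Γ)⁻¹ * (x : Γ)) from rfl,
      (Finset.mem_filter.mp hx).2]
  have hrel : ∀ c : X → F, (∀ v ∈ U₁, ∑ x : X, c x • ρ (x : Γ) v = 0) →
      ∀ v ∈ U₂, ∑ x : X, c x • ρ (x : Γ) v = 0 := by
    intro c hc v hv
    rw [hsplit U₂ h₂ c v hv]
    rw [Fintype.linearIndependent_iff] at hli
    have h0 : ∑ C₀ : C, (∑ x ∈ Finset.univ.filter (fun x => cl x = C₀), c x * m x) •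
        σ (Quotient.out C₀) = 0 := LinearMap.ext fun w => Subtype.ext (by
      simp only [LinearMap.sum_apply, LinearMap.smul_apply, Submodule.coe_sum, Submodule.coe_smul,
        LinearMap.zero_apply, ZeroMemClass.coe_zero]
      rw [← hc w w.2, hsplit U₁ h₁ c w w.2]
      rfl)
    exact Finset.sum_eq_zero fun C₀ _ => by rw [hli _ h0 C₀, zero_smul]
  -- the map
  let L : (X → F) →ₗ[F] End F U₁ := Fintype.linearCombination F fun x : X => σ x
  have hLv : ∀ (c : X → F) (w : U₁), (L c w : V) = ∑ x : X, c x • ρ (x : Γ) (w : V) := fun c w => by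
    simp only [L, Fintype.linearCombination_apply, LinearMap.sum_apply, LinearMap.smul_apply,
      Submodule.coe_sum, Submodule.coe_smul]
    rfl
  obtain ⟨g, hg⟩ := LinearMap.exists_extend (LinearMap.id : U₁ →ₗ[F] U₁)
  have hgid : ∀ w : U₁, g (w : V) = w := fun w => LinearMap.congr_fun hg w
  have hsurj : LinearMap.range L = ⊤ := by
    refine LinearMap.range_eq_top.mpr fun f => ?_
    obtain ⟨c, hc⟩ := burnside hU₁ hU₁0 hirr ((U₁.subtype ∘ₗ f) ∘ₗ g) fun v hv => (f _).2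
    refine ⟨c, LinearMap.ext fun w => Subtype.ext ?_⟩
    rw [hLv, hc w w.2, LinearMap.comp_apply, LinearMap.comp_apply, hgid]
    rfl
  obtain ⟨Lr, hLr⟩ := LinearMap.exists_rightInverse_of_surjective L hsurj
  obtain ⟨u, hu, hu0⟩ := Submodule.exists_mem_ne_zero_of_ne_bot hU₂0
  let L₂ : (X → F) →ₗ[F] V := Fintype.linearCombination F fun x : X => ρ (x : Γ) u
  let Φ : End F U₁ →ₗ[F] V := L₂ ∘ₗ Lr
  have hΦ : ∀ c, Φ (L c) = L₂ c := by
    intro c
    show L₂ (Lr (L c)) = L₂ c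
    rw [← sub_eq_zero, ← map_sub]
    simp only [L₂, Fintype.linearCombination_apply]
    refine hrel _ (fun v hv => ?_) u hu
    rw [← hLv _ (⟨v, hv⟩ : U₁), map_sub, show L (Lr (L c)) = L c from LinearMap.congr_fun hLr _,
      sub_self]
    rfl
  have hid : Φ 1 = u := by
    have h1 : L (Pi.single (1 : X) 1) = 1 := by
      simp only [L, Fintype.linearCombination_apply_single, one_smul, map_one]
    rw [← h1, hΦ]
    simp only [L₂, Fintype.linearCombination_apply_single, one_smul, Subgroup.coe_one, map_one,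
      End.one_apply]
  obtain ⟨ψ, w, hψ⟩ : ∃ (ψ : U₁ →ₗ[F] F) (w : U₁), Φ (LinearMap.smulRightₗ ψ w) ≠ 0 := by
    by_contra hall
    push Not at hall
    refine hu0 ?_
    let b := Module.finBasis F U₁
    rw [← hid, show (1 : End F U₁) = ∑ i, LinearMap.smulRightₗ (b.coord i) (b i) from
      LinearMap.ext fun v => by simp [b.sum_repr v], map_sum]
    exact Finset.sum_eq_zero fun i _ => hall _ _
  let φ : End F V := (Φ ∘ₗ LinearMap.smulRightₗ ψ) ∘ₗ g
  refine ⟨φ, fun v _ => ?_, ⟨w, w.2, ?_⟩, fun k hk v hv => ?_⟩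
  · show L₂ (Lr (LinearMap.smulRightₗ ψ (g v))) ∈ U₂
    simp only [L₂, Fintype.linearCombination_apply]
    exact sum_mem fun x _ => U₂.smul_mem _ (hU₂ x x.2 u hu)
  · show Φ (LinearMap.smulRightₗ ψ (g (w : V))) ≠ 0
    rwa [hgid]
  · show Φ (LinearMap.smulRightₗ ψ (g (ρ k v))) = ρ k (Φ (LinearMap.smulRightₗ ψ (g v)))
    rw [hgid ⟨ρ k v, hU₁ k hk v hv⟩, hgid ⟨v, hv⟩]
    set c := Lr (LinearMap.smulRightₗ ψ (⟨v, hv⟩ : U₁)) with hc
    let c' : X → F := fun x => c (⟨k, hk⟩⁻¹ * x)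
    have h1 : L c' = LinearMap.smulRightₗ ψ (⟨ρ k v, hU₁ k hk v hv⟩ : U₁) := by
      rw [show LinearMap.smulRightₗ ψ (⟨ρ k v, hU₁ k hk v hv⟩ : U₁) =
        σ ⟨k, hk⟩ * LinearMap.smulRightₗ ψ (⟨v, hv⟩ : U₁) from
          LinearMap.ext fun z => Subtype.ext (by simp [σ]),
        ← show L c = LinearMap.smulRightₗ ψ (⟨v, hv⟩ : U₁) from LinearMap.congr_fun hLr _]
      simp only [L, Fintype.linearCombination_apply, Finset.mul_sum]
      refine (Fintype.sum_equiv (Equiv.mulLeft (⟨k, hk⟩ : X)) _ _ fun x => ?_).symm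
      simp only [Equiv.coe_mulLeft, c', inv_mul_cancel_left, mul_smul_comm, map_mul]
    rw [← h1, hΦ, show Φ (LinearMap.smulRightₗ ψ (⟨v, hv⟩ : U₁)) = L₂ c from rfl]
    simp only [L₂, Fintype.linearCombination_apply, map_sum, map_smul]
    refine (Fintype.sum_equiv (Equiv.mulLeft (⟨k, hk⟩ : X)) _ _ fun x => ?_).symm
    simp only [Equiv.coe_mulLeft, c', inv_mul_cancel_left, rho_mul_apply, Subgroup.coe_mul]

end irreducible

section piece

variable [Finite Γ]

/-- Elements of `X` commute on a piece of extraspecial type up to scalars. -/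
theorem piece_comm (h : Heis ρ s r X a S) {x z : Γ} (hx : x ∈ X) (hz : z ∈ X) :
    ∃ c : F, c ≠ 0 ∧ ∀ v ∈ S, ρ x (ρ z v) = c • ρ z (ρ x v) := by
  have hxz : ⁅x, z⁆ ∈ cen ρ X S h.inv.1 :=
    commutator_le_cen h.layer.classTwo h.inv.1 (Subgroup.commutator_mem_commutator hx hz)
  obtain ⟨c, hc⟩ := h.scalar _ hxz.1 hxz.2
  refine ⟨c, fun h0 => ?_, fun v hv => ?_⟩
  · obtain ⟨v, hv, hv0⟩ := Submodule.exists_mem_ne_zero_of_ne_bot h.ne_bot
    exact rho_ne_zero hv0 (by rw [hc v hv, h0, zero_smul])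
  · rw [← hc _ (h.inv.1 z hz _ (h.inv.1 x hx v hv))]
    simp only [rho_mul_apply, commutatorElement_def]
    congr 2
    group

/-- The elements acting as scalars. -/
def scal (h : Heis ρ s r X a S) : Subgroup Γ where
  carrier := {x | x ∈ X ∧ ∃ c : F, c ≠ 0 ∧ ∀ v ∈ S, ρ x v = c • v}
  mul_mem' := by
    rintro x z ⟨hx, c, hc0, hc⟩ ⟨hz, d, hd0, hd⟩
    refine ⟨X.mul_mem hx hz, c * d, mul_ne_zero hc0 hd0, fun v hv => ?_⟩
    rw [map_mul, End.mul_apply, hd v hv, map_smul, hc v hv, smul_smul, mul_comm]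
  one_mem' := ⟨X.one_mem, 1, one_ne_zero, fun v _ => by rw [map_one, End.one_apply, one_smul]⟩
  inv_mem' := by
    rintro x ⟨hx, c, hc0, hc⟩
    refine ⟨X.inv_mem hx, c⁻¹, inv_ne_zero hc0, fun v hv => ?_⟩
    have h1 := rho_apply_inv (ρ := ρ) x v
    rw [hc v hv, map_smul] at h1
    conv_rhs => rw [← h1]
    rw [smul_smul, inv_mul_cancel₀ hc0, one_smul]

theorem mem_scal (h : Heis ρ s r X a S) {x : Γ} (hx : x ∈ X) (hs : IsScalarOn ρ S x) :
    x ∈ scal h := by
  obtain ⟨c, hc⟩ := hs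
  refine ⟨hx, c, fun h0 => ?_, hc⟩
  obtain ⟨v, hv, hv0⟩ := Submodule.exists_mem_ne_zero_of_ne_bot h.ne_bot
  exact rho_ne_zero hv0 (by rw [hc v hv, h0, zero_smul])

theorem commutator_mem_scal (h : Heis ρ s r X a S) {x z : Γ} (hx : x ∈ X) (hz : z ∈ X) :
    ⁅x, z⁆ ∈ scal h := by
  have hxz : ⁅x, z⁆ ∈ cen ρ X S h.inv.1 :=
    commutator_le_cen h.layer.classTwo h.inv.1 (Subgroup.commutator_mem_commutator hx hz)
  exact mem_scal h hxz.1 (h.scalar _ hxz.1 hxz.2)

/-- `a` is injective on `X` modulo scalars. -/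
theorem ratio_inj (h : Heis ρ s r X a S) {m m' : Γ} (hm : m ∈ X) (hm' : m' ∈ X)
    (hk : (m⁻¹ * (a * m * a⁻¹))⁻¹ * (m'⁻¹ * (a * m' * a⁻¹)) ∈ scal h) :
    m⁻¹ * m' ∈ scal h := by
  have e1 := conj_mem' h.layer.mem_normalizer hm
  have hd : m'⁻¹ * m ∈ X := X.mul_mem (X.inv_mem hm') hm
  have hc := commutator_mem_scal h (X.inv_mem hm') hm
  have key : (m⁻¹ * m')⁻¹ * (a * (m⁻¹ * m') * a⁻¹) ∈ scal h := by
    rw [show (m⁻¹ * m')⁻¹ * (a * (m⁻¹ * m') * a⁻¹) =
      ⁅m'⁻¹ * m, (a * m * a⁻¹)⁻¹⁆ * (⁅(a * m * a⁻¹)⁻¹, ⁅m'⁻¹, m⁆⁆ * ⁅m'⁻¹, m⁆ *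
        ((m⁻¹ * (a * m * a⁻¹))⁻¹ * (m'⁻¹ * (a * m' * a⁻¹)))) by
      simp only [commutatorElement_def]; group]
    exact mul_mem (commutator_mem_scal h hd (X.inv_mem e1))
      (mul_mem (mul_mem (commutator_mem_scal h (X.inv_mem e1) hc.1) hc) hk)
  obtain ⟨-, c, -, hc'⟩ := key
  exact mem_scal h (X.mul_mem (X.inv_mem hm) hm') (h.fpf _ (X.mul_mem (X.inv_mem hm) hm') ⟨c, hc'⟩)

variable (ρ) in
/-- The stabiliser in `X` of the line of a vector. -/
def lineStab (X : Subgroup Γ) (v : V) : Subgroup Γ where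
  carrier := {x | x ∈ X ∧ ∃ c : F, c ≠ 0 ∧ ρ x v = c • v}
  mul_mem' := by
    rintro x z ⟨hx, c, hc0, hc⟩ ⟨hz, d, hd0, hd⟩
    refine ⟨X.mul_mem hx hz, c * d, mul_ne_zero hc0 hd0, ?_⟩
    rw [map_mul, End.mul_apply, hd, map_smul, hc, smul_smul, mul_comm]
  one_mem' := ⟨X.one_mem, 1, one_ne_zero, by rw [map_one, End.one_apply, one_smul]⟩
  inv_mem' := by
    rintro x ⟨hx, c, hc0, hc⟩
    refine ⟨X.inv_mem hx, c⁻¹, inv_ne_zero hc0, ?_⟩
    have h1 := rho_apply_inv (ρ := ρ) x v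
    rw [hc, map_smul] at h1
    conv_rhs => rw [← h1]
    rw [smul_smul, inv_mul_cancel₀ hc0, one_smul]

variable {s₀ : V}

theorem scal_le_lineStab (h : Heis ρ s r X a S) (hs : s₀ ∈ S) : scal h ≤ lineStab ρ X s₀ :=
  fun _ ⟨hx, c, hc0, hc⟩ => ⟨hx, c, hc0, hc s₀ hs⟩

theorem mem_lineStab_of_ratio (h : Heis ρ s r X a S) (hs : s₀ ∈ S) (ha : ρ a s₀ = s₀) {x : Γ}
    (hx : x ∈ X) (hr : x⁻¹ * (a * x * a⁻¹) ∈ lineStab ρ X s₀) : x ∈ lineStab ρ X s₀ := by
  obtain ⟨m, hm, hk⟩ := surj_mod (M := lineStab ρ X s₀) (K := scal h)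
    (fun m => m⁻¹ * (a * m * a⁻¹))
    (fun m hm => mul_mem (inv_mem hm) (by
      obtain ⟨hmX, c, hc0, hc⟩ := hm
      refine ⟨conj_mem' h.layer.mem_normalizer hmX, c, hc0, ?_⟩
      conv_lhs => arg 2; rw [← ha]
      rw [rho_conj_apply, hc, map_smul, ha]))
    (fun m hm m' hm' => ratio_inj h hm.1 hm'.1) hr
  have h1 := ratio_inj h hm.1 hx hk
  rw [show x = m * (m⁻¹ * x) by group]
  exact mul_mem hm (scal_le_lineStab h hs h1)

theorem fixed_of_mem_lineStab (ha : ρ a s₀ = s₀) {x : Γ} (hx : x ∈ lineStab ρ X s₀) :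
    ρ a (ρ x s₀) = ρ x s₀ := by
  obtain ⟨-, c, -, hc⟩ := hx
  rw [hc, map_smul, ha]

theorem mem_lineStab_of_fixed (h : Heis ρ s r X a S) (hs : s₀ ∈ S) (ha : ρ a s₀ = s₀) {x : Γ}
    (hx : x ∈ X) (hfix : ρ a (ρ x s₀) = ρ x s₀) : x ∈ lineStab ρ X s₀ := by
  refine mem_lineStab_of_ratio h hs ha hx
    ⟨X.mul_mem (X.inv_mem hx) (conj_mem' h.layer.mem_normalizer hx), 1, one_ne_zero, ?_⟩
  rw [one_smul, map_mul, End.mul_apply]
  conv_lhs => arg 2; arg 2; rw [← ha]
  rw [rho_conj_apply, hfix, rho_apply_inv]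

theorem span_orbit (h : Heis ρ s r X a S) (hs : s₀ ∈ S) (hs0 : s₀ ≠ 0) :
    Submodule.span F (Set.range fun x : X => ρ (x : Γ) s₀) = S := by
  set W := Submodule.span F (Set.range fun x : X => ρ (x : Γ) s₀) with hW
  have hmem : s₀ ∈ W := Submodule.subset_span ⟨1, by simp⟩
  refine (h.irred W (Submodule.span_le.mpr ?_) fun z hz v hv => ?_).resolve_left fun hb =>
    hs0 ((Submodule.eq_bot_iff W).mp hb s₀ hmem)
  · rintro _ ⟨x, rfl⟩
    exact h.inv.1 x x.2 s₀ hs
  · refine (Submodule.span_le.mpr ?_ : W ≤ W.comap (ρ z)) hv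
    rintro _ ⟨x, rfl⟩
    refine Submodule.subset_span ⟨⟨z, hz⟩ * x, ?_⟩
    show ρ ((⟨z, hz⟩ * x : X) : Γ) s₀ = ρ z (ρ (x : Γ) s₀)
    rw [Subgroup.coe_mul, map_mul, End.mul_apply]

/-- The fixed space is spanned by a fixed vector and the traces of its moved translates. -/
theorem fix_le_line (h : Heis ρ s r X a S) (hs : s₀ ∈ S) (hs0 : s₀ ≠ 0) (ha : ρ a s₀ = s₀)
    {P : Submodule F V}
    (hP : ∀ x ∈ X, ρ a (ρ x s₀) ≠ ρ x s₀ → tr ρ a r (ρ x s₀) ∈ P) :
    S ⊓ fixSub ρ a ≤ P ⊔ Submodule.span F {s₀} := by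
  rintro v ⟨hvS, hva⟩
  refine r_smul_mem h.layer.r_ne_zero ?_
  rw [← tr_of_fix (mem_fixSub.mp hva)]
  rw [← span_orbit h hs hs0] at hvS
  refine (Submodule.span_le.mpr ?_ : Submodule.span F (Set.range fun x : X => ρ (x : Γ) s₀) ≤
    (P ⊔ Submodule.span F {s₀}).comap (tr ρ a r)) hvS
  rintro _ ⟨x, rfl⟩
  rw [SetLike.mem_coe, Submodule.mem_comap]
  by_cases hfix : ρ a (ρ (x : Γ) s₀) = ρ (x : Γ) s₀
  · obtain ⟨-, c, -, hc⟩ := mem_lineStab_of_fixed h hs ha x.2 hfix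
    rw [tr_of_fix hfix, hc, smul_smul]
    exact Submodule.mem_sup_right (Submodule.smul_mem _ _ (Submodule.mem_span_singleton_self _))
  · exact Submodule.mem_sup_left (hP x x.2 hfix)

theorem lineStab_comm (h : Heis ρ s r X a S) (hs : s₀ ∈ S) (hs0 : s₀ ≠ 0) {x z : Γ}
    (hx : x ∈ lineStab ρ X s₀) (hz : z ∈ lineStab ρ X s₀) :
    ∀ v ∈ S, ρ x (ρ z v) = ρ z (ρ x v) := by
  obtain ⟨hxX, c, hc0, hc⟩ := hx
  obtain ⟨hzX, d, hd0, hd⟩ := hz
  obtain ⟨e, he0, he⟩ := piece_comm h hxX hzX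
  have h1 := he s₀ hs
  rw [hd, map_smul, hc, map_smul, hd, smul_smul, smul_smul, smul_smul] at h1
  have he1 : e = 1 := by
    have h2 := smul_left_injective F hs0 h1
    refine (mul_right_cancel₀ (mul_ne_zero hd0 hc0) (b := d * c) ?_)
    linear_combination (norm := ring_nf) -h2
  intro v hv
  rw [he v hv, he1, one_smul]

variable [IsAlgClosed F] [FiniteDimensional F V]

/-- A functional killing the traces of the moved translates makes the line stabiliser maximal. -/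
theorem lineStab_max (h : Heis ρ s r X a S) (hs : s₀ ∈ S) (hs0 : s₀ ≠ 0) (ha : ρ a s₀ = s₀)
    {φ : V →ₗ[F] F} (hφ0 : φ s₀ ≠ 0)
    (hφ : ∀ x ∈ X, ρ a (ρ x s₀) ≠ ρ x s₀ → φ (tr ρ a r (ρ x s₀)) = 0) {x : Γ} (hx : x ∈ X)
    (hcomm : ∀ w ∈ lineStab ρ X s₀, ∀ v ∈ S, ρ x (ρ w v) = ρ w (ρ x v)) :
    x ∈ lineStab ρ X s₀ := by
  haveI : Fintype X := Fintype.ofFinite _
  by_contra hR
  have hnot : ρ x s₀ ∉ Submodule.span F ({s₀} : Set V) := by
    intro hmem
    obtain ⟨c, hc⟩ := Submodule.mem_span_singleton.mp hmem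
    exact hR ⟨hx, c, fun h0 => rho_ne_zero hs0 (by rw [← hc, h0, zero_smul]), hc.symm⟩
  obtain ⟨ξ, hξ0, hξ1⟩ := LinearMap.exists_extend_of_notMem
    (0 : Submodule.span F ({s₀} : Set V) →ₗ[F] F) hnot 1
  obtain ⟨c, hc⟩ := burnside h.inv.1 h.ne_bot h.irred (ξ.smulRight s₀)
    fun v _ => by rw [LinearMap.smulRight_apply]; exact S.smul_mem _ hs
  have hψ : ∀ z : X, φ (tr ρ a r (ρ (z : Γ) (ρ x s₀))) = φ (tr ρ a r (ρ x (ρ (z : Γ) s₀))) := by
    intro z
    obtain ⟨e, he0, he⟩ := piece_comm h z.2 hx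
    by_cases hfix : ρ a (ρ (z : Γ) (ρ x s₀)) = ρ (z : Γ) (ρ x s₀)
    · rw [rho_mul_apply (z : Γ) x] at hfix
      have hzx := mem_lineStab_of_fixed h hs ha (X.mul_mem z.2 hx) hfix
      have h1 := hcomm _ hzx (ρ x⁻¹ s₀) (h.inv.1 _ (X.inv_mem hx) _ hs)
      simp only [rho_mul_apply] at h1 ⊢
      congr 2
      rw [show x * (z * x * x⁻¹) = x * z by group, show z * x * (x * x⁻¹) = z * x by group] at h1
      exact h1.symm
    · rw [rho_mul_apply (z : Γ) x] at hfix ⊢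
      rw [hφ _ (X.mul_mem z.2 hx) hfix, rho_mul_apply x (z : Γ), hφ _ (X.mul_mem hx z.2)]
      intro hfix'
      refine hfix ?_
      rw [← rho_mul_apply, he s₀ hs, rho_mul_apply, map_smul, hfix']
  have hξs : ξ s₀ = 0 :=
    LinearMap.congr_fun hξ0 ⟨s₀, Submodule.mem_span_singleton_self s₀⟩
  have key : φ (tr ρ a r (ξ.smulRight s₀ (ρ x s₀))) =
      φ (tr ρ a r (ρ x (ξ.smulRight s₀ s₀))) := by
    rw [← hc _ (h.inv.1 x hx _ hs), ← hc _ hs]
    simp only [map_sum, map_smul, hψ]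
  rw [LinearMap.smulRight_apply, LinearMap.smulRight_apply, hξ1, hξs, one_smul, zero_smul, map_zero,
    map_zero, map_zero, tr_of_fix ha, map_smul, smul_eq_zero] at key
  exact key.elim h.layer.r_ne_zero hφ0

/-- In that case the fixed space is as large as possible. -/
theorem line_count (h : Heis ρ s r X a S) (hs : s₀ ∈ S) (hs0 : s₀ ≠ 0) (ha : ρ a s₀ = s₀)
    {φ : V →ₗ[F] F} (hφ0 : φ s₀ ≠ 0)
    (hφ : ∀ x ∈ X, ρ a (ρ x s₀) ≠ ρ x s₀ → φ (tr ρ a r (ρ x s₀)) = 0) :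
    finrank F S + (r - 1) = r * finrank F (S ⊓ fixSub ρ a : Submodule F V) := by
  classical
  set R := lineStab ρ X s₀ with hR
  let C := X ⧸ R.subgroupOf X
  haveI : Fintype C := Fintype.ofFinite _
  have hXa := h.layer.mem_normalizer
  have hmk : ∀ k : X, ∃ d : F, d ≠ 0 ∧
      ρ ((Quotient.out (QuotientGroup.mk k : C) : X) : Γ) s₀ = d • ρ (k : Γ) s₀ := by
    intro k
    obtain ⟨-, d, hd0, hd⟩ : ((k⁻¹ * Quotient.out (QuotientGroup.mk k : C) : X) : Γ) ∈ R :=
      Subgroup.mem_subgroupOf.mp (QuotientGroup.eq.mp (QuotientGroup.out_eq' _).symm)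
    refine ⟨d, hd0, ?_⟩
    rw [← map_smul, ← hd, rho_mul_apply, Subgroup.coe_mul, Subgroup.coe_inv, mul_inv_cancel_left]
  let b : C → S := fun c => ⟨ρ ((Quotient.out c : X) : Γ) s₀,
    h.inv.1 _ (Quotient.out c : X).2 s₀ hs⟩
  -- independence
  choose κ hκ0 hκ using fun (w : R) (k : X) => piece_comm h w.2.1 k.2
  choose d hd0 hd using fun w : R => w.2.2
  have hliV : LinearIndependent F fun c : C => ρ ((Quotient.out c : X) : Γ) s₀ := by
    refine linearIndependent_of_weights (fun w : R => ρ (w : Γ))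
      (fun (c : C) (w : R) => d w * κ w (Quotient.out c)) ?_ _
      (fun c => rho_ne_zero hs0) (fun c w => ?_)
    · intro c c' hcc
      rw [← QuotientGroup.out_eq' c, ← QuotientGroup.out_eq' c', QuotientGroup.eq]
      set k : X := Quotient.out c
      set l : X := Quotient.out c'
      refine Subgroup.mem_subgroupOf.mpr (lineStab_max h hs hs0 ha hφ0 hφ (k⁻¹ * l).2 ?_)
      intro w hw v hv
      have hκeq : κ ⟨w, hw⟩ k = κ ⟨w, hw⟩ l :=
        mul_left_cancel₀ (hd0 ⟨w, hw⟩) (congrFun hcc ⟨w, hw⟩)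
      have hm : ρ ((k⁻¹ * l : X) : Γ) v ∈ S := h.inv.1 _ (k⁻¹ * l).2 v hv
      have h1 := hκ ⟨w, hw⟩ k _ hm
      simp only at h1
      rw [show ρ (k : Γ) (ρ ((k⁻¹ * l : X) : Γ) v) = ρ (l : Γ) v by
        rw [rho_mul_apply, Subgroup.coe_mul, Subgroup.coe_inv, mul_inv_cancel_left],
        hκ ⟨w, hw⟩ l v hv, hκeq] at h1
      have h2 : ρ (l : Γ) (ρ w v) = ρ (k : Γ) (ρ w (ρ ((k⁻¹ * l : X) : Γ) v)) :=
        (smul_right_inj (hκ0 ⟨w, hw⟩ l)).mp h1
      apply rho_inj (ρ := ρ) (g := (k : Γ))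
      rw [← h2, rho_mul_apply (k : Γ), Subgroup.coe_mul, Subgroup.coe_inv, mul_inv_cancel_left]
    · rw [hκ w _ s₀ hs, hd w, map_smul, smul_smul, mul_comm]
  have hli : LinearIndependent F b := LinearIndependent.of_comp S.subtype hliV
  have hspan : ⊤ ≤ Submodule.span F (Set.range b) := by
    intro v _
    have h1 : (v : V) ∈ (Submodule.span F (Set.range b)).map S.subtype := by
      have h2 : (v : V) ∈ Submodule.span F (Set.range fun x : X => ρ (x : Γ) s₀) :=
        (span_orbit h hs hs0).symm ▸ v.2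
      refine (Submodule.span_le.mpr ?_ : _ ≤ (Submodule.span F (Set.range b)).map S.subtype) h2
      rintro _ ⟨k, rfl⟩
      obtain ⟨e, he0, he⟩ := hmk k
      refine ⟨e⁻¹ • b (QuotientGroup.mk k), Submodule.smul_mem _ _
        (Submodule.subset_span ⟨_, rfl⟩), ?_⟩
      show e⁻¹ • ρ ((Quotient.out (QuotientGroup.mk k : C) : X) : Γ) s₀ = ρ (k : Γ) s₀
      rw [he, smul_smul, inv_mul_cancel₀ he0, one_smul]
    obtain ⟨w, hw, hwv⟩ := h1
    rwa [S.injective_subtype hwv] at hw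
  -- the permutation of the cosets
  let conjA : X → X := fun k => ⟨a * k * a⁻¹, conj_mem' hXa k.2⟩
  have hRa : ∀ q ∈ R, a * q * a⁻¹ ∈ R := by
    rintro q ⟨hq, c, hc0, hc⟩
    refine ⟨conj_mem' hXa hq, c, hc0, ?_⟩
    conv_lhs => arg 2; rw [← ha]
    rw [rho_conj_apply, hc, map_smul, ha]
  have haR : a ∈ Subgroup.normalizer (R : Set Γ) := mem_normalizer_of_conj hRa
  let g : C → C := fun c => QuotientGroup.mk (conjA (Quotient.out c))
  have hg : ∀ k : X, g (QuotientGroup.mk k) = QuotientGroup.mk (conjA k) := by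
    intro k
    rw [QuotientGroup.eq]
    have h1 : (Quotient.out (QuotientGroup.mk k : C))⁻¹ * k ∈ R.subgroupOf X :=
      QuotientGroup.eq.mp (QuotientGroup.out_eq' _)
    refine Subgroup.mem_subgroupOf.mpr ?_
    have h2 := hRa _ (Subgroup.mem_subgroupOf.mp h1)
    simp only [Subgroup.coe_mul, Subgroup.coe_inv, conjA] at h2 ⊢
    rwa [show (a * ((Quotient.out (QuotientGroup.mk k : C) : X) : Γ) * a⁻¹)⁻¹ * (a * k * a⁻¹) =
      a * (((Quotient.out (QuotientGroup.mk k : C) : X) : Γ)⁻¹ * k) * a⁻¹ by group]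
  have hginj : Function.Injective g := by
    intro c c' hcc
    have h1 := Subgroup.mem_subgroupOf.mp (QuotientGroup.eq.mp hcc)
    rw [← QuotientGroup.out_eq' c, ← QuotientGroup.out_eq' c', QuotientGroup.eq]
    refine Subgroup.mem_subgroupOf.mpr ?_
    have h2 := conj_mem haR h1
    simp only [Subgroup.coe_mul, Subgroup.coe_inv, conjA] at h2 ⊢
    rwa [show a⁻¹ * ((a * ((Quotient.out c : X) : Γ) * a⁻¹)⁻¹ *
      (a * ((Quotient.out c' : X) : Γ) * a⁻¹)) * a =
        ((Quotient.out c : X) : Γ)⁻¹ * ((Quotient.out c' : X) : Γ) by group] at h2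
  let π₀ : Equiv.Perm C := Equiv.ofBijective g (Finite.injective_iff_bijective.mp hginj)
  have hpow : ∀ (i : ℕ) (k : X), (π₀ ^ i) (QuotientGroup.mk k) = QuotientGroup.mk (conjA^[i] k) := by
    intro i
    induction i with
    | zero => intro k; rfl
    | succ i ih =>
      intro k
      rw [pow_succ', Equiv.Perm.mul_apply, ih, Function.iterate_succ_apply']
      exact hg _
  have hiter : ∀ (i : ℕ) (k : X), ((conjA^[i] k : X) : Γ) = a ^ i * k * (a ^ i)⁻¹ := by
    intro i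
    induction i with
    | zero => intro k; simp
    | succ i ih =>
      intro k
      rw [Function.iterate_succ_apply']
      show a * ((conjA^[i] k : X) : Γ) * a⁻¹ = _
      rw [ih, pow_succ']
      group
  have hσr : π₀ ^ r = 1 := Equiv.ext fun c => by
    obtain ⟨k, rfl⟩ := QuotientGroup.mk_surjective c
    rw [hpow]
    refine congrArg QuotientGroup.mk (Subtype.ext ?_)
    rw [hiter, h.layer.pow_eq_one]
    simp
  let T : End F S := (ρ a).restrict h.inv.2
  have hTr : T ^ r = 1 := LinearMap.ext fun v => Subtype.ext (by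
    rw [Module.End.pow_restrict _ (h := h.inv.2), LinearMap.coe_restrict_apply, ← map_pow,
      h.layer.pow_eq_one, map_one]
    rfl)
  obtain ⟨e₁, he₁, he₁'⟩ := hmk 1
  obtain ⟨m, hm1, hm2⟩ := FgsC.Commutant.card_orbits_fixed b hli hspan T h.layer.prime_r.pos hTr π₀
    hσr (QuotientGroup.mk 1)
    (by
      show g (QuotientGroup.mk 1) = _
      rw [hg]
      exact congrArg QuotientGroup.mk (Subtype.ext (by simp [conjA])))
    (Subtype.ext (by
      show ρ a (ρ ((Quotient.out (QuotientGroup.mk 1 : C) : X) : Γ) s₀) =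
        ρ ((Quotient.out (QuotientGroup.mk 1 : C) : X) : Γ) s₀
      rw [he₁', map_smul, Subgroup.coe_one, map_one, End.one_apply, ha]))
    (fun i hi hir c hc => by
      obtain ⟨k, rfl⟩ := QuotientGroup.mk_surjective c
      obtain ⟨l, hl⟩ := Nat.exists_mul_mod_eq_one_of_coprime
        (h.layer.prime_r.coprime_iff_not_dvd.mpr (Nat.not_dvd_of_pos_of_lt hi hir)).symm
        h.layer.prime_r.one_lt
      have hlp : ∀ l : ℕ, ((π₀ ^ i) ^ l) (QuotientGroup.mk k) = QuotientGroup.mk k := by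
        intro l
        induction l with
        | zero => rfl
        | succ l ih => rw [pow_succ', Equiv.Perm.mul_apply, ih, hc]
      have h1 := hlp l
      rw [← pow_mul, pow_eq_pow_mod _ hσr, hl.2, pow_one] at h1
      have h2 : g (QuotientGroup.mk k) = QuotientGroup.mk k := h1
      rw [hg, eq_comm, QuotientGroup.eq] at h2
      have h3 := mem_lineStab_of_ratio h hs ha k.2 (by
        have := Subgroup.mem_subgroupOf.mp h2
        simpa only [Subgroup.coe_mul, Subgroup.coe_inv, conjA] using this)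
      rw [QuotientGroup.eq, mul_one]
      exact inv_mem (Subgroup.mem_subgroupOf.mpr h3))
    (fun c => by
      obtain ⟨e, he0, he⟩ := hmk (conjA (Quotient.out c))
      refine ⟨e⁻¹, inv_ne_zero he0, Subtype.ext ?_⟩
      show ρ a (ρ ((Quotient.out c : X) : Γ) s₀) =
        e⁻¹ • ρ ((Quotient.out (g c) : X) : Γ) s₀
      rw [show g c = QuotientGroup.mk (conjA (Quotient.out c)) from rfl, he, smul_smul,
        inv_mul_cancel₀ he0, one_smul]
      conv_rhs => arg 2; rw [← ha]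
      exact (rho_conj_apply _ _ _).symm)
  have hd : finrank F S = Fintype.card C := Module.finrank_eq_card_basis (Basis.mk hli hspan)
  have hk : finrank F (S ⊓ fixSub ρ a : Submodule F V) = 1 + m := by
    rw [← hm2, (Submodule.equivMapOfInjective _ S.injective_subtype
      (LinearMap.ker (T - 1))).finrank_eq]
    refine congrArg (fun W : Submodule F V => finrank F W) ?_
    ext v
    constructor
    · rintro ⟨hv, hv'⟩
      refine ⟨⟨v, hv⟩, LinearMap.mem_ker.mpr (Subtype.ext ?_), rfl⟩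
      show ρ a v - v = 0
      rw [mem_fixSub.mp hv', sub_self]
    · rintro ⟨w, hw, rfl⟩
      exact ⟨w.2, sub_eq_zero.mp (congrArg Subtype.val (LinearMap.mem_ker.mp hw))⟩
  rw [hd, hm1, hk, Nat.mul_add, Nat.mul_one, Nat.mul_comm r m]
  have := h.layer.prime_r.pos
  omega

/-- A fixed vector has a moved translate of nonzero trace. -/
theorem exists_moved_trace_piece (h : Heis ρ s r X a S) (hs : s₀ ∈ S) (hs0 : s₀ ≠ 0)
    (ha : ρ a s₀ = s₀) :
    ∃ x ∈ X, ρ a (ρ x s₀) ≠ ρ x s₀ ∧ tr ρ a r (ρ x s₀) ≠ 0 := by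
  by_contra hall
  push Not at hall
  obtain ⟨φ, -, hφ⟩ := LinearMap.exists_extend_of_notMem
    (0 : (⊥ : Submodule F V) →ₗ[F] F) (by simpa using hs0 : s₀ ∉ (⊥ : Submodule F V)) 1
  have h1 := line_count h hs hs0 ha (φ := φ) (by rw [hφ]; exact one_ne_zero)
    (fun x hx hne => by rw [hall x hx hne, map_zero])
  have h2 : S ⊓ fixSub ρ a = Submodule.span F {s₀} := le_antisymm
    ((fix_le_line h hs hs0 ha (P := ⊥) fun x hx hne => (Submodule.mem_bot F).mpr
      (hall x hx hne)).trans (by rw [bot_sup_eq]))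
    (Submodule.span_le.mpr (Set.singleton_subset_iff.mpr ⟨hs, ha⟩))
  rw [h2, finrank_span_singleton hs0, Nat.mul_one] at h1
  have hr := h.layer.prime_r.pos
  have hS1 : finrank F S = 1 := by omega
  obtain ⟨x, hx, hns⟩ := h.nonscalar
  have hle : S = Submodule.span F ({s₀} : Set V) := (Submodule.eq_of_le_of_finrank_eq
    (Submodule.span_le.mpr (Set.singleton_subset_iff.mpr hs))
    (by rw [finrank_span_singleton hs0, hS1])).symm
  obtain ⟨c, hc⟩ := Submodule.mem_span_singleton.mp (hle ▸ h.inv.1 x hx s₀ hs)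
  refine hns ⟨c, fun v hv => ?_⟩
  rw [hle] at hv
  obtain ⟨e, rfl⟩ := Submodule.mem_span_singleton.mp hv
  rw [map_smul, ← hc, smul_comm]

end piece

end CfsgLib.TurullFit.Hy
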