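import Cfsg.Agent.Lib.TurullFit.HyperBase

/-!
# A central subgroup not centralised by `a`

If the traces seen by `T` are fixed by `y` and a subgroup central on an invariant subspace does not
commute with `a` on a component, then `y` fixes the fixed points of `a` in that component, and if
that component has non-scalar centre then `y` fixes it.
-/

set_option autoImplicit false
set_option linter.style.haveILetI false
set_option linter.unusedSectionVars false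

open Module
open scoped commutatorElement

namespace CfsgLib.TurullFit.Hy

open CfsgLib.FgsC.HallHigman CfsgLib.FgsC.CoprimeWeights

variable {F : Type*} [Field F] {Γ : Type*} [Group Γ] {V : Type*} [AddCommGroup V] [Module F V]
  {ρ : Representation F Γ V} {s r : ℕ} {X : Subgroup Γ} {a : Γ}

/-- `HypT` on an invariant subspace. -/
structure HypW (ρ : Representation F Γ V) (r : ℕ) (X : Subgroup Γ) (a : Γ) (W T : Submodule F V)
    (Ω : Set V) : Prop where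
  le : T ≤ W ⊓ fixSub ρ a
  omega : Ω ⊆ ((W ⊓ fixSub ρ a : Submodule F V) : Set V)
  span : W ⊓ fixSub ρ a ≤ T ⊔ Submodule.span F Ω
  moved : ∀ χ ∈ Ω, ∀ x ∈ X, ρ a (ρ x χ) ≠ ρ x χ → tr ρ a r (ρ x χ) ∈ T

theorem hypW_top {T : Submodule F V} {Ω : Set V} (h : HypT ρ r X a T Ω) :
    HypW ρ r X a ⊤ T Ω where
  le := by rw [top_inf_eq]; exact h.le_fix
  omega := by rw [top_inf_eq]; exact h.omega_fix
  span := by rw [top_inf_eq]; exact h.span
  moved := h.moved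

theorem HypW.map {W W' T : Submodule F V} {Ω : Set V} (h : HypW ρ r X a W T Ω)
    (hW : Inv ρ X a W) (hle : W' ≤ W) {π : End F V} (hπW : ∀ v ∈ W, π v ∈ W')
    (hπid : ∀ v ∈ W', π v = v) (hπX : ∀ x ∈ X, ∀ v ∈ W, π (ρ x v) = ρ x (π v))
    (hπa : ∀ v ∈ W, π (ρ a v) = ρ a (π v)) : HypW ρ r X a W' (T.map π) (π '' Ω) := by
  have hfix : ∀ v ∈ W, ρ a v = v → π v ∈ W' ⊓ fixSub ρ a := fun v hv hav =>
    ⟨hπW v hv, by rw [SetLike.mem_coe, mem_fixSub, ← hπa v hv, hav]⟩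
  refine ⟨?_, ?_, ?_, ?_⟩
  · rintro _ ⟨t, ht, rfl⟩
    exact hfix t (h.le ht).1 (mem_fixSub.mp (h.le ht).2)
  · rintro _ ⟨χ, hχ, rfl⟩
    exact hfix χ (h.omega hχ).1 (mem_fixSub.mp (h.omega hχ).2)
  · intro v hv
    have h1 := Submodule.mem_map_of_mem (f := π) (h.span ⟨hle hv.1, hv.2⟩)
    rw [hπid v hv.1, Submodule.map_sup, Submodule.map_span] at h1
    exact h1
  · rintro _ ⟨χ, hχ, rfl⟩ x hx hne
    have hχW := (h.omega hχ).1
    have hxW := hW.1 x hx χ hχW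
    refine ⟨tr ρ a r (ρ x χ), h.moved χ hχ x hx fun he => hne ?_, ?_⟩
    · rw [← hπX x hx χ hχW, ← hπa _ hxW, he]
    · rw [tr_map hW.2 hπa hxW, hπX x hx χ hχW]

theorem HypW.map_le_fix {W T : Submodule F V} {Ω : Set V} (h : HypW ρ r X a W T Ω) {π : End F V}
    {y : Γ} (hTy : T ≤ fixSub ρ y) (hπy : ∀ v ∈ W, π (ρ y v) = ρ y (π v)) :
    T.map π ≤ fixSub ρ y := by
  rintro _ ⟨t, ht, rfl⟩
  rw [mem_fixSub, ← hπy t (h.le ht).1, mem_fixSub.mp (hTy ht)]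

/-- The stabiliser of a vector. -/
def vecStab (ρ : Representation F Γ V) (v : V) : Subgroup Γ where
  carrier := {g | ρ g v = v}
  mul_mem' := fun {g h} (hg : ρ g v = v) (hh : ρ h v = v) => by
    show ρ (g * h) v = v
    rw [map_mul, End.mul_apply, hh, hg]
  one_mem' := by show ρ 1 v = v; rw [map_one, End.one_apply]
  inv_mem' := fun {g} (hg : ρ g v = v) => by
    show ρ g⁻¹ v = v
    conv_lhs => rw [← hg]
    exact rho_apply_inv g v

theorem mem_vecStab {v : V} {g : Γ} : g ∈ vecStab ρ v ↔ ρ g v = v := Iff.rfl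

/-- An injective map modulo `K` on a finite subgroup is surjective modulo `K`. -/
theorem surj_mod [Finite Γ] {M K : Subgroup Γ} (f : Γ → Γ) (hf : ∀ m ∈ M, f m ∈ M)
    (hinj : ∀ m ∈ M, ∀ m' ∈ M, (f m)⁻¹ * f m' ∈ K → m⁻¹ * m' ∈ K) {σ : Γ} (hσ : σ ∈ M) :
    ∃ m ∈ M, (f m)⁻¹ * σ ∈ K := by
  let g : M ⧸ K.subgroupOf M → M ⧸ K.subgroupOf M := fun c =>
    QuotientGroup.mk ⟨f ((Quotient.out c : M) : Γ), hf _ (SetLike.coe_mem _)⟩
  have hg : Function.Injective g := by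
    intro c d hcd
    rw [← QuotientGroup.out_eq' c, ← QuotientGroup.out_eq' d, QuotientGroup.eq]
    refine Subgroup.mem_subgroupOf.mpr
      (hinj _ (SetLike.coe_mem _) _ (SetLike.coe_mem _) ?_)
    exact Subgroup.mem_subgroupOf.mp (QuotientGroup.eq.mp hcd)
  obtain ⟨c, hc⟩ := Finite.injective_iff_surjective.mp hg (QuotientGroup.mk ⟨σ, hσ⟩)
  exact ⟨_, SetLike.coe_mem (Quotient.out c),
    Subgroup.mem_subgroupOf.mp (QuotientGroup.eq.mp hc)⟩

section layer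

variable [Finite Γ]

theorem card_ne_zero (L : Layer ρ s r X a) {A : Subgroup Γ} (hA : A ≤ X) :
    (Nat.card A : F) ≠ 0 := by
  haveI := Fact.mk L.prime_s
  obtain ⟨n, hn⟩ := IsPGroup.iff_card.mp (L.isPGroup.to_le hA)
  rw [hn, Nat.cast_pow]
  exact pow_ne_zero n L.s_ne_zero

theorem mem_of_pow_mem (L : Layer ρ s r X a) {H : Subgroup Γ} {x : Γ} (hx : x ∈ X)
    (h : x ^ r ∈ H) : x ∈ H := by
  obtain ⟨n, hn⟩ := L.isPGroup ⟨x, hx⟩
  have hn' : x ^ s ^ n = 1 := congrArg Subtype.val hn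
  have hcop : r.Coprime (orderOf x) :=
    Nat.Coprime.coprime_dvd_right (orderOf_dvd_of_pow_eq_one hn')
      (Nat.Coprime.pow_right n ((Nat.coprime_primes L.prime_r L.prime_s).mpr L.s_ne_r.symm))
  obtain ⟨m, hm⟩ := exists_pow_eq_self_of_coprime hcop
  rw [← hm]
  exact pow_mem h m

end layer

section norm

/-- The product of the first conjugates of `q` under `a`. -/
def nProd (a : Γ) (k : ℕ) (q : Γ) : Γ := (q * a) ^ k * (a ^ k)⁻¹

theorem nProd_zero (q : Γ) : nProd a 0 q = 1 := by simp [nProd]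

theorem nProd_succ (k : ℕ) (q : Γ) :
    nProd a (k + 1) q = nProd a k q * (a ^ k * q * (a ^ k)⁻¹) := by
  rw [nProd, nProd, pow_succ, pow_succ]
  group

theorem nProd_mem {A : Subgroup Γ} (ha : a ∈ Subgroup.normalizer (A : Set Γ)) {q : Γ} (hq : q ∈ A)
    (k : ℕ) : nProd a k q ∈ A := by
  induction k with
  | zero => rw [nProd_zero]; exact A.one_mem
  | succ k ih => rw [nProd_succ]; exact A.mul_mem ih (conj_mem' (pow_mem ha k) hq)

variable {A : Subgroup Γ} {W : Submodule F V}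

theorem nProd_mul (ha : a ∈ Subgroup.normalizer (A : Set Γ))
    (hAW : ∀ q ∈ A, ∀ v ∈ W, ρ q v ∈ W)
    (hab : ∀ p ∈ A, ∀ q ∈ A, ∀ v ∈ W, ρ p (ρ q v) = ρ q (ρ p v)) {p q : Γ} (hp : p ∈ A)
    (hq : q ∈ A) : ∀ (k : ℕ), ∀ v ∈ W,
      ρ (nProd a k (p * q)) v = ρ (nProd a k p) (ρ (nProd a k q) v) := by
  intro k
  induction k with
  | zero => intro v _; rw [nProd_zero, nProd_zero, nProd_zero, map_one, End.one_apply, End.one_apply]
  | succ k ih =>
    intro v hv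
    have hcp := conj_mem' (pow_mem ha k) hp
    have hcq := conj_mem' (pow_mem ha k) hq
    rw [nProd_succ, nProd_succ, nProd_succ,
      show a ^ k * (p * q) * (a ^ k)⁻¹ = a ^ k * p * (a ^ k)⁻¹ * (a ^ k * q * (a ^ k)⁻¹) by group,
      map_mul ρ (nProd a k (p * q)), map_mul ρ (a ^ k * p * (a ^ k)⁻¹), map_mul ρ (nProd a k p),
      map_mul ρ (nProd a k q), End.mul_apply, End.mul_apply, End.mul_apply, End.mul_apply, ih _ (hAW _ hcp _ (hAW _ hcq v hv)),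
      hab _ (nProd_mem ha hq k) _ hcp _ (hAW _ hcq v hv)]

/-- The elements of `A` of trivial norm on `W`. -/
def normGrp (ρ : Representation F Γ V) (r : ℕ) (A : Subgroup Γ) (a : Γ) (W : Submodule F V)
    (ha : a ∈ Subgroup.normalizer (A : Set Γ)) (hAW : ∀ q ∈ A, ∀ v ∈ W, ρ q v ∈ W)
    (hab : ∀ p ∈ A, ∀ q ∈ A, ∀ v ∈ W, ρ p (ρ q v) = ρ q (ρ p v)) : Subgroup Γ where
  carrier := {q | q ∈ A ∧ ∀ v ∈ W, ρ (nProd a r q) v = v}
  mul_mem' := fun {p q} hp hq => ⟨A.mul_mem hp.1 hq.1, fun v hv => by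
    rw [nProd_mul ha hAW hab hp.1 hq.1 r v hv, hq.2 v hv, hp.2 v hv]⟩
  one_mem' := ⟨A.one_mem, fun v _ => by
    rw [nProd, one_mul, mul_inv_cancel, map_one, End.one_apply]⟩
  inv_mem' := fun {q} hq => ⟨A.inv_mem hq.1, fun v hv => by
    have h := nProd_mul ha hAW hab (A.inv_mem hq.1) hq.1 r v hv
    rwa [inv_mul_cancel, hq.2 v hv, nProd, one_mul, mul_inv_cancel, map_one, End.one_apply,
      eq_comm] at h⟩

variable {ha : a ∈ Subgroup.normalizer (A : Set Γ)} {hAW : ∀ q ∈ A, ∀ v ∈ W, ρ q v ∈ W}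
  {hab : ∀ p ∈ A, ∀ q ∈ A, ∀ v ∈ W, ρ p (ρ q v) = ρ q (ρ p v)}

theorem normGrp_le : normGrp ρ r A a W ha hAW hab ≤ A := fun _ hq => hq.1

theorem mem_normGrp_conj (har : a ^ r = 1) {q : Γ} (hq : q ∈ A) :
    q⁻¹ * (a * q * a⁻¹) ∈ normGrp ρ r A a W ha hAW hab := by
  refine ⟨A.mul_mem (A.inv_mem hq) (conj_mem' ha hq), fun v _ => ?_⟩
  rw [nProd, har, inv_one, mul_one,
    show q⁻¹ * (a * q * a⁻¹) * a = q⁻¹ * a * (q⁻¹)⁻¹ by group, conj_pow, har]
  simp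

variable [Finite Γ]

theorem normGrp_normalizer {g : Γ} (hgA : g ∈ Subgroup.normalizer (A : Set Γ))
    (hga : a * g = g * a) (hgW : ∀ v ∈ W, ρ g v ∈ W) :
    g ∈ Subgroup.normalizer (normGrp ρ r A a W ha hAW hab : Set Γ) := by
  refine mem_normalizer_of_conj fun q hq => ⟨conj_mem' hgA hq.1, fun v hv => ?_⟩
  have hc : Commute g a := hga.symm
  rw [nProd, show g * q * g⁻¹ * a = g * (q * a) * g⁻¹ by
      rw [mul_assoc _ g⁻¹ a, hc.inv_left.eq]; group,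
    conj_pow, show g * (q * a) ^ r * g⁻¹ * (a ^ r)⁻¹ = g * ((q * a) ^ r * (a ^ r)⁻¹) * g⁻¹ by
      rw [mul_assoc _ g⁻¹ _, ((hc.pow_right r).inv_right.inv_left).eq]; group]
  conv_lhs => rw [← rho_inv_apply (ρ := ρ) g v]
  rw [rho_conj_apply, show ρ ((q * a) ^ r * (a ^ r)⁻¹) (ρ g⁻¹ v) = ρ g⁻¹ v from
    hq.2 _ (inv_stable hgW v hv), rho_inv_apply]

/-- `a` has no fixed points on the norm kernel. -/
theorem normGrp_free (L : Layer ρ s r X a) (hAX : A ≤ X) {U : Submodule F V} (hUW : U ≤ W)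
    (hUa : ∀ v ∈ U, ρ a v ∈ U) (hUA : ∀ q ∈ A, ∀ v ∈ U, ρ q v ∈ U) {q : Γ}
    (hq : q ∈ normGrp ρ r A a W ha hAW hab) (h : ∀ v ∈ U, ρ (a * q * a⁻¹) v = ρ q v) :
    ∀ v ∈ U, ρ q v = v := by
  have hconj : ∀ k : ℕ, ∀ v ∈ U, ρ (a ^ k * q * (a ^ k)⁻¹) v = ρ q v := by
    intro k
    induction k with
    | zero => intro v _; simp
    | succ k ih =>
      intro v hv
      obtain ⟨w, hw, rfl⟩ : ∃ w ∈ U, ρ a w = v :=
        ⟨ρ a⁻¹ v, inv_stable hUa v hv, rho_inv_apply a v⟩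
      rw [show a ^ (k + 1) * q * (a ^ (k + 1))⁻¹ = a * (a ^ k * q * (a ^ k)⁻¹) * a⁻¹ by
        rw [pow_succ']; group, rho_conj_apply, ih w hw, ← rho_conj_apply a q, h _ hv]
  have hn : ∀ k : ℕ, ∀ v ∈ U, ρ (nProd a k q) v = ρ (q ^ k) v := by
    intro k
    induction k with
    | zero => intro v _; rw [nProd_zero, pow_zero]
    | succ k ih =>
      intro v hv
      rw [nProd_succ, map_mul, End.mul_apply, hconj k v hv, ih _ (hUA q hq.1 v hv),
        rho_mul_apply, ← pow_succ]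
  have h1 : q ^ r ∈ fixer ρ U := fun v hv => by rw [← hn r v hv]; exact hq.2 v (hUW hv)
  exact mem_of_pow_mem L (hAX hq.1) h1

/-- The trace of the sum of an orbit of the norm kernel. -/
theorem orbit_trace (L : Layer ρ s r X a) (hAX : A ≤ X) (hWa : ∀ v ∈ W, ρ a v ∈ W) {χ : V}
    (hχ : χ ∈ W) (haχ : ρ a χ = χ) [Fintype (normGrp ρ r A a W ha hAW hab)] [DecidableEq V] :
    ∃ c : F, c ≠ 0 ∧ tr ρ a r (∑ q : normGrp ρ r A a W ha hAW hab, ρ (q : Γ) χ) = c • χ +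
      ∑ q ∈ Finset.univ.filter (fun q : normGrp ρ r A a W ha hAW hab =>
        ρ a (ρ (q : Γ) χ) ≠ ρ (q : Γ) χ), tr ρ a r (ρ (q : Γ) χ) := by
  classical
  have haQ : a ∈ Subgroup.normalizer ((normGrp ρ r A a W ha hAW hab) : Set Γ) := normGrp_normalizer ha rfl hWa
  have hstab : ∀ q ∈ (normGrp ρ r A a W ha hAW hab), ρ a (ρ q χ) = ρ q χ → ρ q χ = χ := by
    intro q hq hqa
    have hσ : q⁻¹ * (a * q * a⁻¹) ∈ (normGrp ρ r A a W ha hAW hab) ⊓ vecStab ρ χ := by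
      refine ⟨mem_normGrp_conj L.pow_eq_one hq.1, ?_⟩
      show ρ (q⁻¹ * (a * q * a⁻¹)) χ = χ
      rw [map_mul, End.mul_apply]
      conv_lhs => arg 2; arg 2; rw [← haχ]
      rw [rho_conj_apply, hqa, rho_apply_inv]
    have hinj : ∀ m ∈ (normGrp ρ r A a W ha hAW hab), ∀ m' ∈ (normGrp ρ r A a W ha hAW hab),
        (m⁻¹ * (a * m * a⁻¹))⁻¹ * (m'⁻¹ * (a * m' * a⁻¹)) ∈ fixer ρ W →
          m⁻¹ * m' ∈ fixer ρ W := by
      intro m hm m' hm' hk
      refine normGrp_free L hAX le_rfl hWa hAW ((normGrp ρ r A a W ha hAW hab).mul_mem ((normGrp ρ r A a W ha hAW hab).inv_mem hm) hm') fun v hv => ?_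
      have e1 := conj_mem' ha hm.1
      have e2 := conj_mem' ha hm'.1
      have hd : m * m'⁻¹ ∈ A := A.mul_mem hm.1 (A.inv_mem hm'.1)
      have hd' : m⁻¹ * m' ∈ A := A.mul_mem (A.inv_mem hm.1) hm'.1
      have h1 := hk (ρ (m⁻¹ * m') v) (hAW _ hd' v hv)
      rw [show (m⁻¹ * (a * m * a⁻¹))⁻¹ * (m'⁻¹ * (a * m' * a⁻¹)) =
        (a * m * a⁻¹)⁻¹ * ((m * m'⁻¹) * (a * m' * a⁻¹)) by group, map_mul, map_mul,
        End.mul_apply, End.mul_apply, hab _ hd _ e2 _ (hAW _ hd' v hv)] at h1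
      have h2 : ρ (m * m'⁻¹) (ρ (m⁻¹ * m') v) = v := by
        rw [map_mul, map_mul, End.mul_apply, End.mul_apply,
          hab _ (A.inv_mem hm'.1) _ (A.inv_mem hm.1) _ (hAW _ hm'.1 v hv), rho_apply_inv,
          rho_inv_apply]
      rw [h2, rho_mul_apply] at h1
      rw [show a * (m⁻¹ * m') * a⁻¹ = (a * m * a⁻¹)⁻¹ * (a * m' * a⁻¹) by group]
      exact h1
    obtain ⟨m, hm, hmk⟩ := surj_mod (M := (normGrp ρ r A a W ha hAW hab) ⊓ vecStab ρ χ) (K := fixer ρ W)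
      (fun m => m⁻¹ * (a * m * a⁻¹))
      (fun m hm => by
        refine ⟨(normGrp ρ r A a W ha hAW hab).mul_mem ((normGrp ρ r A a W ha hAW hab).inv_mem hm.1) (conj_mem' haQ hm.1), ?_⟩
        show ρ (m⁻¹ * (a * m * a⁻¹)) χ = χ
        rw [map_mul, End.mul_apply]
        conv_lhs => arg 2; arg 2; rw [← haχ]
        rw [rho_conj_apply, mem_vecStab.mp hm.2, haχ]
        exact fix_inv (mem_vecStab.mp hm.2))
      (fun m hm m' hm' => hinj m hm.1 m' hm'.1) hσ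
    have h1 := hinj m hm.1 q hq hmk
    conv_lhs => rw [show q = m * (m⁻¹ * q) by group, map_mul, End.mul_apply, h1 χ hχ]
    exact mem_vecStab.mp hm.2
  haveI : Fintype ((normGrp ρ r A a W ha hAW hab) ⊓ vecStab ρ χ : Subgroup Γ) := Fintype.ofFinite _
  set N := Finset.univ.filter (fun q : (normGrp ρ r A a W ha hAW hab) => ¬ ρ a (ρ (q : Γ) χ) ≠ ρ (q : Γ) χ) with hN
  have hcard : N.card = Nat.card ((normGrp ρ r A a W ha hAW hab) ⊓ vecStab ρ χ : Subgroup Γ) := by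
    rw [Nat.card_eq_fintype_card, ← Finset.card_univ]
    refine Finset.card_bij (fun q hq => (⟨(q : Γ), q.2, hstab q q.2
      (not_not.mp (Finset.mem_filter.mp hq).2)⟩ : ((normGrp ρ r A a W ha hAW hab) ⊓ vecStab ρ χ : Subgroup Γ)))
      (fun q _ => Finset.mem_univ _) (fun p _ q _ h => Subtype.ext
        (congrArg (fun g : ((normGrp ρ r A a W ha hAW hab) ⊓ vecStab ρ χ : Subgroup Γ) => (g : Γ)) h))
      (fun g _ => ⟨⟨g, g.2.1⟩, Finset.mem_filter.mpr ⟨Finset.mem_univ _, not_not.mpr ?_⟩,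
        Subtype.ext rfl⟩)
    show ρ a (ρ (g : Γ) χ) = ρ (g : Γ) χ
    rw [mem_vecStab.mp g.2.2, haχ]
  refine ⟨(N.card : F) * (r : F), mul_ne_zero ?_ L.r_ne_zero, ?_⟩
  · rw [hcard]
    exact card_ne_zero L (inf_le_left.trans (normGrp_le.trans hAX))
  · rw [map_sum]
    refine (Finset.sum_filter_add_sum_filter_not Finset.univ
      (fun q : (normGrp ρ r A a W ha hAW hab) => ρ a (ρ (q : Γ) χ) ≠ ρ (q : Γ) χ)
      (fun q : (normGrp ρ r A a W ha hAW hab) => tr ρ a r (ρ (q : Γ) χ))).symm.trans ?_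
    rw [add_comm]
    refine congrArg₂ (· + ·) ?_ rfl
    rw [
      Finset.sum_congr rfl (fun (q : (normGrp ρ r A a W ha hAW hab)) (hq : q ∈ N) => show tr ρ a r (ρ (q : Γ) χ) = (r : F) • χ by
        rw [hstab q q.2 (not_not.mp (Finset.mem_filter.mp hq).2), tr_of_fix haχ]),
      Finset.sum_const, ← Nat.cast_smul_eq_nsmul F, smul_smul]

/-- The orbit sum lies in the fixed space of the norm kernel. -/
theorem sum_mem_wspace [Fintype (normGrp ρ r A a W ha hAW hab)] (v : V) :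
    ∑ q : normGrp ρ r A a W ha hAW hab, ρ (q : Γ) v ∈
      wspace ρ (normGrp ρ r A a W ha hAW hab) fun _ => (1 : F) := by
  intro p hp
  rw [one_smul, map_sum]
  exact Fintype.sum_equiv (Equiv.mulLeft ⟨p, hp⟩) _ _ fun q => by
    rw [rho_mul_apply]; rfl

/-- Lemma A: the fixed points of `a` are `T` and fixed points of the norm kernel. -/
theorem fix_le_sup (L : Layer ρ s r X a) (hAX : A ≤ X) (hW : Inv ρ X a W) {T : Submodule F V}
    {Ω : Set V} (H : HypW ρ r X a W T Ω) :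
    W ⊓ fixSub ρ a ≤
      T ⊔ (W ⊓ wspace ρ (normGrp ρ r A a W ha hAW hab) fun _ => (1 : F)) := by
  classical
  set Q := normGrp ρ r A a W ha hAW hab with hQdef
  haveI : Fintype Q := Fintype.ofFinite _
  refine H.span.trans (sup_le le_sup_left (Submodule.span_le.mpr fun χ hχ => ?_))
  have hχW := (H.omega hχ).1
  have haQ : a ∈ Subgroup.normalizer (Q : Set Γ) := normGrp_normalizer ha rfl hW.2
  obtain ⟨c, hc, hsum⟩ := orbit_trace (ha := ha) (hAW := hAW) (hab := hab) L hAX hW.2 hχW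
    (mem_fixSub.mp (H.omega hχ).2)
  refine r_smul_mem hc ?_
  rw [eq_sub_iff_add_eq.mpr hsum.symm]
  refine sub_mem (Submodule.mem_sup_right (tr_mem (U := W ⊓ wspace ρ Q fun _ => (1 : F))
    (fun v hv => ⟨hW.2 v hv.1, rho_mem_wspace' hv.2 haQ⟩)
    ⟨sum_mem fun q _ => hAW q (normGrp_le q.2) χ hχW, sum_mem_wspace χ⟩))
    (Submodule.mem_sup_left (sum_mem fun q hq => ?_))
  exact H.moved χ hχ q (hAX (normGrp_le q.2)) (Finset.mem_filter.mp hq).2

end norm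

section fix

variable [Finite Γ] {A : Subgroup Γ} {W S : Submodule F V}

/-- A central subgroup not commuting with `a` on a component has no fixed points there. -/
theorem inf_wspace_eq_bot (L : Layer ρ s r X a) (hW : Inv ρ X a W) (hAX : A ≤ X)
    (hAc : ∀ q ∈ A, ∀ x ∈ X, ∀ v ∈ W, ρ q (ρ x v) = ρ x (ρ q v))
    (ha : a ∈ Subgroup.normalizer (A : Set Γ)) (hS : Comp ρ X a S) (hSW : S ≤ W)
    (hne : ∃ q ∈ A, ∃ v ∈ S, ρ (a * q * a⁻¹) v ≠ ρ q v) :
    S ⊓ wspace ρ (normGrp ρ r A a W ha (fun q hq => hW.1 q (hAX hq))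
      (fun p hp q hq => hAc p hp q (hAX hq))) (fun _ => (1 : F)) = ⊥ := by
  by_contra hbot
  obtain ⟨q, hq, v, hv, hqv⟩ := hne
  have haQ : a ∈ Subgroup.normalizer (normGrp ρ r A a W ha (fun q hq => hW.1 q (hAX hq))
      (fun p hp q hq => hAc p hp q (hAX hq)) : Set Γ) := normGrp_normalizer ha rfl hW.2
  have hE := hS.2.2 _ inf_le_left hbot ⟨fun x hx u hu => ⟨hS.2.1.1 x hx u hu.1, fun p hp => by
      rw [hAc p (normGrp_le hp) x hx u (hSW hu.1), hu.2 p hp, map_smul]⟩,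
    fun u hu => ⟨hS.2.1.2 u hu.1, rho_mem_wspace' hu.2 haQ⟩⟩
  have h1 := ((hE.symm ▸ hv : v ∈ _).2) _ (mem_normGrp_conj L.pow_eq_one hq)
  rw [one_smul, map_mul, End.mul_apply] at h1
  refine hqv ?_
  conv_rhs => rw [← h1]
  rw [rho_inv_apply]

/-- A central subgroup not commuting with `a`: `y` fixes the fixed points of `a`. -/
theorem fix_of_noncomm (L : Layer ρ s r X a) (hW : Inv ρ X a W) (hAX : A ≤ X)
    (hAc : ∀ q ∈ A, ∀ x ∈ X, ∀ v ∈ W, ρ q (ρ x v) = ρ x (ρ q v))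
    (ha : a ∈ Subgroup.normalizer (A : Set Γ)) {y : Γ} (hyA : y ∈ Subgroup.normalizer (A : Set Γ))
    (hya : a * y = y * a) (hyW : ∀ v ∈ W, ρ y v ∈ W) {T : Submodule F V} {Ω : Set V}
    (H : HypW ρ r X a W T Ω) (hTy : T ≤ fixSub ρ y) (hS : Comp ρ X a S) (hSW : S ≤ W)
    (hne : ∃ q ∈ A, ∃ v ∈ S, ρ (a * q * a⁻¹) v ≠ ρ q v) :
    ∀ v ∈ S, ρ a v = v → ρ y v = v := by
  intro v hv hav
  have hbot := inf_wspace_eq_bot L hW hAX hAc ha hS hSW hne
  set Q := normGrp ρ r A a W ha (fun q hq => hW.1 q (hAX hq))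
    (fun p hp q hq => hAc p hp q (hAX hq)) with hQdef
  have hQX : Q ≤ X := normGrp_le.trans hAX
  have hQ0 := card_ne_zero L hQX
  have hyQ : y ∈ Subgroup.normalizer (Q : Set Γ) := normGrp_normalizer hyA hya hyW
  have hP : wproj ρ Q (fun _ => (1 : F)) v = 0 := by
    have h1 : wproj ρ Q (fun _ => (1 : F)) v ∈ S ⊓ wspace ρ Q (fun _ => (1 : F)) :=
      ⟨wproj_mem_of (fun q hq u hu => hS.2.1.1 q (hQX hq) u hu) hv, wproj_mem (isChar_one Q) v⟩
    rwa [hbot, Submodule.mem_bot] at h1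
  obtain ⟨t, ht, c, hc, rfl⟩ := Submodule.mem_sup.mp
    (fix_le_sup L hAX hW H (⟨hSW hv, hav⟩ : v ∈ W ⊓ fixSub ρ a))
  have hd : ρ y (t + c) - (t + c) = ρ y c - c := by
    rw [map_add, mem_fixSub.mp (hTy ht)]; abel
  have hmem : ρ y c - c ∈ wspace ρ Q (fun _ => (1 : F)) :=
    sub_mem (rho_mem_wspace' hc.2 hyQ) hc.2
  have h0 := wproj_self hQ0 (isChar_one Q) hmem
  rw [← hd, map_sub] at h0
  have h1 := rho_wproj (ρ := ρ) (μ := fun _ => (1 : F)) hyQ (t + c)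
  rw [hP, map_zero] at h1
  rw [← h1, hP, sub_zero] at h0
  exact sub_eq_zero.mp h0.symm

/-- `y` fixes a component with non-scalar centre once it fixes the fixed points of `a` in it. -/
theorem le_fix_of_fix [IsAlgClosed F] [FiniteDimensional F V] (L : Layer ρ s r X a) {y : Γ}
    (hyX : y ∈ Subgroup.normalizer (X : Set Γ)) (hya : a * y = y * a)
    (hcop : (orderOf y).Coprime r) (hS : Comp ρ X a S) (hnf : ¬ FixedType ρ X S)
    (hCne : S ⊓ fixSub ρ a ≠ ⊥) (hC : ∀ v ∈ S, ρ a v = v → ρ y v = v) :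
    S ≤ fixSub ρ y := by
  have hyS : ∀ v ∈ S, ρ y v ∈ S := by
    have hmap : S ⊓ S.map (ρ y) = S := by
      refine hS.2.2 _ inf_le_left (fun h => hCne ?_) ⟨fun x hx v hv => ?_, fun v hv => ?_⟩
      · rw [Submodule.eq_bot_iff] at h ⊢
        exact fun v hv => h v ⟨hv.1, v, hv.1, hC v hv.1 hv.2⟩
      · obtain ⟨hv1, w, hw, rfl⟩ := hv
        refine ⟨hS.2.1.1 x hx _ hv1, ρ (y⁻¹ * x * y) w, hS.2.1.1 _ (conj_mem hyX hx) w hw, ?_⟩
        rw [rho_mul_apply, rho_mul_apply, mul_assoc y⁻¹, ← mul_assoc, mul_inv_cancel, one_mul]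
      · obtain ⟨hv1, w, hw, rfl⟩ := hv
        exact ⟨hS.2.1.2 _ hv1, ρ a w, hS.2.1.2 w hw, rho_comm_apply hya.symm w⟩
    have hinv : ∀ v ∈ S, ρ y⁻¹ v ∈ S := fun v hv => by
      obtain ⟨w, hw, hwv⟩ := (hmap.symm ▸ hv : v ∈ S ⊓ S.map (ρ y)).2
      rw [← hwv, rho_apply_inv]
      exact hw
    intro v hv
    have := inv_stable hinv v hv
    rwa [inv_inv] at this
  set B := cen ρ X S hS.2.1.1 with hB
  have hBX : B ≤ X := cen_le
  have haB : a ∈ Subgroup.normalizer (B : Set Γ) := cen_normalizer L.mem_normalizer hS.2.1.2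
  have hyB : y ∈ Subgroup.normalizer (B : Set Γ) := cen_normalizer hyX hyS
  have hBc : ∀ p ∈ B, ∀ x ∈ X, ∀ v ∈ S, ρ p (ρ x v) = ρ x (ρ p v) := fun p hp x hx v hv => by
    rw [rho_mul_apply, rho_mul_apply]
    exact hp.2 x hx v hv
  obtain ⟨q, hq, hqne⟩ : ∃ q ∈ B, ∃ v ∈ S, ρ (a * q * a⁻¹) v ≠ ρ q v := by
    by_contra hall
    push Not at hall
    exact hnf fun x hx => scalar_of_comm hS hx (hall x hx)
  obtain ⟨v₀, hv₀, hqv⟩ := hqne
  obtain ⟨μ, u, huS, hu0, hu⟩ := exists_weight_on (ρ := ρ) (A := B) hS.1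
    (fun p hp => hS.2.1.1 p (hBX hp)) (fun p hp p' hp' => hBc p hp p' (hBX hp'))
  have hE : ∀ x ∈ X, ∀ v ∈ S ⊓ wspace ρ B μ, ρ x v ∈ S ⊓ wspace ρ B μ := fun x hx v hv =>
    ⟨hS.2.1.1 x hx v hv.1, fun p hp => by rw [hBc p hp x hx v hv.1, hv.2 p hp, map_smul]⟩
  have hmove : ¬ Fixes B μ a := by
    intro hfix
    refine hqv ?_
    have hES := hS.2.2 (S ⊓ wspace ρ B μ) inf_le_left
      (fun h => hu0 ((Submodule.eq_bot_iff _).mp h u ⟨huS, hu⟩))
      ⟨hE, fun v hv => ⟨hS.2.1.2 v hv.1, fun p hp =>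
        (rho_mem_wspace' hv.2 haB p hp).trans (congrArg (· • ρ a v) (hfix p hp))⟩⟩
    have h2 := (hES.symm ▸ hv₀ : v₀ ∈ S ⊓ wspace ρ B μ).2
    have h3 := hfix _ (conj_mem' haB hq)
    rw [show a⁻¹ * (a * q * a⁻¹) * a = q by group] at h3
    rw [h2 _ (conj_mem' haB hq), h2 q hq, h3]
  set μ' : Γ → F := fun p => μ (y⁻¹ * p * y) with hμ'
  have hmove' : ¬ Fixes B μ' a := by
    intro hfix
    refine hmove fun p hp => ?_
    have h1 := hfix _ (conj_mem' hyB hp)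
    have hc : Commute a y := hya
    simp only [hμ'] at h1
    rwa [show y⁻¹ * (a⁻¹ * (y * p * y⁻¹) * a) * y = a⁻¹ * p * a by
        rw [show y⁻¹ * (a⁻¹ * (y * p * y⁻¹) * a) * y =
          (y⁻¹ * a⁻¹ * y) * p * (y⁻¹ * a * y) by group]
        rw [mul_assoc y⁻¹ a⁻¹ y, hc.inv_left.eq, inv_mul_cancel_left, mul_assoc y⁻¹ a y, hc.eq,
          inv_mul_cancel_left],
      show y⁻¹ * (y * p * y⁻¹) * y = p by group] at h1
  have hB0 := card_ne_zero L hBX
  have hμch : IsChar B μ := isChar_of_weight hu hu0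
  have hμ'ch : IsChar B μ' := hμch.conj hyB
  set P := wproj ρ B μ' with hPdef
  have hother : ∀ (i : ℕ) (ν : Γ → F) (v : V), v ∈ wspace ρ B ν →
      (¬ ∀ p ∈ B, ν ((a ^ i)⁻¹ * p * a ^ i) = μ' p) → P (ρ (a ^ i) v) = 0 := by
    intro i ν v hv hne
    push Not at hne
    obtain ⟨p, hp, hpne⟩ := hne
    exact wproj_ne hμ'ch (rho_mem_wspace' hv (pow_mem haB i)) hp (Ne.symm hpne)
  have hL : ∀ v ∈ S ⊓ wspace ρ B μ, P (tr ρ a r (ρ y v)) = ρ y v := by
    intro v hv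
    have hyv : ρ y v ∈ wspace ρ B μ' := rho_mem_wspace' hv.2 hyB
    rw [tr, normEnd_apply, map_sum, Finset.sum_eq_single ⟨0, L.prime_r.pos⟩]
    · rw [pow_zero, map_one, End.one_apply, hPdef, wproj_self hB0 hμ'ch hyv]
    · intro i _ hi
      refine hother i μ' _ hyv fun hall => hi (Fin.ext ?_)
      refine eq_of_fixes_pow L.prime_r haB L.pow_eq_one hmove' i.isLt L.prime_r.pos fun p hp => ?_
      rw [hall p hp]
      simp
    · exact fun h => absurd (Finset.mem_univ _) h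
  have htr : ∀ v ∈ S, tr ρ a r (ρ y v) = tr ρ a r v := fun v hv => by
    rw [tr_comm hya v]
    exact hC _ (tr_mem hS.2.1.2 hv) (rho_tr L.pow_eq_one v)
  obtain ⟨j, hj⟩ : ∃ j : Fin r, ∀ p ∈ B, μ ((a ^ (j : ℕ))⁻¹ * p * a ^ (j : ℕ)) = μ' p := by
    by_contra hall
    push Not at hall
    have h1 := hL u ⟨huS, hu⟩
    rw [htr u huS, tr, normEnd_apply, map_sum, Finset.sum_eq_zero (fun (i : Fin r) _ => hother i μ u hu (by
      push Not; exact hall i))] at h1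
    exact rho_ne_zero hu0 h1.symm
  have hyj : ∀ v ∈ S ⊓ wspace ρ B μ, ρ y v = ρ (a ^ (j : ℕ)) v := by
    intro v hv
    have hjw : ρ (a ^ (j : ℕ)) v ∈ wspace ρ B μ' := fun p hp =>
      (rho_mem_wspace' hv.2 (pow_mem haB _) p hp).trans (congrArg (· • _) (hj p hp))
    rw [← hL v hv, htr v hv.1, tr, normEnd_apply, map_sum, Finset.sum_eq_single j]
    · rw [hPdef, wproj_self hB0 hμ'ch hjw]
    · intro i _ hi
      refine hother i μ v hv.2 fun hall => hi (Fin.ext ?_)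
      exact eq_of_fixes_pow L.prime_r haB L.pow_eq_one hmove i.isLt j.isLt fun p hp => by
        rw [hall p hp, hj p hp]
    · exact fun h => absurd (Finset.mem_univ _) h
  -- the translates of the weight space fill `S`
  let N : Submodule F V := ⨆ i : ℕ, (S ⊓ wspace ρ B μ).map (ρ (a ^ i))
  have hNS : N ≤ S := iSup_le fun i => by
    rintro _ ⟨v, hv, rfl⟩
    exact pow_orderOf_stable hS.2.1.2 i v hv.1
  have hNinv : Inv ρ X a N := by
    refine ⟨fun x hx => ?_, ?_⟩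
    · refine fun v hv => (iSup_le fun i => ?_ : N ≤ N.comap (ρ x)) hv
      rintro _ ⟨w, hw, rfl⟩
      refine (le_iSup (fun i : ℕ => (S ⊓ wspace ρ B μ).map (ρ (a ^ i))) i)
        ⟨ρ ((a ^ i)⁻¹ * x * a ^ i) w, hE _ (conj_mem (pow_mem L.mem_normalizer i) hx) w hw, ?_⟩
      rw [rho_mul_apply, rho_mul_apply]
      congr 2
      group
    · refine fun v hv => (iSup_le fun i => ?_ : N ≤ N.comap (ρ a)) hv
      rintro _ ⟨w, hw, rfl⟩
      exact (le_iSup (fun i : ℕ => (S ⊓ wspace ρ B μ).map (ρ (a ^ i))) (i + 1))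
        ⟨w, hw, by rw [pow_succ', map_mul]; rfl⟩
  have hNeq : N = S := hS.2.2 N hNS (fun h => hu0 ((Submodule.eq_bot_iff _).mp h u
    ((le_iSup (fun i : ℕ => (S ⊓ wspace ρ B μ).map (ρ (a ^ i))) 0)
      ⟨u, ⟨huS, hu⟩, by rw [pow_zero, map_one, End.one_apply]⟩))) hNinv
  have hall : ∀ v ∈ S, ρ y v = ρ (a ^ (j : ℕ)) v := by
    intro v hv
    have h1 : N ≤ LinearMap.ker (ρ y - ρ (a ^ (j : ℕ))) := iSup_le fun i => by
      rintro _ ⟨w, hw, rfl⟩
      rw [LinearMap.mem_ker, LinearMap.sub_apply, sub_eq_zero,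
        rho_comm_apply ((Commute.pow_left hya i).eq.symm) w, hyj w hw, rho_mul_apply,
        rho_mul_apply, ← pow_add, ← pow_add, Nat.add_comm]
    have h2 := h1 (hNeq.symm ▸ hv)
    rwa [LinearMap.mem_ker, LinearMap.sub_apply, sub_eq_zero] at h2
  have hpow : ∀ n : ℕ, ∀ v ∈ S, ρ (y ^ n) v = ρ ((a ^ (j : ℕ)) ^ n) v := by
    intro n
    induction n with
    | zero => intro v _; rw [pow_zero, pow_zero]
    | succ n ih =>
      intro v hv
      rw [pow_succ, pow_succ, map_mul, map_mul, End.mul_apply, End.mul_apply, hall v hv,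
        ih _ (pow_orderOf_stable hS.2.1.2 _ v hv)]
  have h1 : (a ^ (j : ℕ)) ^ orderOf y ∈ fixer ρ S := fun v hv => by
    rw [← hpow _ v hv, pow_orderOf_eq_one, map_one, End.one_apply]
  have hc : (orderOf y).Coprime (orderOf (a ^ (j : ℕ))) :=
    Nat.Coprime.coprime_dvd_right (orderOf_dvd_of_pow_eq_one
      (by rw [← pow_mul, mul_comm, pow_mul, L.pow_eq_one, one_pow])) hcop
  obtain ⟨m, hm⟩ := exists_pow_eq_self_of_coprime hc
  intro v hv
  rw [mem_fixSub, hall v hv]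
  exact (hm ▸ pow_mem h1 m : a ^ (j : ℕ) ∈ fixer ρ S) v hv

end fix

end CfsgLib.TurullFit.Hy
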