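import Cfsg.Agent.Lib.TurullFit.HyperFixed

/-!
# Weights of a central subgroup are preserved by `y`

Invariant projections, moved translates of nonzero trace in noncentral components, and the
invariance under `y` of the weight of a central subgroup on a component.
-/

set_option autoImplicit false
set_option linter.style.haveILetI false
set_option linter.unusedSectionVars false

open Module
open scoped commutatorElement

namespace CfsgLib.TurullFit.Hy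

open CfsgLib.FgsC.HallHigman CfsgLib.FgsC.CoprimeWeights

variable {F : Type*} [Field F] {Γ : Type*} [Group Γ] [Finite Γ] {V : Type*} [AddCommGroup V]
  [Module F V] {ρ : Representation F Γ V} {s r : ℕ} {X : Subgroup Γ} {a : Γ}

/-- Maschke: an invariant projection. -/
theorem exists_proj {H : Subgroup Γ} (hH : (Nat.card H : F) ≠ 0) {W : Submodule F V}
    (hW : StableUnder ρ H W) :
    ∃ π : End F V, (∀ v, π v ∈ W) ∧ (∀ v ∈ W, π v = v) ∧
      ∀ g ∈ H, ∀ v, π (ρ g v) = ρ g (π v) := by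
  classical
  haveI : Fintype H := Fintype.ofFinite _
  obtain ⟨C, hC⟩ := Submodule.exists_isCompl W
  set p : End F V := W.subtype ∘ₗ W.projectionOnto C hC with hp
  have hpW : ∀ v, p v ∈ W := fun v => (W.projectionOnto C hC v).2
  have hpid : ∀ v ∈ W, p v = v := fun v hv =>
    congrArg Subtype.val (Submodule.projectionOnto_apply_left hC ⟨v, hv⟩)
  refine ⟨(Nat.card H : F)⁻¹ • ∑ h : H, ρ (h : Γ) * p * ρ (h : Γ)⁻¹, fun v => ?_, fun v hv => ?_,
    fun g hg v => ?_⟩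
  · rw [LinearMap.smul_apply, LinearMap.sum_apply]
    exact W.smul_mem _ (sum_mem fun h _ => hW h h.2 _ (hpW _))
  · rw [LinearMap.smul_apply, LinearMap.sum_apply, Finset.sum_congr rfl (fun (h : H) _ => show
        (ρ (h : Γ) * p * ρ (h : Γ)⁻¹) v = v by
          rw [End.mul_apply, End.mul_apply, hpid _ (hW _ (H.inv_mem h.2) v hv), rho_inv_apply]),
      Finset.sum_const, Finset.card_univ, ← Nat.card_eq_fintype_card, ← Nat.cast_smul_eq_nsmul F,
      smul_smul, inv_mul_cancel₀ hH, one_smul]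
  · simp only [LinearMap.smul_apply, LinearMap.sum_apply, End.mul_apply, map_smul, map_sum]
    refine congrArg (fun w : V => (Nat.card H : F)⁻¹ • w) ?_
    refine Fintype.sum_equiv (Equiv.mulLeft (⟨g⁻¹, H.inv_mem hg⟩ : H)) _ _ fun h => ?_
    show ρ (h : Γ) (p (ρ (h : Γ)⁻¹ (ρ g v))) =
      ρ g (ρ (g⁻¹ * (h : Γ)) (p (ρ (g⁻¹ * (h : Γ))⁻¹ v)))
    rw [rho_mul_apply (g) (g⁻¹ * (h : Γ)), mul_inv_cancel_left, rho_mul_apply, mul_inv_rev, inv_inv]

/-- The subgroup generated by `X` and a normalising element stabilises what both stabilise. -/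
theorem stable_sup {W : Submodule F V} (hX : StableUnder ρ X W) {g : Γ}
    (hg : ∀ v ∈ W, ρ g v ∈ W) : StableUnder ρ (X ⊔ Subgroup.zpowers g) W := by
  intro h hh v hv
  have hle : X ⊔ Subgroup.zpowers g ≤ stabSub ρ W :=
    sup_le (fun x hx => mem_stabSub_of_stable (hX x hx))
      (Subgroup.zpowers_le.mpr (mem_stabSub_of_stable hg))
  exact (hle hh v).mpr hv

theorem card_sup_ne_zero (L : Layer ρ s r X a) {g : Γ}
    (hg : g ∈ Subgroup.normalizer (X : Set Γ)) {n : ℕ} (hgn : g ^ n = 1) (hn : (n : F) ≠ 0) :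
    (Nat.card (X ⊔ Subgroup.zpowers g : Subgroup Γ) : F) ≠ 0 := by
  intro h0
  have h1 := congrArg (fun m : ℕ => (m : F))
    (Coprime.card_sup_mul_card_inf (H := Subgroup.zpowers g) (N := X) (Subgroup.zpowers_le.mpr hg))
  simp only [Nat.cast_mul] at h1
  rw [sup_comm, h0, zero_mul, Nat.card_zpowers, eq_comm, mul_eq_zero] at h1
  rcases h1 with h1 | h1
  · obtain ⟨c, hc⟩ := orderOf_dvd_of_pow_eq_one hgn
    exact hn (by rw [hc, Nat.cast_mul, h1, zero_mul])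
  · exact card_ne_zero L le_rfl h1

theorem stable_of_le (hle : ∀ x ∈ X, ∀ v, ρ x v = v) (U : Submodule F V) : StableUnder ρ X U :=
  fun x hx v hv => by rw [hle x hx v]; exact hv

/-- A component on which commutators act nontrivially is noncentral. -/
theorem noncentral_of_commutator (L : Layer ρ s r X a) (hCF : CentralFix ρ X a)
    {U : Submodule F V} (hU : Inv ρ X a U) (hne : ∃ d ∈ ⁅X, X⁆, ∃ v ∈ U, ρ d v ≠ v) :
    Noncentral ρ X a U := by
  by_contra hcen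
  simp only [Noncentral, not_exists, not_and, not_not] at hcen
  haveI := Fact.mk L.prime_r
  haveI := Fact.mk L.prime_s
  set N := X ⊓ fixer ρ U with hN
  have haN : a ∈ Subgroup.normalizer (N : Set Γ) := mem_normalizer_of_conj fun x hx =>
    ⟨conj_mem' L.mem_normalizer hx.1, fun v hv => by
      conv_lhs => rw [← rho_inv_apply (ρ := ρ) a v]
      rw [rho_conj_apply, hx.2 _ (inv_stable hU.2 v hv), rho_inv_apply]⟩
  have hord : ∃ i, orderOf a = r ^ i := by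
    rcases (Nat.dvd_prime L.prime_r).mp (orderOf_dvd_of_pow_eq_one L.pow_eq_one) with h | h
    · exact ⟨0, by rw [h, pow_zero]⟩
    · exact ⟨1, by rw [h, pow_one]⟩
  have hcomm : ∀ x ∈ X, ∀ z ∈ X, ∀ v ∈ U, ρ x (ρ z v) = ρ z (ρ x v) := by
    intro x hx z hz v hv
    obtain ⟨c, hca, hcN⟩ := exists_fixed_in_coset (Q := X) (M := N) L.s_ne_r.symm L.isPGroup
      inf_le_left hord haN (k := x) (by
        refine ⟨X.mul_mem (X.inv_mem hx) (conj_mem' L.mem_normalizer hx), fun w hw => ?_⟩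
        rw [map_mul, End.mul_apply, hcen x hx w hw, rho_apply_inv])
    have hcX : c ∈ X := by
      rw [show c = x * (x⁻¹ * c) by group]
      exact X.mul_mem hx hcN.1
    have hxc : ∀ w ∈ U, ρ c w = ρ x w := fun w hw => by
      rw [show c = x * (x⁻¹ * c) by group, map_mul, End.mul_apply, hcN.2 w hw]
    rw [← hxc _ (hU.1 z hz v hv), ← hxc v hv, rho_mul_apply, rho_mul_apply,
      hCF c hcX hca.eq.symm z hz]
  have hle : ⁅X, X⁆ ≤ fixer ρ U := Subgroup.commutator_le.mpr fun x hx z hz v hv => by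
    have h1 : ρ z⁻¹ v ∈ U := hU.1 _ (X.inv_mem hz) v hv
    rw [commutatorElement_def, map_mul, map_mul, map_mul, End.mul_apply, End.mul_apply,
      End.mul_apply, hcomm _ (X.inv_mem hx) _ (X.inv_mem hz) v hv,
      hcomm z hz _ (X.inv_mem hz) _ (hU.1 _ (X.inv_mem hx) v hv)]
    rw [rho_apply_inv, rho_inv_apply]
  obtain ⟨d, hd, v, hv, hne'⟩ := hne
  exact hne' (hle hd v hv)

variable [IsAlgClosed F] [FiniteDimensional F V]

/-- A fixed vector of a noncentral component has a moved translate of nonzero trace. -/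
theorem exists_moved_trace_comp (L : Layer ρ s r X a)
    (hFI : ∀ S, Comp ρ X a S → Noncentral ρ X a S → FixedType ρ X S → Heis ρ s r X a S)
    {S : Submodule F V} (hS : Comp ρ X a S) (hnc : Noncentral ρ X a S) {u : V} (hu : u ∈ S)
    (hau : ρ a u = u) (hu0 : u ≠ 0) :
    ∃ x ∈ X, ρ a (ρ x u) ≠ ρ x u ∧ tr ρ a r (ρ x u) ≠ 0 := by
  classical
  by_cases hft : FixedType ρ X S
  · exact exists_moved_trace_piece (hFI S hS hnc hft) hu hu0 hau
  by_contra hall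
  push Not at hall
  set A := cen ρ X S hS.2.1.1 with hA
  have hne : ∃ q ∈ A, ∃ v ∈ S, ρ (a * q * a⁻¹) v ≠ ρ q v := by
    by_contra hcomm
    push Not at hcomm
    exact hft fun x hx => scalar_of_comm hS hx (hcomm x hx)
  have hAc : ∀ q ∈ A, ∀ x ∈ X, ∀ v ∈ S, ρ q (ρ x v) = ρ x (ρ q v) := fun q hq x hx v hv => by
    rw [rho_mul_apply, rho_mul_apply]
    exact hq.2 x hx v hv
  have ha : a ∈ Subgroup.normalizer (A : Set Γ) := cen_normalizer L.mem_normalizer hS.2.1.2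
  have hAW : ∀ q ∈ A, ∀ v ∈ S, ρ q v ∈ S := fun q hq => hS.2.1.1 q (cen_le hq)
  have hab : ∀ p ∈ A, ∀ q ∈ A, ∀ v ∈ S, ρ p (ρ q v) = ρ q (ρ p v) :=
    fun p hp q hq => hAc p hp q (cen_le hq)
  haveI : Fintype (normGrp ρ r A a S ha hAW hab) := Fintype.ofFinite _
  obtain ⟨c, hc, hsum⟩ := orbit_trace (ha := ha) (hAW := hAW) (hab := hab) L cen_le hS.2.1.2 hu hau
  have hbot := inf_wspace_eq_bot L hS.2.1 cen_le hAc ha hS le_rfl hne
  have haQ : a ∈ Subgroup.normalizer (normGrp ρ r A a S ha hAW hab : Set Γ) :=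
    normGrp_normalizer ha rfl hS.2.1.2
  have h1 : tr ρ a r (∑ q : normGrp ρ r A a S ha hAW hab, ρ (q : Γ) u) = 0 := by
    refine (Submodule.mem_bot F).mp (hbot ▸ tr_mem (U := S ⊓ wspace ρ (normGrp ρ r A a S ha hAW hab)
      fun _ => (1 : F)) (fun v hv => ⟨hS.2.1.2 v hv.1, rho_mem_wspace' hv.2 haQ⟩)
      ⟨sum_mem fun q _ => hAW q (normGrp_le q.2) u hu, sum_mem_wspace u⟩)
  rw [h1, Finset.sum_eq_zero (fun q hq => hall _ (cen_le (normGrp_le q.2))
    (Finset.mem_filter.mp hq).2), add_zero, eq_comm, smul_eq_zero] at hsum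
  exact hsum.elim hc hu0

/-- A fixed vector in an invariant subspace with nontrivial commutators has a moved translate of
nonzero trace. -/
theorem exists_moved_trace (L : Layer ρ s r X a) (hCF : CentralFix ρ X a)
    (hFI : ∀ S, Comp ρ X a S → Noncentral ρ X a S → FixedType ρ X S → Heis ρ s r X a S)
    {U : Submodule F V} (hU : Inv ρ X a U) {d : Γ} (hd : d ∈ ⁅X, X⁆) {c : F} (hc : c ≠ 1)
    (hdU : ∀ v ∈ U, ρ d v = c • v) {u : V} (hu : u ∈ U) (hau : ρ a u = u) (hu0 : u ≠ 0) :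
    ∃ x ∈ X, ρ a (ρ x u) ≠ ρ x u ∧ tr ρ a r (ρ x u) ≠ 0 := by
  obtain ⟨U₀, ⟨hU₀le, hU₀, huU₀⟩, hmin⟩ := wellFounded_lt.has_min
    {W : Submodule F V | W ≤ U ∧ Inv ρ X a W ∧ u ∈ W} ⟨U, le_rfl, hU, hu⟩
  obtain ⟨S, ⟨hS0, hSle, hSinv⟩, hSmin⟩ := wellFounded_lt.has_min
    {W : Submodule F V | W ≠ ⊥ ∧ W ≤ U₀ ∧ Inv ρ X a W}
    ⟨U₀, fun h => hu0 ((Submodule.eq_bot_iff _).mp h u huU₀), le_rfl, hU₀⟩
  have hS : Comp ρ X a S := ⟨hS0, hSinv, fun W hW hW0 hWi =>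
    (eq_or_lt_of_le hW).resolve_right (hSmin W ⟨hW0, hW.trans hSle, hWi⟩)⟩
  have hXa : a ∈ Subgroup.normalizer (X : Set Γ) := L.mem_normalizer
  obtain ⟨π, hπW, hπid, hπc⟩ := exists_proj (H := X ⊔ Subgroup.zpowers a) (W := S)
    (card_sup_ne_zero L hXa L.pow_eq_one L.r_ne_zero) (stable_sup hSinv.1 hSinv.2)
  have hπX : ∀ x ∈ X, ∀ v, π (ρ x v) = ρ x (π v) := fun x hx => hπc x (Subgroup.mem_sup_left hx)
  have hπa : ∀ v, π (ρ a v) = ρ a (π v) :=
    hπc a (Subgroup.mem_sup_right (Subgroup.mem_zpowers a))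
  have hπu : π u ≠ 0 := by
    intro h0
    have hK : U₀ ⊓ LinearMap.ker π = U₀ := (eq_or_lt_of_le inf_le_left).resolve_right
      (hmin _ ⟨inf_le_left.trans hU₀le, ⟨fun x hx v hv => ⟨hU₀.1 x hx v hv.1, by
        rw [SetLike.mem_coe, LinearMap.mem_ker, hπX x hx v, LinearMap.mem_ker.mp hv.2, map_zero]⟩,
        fun v hv => ⟨hU₀.2 v hv.1, by
          rw [SetLike.mem_coe, LinearMap.mem_ker, hπa v, LinearMap.mem_ker.mp hv.2, map_zero]⟩⟩,
        huU₀, LinearMap.mem_ker.mpr h0⟩)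
    refine hS0 ((Submodule.eq_bot_iff S).mpr fun v hv => ?_)
    rw [← hπid v hv, LinearMap.mem_ker.mp (hK.symm ▸ hSle hv : v ∈ U₀ ⊓ LinearMap.ker π).2]
  have hnc : Noncentral ρ X a S := by
    obtain ⟨v, hv, hv0⟩ := Submodule.exists_mem_ne_zero_of_ne_bot hS0
    refine noncentral_of_commutator L hCF hSinv ⟨d, hd, v, hv, fun h => hc ?_⟩
    rw [hdU v (hU₀le (hSle hv))] at h
    exact smul_left_injective F hv0 (h.trans (one_smul F v).symm)
  have hπau : ρ a (π u) = π u := by rw [← hπa, hau]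
  obtain ⟨x, hx, hmv, htr⟩ := exists_moved_trace_comp L hFI hS hnc (hπW u) hπau hπu
  refine ⟨x, hx, fun h => hmv ?_, fun h => htr ?_⟩
  · rw [← hπX x hx u, ← hπa, h]
  · rw [← hπX x hx u, ← tr_map (W := ⊤) (fun v _ => Submodule.mem_top) (fun v _ => hπa v)
      Submodule.mem_top, h, map_zero]

/-- `y` fixes the weight of a central subgroup that commutes with `a` on a component. -/
theorem weight_fixed (L : Layer ρ s r X a) {W : Submodule F V} (hW : Inv ρ X a W)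
    {A : Subgroup Γ} (hAX : A ≤ X)
    (hAc : ∀ q ∈ A, ∀ x ∈ X, ∀ v ∈ W, ρ q (ρ x v) = ρ x (ρ q v))
    (ha : a ∈ Subgroup.normalizer (A : Set Γ)) {y : Γ} (hyA : y ∈ Subgroup.normalizer (A : Set Γ))
    (hya : a * y = y * a) (hyW : ∀ v ∈ W, ρ y v ∈ W) {T : Submodule F V} {Ω : Set V}
    (H : HypW ρ r X a W T Ω) (hTy : T ≤ fixSub ρ y) {S : Submodule F V} (hS : Comp ρ X a S)
    (hSW : S ≤ W) (hfix : S ⊓ fixSub ρ a ≠ ⊥)
    (hcomm : ∀ q ∈ A, ∀ v ∈ S, ρ (a * q * a⁻¹) v = ρ q v) {μ : Γ → F} (hμ : IsChar A μ)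
    (hμS : ∀ q ∈ A, ∀ v ∈ S, ρ q v = μ q • v)
    (hNC : ∀ ν : Γ → F, ν = μ ∨ ν = (fun q => μ (y * q * y⁻¹)) →
      ∀ U : Submodule F V, U ≤ W ⊓ wspace ρ A ν → Inv ρ X a U → ∀ u ∈ U, ρ a u = u → u ≠ 0 →
        ∃ x ∈ X, ρ a (ρ x u) ≠ ρ x u ∧ tr ρ a r (ρ x u) ≠ 0) :
    ∀ q ∈ A, μ (y⁻¹ * q * y) = μ q := by
  have hAW : ∀ q ∈ A, ∀ v ∈ W, ρ q v ∈ W := fun q hq => hW.1 q (hAX hq)
  have hab : ∀ p ∈ A, ∀ q ∈ A, ∀ v ∈ W, ρ p (ρ q v) = ρ q (ρ p v) :=
    fun p hp q hq => hAc p hp q (hAX hq)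
  set Q := normGrp ρ r A a W ha hAW hab with hQdef
  have hQA : Q ≤ A := normGrp_le
  have hQ0 := card_ne_zero L (hQA.trans hAX)
  have hA0 := card_ne_zero L hAX
  have haQ : a ∈ Subgroup.normalizer (Q : Set Γ) := normGrp_normalizer ha rfl hW.2
  have hyQ : y ∈ Subgroup.normalizer (Q : Set Γ) := normGrp_normalizer hyA hya hyW
  set W' : Submodule F V := W ⊓ wspace ρ Q (fun _ => (1 : F)) with hW'def
  set π : End F V := wproj ρ Q (fun _ => (1 : F)) with hπdef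
  have hπW : ∀ v ∈ W, π v ∈ W' := fun v hv =>
    ⟨wproj_mem_of (fun q hq => hAW q (hQA hq)) hv, wproj_mem (isChar_one Q) v⟩
  have hπX : ∀ x ∈ X, ∀ v ∈ W, π (ρ x v) = ρ x (π v) := fun x hx v hv =>
    (rho_wproj_central (U := W) hv fun q hq u hu => (hAc q (hQA hq) x hx u hu).symm).symm
  have hπg : ∀ g ∈ Subgroup.normalizer (Q : Set Γ), ∀ v, π (ρ g v) = ρ g (π v) := fun g hg v =>
    (rho_wproj (ρ := ρ) (μ := fun _ => (1 : F)) hg v).symm
  have H' := H.map (W' := W') hW inf_le_left hπW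
    (fun v hv => wproj_self hQ0 (isChar_one Q) hv.2) hπX (fun v _ => hπg a haQ v)
  have hTy' := H.map_le_fix hTy (π := π) (fun v _ => hπg y hyQ v)
  have hW' : Inv ρ X a W' := ⟨fun x hx v hv => ⟨hW.1 x hx v hv.1, fun q hq => by
      rw [hAc q (hQA hq) x hx v hv.1, hv.2 q hq, map_smul]⟩,
    fun v hv => ⟨hW.2 v hv.1, rho_mem_wspace' hv.2 haQ⟩⟩
  have hc' : ∀ q ∈ A, ∀ v ∈ W', ρ q (ρ a v) = ρ a (ρ q v) := by
    intro q hq v hv
    have h1 : ρ (q⁻¹ * (a * q * a⁻¹)) (ρ a v) = ρ a v :=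
      ((hW'.2 v hv).2 _ (mem_normGrp_conj L.pow_eq_one hq)).trans (one_smul F _)
    rw [map_mul, End.mul_apply, rho_conj_apply] at h1
    conv_lhs => rw [← h1]
    rw [rho_inv_apply]
  have hSW' : S ≤ W' := fun v hv => ⟨hSW hv, fun q hq => by
    rw [one_smul]
    exact normGrp_free L hAX hSW hS.2.1.2 (fun q hq => hS.2.1.1 q (hAX hq)) hq
      (hcomm q (hQA hq)) v hv⟩
  -- weight projections on `W'`
  have hPW : ∀ (ν : Γ → F), ∀ v ∈ W', wproj ρ A ν v ∈ W' := fun ν v hv =>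
    wproj_mem_of (fun q hq u hu => hW'.1 q (hAX hq) u hu) hv
  have hPa : ∀ (ν : Γ → F), ∀ v ∈ W', wproj ρ A ν (ρ a v) = ρ a (wproj ρ A ν v) := fun ν v hv =>
    (rho_wproj_central (U := W') hv fun q hq u hu => (hc' q hq u hu).symm).symm
  have hPX : ∀ (ν : Γ → F), ∀ x ∈ X, ∀ v ∈ W', wproj ρ A ν (ρ x v) = ρ x (wproj ρ A ν v) :=
    fun ν x hx v hv => (rho_wproj_central (U := W') hv fun q hq u hu =>
      (hAc q hq x hx u hu.1).symm).symm
  set T₀ : Submodule F V := Submodule.span F {w | ∃ χ ∈ π '' Ω, ∃ x ∈ X,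
    ρ a (ρ x χ) ≠ ρ x χ ∧ tr ρ a r (ρ x χ) = w} with hT₀
  have hT₀le : T₀ ≤ T.map π := by
    rw [hT₀, Submodule.span_le]
    rintro _ ⟨χ, hχ, x, hx, hne, rfl⟩
    exact H'.moved χ hχ x hx hne
  have hT₀A : ∀ q ∈ A, ∀ w ∈ T₀, ρ q w ∈ T₀ := by
    intro q hq w hw
    refine (Submodule.span_le.mpr ?_ : T₀ ≤ T₀.comap (ρ q)) hw
    rintro _ ⟨χ, hχ, x, hx, hne, rfl⟩
    have hxW' := hW'.1 x hx χ (H'.omega hχ).1
    refine Submodule.subset_span ⟨χ, hχ, q * x, X.mul_mem (hAX hq) hx, fun h => hne ?_, ?_⟩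
    · rw [← rho_mul_apply, ← hc' q hq _ hxW'] at h
      exact rho_inj h
    · rw [tr_map hW'.2 (fun v hv => hc' q hq v hv) hxW', rho_mul_apply]
  have hfixν : ∀ ν : Γ → F, IsChar A ν → (∃ t ∈ T₀, wproj ρ A ν t ≠ 0) →
      ∀ q ∈ A, ν (y⁻¹ * q * y) = ν q := by
    rintro ν hν ⟨t, ht, hne⟩ q hq
    have hy1 : ρ y (wproj ρ A ν t) = wproj ρ A ν t :=
      mem_fixSub.mp (hTy' (hT₀le (wproj_mem_of hT₀A ht)))
    have h1 := rho_mem_wspace' (wproj_mem (ρ := ρ) hν t) hyA q hq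
    rw [hy1, wproj_mem hν t q hq] at h1
    exact (smul_left_injective F hne h1).symm
  by_contra hne
  push Not at hne
  obtain ⟨q₀, hq₀, hq₀ne⟩ := hne
  set μ' : Γ → F := fun q => μ (y * q * y⁻¹) with hμ'def
  have hμ' : IsChar A μ' := by
    have h := hμ.conj (inv_mem hyA)
    simpa only [inv_inv] using h
  have hzero : ∀ ν : Γ → F, ν = μ ∨ ν = μ' → ∀ w ∈ Submodule.span F (π '' Ω),
      wproj ρ A ν w = 0 := by
    intro ν hν w hw
    have hνc : IsChar A ν := by rcases hν with rfl | rfl <;> assumption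
    refine LinearMap.mem_ker.mp ((Submodule.span_le.mpr ?_ :
      Submodule.span F (π '' Ω) ≤ LinearMap.ker (wproj ρ A ν)) hw)
    intro χ hχ
    rw [SetLike.mem_coe, LinearMap.mem_ker]
    by_contra h0
    have hχW' := (H'.omega hχ).1
    have hau : ρ a (wproj ρ A ν χ) = wproj ρ A ν χ := by
      rw [← hPa ν χ hχW', mem_fixSub.mp (H'.omega hχ).2]
    obtain ⟨x, hx, hmv, htr⟩ := hNC ν hν (W' ⊓ wspace ρ A ν) (inf_le_inf_right _ inf_le_left)
      ⟨fun x hx v hv => ⟨hW'.1 x hx v hv.1, fun q hq => by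
          rw [hAc q hq x hx v hv.1.1, hv.2 q hq, map_smul]⟩,
        fun v hv => ⟨hW'.2 v hv.1, fun q hq => by
          rw [hc' q hq v hv.1, hv.2 q hq, map_smul]⟩⟩
      _ ⟨hPW ν χ hχW', wproj_mem hνc χ⟩ hau h0
    have hxW' := hW'.1 x hx χ hχW'
    have hmv' : ρ a (ρ x χ) ≠ ρ x χ := fun h => hmv (by
      rw [← hPX ν x hx χ hχW', ← hPa ν _ hxW', h])
    have h2 : wproj ρ A ν (tr ρ a r (ρ x χ)) ≠ 0 := by
      rwa [tr_map hW'.2 (hPa ν) hxW', hPX ν x hx χ hχW']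
    have hinv := hfixν ν hνc ⟨_, Submodule.subset_span ⟨χ, hχ, x, hx, hmv', rfl⟩, h2⟩
    rcases hν with rfl | rfl
    · exact hq₀ne (hinv q₀ hq₀)
    · refine hq₀ne ?_
      have h3 := hinv (y⁻¹ * q₀ * y) (conj_mem hyA hq₀)
      simp only [hμ'def] at h3
      rw [show y * (y⁻¹ * (y⁻¹ * q₀ * y) * y) * y⁻¹ = y⁻¹ * q₀ * y by group,
        show y * (y⁻¹ * q₀ * y) * y⁻¹ = q₀ by group] at h3
      exact h3
  obtain ⟨u, hu, hu0⟩ := Submodule.exists_mem_ne_zero_of_ne_bot hfix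
  obtain ⟨t, ht, w, hw, rfl⟩ := Submodule.mem_sup.mp (H'.span ⟨hSW' hu.1, hu.2⟩)
  have huμ : t + w ∈ wspace ρ A μ := fun q hq => hμS q hq _ hu.1
  have hyu : ρ y (t + w) = t + ρ y w := by rw [map_add, mem_fixSub.mp (hTy' ht)]
  have h1 : wproj ρ A μ (ρ y w) = 0 := by
    have h := rho_wproj (ρ := ρ) (μ := μ') hyA w
    rw [hzero μ' (Or.inr rfl) w hw, map_zero] at h
    refine Eq.trans (LinearMap.congr_fun (wproj_congr fun q _ => ?_) _) h.symm
    simp only [hμ'def]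
    congr 1
    group
  have h2 : wproj ρ A μ (t + w) = t + w := wproj_self hA0 hμ huμ
  have h3 : wproj ρ A μ (ρ y (t + w)) = 0 :=
    wproj_ne hμ (rho_mem_wspace' huμ hyA) hq₀ (Ne.symm hq₀ne)
  rw [hyu, map_add, h1, add_zero] at h3
  rw [map_add, hzero μ (Or.inl rfl) w hw, add_zero, h3] at h2
  exact hu0 h2.symm

end CfsgLib.TurullFit.Hy
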