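import Cfsg.Agent.Lib.FgsB.FixedPointHeight

/-!
# Turull's bound for the Fitting height: the statement in terms of iterated residuals
-/

set_option autoImplicit false

namespace CfsgLib.TurullFit

universe u

/-- If the residual of length `n` of the fixed points is trivial, so is that of length `n + 2`. -/
def StmtTop : Prop :=
  ∀ (Γ : Type u) [Group Γ] [Finite Γ] (G : Subgroup Γ) (a : Γ) (r n : ℕ),
    G.Normal → Group.IsSolvable G → r.Prime → a ^ r = 1 → ¬ r ∣ Nat.card G →
    CfsgLib.FgsB.FixedPointHeight.res (G ⊓ Subgroup.centralizer {a}) n = ⊥ →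
    CfsgLib.FgsB.FixedPointHeight.res G (n + 2) = ⊥

end CfsgLib.TurullFit
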