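import Cfsg.Agent.Lib.TurullFit.CaseGood
import Cfsg.Agent.Lib.TurullFit.TopStmt

/-!
# Turull's bound for the Fitting height: the case analysis
-/

set_option autoImplicit false
set_option linter.style.haveILetI false

open Subgroup Module
open scoped commutatorElement

namespace CfsgLib.TurullFit

open CfsgLib.FgsB.FixedPointHeight

universe u

variable {Γ : Type u} [Group Γ] [Finite Γ] {P Q : ℕ → Subgroup Γ} {p : ℕ → ℕ} {G : Subgroup Γ}
  {a : Γ} {r h : ℕ}

/-- A layer whose noncentral components are all exceptional has prime two. -/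
theorem Tower.eq_two_of_not_good (hP : Parts.{u}) (T : Tower G a r h P Q p) (hr : r.Prime)
    (har : a ^ r = 1) {j : ℕ} (hj : j + 1 < h) {F : Type} [Field F] [IsAlgClosed F]
    [CharP F (p (j + 1))]
    (hnt : ¬ TrivAt P Q a j)
    (hng : ∀ S, ¬ Good (lvlRep F P Q (j + 1)) ((P j).subgroupOf (lvlGroup P Q (j + 1)))
      ⟨a, T.a_mem_lvlGroup hj⟩ S) : p j = 2 := by
  obtain ⟨S, hS, hnc⟩ := T.exists_noncentral hP.semi hr har hj hnt F
  have hexc : Exc (lvlRep F P Q (j + 1)) ((P j).subgroupOf (lvlGroup P Q (j + 1)))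
      ⟨a, T.a_mem_lvlGroup hj⟩ S := ⟨hS, hnc, by
    by_contra hne
    exact hng S ⟨hS, hnc, hne⟩⟩
  refine (hP.exc F _ _ _ (p j) r _ _ S (T.layer hr har hj) hexc fun x hx => ?_).1
  refine ⟨Subgroup.pow_mem _ hx _, fun y hy => ?_⟩
  refine (hS.2.1.1.commOn_iff (Subgroup.pow_mem _ hx _) hy).mpr fun v _ => ?_
  rw [(T.lvlRep_eq_one hj ⁅x ^ p j, y⁆).mpr (by
    simpa [InKer, commutatorElement_def] using T.cent j hj _ (T.pow j (by omega) (x : Γ) hx)
      (y : Γ) hy), End.one_apply]

/-- The residual form of the theorem, from the parts and the exceptional case. -/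
theorem top_of_parts (hP : Parts.{u})
    (hCE : ∀ {Γ : Type u} [Group Γ] [Finite Γ] {P Q : ℕ → Subgroup Γ} {p : ℕ → ℕ} {G : Subgroup Γ}
      {a : Γ} {r h : ℕ} (T : Tower G a r h P Q p), r.Prime → a ^ r = 1 → ∀ {k : ℕ}
      (hk : k + 3 < h), (∀ i, i < k + 1 → TrivAt P Q a i) → ¬ TrivAt P Q a (k + 1) →
      ∀ [Fact (p (k + 2)).Prime], (∀ S, ¬ Good (lvlRep (AlgebraicClosure (ZMod (p (k + 2)))) P Q
        (k + 2)) ((P (k + 1)).subgroupOf _) ⟨a, T.a_mem_lvlGroup (by omega)⟩ S) →
      res (G ⊓ centralizer {a}) (h - 3) ≠ ⊥)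
    (hTower : StmtTower.{u}) : StmtTop.{u} := by
  intro Γ _ _ G a r n hGn hGs hr har hG hres
  classical
  by_contra hne
  obtain ⟨P, Q, p, T⟩ := hTower Γ G a r (n + 2) hGn hGs hr har hG hne
  suffices hgoal : res (G ⊓ centralizer {a}) (n + 2 + 1 - 3) ≠ ⊥ by
    rw [show n + 2 + 1 - 3 = n by omega] at hgoal
    exact hgoal hres
  by_cases hall : ∀ i, i ≤ n + 2 + 1 - 3 → TrivAt P Q a i
  · exact T.case_tail hr har (by omega) hall
  push Not at hall
  obtain ⟨i1, hi1, hnt1⟩ := hall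
  have hex : ∃ i, ¬ TrivAt P Q a i := ⟨i1, hnt1⟩
  have hnt := Nat.find_spec hex
  have hle : Nat.find hex ≤ i1 := Nat.find_min' hex hnt1
  have hbelow : ∀ i, i < Nat.find hex → TrivAt P Q a i := fun i hi =>
    not_not.mp (Nat.find_min hex hi)
  generalize Nat.find hex = i0 at hnt hle hbelow
  haveI := Fact.mk (T.prime (i0 + 1) (by omega))
  by_cases hgood : ∃ S, Good (lvlRep (AlgebraicClosure (ZMod (p (i0 + 1)))) P Q (i0 + 1))
      ((P i0).subgroupOf (lvlGroup P Q (i0 + 1))) ⟨a, T.a_mem_lvlGroup (by omega)⟩ S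
  · rcases i0 with _ | _ | k
    · exact T.case_low hP hr har (by omega) (by omega) hgood
    · exact T.case_low hP hr har (by omega) le_rfl hgood
    · exact T.case_good hP hr har hG (k := k) (by omega) hbelow hnt hgood
  push Not at hgood
  rcases i0 with _ | k
  · haveI := Fact.mk (T.prime 2 (by omega))
    have h2 : p 0 = 2 := T.eq_two_of_not_good hP hr har (by omega) hnt hgood
    refine T.case_low hP hr har (j := 1) (by omega) le_rfl ?_
    by_contra hng
    push Not at hng
    exact T.p_ne 0 (by omega) (h2.trans (T.eq_two_of_not_good hP hr har (by omega)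
      (fun ht => hnt (T.trivAt_of_succ (by omega) ht)) hng).symm)
  · exact hCE T hr har (k := k) (by omega) hbelow hnt hgood

end CfsgLib.TurullFit
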