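import Cfsg.Agent.Lib.TurullFit.Defs

/-!
# Turull's bound for the Fitting height: dimension counts

Translates of a moved weight and functionals on an elementary abelian section.
-/

set_option autoImplicit false

open Module
open scoped commutatorElement
open CfsgLib.FgsC.HallHigman CfsgLib.FgsC.CoprimeWeights

namespace CfsgLib.TurullFit.SFDim

variable {K : Type*} [Field K] {V : Type*} [AddCommGroup V] [Module K V]

section translates

variable {G : Type*} [Group G] (σ : Representation K G V)

/-- The sum of translates of a tuple of vectors of `U`. -/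
noncomputable def translateSum (y : G) (n : ℕ) (U : Submodule K V) : (Fin n → U) →ₗ[K] V :=
  ∑ i : Fin n, (σ (y ^ (i : ℕ))) ∘ₗ U.subtype ∘ₗ LinearMap.proj i

theorem translateSum_apply (y : G) (n : ℕ) (U : Submodule K V) (v : Fin n → U) :
    translateSum σ y n U v = ∑ i : Fin n, σ (y ^ (i : ℕ)) (v i : V) := by
  simp [translateSum, LinearMap.sum_apply]

/-- The translates of a subspace of moved weight are independent. -/
theorem translateSum_injective [Finite G] {A : Subgroup G} {χ : G → K} {y : G}
    (hy : y ∈ Subgroup.normalizer (A : Set G)) {p : ℕ} (hp : p.Prime) {e : ℕ}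
    (hyp : y ^ (p ^ e) = 1) (hmove : ¬ Fixes A χ y) {U : Submodule K V}
    (hU : U ≤ wspace σ A χ) : Function.Injective (translateSum σ y p U) := by
  classical
  have hdist : ∀ {i j : ℕ}, i < p → j < p →
      (∀ a ∈ A, χ ((y ^ i)⁻¹ * a * y ^ i) = χ ((y ^ j)⁻¹ * a * y ^ j)) → i = j := by
    intro i j hi hj h
    by_contra hne
    wlog hlt : i < j generalizing i j
    · exact this hj hi (fun a ha => (h a ha).symm) (Ne.symm hne) (by omega)
    refine hmove ?_
    have hd : y ^ (j - i) ∈ stab A χ := by
      refine ⟨pow_mem hy _, fun a ha => ?_⟩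
      have h1 := h (y ^ i * a * (y ^ i)⁻¹)
        ((Subgroup.mem_normalizer_iff.mp (pow_mem hy i) a).mp ha)
      rw [show y ^ j = y ^ i * y ^ (j - i) by rw [← pow_add]; congr 1; omega,
        show (y ^ i)⁻¹ * (y ^ i * a * (y ^ i)⁻¹) * y ^ i = a by group,
        show (y ^ i * y ^ (j - i))⁻¹ * (y ^ i * a * (y ^ i)⁻¹) * (y ^ i * y ^ (j - i))
          = (y ^ (j - i))⁻¹ * a * y ^ (j - i) by group] at h1
      exact h1.symm
    rcases Nat.eq_zero_or_pos e with rfl | he
    · rw [pow_zero, pow_one] at hyp
      rw [hyp]; exact (one_mem (stab A χ))|>.2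
    obtain ⟨k, -, hk⟩ := Nat.exists_mul_mod_eq_one_of_coprime
      ((hp.coprime_iff_not_dvd.mpr
        (Nat.not_dvd_of_pos_of_lt (by omega) (by omega : j - i < p))).symm.pow_right e)
      (Nat.one_lt_pow he.ne' hp.one_lt)
    have h2 := pow_mem hd k
    rw [← pow_mul, pow_eq_pow_mod _ hyp, hk, pow_one] at h2
    exact h2.2
  rw [← LinearMap.ker_eq_bot, Submodule.eq_bot_iff]
  intro v hv
  rw [LinearMap.mem_ker, translateSum_apply] at hv
  funext i₀
  by_contra hi₀
  let J := {i : Fin p // v i ≠ 0}
  have hli : LinearIndependent K fun i : J => σ (y ^ ((i : Fin p) : ℕ)) (v i : V) :=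
    linearIndependent_of_weights (fun a : A => σ (a : G))
      (fun (i : J) (a : A) => χ ((y ^ ((i : Fin p) : ℕ))⁻¹ * a * y ^ ((i : Fin p) : ℕ)))
      (fun i j hij => Subtype.ext (Fin.ext (hdist i.1.isLt j.1.isLt
        fun a ha => congrFun hij ⟨a, ha⟩))) _
      (fun i => rho_ne_zero (fun h => i.2 (Subtype.ext h)))
      (fun i a => rho_mem_wspace' (hU (v i).2) (pow_mem hy _) a a.2)
  rw [Fintype.linearIndependent_iff] at hli
  have hsum : ∑ i : J, (1 : K) • σ (y ^ ((i : Fin p) : ℕ)) (v i : V) = 0 := by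
    simp only [one_smul]
    rw [← Finset.sum_subtype (Finset.univ.filter fun i => v i ≠ 0) (fun i => by simp)
      fun i : Fin p => σ (y ^ (i : ℕ)) (v i : V)]
    refine Eq.trans (Finset.sum_filter_of_ne ?_) hv
    intro i _ h h0
    exact h (by rw [h0, ZeroMemClass.coe_zero, map_zero])
  exact one_ne_zero (hli _ hsum ⟨i₀, hi₀⟩)

/-- `p` translates of a subspace inside a stable subspace. -/
theorem le_finrank_of_translates [Finite G] [FiniteDimensional K V] {y : G} {p : ℕ}
    {U M : Submodule K V} (hinj : Function.Injective (translateSum σ y p U)) (hUM : U ≤ M)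
    (hM : ∀ v ∈ M, σ y v ∈ M) : p * finrank K U ≤ finrank K M := by
  have hmem : ∀ v, translateSum σ y p U v ∈ M := fun v => by
    rw [translateSum_apply]
    refine Submodule.sum_mem _ fun i _ => ?_
    induction (i : ℕ) with
    | zero => simpa using hUM (v i).2
    | succ n ih => rw [pow_succ', map_mul, End.mul_apply]; exact hM _ ih
  have h := LinearMap.finrank_le_finrank_of_injective
    (f := (translateSum σ y p U).codRestrict M hmem) fun a b h => hinj (congrArg Subtype.val h)
  rwa [Module.finrank_pi_fintype, Finset.sum_const, Finset.card_univ, Fintype.card_fin,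
    smul_eq_mul] at h

/-- `σ y - 1` has rank at least `(p - 1) dim U`. -/
theorem le_finrank_image [Finite G] [FiniteDimensional K V] {y : G} {p : ℕ}
    (hp : 0 < p) {U M : Submodule K V} (hinj : Function.Injective (translateSum σ y p U))
    (hUM : U ≤ M) (hM : ∀ v ∈ M, σ y v ∈ M) :
    (p - 1) * finrank K U ≤ finrank K (M.map (σ y - 1)) := by
  obtain ⟨m, rfl⟩ : ∃ m, p = m + 1 := ⟨p - 1, by omega⟩
  let T : (Fin m → U) →ₗ[K] V := (σ y - 1) ∘ₗ translateSum σ y m U
  have hmem : ∀ v, T v ∈ M.map (σ y - 1) := fun v => by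
    refine ⟨_, ?_, rfl⟩
    rw [translateSum_apply]
    refine Submodule.sum_mem _ fun i _ => ?_
    induction (i : ℕ) with
    | zero => simpa using hUM (v i).2
    | succ n ih => rw [pow_succ', map_mul, End.mul_apply]; exact hM _ ih
  have hT : Function.Injective T := by
    rw [← LinearMap.ker_eq_bot, Submodule.eq_bot_iff]
    intro v hv
    let w₁ : Fin (m + 1) → U := Fin.cons 0 v
    let w₂ : Fin (m + 1) → U := Fin.snoc v 0
    have h1 : translateSum σ y (m + 1) U w₁ = σ y (translateSum σ y m U v) := by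
      rw [translateSum_apply, translateSum_apply, Fin.sum_univ_succ, map_sum]
      simp only [w₁, Fin.cons_zero, Fin.cons_succ, ZeroMemClass.coe_zero, map_zero, zero_add,
        Fin.val_succ, pow_succ', map_mul, End.mul_apply]
    have h2 : translateSum σ y (m + 1) U w₂ = translateSum σ y m U v := by
      rw [translateSum_apply, translateSum_apply, Fin.sum_univ_castSucc]
      simp only [w₂, Fin.snoc_castSucc, Fin.snoc_last, ZeroMemClass.coe_zero, map_zero, add_zero,
        Fin.val_castSucc]
    have hw : w₁ = w₂ := hinj (by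
      rw [h1, h2, ← sub_eq_zero]
      exact hv)
    funext i
    have key : ∀ n (hn : n < m), v ⟨n, hn⟩ = 0 := by
      intro n
      induction n with
      | zero =>
        intro hn
        have h := congrFun hw (Fin.castSucc ⟨0, hn⟩)
        simp only [w₁, w₂, Fin.snoc_castSucc] at h
        rw [← h]
        rfl
      | succ n ih =>
        intro hn
        have h := congrFun hw (Fin.castSucc ⟨n + 1, hn⟩)
        simp only [w₁, w₂, Fin.snoc_castSucc] at h
        rw [← h, show (Fin.castSucc ⟨n + 1, hn⟩ : Fin (m + 1)) =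
          Fin.succ ⟨n, by omega⟩ from rfl, Fin.cons_succ]
        exact ih _
    exact key i i.isLt
  have h := LinearMap.finrank_le_finrank_of_injective
    (f := T.codRestrict _ hmem) fun a b h => hT (congrArg Subtype.val h)
  rwa [Module.finrank_pi_fintype, Finset.sum_const, Finset.card_univ, Fintype.card_fin,
    smul_eq_mul] at h

end translates

section functionals

variable {G : Type*} [Group G] {q : ℕ} [Fact q.Prime] [CharP K q] {Z Q R : Subgroup G}

omit [Group G] in
/-- Additive maps on a finite abelian group of exponent `q`. -/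
theorem exponent_dual {W : Type*} [Group W] [Finite W] (hc : ∀ x y : W, x * y = y * x)
    (hexp : ∀ x : W, x ^ q = 1) :
    (∀ x : W, x ≠ 1 → ∃ φ : W → K, (∀ u v, φ (u * v) = φ u + φ v) ∧ φ x ≠ 0) ∧
      ∀ N : Submodule K (W → K), (∀ φ ∈ N, ∀ u v, φ (u * v) = φ u + φ v) →
        q ^ finrank K N ≤ Nat.card W := by
  classical
  letI : CommGroup W := { (inferInstance : Group W) with mul_comm := hc }
  letI : Module (ZMod q) (Additive W) :=
    AddCommGroup.zmodModule (n := q) fun u => hexp u.toMul
  letI : Algebra (ZMod q) K := ZMod.algebra K q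
  constructor
  · intro x hx
    have hne : Additive.ofMul x ≠ 0 := fun h => hx (ofMul_eq_zero.mp h)
    obtain ⟨φ, hφ⟩ := Module.Projective.exists_dual_ne_zero (ZMod q) hne
    refine ⟨fun u => algebraMap (ZMod q) K (φ (Additive.ofMul u)),
      fun u v => by simp only [ofMul_mul, map_add], fun h => hφ ?_⟩
    exact (algebraMap (ZMod q) K).injective (h.trans (map_zero _).symm)
  · intro N hN
    let b := Module.finBasis (ZMod q) (Additive W)
    let ev : N →ₗ[K] (Fin (finrank (ZMod q) (Additive W)) → K) :=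
      LinearMap.pi fun i => (LinearMap.proj (Additive.toMul (b i))) ∘ₗ N.subtype
    have hev : Function.Injective ev := by
      rw [← LinearMap.ker_eq_bot, Submodule.eq_bot_iff]
      intro f hf
      let φ : Additive W →+ K :=
        AddMonoidHom.mk' (fun u => (f : W → K) (Additive.toMul u))
          fun u v => hN f f.2 _ _
      have h0 : φ.toZModLinearMap q = 0 := b.ext fun i => congrFun (LinearMap.mem_ker.mp hf) i
      exact Subtype.ext (funext fun x => LinearMap.congr_fun h0 (Additive.ofMul x))
    have h1 := LinearMap.finrank_le_finrank_of_injective hev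
    rw [Module.finrank_fin_fun] at h1
    refine (Nat.pow_le_pow_right (Fact.out : q.Prime).pos h1).trans (le_of_eq ?_)
    have h2 := Module.natCard_eq_pow_finrank (K := ZMod q) (V := Additive W)
    rw [Nat.card_zmod] at h2
    rw [← h2]
    rfl

/-- The section `Z / R`: functionals separate it and their dimension is small. -/
theorem dual_section [Finite G] [Z.Normal] (hQR : Q ≤ R)
    (hpow : ∀ z ∈ Z, z ^ q ∈ R) (hcomm : ∀ z ∈ Z, ∀ w ∈ Z, ⁅z, w⁆ ∈ R) :
    (∀ g : Z, (∀ f ∈ dualSub K Z Q, (∀ x : Z, (x : G) ∈ R → f x = 0) → f g = 0) →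
        (g : G) ∈ R) ∧
      ∀ W : Submodule K (↥Z → K), W ≤ dualSub K Z Q →
        (∀ f ∈ W, ∀ x : Z, (x : G) ∈ R → f x = 0) → q ^ finrank K W ≤ R.relIndex Z := by
  classical
  haveI hN : (R.subgroupOf Z).Normal := ⟨fun x hx z => by
    rw [Subgroup.mem_subgroupOf] at hx ⊢
    have h := R.mul_mem (hcomm z z.2 x x.2) hx
    rwa [commutatorElement_def, inv_mul_cancel_right] at h⟩
  have hc : ∀ u v : ↥Z ⧸ R.subgroupOf Z, u * v = v * u := fun u v => by
    obtain ⟨x, rfl⟩ := QuotientGroup.mk_surjective u
    obtain ⟨y, rfl⟩ := QuotientGroup.mk_surjective v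
    rw [← QuotientGroup.mk_mul, ← QuotientGroup.mk_mul, QuotientGroup.eq,
      Subgroup.mem_subgroupOf]
    have h := hcomm _ (Z.inv_mem y.2) _ (Z.inv_mem x.2)
    rw [commutatorElement_def, inv_inv, inv_inv] at h
    simpa [mul_assoc] using h
  have hexp : ∀ u : ↥Z ⧸ R.subgroupOf Z, u ^ q = 1 := fun u => by
    obtain ⟨x, rfl⟩ := QuotientGroup.mk_surjective u
    rw [← QuotientGroup.mk_pow, QuotientGroup.eq_one_iff, Subgroup.mem_subgroupOf]
    exact hpow x x.2
  obtain ⟨hsep, hdim⟩ := exponent_dual (K := K) (q := q) hc hexp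
  constructor
  · intro g h
    by_contra hgR
    obtain ⟨φ, hadd, hφ⟩ := hsep (QuotientGroup.mk g) (fun h0 =>
      hgR (Subgroup.mem_subgroupOf.mp ((QuotientGroup.eq_one_iff g).mp h0)))
    have h1 : φ 1 = 0 := by simpa using hadd 1 1
    have hR : ∀ x : Z, (x : G) ∈ R → φ (QuotientGroup.mk x) = 0 := fun x hx => by
      rw [(QuotientGroup.eq_one_iff x).mpr (Subgroup.mem_subgroupOf.mpr hx), h1]
    exact hφ (h (fun x => φ (QuotientGroup.mk x))
      ⟨fun x y => by simp only [QuotientGroup.mk_mul, hadd], fun x hx => hR x (hQR hx)⟩ hR)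
  · intro W hW hWR
    let L : (↥Z ⧸ R.subgroupOf Z → K) →ₗ[K] (↥Z → K) :=
      LinearMap.funLeft K K (QuotientGroup.mk : ↥Z → ↥Z ⧸ R.subgroupOf Z)
    have hL : Function.Injective L :=
      LinearMap.funLeft_injective_of_surjective K K _ QuotientGroup.mk_surjective
    have hWL : W ≤ LinearMap.range L := by
      intro f hf
      refine ⟨fun u => f (Quotient.out u), funext fun x => ?_⟩
      show f (Quotient.out (QuotientGroup.mk x : ↥Z ⧸ R.subgroupOf Z)) = f x
      obtain ⟨z, hz⟩ := QuotientGroup.mk_out_eq_mul (R.subgroupOf Z) x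
      rw [hz, (hW hf).1, hWR f hf z (Subgroup.mem_subgroupOf.mp z.2), add_zero]
    have hadd : ∀ φ ∈ W.comap L, ∀ u v, φ (u * v) = φ u + φ v := by
      intro φ hφ u v
      obtain ⟨x, rfl⟩ := QuotientGroup.mk_surjective u
      obtain ⟨y, rfl⟩ := QuotientGroup.mk_surjective v
      exact (hW hφ).1 x y
    have h1 := hdim (W.comap L) hadd
    have h2 : finrank K W ≤ finrank K (W.comap L) := by
      conv_lhs => rw [← Submodule.map_comap_eq_of_le hWL]
      exact Submodule.finrank_map_le L _
    exact (Nat.pow_le_pow_right (Fact.out : q.Prime).pos h2).trans h1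

end functionals

end CfsgLib.TurullFit.SFDim
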