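import Cfsg.Agent.Lib.TurullFit.Stmts
import Cfsg.Agent.Lib.TurullFit.SmallFixDim
import Cfsg.Agent.Lib.FgsC.HallHigmanB

/-!
# Turull's bound for the Fitting height: centres of irreducible subspaces, and the dual
-/

set_option autoImplicit false

open Module
open scoped commutatorElement
open CfsgLib.FgsC.HallHigman

namespace CfsgLib.TurullFit.SFBasic

universe u

section rho

variable {F : Type*} [Field F] {Γ : Type*} [Group Γ] {V : Type*} [AddCommGroup V] [Module F V]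
  {ρ : Representation F Γ V}

/-- The elements of `X` central on `W`. -/
def cenSub (ρ : Representation F Γ V) (X : Subgroup Γ) (W : Submodule F V)
    (hW : StableUnder ρ X W) : Subgroup Γ where
  carrier := {x | CenterOn ρ X W x}
  one_mem' := ⟨X.one_mem, fun y _ v _ => by rw [one_mul, mul_one]⟩
  mul_mem' := by
    rintro x x' ⟨hx, hx'⟩ ⟨hz, hz'⟩
    refine ⟨X.mul_mem hx hz, fun y hy v hv => ?_⟩
    calc ρ (x * x' * y) v = ρ x (ρ (x' * y) v) := by rw [rho_mul_apply, mul_assoc]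
      _ = ρ x (ρ (y * x') v) := by rw [hz' y hy v hv]
      _ = ρ (x * y) (ρ x' v) := by rw [rho_mul_apply, rho_mul_apply, mul_assoc]
      _ = ρ (y * x) (ρ x' v) := hx' y hy _ (hW x' hz v hv)
      _ = ρ (y * (x * x')) v := by rw [rho_mul_apply, mul_assoc]
  inv_mem' := by
    rintro x ⟨hx, hx'⟩
    refine ⟨X.inv_mem hx, fun y hy v hv => ?_⟩
    have h := congrArg (ρ x⁻¹) (hx' y hy _ (hW x⁻¹ (X.inv_mem hx) v hv))
    rw [rho_mul_apply, rho_mul_apply, rho_mul_apply, rho_mul_apply] at h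
    rw [show x⁻¹ * (x * y) * x⁻¹ = y * x⁻¹ by group, show x⁻¹ * (y * x) * x⁻¹ = x⁻¹ * y by group]
      at h
    exact h.symm

theorem mem_cenSub {X : Subgroup Γ} {W : Submodule F V} {hW : StableUnder ρ X W} {x : Γ} :
    x ∈ cenSub ρ X W hW ↔ CenterOn ρ X W x := Iff.rfl

theorem centerOn_of_scalar {X : Subgroup Γ} {W : Submodule F V} (hW : StableUnder ρ X W) {x : Γ}
    (hx : x ∈ X) (h : IsScalarOn ρ W x) : CenterOn ρ X W x := by
  obtain ⟨c, hc⟩ := h
  refine ⟨hx, fun y hy v hv => ?_⟩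
  rw [← rho_mul_apply, ← rho_mul_apply, hc _ (hW y hy v hv), hc v hv, map_smul]

theorem centerOn_of_central {X Q : Subgroup Γ} (hle : Q ≤ X)
    (hcen : ∀ x ∈ Q, ∀ y ∈ X, ρ (x * y) = ρ (y * x)) (W : Submodule F V) {x : Γ} (hx : x ∈ Q) :
    CenterOn ρ X W x := ⟨hle hx, fun y hy v _ => by rw [hcen x hx y hy]⟩

/-- An element centralising `W` is central on `W`. -/
theorem centerOn_of_fix {X : Subgroup Γ} {W : Submodule F V} (hW : StableUnder ρ X W) {x : Γ}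
    (hx : x ∈ X) (h : ∀ v ∈ W, ρ x v = v) : CenterOn ρ X W x :=
  centerOn_of_scalar hW hx ⟨1, fun v hv => by rw [h v hv, one_smul]⟩

theorem layer_one {s r : ℕ} {X : Subgroup Γ} {a : Γ} (L : Layer ρ s r X a) :
    Layer ρ s r X (1 : Γ) :=
  { L with mem_normalizer := one_mem _, pow_eq_one := one_pow r }

theorem inv_sSup {X : Subgroup Γ} {a : Γ} (𝒮 : Set (Submodule F V))
    (h : ∀ W ∈ 𝒮, Inv ρ X a W) : Inv ρ X a (sSup 𝒮) := by
  refine ⟨fun x hx => ?_, ?_⟩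
  · have h1 : sSup 𝒮 ≤ (sSup 𝒮).comap (ρ x) :=
      sSup_le fun W hW w hw => le_sSup hW ((h W hW).1 x hx w hw)
    exact fun v hv => h1 hv
  · have h1 : sSup 𝒮 ≤ (sSup 𝒮).comap (ρ a) :=
      sSup_le fun W hW w hw => le_sSup hW ((h W hW).2 w hw)
    exact fun v hv => h1 hv

theorem exists_comp_le [FiniteDimensional F V] {X : Subgroup Γ} {a : Γ} {W : Submodule F V}
    (hW : W ≠ ⊥) (hWi : Inv ρ X a W) : ∃ S, S ≤ W ∧ Comp ρ X a S := by
  obtain ⟨S, ⟨hS, hSi, hSW⟩, hmin⟩ := wellFounded_lt.has_min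
    {S : Submodule F V | S ≠ ⊥ ∧ Inv ρ X a S ∧ S ≤ W} ⟨W, hW, hWi, le_rfl⟩
  exact ⟨S, hSW, hS, hSi, fun S' hS' hne hi =>
    (eq_or_lt_of_le hS').resolve_right (hmin S' ⟨hne, hi, hS'.trans hSW⟩)⟩

end rho

section irreducible

variable {F : Type} [Field F] {Γ V : Type u} [Group Γ] [Finite Γ] [AddCommGroup V] [Module F V]
  [FiniteDimensional F V] {ρ : Representation F Γ V} {s r : ℕ} {X : Subgroup Γ} {a : Γ}

/-- An invariant subspace is spanned by its components. -/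
theorem comp_span (hSS : StmtSemisimple.{u}) (L : Layer ρ s r X a) {W : Submodule F V}
    (hW : Inv ρ X a W) : sSup {S | Comp ρ X a S ∧ S ≤ W} = W := by
  set U₀ := sSup {S | Comp ρ X a S ∧ S ≤ W} with hU₀
  have hle : U₀ ≤ W := sSup_le fun S hS => hS.2
  refine le_antisymm hle ?_
  obtain ⟨C, hC, hcompl⟩ := (hSS F Γ V ρ s r X a L).1 U₀ (inv_sSup _ fun S hS => hS.1.2.1)
  have hdec : U₀ ⊔ C ⊓ W = W := by
    rw [← sup_inf_assoc_of_le C hle, hcompl.sup_eq_top, top_inf_eq]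
  by_cases hne : C ⊓ W = ⊥
  · rw [← hdec, hne, sup_bot_eq]
  obtain ⟨S, hS, hSc⟩ := exists_comp_le hne
    ⟨fun x hx v hv => ⟨hC.1 x hx v hv.1, hW.1 x hx v hv.2⟩,
      fun v hv => ⟨hC.2 v hv.1, hW.2 v hv.2⟩⟩
  exact absurd (le_bot_iff.mp ((le_inf (le_sSup (show S ∈ {S | Comp ρ X a S ∧ S ≤ W} from ⟨hSc, hS.trans inf_le_right⟩))
    (hS.trans inf_le_left)).trans hcompl.inf_eq_bot.le)) hSc.1

/-- An irreducible subspace has the centre of an irreducible subspace of some component. -/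
theorem irred_iso (hSS : StmtSemisimple.{u}) (L : Layer ρ s r X a) {W : Submodule F V}
    (hW : Comp ρ X 1 W) : ∃ S W', Comp ρ X a S ∧ W' ≤ S ∧ Comp ρ X 1 W' ∧
      ∀ z, CenterOn ρ X W z ↔ CenterOn ρ X W' z := by
  classical
  set 𝒮 := {W' : Submodule F V | Comp ρ X 1 W' ∧ ∃ S, Comp ρ X a S ∧ W' ≤ S} with h𝒮
  have htop : sSup 𝒮 = ⊤ := by
    rw [eq_top_iff, ← (hSS F Γ V ρ s r X a L).2]
    refine sSup_le fun S hS => ?_
    rw [← comp_span hSS (layer_one L) (W := S) ⟨hS.2.1.1, fun v hv => by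
      rwa [map_one, End.one_apply]⟩]
    exact sSup_le fun W' hW' => le_sSup ⟨hW'.1, S, hS, hW'.2⟩
  obtain ⟨m, ⟨t, ht, rfl⟩, hmax⟩ := wellFounded_gt.has_min
    {m : Submodule F V | ∃ t : Finset (Submodule F V), ↑t ⊆ 𝒮 ∧ t.sup id = m}
    ⟨_, ∅, by simp, rfl⟩
  have htt : t.sup id = ⊤ := by
    rw [eq_top_iff, ← htop]
    refine sSup_le fun W' hW' => ?_
    by_contra hle
    refine hmax ((insert W' t).sup id) ⟨_, ?_, rfl⟩ ?_
    · rw [Finset.coe_insert]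
      exact Set.insert_subset hW' ht
    · rw [Finset.sup_insert, id]
      exact lt_of_le_of_ne le_sup_right fun h => hle (h ▸ le_sup_left)
  obtain ⟨W', hW't, f, hf0, hfW, hfeq⟩ := FgsC.HallHigmanB.exists_map_of_le_sup
    (ι := {W' : Submodule F V // W' ∈ t}) (Q := X) (U := W) hW.2.1.1 hW.1 (fun i => (i : Submodule F V))
    (fun i => (ht i.2).1.2.1.1)
    (fun i U' hU' hinv => by
      by_cases h : U' = ⊥
      · exact Or.inl h
      · exact Or.inr ((ht i.2).1.2.2 U' hU' h ⟨hinv, fun v hv => by rwa [map_one, End.one_apply]⟩))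
    t.attach (by rw [show t.attach.sup (fun i => (i : Submodule F V)) = t.sup id from Finset.sup_attach t id, htt]; exact le_top)
  obtain ⟨hW'c, S, hS, hW'S⟩ := ht W'.2
  refine ⟨S, W', hS, hW'S, hW'c, fun z => ?_⟩
  have hinj : Function.Injective f := by
    rw [← LinearMap.ker_eq_bot]
    by_contra hk
    refine hf0 (LinearMap.ker_eq_top.mp (eq_top_iff.mpr fun u _ => ?_))
    have hKW : (LinearMap.ker f).map W.subtype = W := by
      refine hW.2.2 _ (Submodule.map_subtype_le W _) (fun h => hk ?_) ⟨?_, ?_⟩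
      · rw [Submodule.eq_bot_iff]
        intro v hv
        have h1 : (v : V) ∈ (LinearMap.ker f).map W.subtype := Submodule.mem_map_of_mem hv
        rw [h, Submodule.mem_bot] at h1
        exact Subtype.ext h1
      · rintro x hx _ ⟨v, hv, rfl⟩
        refine ⟨⟨ρ x v, hW.2.1.1 x hx v v.2⟩, ?_, rfl⟩
        show f _ = 0
        rw [hfeq x hx, LinearMap.mem_ker.mp hv, map_zero]
      · rintro _ ⟨v, hv, rfl⟩
        exact ⟨v, hv, by simp⟩
    obtain ⟨v, hv, hve⟩ : (u : V) ∈ (LinearMap.ker f).map W.subtype := by rw [hKW]; exact u.2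
    rwa [← Subtype.ext (p := fun v => v ∈ W) hve]
  have hrange : LinearMap.range f = (W' : Submodule F V) := by
    refine hW'c.2.2 _ (fun v hv => by obtain ⟨u, rfl⟩ := hv; exact hfW u)
      (fun h => hf0 (LinearMap.range_eq_bot.mp h)) ⟨?_, ?_⟩
    · rintro x hx _ ⟨v, rfl⟩
      exact ⟨⟨ρ x v, hW.2.1.1 x hx v v.2⟩, hfeq x hx v⟩
    · rintro _ ⟨v, rfl⟩
      exact ⟨v, by simp⟩
  constructor
  · rintro ⟨hz, h⟩
    refine ⟨hz, fun y hy v hv => ?_⟩
    rw [← hrange] at hv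
    obtain ⟨u, rfl⟩ := hv
    rw [← hfeq _ (X.mul_mem hz hy), ← hfeq _ (X.mul_mem hy hz)]
    congr 1
    exact Subtype.ext (h y hy u u.2)
  · rintro ⟨hz, h⟩
    refine ⟨hz, fun y hy v hv => ?_⟩
    have h1 := h y hy (f ⟨v, hv⟩) (hfW _)
    rw [← hfeq _ (X.mul_mem hz hy), ← hfeq _ (X.mul_mem hy hz)] at h1
    exact congrArg Subtype.val (hinj h1)

end irreducible

section translate

variable {F : Type*} [Field F] {Γ : Type*} [Group Γ] {V : Type*} [AddCommGroup V] [Module F V]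
  {ρ : Representation F Γ V} {Z : Subgroup Γ} [Z.Normal]

theorem comp_map {W : Submodule F V} (hW : Comp ρ Z 1 W) (g : Γ) :
    Comp ρ Z 1 (W.map (ρ g)) := by
  refine ⟨fun h => hW.1 ((Submodule.eq_bot_iff W).mpr fun v hv => ?_), ⟨?_, fun v hv => ?_⟩,
    fun U hU hne hUi => ?_⟩
  · have h1 : ρ g v ∈ W.map (ρ g) := Submodule.mem_map_of_mem hv
    rw [h, Submodule.mem_bot] at h1
    rw [← rho_apply_inv (ρ := ρ) g v, h1, map_zero]
  · rintro x hx _ ⟨v, hv, rfl⟩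
    refine ⟨ρ (g⁻¹ * x * g) v, hW.2.1.1 _ (by simpa using (inferInstance : Z.Normal).conj_mem x hx g⁻¹) v hv, ?_⟩
    rw [rho_mul_apply, rho_mul_apply]
    congr 2
    group
  · rwa [map_one, End.one_apply]
  have h1 : U.map (ρ g⁻¹) = W := by
    refine hW.2.2 _ ?_ ?_ ⟨?_, fun v hv => by rwa [map_one, End.one_apply]⟩
    · rintro _ ⟨u, hu, rfl⟩
      obtain ⟨w, hw, rfl⟩ := hU hu
      rwa [rho_apply_inv]
    · intro h
      refine hne ((Submodule.eq_bot_iff U).mpr fun v hv => ?_)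
      have h1 : ρ g⁻¹ v ∈ U.map (ρ g⁻¹) := Submodule.mem_map_of_mem hv
      rw [h, Submodule.mem_bot] at h1
      rw [← rho_inv_apply (ρ := ρ) g v, h1, map_zero]
    · rintro x hx _ ⟨v, hv, rfl⟩
      refine ⟨ρ (g * x * g⁻¹) v, hUi.1 _ ((inferInstance : Z.Normal).conj_mem x hx g) v hv, ?_⟩
      rw [rho_mul_apply, rho_mul_apply]
      congr 2
      group
  refine le_antisymm hU fun v hv => ?_
  obtain ⟨w, hw, rfl⟩ := hv
  rw [← h1] at hw
  obtain ⟨u, hu, rfl⟩ := hw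
  rwa [rho_inv_apply]

theorem centerOn_map {W : Submodule F V} (g : Γ) {z : Γ} :
    CenterOn ρ Z (W.map (ρ g)) z ↔ CenterOn ρ Z W (g⁻¹ * z * g) := by
  constructor
  · rintro ⟨hz, h⟩
    refine ⟨by simpa using (inferInstance : Z.Normal).conj_mem z hz g⁻¹, fun y hy v hv => ?_⟩
    have h1 := congrArg (ρ g⁻¹) (h (g * y * g⁻¹) ((inferInstance : Z.Normal).conj_mem y hy g)
      (ρ g v) (Submodule.mem_map_of_mem hv))
    simp only [rho_mul_apply] at h1
    rw [show g⁻¹ * (z * (g * y * g⁻¹) * g) = g⁻¹ * z * g * y by group,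
      show g⁻¹ * (g * y * g⁻¹ * z * g) = y * (g⁻¹ * z * g) by group] at h1
    exact h1
  · rintro ⟨hz, h⟩
    refine ⟨by simpa [mul_assoc] using (inferInstance : Z.Normal).conj_mem _ hz g, fun y hy v hv => ?_⟩
    obtain ⟨w, hw, rfl⟩ := hv
    have h1 := congrArg (ρ g) (h (g⁻¹ * y * g)
      (by simpa using (inferInstance : Z.Normal).conj_mem y hy g⁻¹) w hw)
    simp only [rho_mul_apply] at h1 ⊢
    rw [show g * (g⁻¹ * z * g * (g⁻¹ * y * g)) = z * y * g by group,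
      show g * (g⁻¹ * y * g * (g⁻¹ * z * g)) = y * z * g by group] at h1
    exact h1

end translate

section dual

variable {F : Type*} [Field F] {Γ : Type*} [Group Γ] {Z Q : Subgroup Γ} [Z.Normal] [Q.Normal]

/-- An element centralising `Z / Q` acts trivially on the dual. -/
theorem dual_eq_one {g : Γ} (h : ∀ z ∈ Z, ⁅g, z⁆ ∈ Q) : dualRep F Z Q g = 1 := by
  refine LinearMap.ext fun f => Subtype.ext (funext fun x => ?_)
  rw [End.one_apply, dualRep_apply]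
  set w : Z := ⟨g⁻¹ * x * g, by simpa using (inferInstance : Z.Normal).conj_mem x x.2 g⁻¹⟩ with hw
  have hx : x = ⟨(x : Γ) * (w : Γ)⁻¹, Z.mul_mem x.2 (Z.inv_mem w.2)⟩ * w :=
    Subtype.ext (show (x : Γ) = x * (w : Γ)⁻¹ * w by group)
  have hq : (x : Γ) * (w : Γ)⁻¹ ∈ Q := by
    have h1 := h _ w.2
    rwa [commutatorElement_def, hw, show g * (g⁻¹ * (x : Γ) * g) * g⁻¹ = x by group] at h1
  have h2 := f.2.1 ⟨(x : Γ) * (w : Γ)⁻¹, Z.mul_mem x.2 (Z.inv_mem w.2)⟩ w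
  rw [← hx, f.2.2 ⟨(x : Γ) * (w : Γ)⁻¹, Z.mul_mem x.2 (Z.inv_mem w.2)⟩ hq, zero_add] at h2
  exact h2.symm

/-- A fixed functional takes the same value on conjugates. -/
theorem apply_conj {g : Γ} {f : ↥(dualSub F Z Q)} (hf : dualRep F Z Q g f = f) (z : Z) :
    (f : ↥Z → F) ⟨g * z * g⁻¹, (inferInstance : Z.Normal).conj_mem z z.2 g⟩ = (f : ↥Z → F) z := by
  conv_lhs => rw [← hf, dualRep_apply]
  exact congrArg _ (Subtype.ext (show g⁻¹ * (g * (z : Γ) * g⁻¹) * g = z by group))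

theorem apply_commutator {g : Γ} {f : ↥(dualSub F Z Q)} (hf : dualRep F Z Q g f = f) (z : Z)
    (h : ⁅g, (z : Γ)⁆ ∈ Z) : (f : ↥Z → F) ⟨⁅g, (z : Γ)⁆, h⟩ = 0 := by
  have h1 := f.2.1 ⟨⁅g, (z : Γ)⁆, h⟩ z
  rw [show (⟨⁅g, (z : Γ)⁆, h⟩ : Z) * z = ⟨g * z * g⁻¹, (inferInstance : Z.Normal).conj_mem z z.2 g⟩
    from Subtype.ext (show ⁅g, (z : Γ)⁆ * (z : Γ) = g * z * g⁻¹ by
      rw [commutatorElement_def, inv_mul_cancel_right]), apply_conj hf z] at h1
  simpa using h1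

theorem commutator_mem_normal {g z : Γ} (hz : z ∈ Z) : ⁅g, z⁆ ∈ Z := by
  rw [commutatorElement_def]
  exact Z.mul_mem ((inferInstance : Z.Normal).conj_mem z hz g) (Z.inv_mem hz)

/-- Without fixed points modulo `Q`, every element is a commutator with `a` modulo `Q`. -/
theorem exists_commutator [Finite Γ] {a : Γ} (hcomm : ∀ z ∈ Z, ∀ w ∈ Z, ⁅z, w⁆ ∈ Q)
    (hfpf : ∀ z ∈ Z, a * z * a⁻¹ * z⁻¹ ∈ Q → z ∈ Q) (z : Γ) (hz : z ∈ Z) :
    ∃ z' ∈ Z, ⁅a, z'⁆⁻¹ * z ∈ Q := by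
  classical
  set QZ := Q.subgroupOf Z
  have hc : ∀ u v : ↥Z ⧸ QZ, u * v = v * u := fun u v => by
    obtain ⟨x, rfl⟩ := QuotientGroup.mk_surjective u
    obtain ⟨y, rfl⟩ := QuotientGroup.mk_surjective v
    rw [← QuotientGroup.mk_mul, ← QuotientGroup.mk_mul, QuotientGroup.eq, Subgroup.mem_subgroupOf]
    have h := hcomm _ (Z.inv_mem y.2) _ (Z.inv_mem x.2)
    rw [commutatorElement_def, inv_inv, inv_inv] at h
    simpa [mul_assoc] using h
  let mkQ : Z → ↥Z ⧸ QZ := QuotientGroup.mk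
  let c : Z →* ↥Z ⧸ QZ := MonoidHom.mk'
    (fun x => mkQ ⟨⁅a, (x : Γ)⁆, commutator_mem_normal x.2⟩) fun x y => by
      have h : (⟨⁅a, ((x * y : Z) : Γ)⁆, commutator_mem_normal (x * y).2⟩ : Z) =
          ⟨⁅a, (x : Γ)⁆, commutator_mem_normal x.2⟩ *
            (x * ⟨⁅a, (y : Γ)⁆, commutator_mem_normal y.2⟩ * x⁻¹) := Subtype.ext (by
        simp only [Subgroup.coe_mul, Subgroup.coe_inv, commutatorElement_def]
        group)
      simp only [mkQ, h, QuotientGroup.mk_mul, QuotientGroup.mk_inv]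
      rw [hc (QuotientGroup.mk x), mul_inv_cancel_right]
  have hQc : ∀ x ∈ QZ, c x = 1 := fun x hx => by
    show mkQ _ = 1
    rw [show mkQ _ = QuotientGroup.mk _ from rfl, QuotientGroup.eq_one_iff, Subgroup.mem_subgroupOf]
    rw [Subgroup.mem_subgroupOf] at hx
    show ⁅a, (x : Γ)⁆ ∈ Q
    rw [commutatorElement_def]
    exact Q.mul_mem ((inferInstance : Q.Normal).conj_mem _ hx a) (Q.inv_mem hx)
  let cb := QuotientGroup.lift QZ c fun x hx => hQc x hx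
  have hinj : Function.Injective cb := by
    rw [injective_iff_map_eq_one]
    intro u hu
    obtain ⟨x, rfl⟩ := QuotientGroup.mk_surjective u
    rw [QuotientGroup.eq_one_iff, Subgroup.mem_subgroupOf]
    refine hfpf x x.2 ?_
    have h : mkQ ⟨⁅a, (x : Γ)⁆, commutator_mem_normal x.2⟩ = 1 := hu
    exact Subgroup.mem_subgroupOf.mp ((QuotientGroup.eq_one_iff _).mp h)
  obtain ⟨u, hu⟩ := (Finite.injective_iff_surjective.mp hinj) (mkQ ⟨z, hz⟩)
  obtain ⟨x, rfl⟩ := QuotientGroup.mk_surjective u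
  exact ⟨x, x.2, Subgroup.mem_subgroupOf.mp (QuotientGroup.eq.mp hu)⟩

end dual

end CfsgLib.TurullFit.SFBasic
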