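import Cfsg.Agent.Lib.FgsC.HallHigman
import Cfsg.Agent.Lib.FgsC.CoprimeWeights

/-!
# Turull's bound for the Fitting height: an automorphism of a piece of extraspecial type

An automorphism of the group commuting with `a` and trivial on scalars is induced by an
endomorphism commuting with `a`. If the dimension is `r - 1` it is trivial modulo scalars.
-/

set_option autoImplicit false

open Module
open CfsgLib.FgsC.HallHigman
open scoped commutatorElement

namespace CfsgLib.TurullFit.SFLin

variable {K : Type*} [Field K] {V : Type*} [AddCommGroup V] [Module K V]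

/-- A commutant of dimension at most that of the space is commutative. -/
theorem commute_of_small_commutant [IsAlgClosed K] [FiniteDimensional K V] {r : ℕ} (hr : 0 < r)
    (hrK : (r : K) ≠ 0) {f : End K V} (hfr : f ^ r = 1)
    (hdim : finrank K (FgsC.Commutant.commutant (f - 1)) ≤ finrank K V) {φ ψ : End K V}
    (hφ : φ * f = f * φ) (hψ : ψ * f = f * ψ) : φ * ψ = ψ * φ := by
  classical
  haveI : NeZero (r : K) := ⟨hrK⟩
  obtain ⟨ζ, hζ⟩ := IsAlgClosed.exists_root (Polynomial.cyclotomic r K)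
    (Polynomial.degree_cyclotomic_pos r K hr).ne'
  have hprim : IsPrimitiveRoot ζ r := Polynomial.isRoot_cyclotomic_iff.mp hζ
  have hsumζ : ∀ i < r, ∑ j ∈ Finset.range r, (ζ ^ j) ^ i = if i = 0 then (r : K) else 0 := by
    intro i hi
    split_ifs with h
    · subst h; simp
    · rw [Finset.sum_congr rfl fun j _ =>
        (by rw [← pow_mul, mul_comm, pow_mul] : (ζ ^ j) ^ i = (ζ ^ i) ^ j)]
      have hne : ζ ^ i ≠ 1 := hprim.pow_ne_one_of_pos_of_lt h hi
      rw [geom_sum_eq hne, ← pow_mul, mul_comm, pow_mul, hprim.pow_eq_one, one_pow, sub_self,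
        zero_div]
  let P : ℕ → End K V := fun j => (r : K)⁻¹ • ∑ i ∈ Finset.range r, (ζ ^ j) ^ i • f ^ i
  have hPsum : ∑ j ∈ Finset.range r, P j = 1 := by
    simp only [P, ← Finset.smul_sum]
    rw [Finset.sum_comm]
    simp only [← Finset.sum_smul]
    rw [Finset.sum_congr rfl (fun i hi => by rw [hsumζ i (Finset.mem_range.mp hi)])]
    simp only [ite_smul, zero_smul]
    rw [Finset.sum_ite_eq', if_pos (Finset.mem_range.mpr hr), pow_zero, smul_smul,
      inv_mul_cancel₀ hrK, one_smul]
  have hPc : ∀ (j : ℕ) {g : End K V}, g * f = f * g → g * P j = P j * g := fun j g hg => by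
    simp only [P, mul_smul_comm, smul_mul_assoc, Finset.mul_sum, Finset.sum_mul]
    congr 1
    exact Finset.sum_congr rfl fun i _ => by rw [((Commute.pow_right hg i : Commute g (f ^ i))).eq]
  have hz0 : ∀ j : ℕ, ζ ^ j ≠ 0 := fun j => pow_ne_zero _ (hprim.ne_zero hr.ne')
  have hfP : ∀ j, f * ((ζ ^ j) • P j) = P j := by
    intro j
    simp only [P, Finset.smul_sum, Finset.mul_sum, mul_smul_comm]
    have h1 := Finset.sum_range_succ' (fun i => (r : K)⁻¹ • (ζ ^ j) ^ i • f ^ i) r
    rw [Finset.sum_range_succ, hfr, ← pow_mul, mul_comm j, pow_mul, hprim.pow_eq_one, one_pow] at h1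
    simp only [pow_zero] at h1
    refine Eq.trans (Finset.sum_congr rfl fun i _ => ?_) (add_right_cancel h1).symm
    rw [← pow_succ', smul_comm (ζ ^ j), pow_succ' (ζ ^ j) i, mul_smul]
  let E : Fin r → Submodule K V := fun j => LinearMap.range (P j)
  have heig : ∀ (j : Fin r) (w : V), w ∈ E j → f w = (ζ ^ (j : ℕ))⁻¹ • w := by
    rintro j _ ⟨w, rfl⟩
    have h := LinearMap.congr_fun (hfP j) w
    rw [End.mul_apply, LinearMap.smul_apply, map_smul] at h
    rw [eq_inv_smul_iff₀ (hz0 _)]
    exact h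
  have hP_self : ∀ (j k : Fin r) (w : V), w ∈ E j → P k w = if j = k then w else 0 := by
    intro j k w hw
    have hpow : ∀ i, (f ^ i) w = ((ζ ^ (j : ℕ))⁻¹) ^ i • w := by
      intro i
      induction i with
      | zero => simp
      | succ i ih => rw [pow_succ', End.mul_apply, ih, map_smul, heig j w hw, smul_smul, pow_succ]
    simp only [P, LinearMap.smul_apply, LinearMap.sum_apply, hpow, smul_smul, ← mul_pow]
    rw [← Finset.sum_smul, smul_smul]
    split_ifs with h
    · subst h
      rw [mul_inv_cancel₀ (hz0 _)]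
      simp [inv_mul_cancel₀ hrK]
    · have hne : ζ ^ (k : ℕ) * (ζ ^ (j : ℕ))⁻¹ ≠ 1 := fun h1 => h (Fin.ext
        (hprim.pow_inj j.isLt k.isLt (mul_inv_eq_one₀ (hz0 _) |>.mp h1).symm))
      rw [geom_sum_eq hne, mul_pow, inv_pow, ← pow_mul, ← pow_mul, mul_comm (k : ℕ),
        mul_comm (j : ℕ), pow_mul, pow_mul, hprim.pow_eq_one, one_pow, one_pow, inv_one, mul_one,
        sub_self, zero_div, mul_zero, zero_smul]
  have hdec : ∀ w : V, w = ∑ j : Fin r, P j w := fun w => by
    rw [Fin.sum_univ_eq_sum_range (fun j => P j w), ← LinearMap.sum_apply, hPsum, End.one_apply]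
  have hN : finrank K V ≤ ∑ j : Fin r, finrank K (E j) := by
    let Φ : V →ₗ[K] (∀ j : Fin r, E j) := LinearMap.pi fun j => (P j).rangeRestrict
    have hΦ : Function.Injective Φ := by
      intro a b hab
      rw [hdec a, hdec b]
      exact Finset.sum_congr rfl fun j _ => congrArg Subtype.val (congrFun hab j)
    exact (LinearMap.finrank_le_finrank_of_injective hΦ).trans_eq (Module.finrank_pi_fintype K)
  have hcomm : ∑ j : Fin r, finrank K (E j) * finrank K (E j) ≤
      finrank K (FgsC.Commutant.commutant (f - 1)) := by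
    let toC : (∀ j : Fin r, End K (E j)) →ₗ[K] End K V :=
      { toFun := fun g => ∑ j, (E j).subtype ∘ₗ g j ∘ₗ (P j).rangeRestrict
        map_add' := fun g g' => by
          simp only [Pi.add_apply, LinearMap.add_comp, LinearMap.comp_add, Finset.sum_add_distrib]
        map_smul' := fun c g => by
          simp only [Pi.smul_apply, LinearMap.smul_comp, LinearMap.comp_smul, Finset.smul_sum,
            RingHom.id_apply] }
    have hmem : ∀ g, toC g ∈ FgsC.Commutant.commutant (f - 1) := by
      intro g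
      rw [FgsC.Commutant.mem_commutant, mul_sub, sub_mul, mul_one, one_mul, sub_left_inj]
      refine LinearMap.ext fun w => ?_
      simp only [toC, LinearMap.coe_mk, AddHom.coe_mk, End.mul_apply, LinearMap.sum_apply,
        map_sum, LinearMap.comp_apply]
      refine Finset.sum_congr rfl fun j _ => ?_
      set a := (P j).rangeRestrict w
      have ha : (P j).rangeRestrict (f w) = (ζ ^ (j : ℕ))⁻¹ • a := by
        apply Subtype.ext
        show P j (f w) = (ζ ^ (j : ℕ))⁻¹ • P j w
        rw [← End.mul_apply, ← hPc j rfl, End.mul_apply]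
        exact heig j _ ⟨w, rfl⟩
      rw [ha, map_smul, map_smul]
      exact (heig j _ (g j a).2).symm
    have hinj : Function.Injective toC := by
      intro g g' hgg
      funext k
      refine LinearMap.ext fun w => Subtype.ext ?_
      have h1 := LinearMap.congr_fun hgg (w : V)
      simp only [toC, LinearMap.coe_mk, AddHom.coe_mk, LinearMap.sum_apply,
        LinearMap.comp_apply] at h1
      have key : ∀ h : ∀ j : Fin r, End K (E j),
          ∑ j, (E j).subtype (h j ((P j).rangeRestrict (w : V))) = (h k w : V) := by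
        intro h
        rw [Finset.sum_eq_single k]
        · rw [show (P k).rangeRestrict (w : V) = w from
            Subtype.ext ((hP_self k k w w.2).trans (if_pos rfl))]
          rfl
        · intro j _ hj
          rw [show (P j).rangeRestrict (w : V) = 0 from
            Subtype.ext ((hP_self k j w w.2).trans (if_neg (Ne.symm hj))), map_zero, map_zero]
        · simp
      rwa [key, key] at h1
    have h2 := LinearMap.finrank_le_finrank_of_injective
      (f := toC.codRestrict _ hmem) fun a b h => hinj (congrArg Subtype.val h)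
    rw [Module.finrank_pi_fintype] at h2
    simpa [finrank_linearMap] using h2
  have hone : ∀ j : Fin r, finrank K (E j) ≤ 1 := by
    intro j
    by_contra hlt
    have h1 : ∑ j : Fin r, finrank K (E j) < ∑ j : Fin r, finrank K (E j) * finrank K (E j) :=
      Finset.sum_lt_sum (fun i _ => Nat.le_mul_self _)
        ⟨j, Finset.mem_univ _, by nlinarith⟩
    omega
  refine LinearMap.ext fun w => ?_
  rw [hdec w, map_sum, map_sum]
  refine Finset.sum_congr rfl fun j _ => ?_
  obtain ⟨v, hv⟩ := finrank_le_one_iff.mp (hone j)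
  have hline : ∀ {g : End K V}, g * f = f * g → ∀ u ∈ E j, g u ∈ E j := fun {g} hg u hu => by
    obtain ⟨x, rfl⟩ := hu
    exact ⟨g x, by rw [← End.mul_apply, ← hPc j hg]; rfl⟩
  obtain ⟨c₁, hc₁⟩ := hv ⟨φ v, hline hφ _ v.2⟩
  obtain ⟨c₂, hc₂⟩ := hv ⟨ψ v, hline hψ _ v.2⟩
  obtain ⟨c, hc⟩ := hv ⟨P j w, w, rfl⟩
  have h₁ : φ (v : V) = c₁ • (v : V) := (congrArg Subtype.val hc₁).symm
  have h₂ : ψ (v : V) = c₂ • (v : V) := (congrArg Subtype.val hc₂).symm
  have h₀ : P j w = c • (v : V) := (congrArg Subtype.val hc).symm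
  rw [h₀, End.mul_apply, End.mul_apply, map_smul, map_smul, map_smul, map_smul, h₁, h₂, map_smul,
    map_smul, h₁, h₂, smul_smul, smul_smul, smul_smul, smul_smul]
  congr 1
  ring

variable {G : Type*} [Group G] [Finite G] [IsAlgClosed K] [FiniteDimensional K V] [Nontrivial V]
  {τ : Representation K G V} {s : ℕ} [Fact s.Prime] {Q : Subgroup G} [Q.Normal]

/-- An automorphism commuting with `a`, trivial on scalars, is induced by an endomorphism of
the same order commuting with `a`. -/
theorem exists_intertwiner (hQ : IsPGroup s Q) (hirr : IsIrredOn τ Q)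
    (hL1 : ∀ t ∈ Q, ∀ k ∈ Q, IsScalar τ ⁅t, k⁆) {a : G} {r : ℕ} (har : a ^ r = 1) (α : Q ≃* Q)
    (hα : ∀ k : Q, IsScalar τ (k : G) → τ (α k : G) = τ (k : G))
    (hαa : ∀ k : Q, α ((MulAut.conjNormal a : MulAut Q) k) = (MulAut.conjNormal a : MulAut Q) (α k))
    {P : ℕ} (hP : 0 < P) (hαP : ∀ k : Q, (⇑α)^[P] k = k) (hcop : P.Coprime r) :
    ∃ T : End K V, T ^ P = 1 ∧ T * τ a = τ a * T ∧
      ∀ k : Q, T * τ (k : G) = τ (α k : G) * T := by
  classical
  set SQ := (scalarSubgroup τ Q).subgroupOf Q with hSQ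
  set e : Q ⧸ SQ → End K V := fun c => τ ((Quotient.out c : Q) : G) with he
  obtain ⟨hli, hspan, -, -, hsame⟩ := end_basis (ρ := τ) hQ hirr hL1
  let b : Basis (Q ⧸ SQ) K (End K V) := Basis.mk hli hspan
  have hb : ∀ c, b c = τ ((Quotient.out c : Q) : G) := fun c => Basis.mk_apply hli hspan c
  let β : End K V →ₗ[K] End K V := b.constr K fun c => τ (α (Quotient.out c) : G)
  have hβ : ∀ k : Q, β (τ (k : G)) = τ (α k : G) := by
    intro k
    obtain ⟨z, hz⟩ := QuotientGroup.mk_out_eq_mul SQ k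
    obtain ⟨-, hzs⟩ := mem_scalarSubgroup.mp (Subgroup.mem_subgroupOf.mp z.2)
    obtain ⟨c, hc⟩ := hzs
    have hk1 : b (QuotientGroup.mk k) = c • τ (k : G) := by
      rw [hb, hz, Subgroup.coe_mul, map_mul, hc, mul_smul_comm, mul_one]
    have hk2 : τ (α (Quotient.out (QuotientGroup.mk k : Q ⧸ SQ)) : G) = c • τ (α k : G) := by
      rw [hz, map_mul α, Subgroup.coe_mul, map_mul, hα z ⟨c, hc⟩, hc, mul_smul_comm, mul_one]
    have hc0 : c ≠ 0 := fun h => rho_mul_left_ne_zero (ρ := τ) ((z : Q) : G)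
      (by rw [hc, h, zero_smul])
    have h3 : β (b (QuotientGroup.mk k)) = c • τ (α k : G) := by
      rw [← hk2]; exact b.constr_basis K _ _
    rw [hk1, map_smul] at h3
    exact smul_right_injective _ hc0 h3
  have hmul : ∀ f g, β (f * g) = β f * β g := by
    have h : (LinearMap.mul K (End K V)).compr₂ β =
        (LinearMap.mul K (End K V)).compl₁₂ β β := by
      refine b.ext fun c => b.ext fun d => ?_
      simp only [LinearMap.compr₂_apply, LinearMap.compl₁₂_apply, LinearMap.mul_apply', hb]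
      rw [← map_mul, ← Subgroup.coe_mul, hβ, hβ, hβ, map_mul α, Subgroup.coe_mul, map_mul]
    exact fun f g => LinearMap.congr_fun₂ h f g
  have hone : β 1 = 1 := by
    have h := hβ 1
    rw [map_one α, OneMemClass.coe_one, map_one τ] at h
    exact h
  have hsurj : Function.Surjective β := by
    rw [← LinearMap.range_eq_top, eq_top_iff, ← b.span_eq, Submodule.span_le]
    rintro _ ⟨c, rfl⟩
    exact ⟨τ (α.symm (Quotient.out c) : G), by rw [hβ, α.apply_symm_apply, hb]⟩
  have hbij : Function.Bijective (AlgHom.ofLinearMap β hone hmul) :=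
    ⟨LinearMap.injective_iff_surjective.mpr hsurj, hsurj⟩
  obtain ⟨T, hT⟩ := (AlgEquiv.ofBijective _ hbij).eq_linearEquivConjAlgEquiv
  let T₁ : End K V := T.toLinearMap
  let T₂ : End K V := T.symm.toLinearMap
  have hT21 : T₂ * T₁ = 1 := LinearMap.ext fun v => T.symm_apply_apply v
  have hT12 : T₁ * T₂ = 1 := LinearMap.ext fun v => T.apply_symm_apply v
  have hint : ∀ k : Q, T₁ * τ (k : G) = τ (α k : G) * T₁ := by
    intro k
    refine LinearMap.ext fun v => ?_
    have h := LinearMap.congr_fun ((hβ k).symm.trans (congrArg (fun F => F (τ (k : G))) hT)) (T v)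
    simp only [LinearEquiv.conjAlgEquiv_apply, LinearMap.comp_apply] at h
    show T (τ (k : G) v) = τ (α k : G) (T v)
    rw [h]
    simp
  have haa : τ a * τ a⁻¹ = 1 := by rw [← map_mul, mul_inv_cancel, map_one]
  have haa' : τ a⁻¹ * τ a = 1 := by rw [← map_mul, inv_mul_cancel, map_one]
  have hconj : ∀ k : Q, τ a * τ (k : G) * τ a⁻¹ = τ ((MulAut.conjNormal a : MulAut Q) k : G) :=
    fun k => by rw [MulAut.conjNormal_apply, map_mul, map_mul]
  -- `T` commutes with `a` up to a scalar
  obtain ⟨c, hc⟩ := isScalar_of_commute hirr (f := τ a⁻¹ * (T₁ * τ a * T₂)) (by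
    intro g hg
    obtain ⟨k, hk⟩ : ∃ k, α k = ⟨g, hg⟩ := ⟨α.symm _, α.apply_symm_apply _⟩
    have hgk : g = (α k : G) := by rw [hk]
    have h1 : T₁ * τ a * τ (k : G) = τ ((MulAut.conjNormal a : MulAut Q) (α k) : G) * (T₁ * τ a) := by
      rw [← hαa, ← mul_assoc _ T₁ (τ a), ← hint, ← hconj]
      simp only [mul_assoc, haa', mul_one]
    have h2 : τ (k : G) * T₂ = T₂ * τ g := by
      calc τ (k : G) * T₂ = T₂ * (T₁ * τ (k : G)) * T₂ := by rw [← mul_assoc T₂, hT21, one_mul]
        _ = T₂ * τ g := by rw [hint, hgk, mul_assoc, mul_assoc, hT12, mul_one]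
    calc τ g * (τ a⁻¹ * (T₁ * τ a * T₂))
        = τ a⁻¹ * (τ a * τ g * τ a⁻¹) * (T₁ * τ a * T₂) := by
          simp only [← mul_assoc, haa', one_mul]
      _ = τ a⁻¹ * ((τ ((MulAut.conjNormal a : MulAut Q) (α k) : G) * (T₁ * τ a)) * T₂) := by
          rw [hgk, hconj]; simp only [mul_assoc]
      _ = τ a⁻¹ * (T₁ * τ a * T₂) * τ g := by
          rw [← h1]; simp only [mul_assoc]; rw [h2])
  have hTa : T₁ * τ a = c • (τ a * T₁) := by
    have h := congrArg (fun F => τ a * F * T₁) hc
    simp only [← mul_assoc, haa, one_mul, mul_smul_comm, smul_mul_assoc, mul_one] at h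
    rw [← h]
    simp only [mul_assoc, hT21, mul_one]
  have hTi : ∀ (i : ℕ) (k : Q), T₁ ^ i * τ (k : G) = τ ((⇑α)^[i] k : G) * T₁ ^ i := by
    intro i
    induction i with
    | zero => intro k; simp
    | succ i ih =>
      intro k
      rw [pow_succ, mul_assoc, hint, ← mul_assoc, ih, Function.iterate_succ_apply, mul_assoc]
  obtain ⟨l, hl⟩ := isScalar_of_commute hirr (f := T₁ ^ P) (fun g hg => by
    have h := hTi P ⟨g, hg⟩
    rw [hαP] at h
    exact h.symm)
  have hne : ∀ i, T₁ ^ i ≠ 0 := by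
    intro i
    have h1 : IsUnit T₁ := ⟨⟨T₁, T₂, hT12, hT21⟩, rfl⟩
    exact (h1.pow i).ne_zero
  have hl0 : l ≠ 0 := fun h => hne P (by rw [hl, h, zero_smul])
  have ha0 : τ a ≠ 0 := rho_mul_left_ne_zero a
  have hai : ∀ i : ℕ, T₁ ^ i * τ a = c ^ i • (τ a * T₁ ^ i) := by
    intro i
    induction i with
    | zero => simp
    | succ i ih =>
      rw [pow_succ, mul_assoc, hTa, mul_smul_comm, ← mul_assoc, ih, smul_mul_assoc, smul_smul,
        mul_assoc, pow_succ']
  have hcP : c ^ P = 1 := by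
    have h := hai P
    rw [hl, smul_mul_assoc, one_mul, mul_smul_comm, mul_one, smul_smul] at h
    have h' : (l - c ^ P * l) • τ a = 0 := by rw [sub_smul, ← h, sub_self]
    have h'' := sub_eq_zero.mp ((smul_eq_zero.mp h').resolve_right ha0)
    exact mul_right_cancel₀ hl0 (h''.symm.trans (one_mul l).symm)
  have hcr : c ^ r = 1 := by
    have hj : ∀ j : ℕ, T₁ * τ (a ^ j) = c ^ j • (τ (a ^ j) * T₁) := by
      intro j
      induction j with
      | zero => simp
      | succ j ih =>
        rw [pow_succ, map_mul, ← mul_assoc, ih, smul_mul_assoc, mul_assoc, hTa, mul_smul_comm,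
          smul_smul, ← mul_assoc, pow_succ]
    have h := hj r
    rw [har, map_one, mul_one, one_mul] at h
    have h' : ((1 : K) - c ^ r) • T₁ = 0 := by rw [sub_smul, one_smul, ← h, sub_self]
    exact (sub_eq_zero.mp ((smul_eq_zero.mp h').resolve_right (by simpa using hne 1))).symm
  have hc1 : c = 1 := by
    have h := pow_gcd_eq_one.mpr ⟨hcP, hcr⟩
    rwa [hcop.gcd_eq_one, pow_one] at h
  rw [hc1, one_smul] at hTa
  obtain ⟨μ, hμ⟩ := IsAlgClosed.exists_pow_nat_eq l hP
  refine ⟨μ⁻¹ • T₁, ?_, ?_, fun k => ?_⟩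
  · rw [smul_pow, hl, smul_smul, inv_pow, hμ, inv_mul_cancel₀ hl0, one_smul]
  · rw [smul_mul_assoc, mul_smul_comm, hTa]
  · rw [smul_mul_assoc, mul_smul_comm, hint]

/-- The case of dimension `r - 1`: the automorphism is trivial modulo scalars. -/
theorem block_trivial (hQ : IsPGroup s Q) (hirr : IsIrredOn τ Q)
    (hL1 : ∀ t ∈ Q, ∀ k ∈ Q, IsScalar τ ⁅t, k⁆) {a : G} {r : ℕ} [Fact r.Prime] (hrs : r ≠ s)
    (hrK : (r : K) ≠ 0) (har : a ^ r = 1) (hd : finrank K V + 1 = r)
    (hfpf : ∀ k ∈ Q, IsScalar τ (k⁻¹ * (a * k * a⁻¹)) → IsScalar τ k) (α : Q ≃* Q)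
    (hα : ∀ k : Q, IsScalar τ (k : G) → τ (α k : G) = τ (k : G))
    (hαa : ∀ k : Q, α ((MulAut.conjNormal a : MulAut Q) k) = (MulAut.conjNormal a : MulAut Q) (α k))
    {P : ℕ} (hP : 0 < P) (hαP : ∀ k : Q, (⇑α)^[P] k = k) (hcop : P.Coprime r) :
    ∀ k : Q, IsScalar τ ((α k : G) * (k : G)⁻¹) := by
  classical
  have hrp : r.Prime := Fact.out
  set S := scalarSubgroup τ Q with hS
  have hSc : ∀ {t : G}, t ∈ Q → (t ∈ S ↔ IsScalar τ t) := fun {t} ht =>
    ⟨fun h => h.2, fun h => ⟨ht, h⟩⟩
  let cong : Q → Q → Prop := fun k l => (k : G)⁻¹ * l ∈ S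
  have htrans : ∀ {k l m : Q}, cong k l → cong l m → cong k m := fun {k l m} h1 h2 => by
    have h := S.mul_mem h1 h2
    rwa [show (k : G)⁻¹ * l * ((l : G)⁻¹ * m) = (k : G)⁻¹ * m by group] at h
  have hcj : ∀ (g : G) {k l : Q}, cong k l →
      cong ((MulAut.conjNormal g : MulAut Q) k) ((MulAut.conjNormal g : MulAut Q) l) := by
    intro g k l h
    have h1 := (inferInstance : S.Normal).conj_mem _ h g
    show ((MulAut.conjNormal g : MulAut Q) k : G)⁻¹ * _ ∈ S
    rw [MulAut.conjNormal_apply, MulAut.conjNormal_apply,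
      show (g * (k : G) * g⁻¹)⁻¹ * (g * (l : G) * g⁻¹) = g * ((k : G)⁻¹ * l) * g⁻¹ by group]
    exact h1
  have hαc : ∀ {k l : Q}, cong k l → cong (α k) (α l) := fun {k l} h => by
    obtain ⟨-, c, hc⟩ := h
    refine ⟨Q.mul_mem (Q.inv_mem (α k).2) (α l).2, c, ?_⟩
    rw [← Subgroup.coe_inv, ← Subgroup.coe_mul, ← map_inv, ← map_mul,
      hα _ ⟨c, by rw [Subgroup.coe_mul, Subgroup.coe_inv]; exact hc⟩,
      Subgroup.coe_mul, Subgroup.coe_inv]
    exact hc
  have hcA : ∀ (g h : G) (k : Q), (MulAut.conjNormal (g * h) : MulAut Q) k =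
      (MulAut.conjNormal g : MulAut Q) ((MulAut.conjNormal h : MulAut Q) k) := fun g h k => by
    rw [map_mul, MulAut.mul_apply]
  have hαaj : ∀ (j : ℕ) (k : Q), α ((MulAut.conjNormal (a ^ j) : MulAut Q) k) =
      (MulAut.conjNormal (a ^ j) : MulAut Q) (α k) := by
    intro j
    induction j with
    | zero => intro k; simp
    | succ j ih => intro k; rw [pow_succ, hcA, hcA, ih, hαa]
  have hamod : ∀ (j : ℕ), a ^ j = a ^ (j % r) := fun j => pow_eq_pow_mod j har
  have hfree : ∀ (j : ℕ) (k : Q), ¬ r ∣ j → cong k ((MulAut.conjNormal (a ^ j) : MulAut Q) k) →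
      IsScalar τ (k : G) := by
    intro j k hj h
    have hrep : ∀ l : ℕ, cong k ((MulAut.conjNormal (a ^ (j * l)) : MulAut Q) k) := by
      intro l
      induction l with
      | zero => show (k : G)⁻¹ * _ ∈ S; simp
      | succ l ih =>
        rw [show a ^ (j * (l + 1)) = a ^ (j * l) * a ^ j by rw [← pow_add]; ring_nf, hcA]
        exact htrans ih (hcj _ h)
    obtain ⟨l, -, hl⟩ := Nat.exists_mul_mod_eq_one_of_coprime
      ((Nat.Prime.coprime_iff_not_dvd hrp).mpr hj).symm hrp.one_lt
    have h1 := hrep l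
    rw [hamod, hl, pow_one] at h1
    obtain ⟨-, h1⟩ := h1
    rw [MulAut.conjNormal_apply] at h1
    exact hfpf k k.2 h1
  -- the commutant of `a` is commutative
  obtain ⟨T, hTP, hTa, hTk⟩ := exists_intertwiner hQ hirr hL1 har α hα hαa hP hαP hcop
  have hdim : finrank K (FgsC.Commutant.commutant (τ a - 1)) ≤ finrank K V := by
    obtain ⟨-, hconj⟩ := conj_orbits (p := r) (q := s) hrs hQ hirr (x := a) (n := 1)
      (by rw [pow_one]; exact har) (fun i hi0 hir k hk hcom => by
        refine hfree i ⟨k, hk⟩ (Nat.not_dvd_of_pos_of_lt hi0 (by rwa [pow_one] at hir)) ?_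
        show k⁻¹ * _ ∈ S
        rw [MulAut.conjNormal_apply, Subtype.coe_mk, ← hcom.eq, mul_inv_cancel_right,
          inv_mul_cancel]
        exact S.one_mem) hL1
    obtain ⟨t, ht1, ht2⟩ := hconj 1 one_pos (by rw [pow_one]; exact hrp.one_le) (Nat.mod_one _)
    rw [pow_one] at ht2
    rw [Nat.div_one, pow_one] at ht1
    rw [ht2]
    obtain ⟨e, he⟩ : ∃ e, finrank K V = e + 1 := ⟨finrank K V - 1, by
      have := Module.finrank_pos (R := K) (M := V); omega⟩
    have h3 : t * r = e * r := by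
      rw [← hd] at ht1 ⊢
      rw [he] at ht1 ⊢
      nlinarith
    rw [Nat.eq_of_mul_eq_mul_right hrp.pos h3, he, add_comm]
  set F : Q → ℕ → End K V := fun k j => τ ((MulAut.conjNormal (a ^ j) : MulAut Q) k : G) with hF
  set Sm : Q → End K V := fun k => ∑ j ∈ Finset.range r, F k j with hSm
  have hshift : ∀ k, τ a * Sm k = Sm k * τ a := by
    intro k
    have h1 : ∀ j, τ a * F k j = F k (j + 1) * τ a := fun j => by
      simp only [hF, MulAut.conjNormal_apply]
      rw [← map_mul, ← map_mul]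
      congr 1
      rw [pow_succ']
      group
    simp only [hSm, Finset.mul_sum, h1, ← Finset.sum_mul]
    congr 1
    have h2 := Finset.sum_range_succ' (F k) r
    rw [Finset.sum_range_succ] at h2
    have h3 : F k r = F k 0 := by simp only [hF, har, pow_zero]
    rw [h3] at h2
    exact (add_right_cancel h2).symm
  have hSmα : ∀ k, Sm (α k) = Sm k := by
    intro k
    have h1 : T * Sm k = Sm (α k) * T := by
      simp only [hSm, Finset.mul_sum, Finset.sum_mul]
      refine Finset.sum_congr rfl fun j _ => ?_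
      show T * τ _ = τ _ * T
      rw [hTk, hαaj]
    rw [commute_of_small_commutant hrp.pos hrK (by rw [← map_pow, har, map_one]) hdim hTa
      (hshift k).symm] at h1
    have h2 : ∀ X : End K V, X * T * T ^ (P - 1) = X := fun X => by
      rw [mul_assoc, ← pow_succ', Nat.sub_add_cancel hP, hTP, mul_one]
    rw [← h2 (Sm (α k)), ← h1, h2]
  -- coordinates
  obtain ⟨hli, hspan, -, -, hsame⟩ := end_basis (ρ := τ) hQ hirr hL1
  let b : Basis (Q ⧸ S.subgroupOf Q) K (End K V) := Basis.mk hli hspan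
  have hrepr : ∀ k l : Q, (b.repr (τ (k : G)) (QuotientGroup.mk l) ≠ 0 ↔ cong l k) := by
    intro k l
    obtain ⟨c, hc0, hc⟩ := hsame k
    rw [hc, ← Basis.mk_apply hli hspan (QuotientGroup.mk k), map_smul, Basis.repr_self,
      Finsupp.smul_apply, Finsupp.single_apply, smul_eq_mul]
    constructor
    · intro h
      by_contra hne
      refine h ?_
      rw [if_neg, mul_zero]
      intro he
      exact hne (Subgroup.mem_subgroupOf.mp (QuotientGroup.eq.mp he.symm))
    · intro h
      rw [if_pos (QuotientGroup.eq.mpr (Subgroup.mem_subgroupOf.mpr h) :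
        (QuotientGroup.mk l : Q ⧸ S.subgroupOf Q) = QuotientGroup.mk k).symm, mul_one]
      exact hc0
  intro k
  by_cases hk : IsScalar τ (k : G)
  · refine ⟨1, ?_⟩
    rw [one_smul, map_mul, hα k hk, ← map_mul, mul_inv_cancel, map_one]
  obtain ⟨j, hjr, hj⟩ : ∃ j < r, cong k ((MulAut.conjNormal (a ^ j) : MulAut Q) (α k)) := by
    by_contra hno
    push Not at hno
    have h0 : ∀ j ∈ Finset.range r, b.repr (F (α k) j) (QuotientGroup.mk k) = 0 := fun j hj => by
      by_contra h
      exact hno j (Finset.mem_range.mp hj) ((hrepr _ _).mp h)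
    have h1 : b.repr (Sm (α k)) (QuotientGroup.mk k) = 0 := by
      simp only [hSm, map_sum, Finsupp.finsetSum_apply]
      exact Finset.sum_eq_zero h0
    rw [hSmα] at h1
    simp only [hSm, map_sum, Finsupp.finsetSum_apply] at h1
    rw [Finset.sum_eq_single 0 (fun j hj hj0 => by
      by_contra h
      exact hk (hfree j k (Nat.not_dvd_of_pos_of_lt (Nat.pos_of_ne_zero hj0)
        (Finset.mem_range.mp hj)) ((hrepr _ _).mp h)))
      (fun h => absurd (Finset.mem_range.mpr hrp.pos) h)] at h1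
    exact (hrepr _ _).mpr (by show (k : G)⁻¹ * _ ∈ S; simp [S.one_mem]) h1
  have hrep : ∀ n : ℕ, cong k ((MulAut.conjNormal (a ^ (j * n)) : MulAut Q) ((⇑α)^[n] k)) := by
    intro n
    induction n with
    | zero => show (k : G)⁻¹ * _ ∈ S; simp [S.one_mem]
    | succ n ih =>
      have h1 := hαc ih
      rw [hαaj, ← Function.iterate_succ_apply' α n k] at h1
      have h2 := hcj (a ^ j) h1
      rw [← hcA, ← pow_add] at h2
      rw [show j * (n + 1) = j + j * n by ring]
      exact htrans hj h2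
  have hjP := hrep P
  rw [hαP] at hjP
  have hdvd : r ∣ j * P := by
    by_contra h
    exact hk (hfree _ k h hjP)
  have hj0 : j = 0 := by
    rcases (Nat.Prime.dvd_mul hrp).mp hdvd with h | h
    · exact Nat.eq_zero_of_dvd_of_lt h hjr
    · exact absurd (Nat.eq_one_of_dvd_coprimes hcop h dvd_rfl) hrp.one_lt.ne'
  rw [hj0, pow_zero, map_one, MulAut.one_apply] at hj
  have h := (inferInstance : S.Normal).conj_mem _ hj (k : G)
  rw [show (k : G) * ((k : G)⁻¹ * (α k : G)) * (k : G)⁻¹ = (α k : G) * (k : G)⁻¹ by group] at h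
  exact h.2

end CfsgLib.TurullFit.SFLin
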