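import Cfsg.Agent.Lib.TurullFit.Defs
import Cfsg.Agent.Lib.TurullFit.SmallFixLin

/-!
# Turull's bound for the Fitting height: automorphisms of a piece of extraspecial type

The abstract results of `SmallFixLin` for `Heis ρ s r E a U` and an element `g`
normalising `E` and commuting with `a`, which need not stabilise `U`.
-/

set_option autoImplicit false

open Module
open scoped commutatorElement
open CfsgLib.FgsC.HallHigman

namespace CfsgLib.TurullFit.SFPiece

variable {F : Type*} [Field F] {Γ : Type*} [Group Γ] {V : Type*} [AddCommGroup V] [Module F V]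
  {ρ : Representation F Γ V} {s r : ℕ} {E : Subgroup Γ} {a : Γ} {U : Submodule F V}

variable (ρ E U) in
/-- The elements normalising `E` and stabilising `U`. -/
def grp : Subgroup Γ := stabSub ρ U ⊓ Subgroup.normalizer (E : Set Γ)

variable (ρ E U) in
/-- Their action on `U`. -/
noncomputable def rep : Representation F ↥(grp ρ E U) ↥U :=
  (restrictRep ρ U).comp (Subgroup.inclusion inf_le_left)

theorem rep_apply (g : grp ρ E U) (v : U) : ((rep ρ E U g v : U) : V) = ρ (g : Γ) (v : V) := rfl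

instance subgroupOf_normal : (E.subgroupOf (grp ρ E U)).Normal := ⟨fun x hx g => by
  rw [Subgroup.mem_subgroupOf] at hx ⊢
  exact (Subgroup.mem_normalizer_iff.mp g.2.2 _).mp hx⟩

theorem isScalar_iff {g : grp ρ E U} :
    IsScalar (rep ρ E U) g ↔ IsScalarOn ρ U (g : Γ) := by
  constructor
  · rintro ⟨c, hc⟩
    exact ⟨c, fun v hv => congrArg Subtype.val (LinearMap.congr_fun hc ⟨v, hv⟩)⟩
  · rintro ⟨c, hc⟩
    exact ⟨c, LinearMap.ext fun v => Subtype.ext (hc v v.2)⟩

theorem mem_stabSub_of_mem (H : Heis ρ s r E a U) {x : Γ} (hx : x ∈ E) : x ∈ stabSub ρ U :=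
  fun v => ⟨fun hv => by
    have h := H.inv.1 x⁻¹ (E.inv_mem hx) _ hv
    rwa [rho_apply_inv] at h, fun hv => H.inv.1 x hx v hv⟩

theorem le_grp (H : Heis ρ s r E a U) : E ≤ grp ρ E U := fun _ hx =>
  ⟨mem_stabSub_of_mem H hx, Subgroup.le_normalizer hx⟩

theorem mem_grp (H : Heis ρ s r E a U) : a ∈ grp ρ E U := by
  refine ⟨fun v => ⟨fun hv => ?_, fun hv => H.inv.2 v hv⟩, H.layer.mem_normalizer⟩
  have hpow : ∀ n : ℕ, ∀ w ∈ U, ρ (a ^ n) w ∈ U := by
    intro n
    induction n with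
    | zero => intro w hw; rwa [pow_zero, map_one, End.one_apply]
    | succ n ih => intro w hw; rw [pow_succ, map_mul, End.mul_apply]; exact ih _ (H.inv.2 w hw)
  have h := hpow (r - 1) _ hv
  rwa [rho_mul_apply, ← pow_succ, Nat.sub_add_cancel H.layer.prime_r.pos, H.layer.pow_eq_one,
    map_one, End.one_apply] at h

theorem isPGroup_sub (H : Heis ρ s r E a U) : IsPGroup s (E.subgroupOf (grp ρ E U)) :=
  H.layer.isPGroup.of_equiv (Subgroup.subgroupOfEquivOfLe (le_grp H)).symm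

theorem irred_sub (H : Heis ρ s r E a U) :
    IsIrredOn (rep ρ E U) (E.subgroupOf (grp ρ E U)) := by
  intro W hW
  rcases H.irred (W.map U.subtype) (Submodule.map_subtype_le U W) (fun x hx v hv => by
    obtain ⟨w, hw, rfl⟩ := hv
    exact ⟨_, hW ⟨x, le_grp H hx⟩ (Subgroup.mem_subgroupOf.mpr hx) w hw, rfl⟩) with h | h
  · left
    rw [Submodule.eq_bot_iff]
    intro w hw
    have h1 : (w : V) ∈ W.map U.subtype := Submodule.mem_map_of_mem hw
    rw [h, Submodule.mem_bot] at h1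
    exact Subtype.ext h1
  · right
    rw [eq_top_iff]
    intro w _
    have h1 : (w : V) ∈ W.map U.subtype := h.symm ▸ w.2
    obtain ⟨w', hw', he⟩ := h1
    rwa [← Subtype.ext (p := fun v => v ∈ U) he]

theorem commutator_scalar (H : Heis ρ s r E a U) :
    ∀ t ∈ E.subgroupOf (grp ρ E U), ∀ k ∈ E.subgroupOf (grp ρ E U),
      IsScalar (rep ρ E U) ⁅t, k⁆ := by
  intro t ht k hk
  rw [Subgroup.mem_subgroupOf] at ht hk
  refine isScalar_iff.mpr ?_
  have hc : ((⁅t, k⁆ : grp ρ E U) : Γ) = ⁅(t : Γ), (k : Γ)⁆ := rfl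
  rw [hc]
  refine H.scalar _ ?_ fun y hy v _ => ?_
  · rw [commutatorElement_def]
    exact mul_mem (mul_mem (mul_mem ht hk) (inv_mem ht)) (inv_mem hk)
  · have h := H.layer.classTwo _ ht _ hk y hy
    rw [show ⁅(t : Γ), (k : Γ)⁆ * y = ⁅⁅(t : Γ), (k : Γ)⁆, y⁆ * (y * ⁅(t : Γ), (k : Γ)⁆) by
      simp only [commutatorElement_def]; group, map_mul, h, one_mul]

theorem nontrivial_of (H : Heis ρ s r E a U) : Nontrivial U :=
  Submodule.nontrivial_iff_ne_bot.mpr H.ne_bot

theorem fpf_sub (H : Heis ρ s r E a U) : ∀ k ∈ E.subgroupOf (grp ρ E U),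
    IsScalar (rep ρ E U) (k⁻¹ * (⟨a, mem_grp H⟩ * k * (⟨a, mem_grp H⟩ : grp ρ E U)⁻¹)) →
      IsScalar (rep ρ E U) k := fun k hk h =>
  isScalar_iff.mpr (H.fpf _ (Subgroup.mem_subgroupOf.mp hk) (isScalar_iff.mp h))

/-- Conjugation by an element of the normaliser. -/
def conjAut (H : Heis ρ s r E a U) {g : Γ} (hgN : g ∈ Subgroup.normalizer (E : Set Γ)) :
    E.subgroupOf (grp ρ E U) ≃* E.subgroupOf (grp ρ E U) where
  toFun k := ⟨⟨g * (k : Γ) * g⁻¹,
      le_grp H ((Subgroup.mem_normalizer_iff.mp hgN _).mp k.2)⟩,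
    (Subgroup.mem_normalizer_iff.mp hgN _).mp k.2⟩
  invFun k := ⟨⟨g⁻¹ * (k : Γ) * g,
      le_grp H ((Subgroup.mem_normalizer_iff''.mp hgN _).mp k.2)⟩,
    (Subgroup.mem_normalizer_iff''.mp hgN _).mp k.2⟩
  left_inv k := Subtype.ext (Subtype.ext (show g⁻¹ * (g * (k : Γ) * g⁻¹) * g = k by group))
  right_inv k := Subtype.ext (Subtype.ext (show g * (g⁻¹ * (k : Γ) * g) * g⁻¹ = k by group))
  map_mul' k l := Subtype.ext (Subtype.ext
    (show g * ((k : Γ) * l) * g⁻¹ = g * (k : Γ) * g⁻¹ * (g * (l : Γ) * g⁻¹) by group))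

theorem conjAut_coe (H : Heis ρ s r E a U) {g : Γ}
    (hgN : g ∈ Subgroup.normalizer (E : Set Γ)) (k : E.subgroupOf (grp ρ E U)) :
    (((conjAut H hgN k : E.subgroupOf (grp ρ E U)) : grp ρ E U) : Γ) = g * (k : Γ) * g⁻¹ := rfl

theorem conjAut_comm (H : Heis ρ s r E a U) {g : Γ} (hgN : g ∈ Subgroup.normalizer (E : Set Γ))
    (hag : a * g = g * a) (k : E.subgroupOf (grp ρ E U)) :
    conjAut H hgN ((MulAut.conjNormal (⟨a, mem_grp H⟩ : grp ρ E U) :
        MulAut (E.subgroupOf (grp ρ E U))) k) =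
      (MulAut.conjNormal (⟨a, mem_grp H⟩ : grp ρ E U) :
        MulAut (E.subgroupOf (grp ρ E U))) (conjAut H hgN k) := by
  refine Subtype.ext (Subtype.ext ?_)
  rw [conjAut_coe, MulAut.conjNormal_apply, MulAut.conjNormal_apply]
  show g * (a * (k : Γ) * a⁻¹) * g⁻¹ = a * (g * (k : Γ) * g⁻¹) * a⁻¹
  calc g * (a * (k : Γ) * a⁻¹) * g⁻¹ = (g * a) * k * (g * a)⁻¹ := by group
    _ = (a * g) * k * (a * g)⁻¹ := by rw [hag]
    _ = _ := by group

theorem conjAut_pow (H : Heis ρ s r E a U) {g : Γ} (hgN : g ∈ Subgroup.normalizer (E : Set Γ))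
    (n : ℕ) (k : E.subgroupOf (grp ρ E U)) :
    ((((⇑(conjAut H hgN))^[n] k : E.subgroupOf (grp ρ E U)) : grp ρ E U) : Γ) =
      g ^ n * (k : Γ) * (g ^ n)⁻¹ := by
  induction n with
  | zero => simp
  | succ n ih =>
    rw [Function.iterate_succ_apply', conjAut_coe, ih, pow_succ']
    group

/-- An element commuting with the action of `E` is a scalar on `U`. -/
theorem scalar_of_commute [Finite Γ] [IsAlgClosed F] [FiniteDimensional F V]
    (H : Heis ρ s r E a U) {g : Γ} (hgs : g ∈ stabSub ρ U)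
    (hgN : g ∈ Subgroup.normalizer (E : Set Γ))
    (hcom : ∀ x ∈ E, CommOn ρ U g x) : IsScalarOn ρ U g := by
  haveI := nontrivial_of H
  refine (isScalar_iff (g := ⟨g, hgs, hgN⟩)).mp (isScalar_of_commute (irred_sub H) fun k hk => ?_)
  refine LinearMap.ext fun v => Subtype.ext ?_
  show ρ (k : Γ) (ρ g (v : V)) = ρ g (ρ (k : Γ) (v : V))
  rw [rho_mul_apply, rho_mul_apply]
  exact (hcom _ (Subgroup.mem_subgroupOf.mp hk) v v.2).symm

section auto

variable [Finite Γ] [IsAlgClosed F] [FiniteDimensional F V]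

/-- In dimension `r - 1` such an element is trivial modulo scalars. -/
theorem block (H : Heis ρ s r E a U) (hd : finrank F U + 1 = r) {g : Γ}
    (hgN : g ∈ Subgroup.normalizer (E : Set Γ)) (hag : a * g = g * a)
    (hfix : ∀ x ∈ E, IsScalarOn ρ U x → ∀ v ∈ U, ρ (g * x * g⁻¹) v = ρ x v)
    {P : ℕ} (hP : 0 < P) (hgP : g ^ P = 1) (hcop : P.Coprime r) :
    ∀ x ∈ E, IsScalarOn ρ U ⁅g, x⁆ := by
  haveI := nontrivial_of H
  haveI := Fact.mk H.layer.prime_s
  haveI := Fact.mk H.layer.prime_r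
  intro x hx
  have h := SFLin.block_trivial (isPGroup_sub H) (irred_sub H) (commutator_scalar H)
    (a := (⟨a, mem_grp H⟩ : grp ρ E U)) (Ne.symm H.layer.s_ne_r) H.layer.r_ne_zero
    (Subtype.ext H.layer.pow_eq_one) hd (fpf_sub H) (conjAut H hgN)
    (fun k hk => LinearMap.ext fun v => Subtype.ext (hfix _ k.2 (isScalar_iff.mp hk) v v.2))
    (conjAut_comm H hgN hag) hP
    (fun k => Subtype.ext (Subtype.ext (by rw [conjAut_pow, hgP]; group))) hcop
    ⟨⟨x, le_grp H hx⟩, hx⟩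
  exact isScalar_iff.mp h

end auto

end CfsgLib.TurullFit.SFPiece
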