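import Cfsg.Agent.Lib.TurullFit.SmallFixCentre
import Cfsg.Agent.Lib.TurullFit.SmallFixPiece

/-!
# Turull's bound for the Fitting height: the bounds on the fixed component

An element `y` of `Y` moving the component modulo its centre keeps the dimension small.
-/

set_option autoImplicit false

open Module
open scoped commutatorElement
open CfsgLib.FgsC.HallHigman CfsgLib.TurullFit.SFBasic CfsgLib.TurullFit.SFCentre

namespace CfsgLib.TurullFit.SFBound

universe u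

theorem pow_bound {r : ℕ} (hr : 3 ≤ r) : 81 * (r * r) ≤ 27 ^ (r - 1) := by
  induction r, hr using Nat.le_induction with
  | base => norm_num
  | succ n hn ih =>
    rw [show n + 1 - 1 = (n - 1) + 1 by omega, pow_succ]
    nlinarith

variable {F F₁ : Type} [Field F] [IsAlgClosed F] [Field F₁] [IsAlgClosed F₁] {Γ V : Type u}
  [Group Γ] [Finite Γ] [AddCommGroup V] [Module F V] [FiniteDimensional F V]
  {ρ : Representation F Γ V} {q r p : ℕ} {Z Q X Y : Subgroup Γ} [Z.Normal] [Q.Normal] {a : Γ}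
  {T : Submodule F V} {Ω : Set V}

variable (D : Data F₁ ρ q r p Z Q X Y a T Ω)
include D

omit [IsAlgClosed F₁] in
/-- An element of prime power order fixing `T` and moving a fixed component modulo its centre
keeps the dimension small. -/
theorem dim_bound (hC : StmtCount.{u}) (hHy : StmtHyper.{u}) (hCC : StmtCommCount.{u})
    (hFH : StmtFixHalf.{u}) {S : Submodule F V} (hG : Good ρ Z a S) (hF : FixedType ρ Z S)
    (hH : Heis ρ q r Z a S) {o : ℕ} (ho : o.Prime) (hor : o ≠ r) (hp : (o : F) ≠ 0) {y : Γ}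
    {e : ℕ} (he : y ^ (o ^ e) = 1) (hay : a * y = y * a) (hTy : T ≤ fixSub ρ y)
    (hmove : ∃ z ∈ Z, ¬ CenterOn ρ Z S ⁅y, z⁆) : finrank F S + 3 ≤ 6 * r := by
  classical
  let Cent : ℕ → Prop := fun i => ∀ z ∈ Z, CenterOn ρ Z S ⁅y ^ (o ^ i), z⁆
  have hCe : ∃ i, Cent i := ⟨e, fun z hz => by
    rw [he, commutatorElement_one_left]
    exact centerOn_of_central D.phi.le D.phi.central S Q.one_mem⟩
  have hC0 : ¬ Cent 0 := fun h => by
    obtain ⟨z, hz, hne⟩ := hmove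
    exact hne (by simpa using h z hz)
  obtain ⟨j, hj⟩ : ∃ j, Nat.find hCe = j + 1 := ⟨Nat.find hCe - 1, by
    have : Nat.find hCe ≠ 0 := fun h => hC0 (h ▸ Nat.find_spec hCe)
    omega⟩
  set g := y ^ (o ^ j) with hg
  have hpowfix : ∀ n : ℕ, T ≤ fixSub ρ (y ^ n) := by
    intro n
    induction n with
    | zero => intro t _; rw [mem_fixSub, pow_zero, map_one, End.one_apply]
    | succ n ih =>
      intro t ht
      rw [mem_fixSub, pow_succ, map_mul, End.mul_apply, mem_fixSub.mp (hTy ht),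
        mem_fixSub.mp (ih ht)]
  have hcy : ∀ n : ℕ, a * y ^ n = y ^ n * a := fun n =>
    ((show Commute a y from hay).pow_right n).eq
  have hord : ∀ n : ℕ, (orderOf (y ^ n)).Coprime r := fun n =>
    Nat.Coprime.coprime_dvd_left
      (orderOf_dvd_of_pow_eq_one (n := o ^ e) (by rw [← pow_mul, mul_comm, pow_mul, he, one_pow]))
      (Nat.Coprime.pow_left e ((Nat.coprime_primes ho D.LZ.prime_r).mpr hor))
  have hHn := fun (n : ℕ) S' hS' => hHy F Γ V ρ q r Z a T Ω (y ^ n) D.LZ D.hypT D.centralFix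
    (mem_normalizer D _) (hcy n) (hpowfix n) (hord n) S' hS'
  have hHgo := fun S' hS' => hHn (o ^ j * o) S' hS'
  have hgp : ∀ z ∈ Z, CenterOn ρ Z S ⁅g ^ o, z⁆ := fun z hz => by
    rw [hg, ← pow_mul, ← pow_succ, ← hj]
    exact Nat.find_spec hCe z hz
  obtain ⟨z₁, hz₁, hgmove⟩ : ∃ z ∈ Z, ¬ CenterOn ρ Z S ⁅g, z⁆ := by
    have h := Nat.find_min hCe (show j < Nat.find hCe by omega)
    simp only [Cent] at h
    push Not at h
    exact h
  have hgK : (orderOf g : F) ≠ 0 := by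
    obtain ⟨i, -, hi⟩ := (Nat.dvd_prime_pow ho).mp (orderOf_dvd_of_pow_eq_one (x := g) (n := o ^ e)
      (by rw [hg, ← pow_mul, mul_comm, pow_mul, he, one_pow]))
    rw [hi, Nat.cast_pow]
    exact pow_ne_zero _ hp
  obtain ⟨S', hG', hH', -, hCS, hgS, hhyp⟩ := (hHn (o ^ j) S hG).2.2.1 hF hgK
  have hR : ∀ x, x ∈ cenSub ρ Z S hH.inv.1 ↔ x ∈ Z ∧ IsScalarOn ρ S x := fun x =>
    ⟨fun h => ⟨h.1, hF x h⟩, fun h => centerOn_of_scalar hH.inv.1 h.1 h.2⟩
  have hR' : ∀ x, x ∈ cenSub ρ Z S hH.inv.1 ↔ x ∈ Z ∧ IsScalarOn ρ S' x := fun x => by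
    rw [mem_cenSub, hCS]
    exact ⟨fun h => ⟨h.1, hH'.scalar x h.1 h.2⟩, fun h => centerOn_of_scalar hH'.inv.1 h.1 h.2⟩
  have hd : finrank F S' * finrank F S' = finrank F S * finrank F S :=
    ((hC F Γ V ρ q r Z a S' hH').2.2.2 _ hR').symm.trans
      ((hC F Γ V ρ q r Z a S hH).2.2.2 _ hR)
  -- `g ^ o` is a scalar on `S'`
  have hgpS : g ^ o ∈ stabSub ρ S' := Subgroup.pow_mem _ hgS o
  have hscal : IsScalarOn ρ S' (g ^ o) := by
    refine SFPiece.scalar_of_commute hH' hgpS (mem_normalizer D _) fun x hx v hv => ?_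
    obtain ⟨z', hz', hw⟩ := exists_commutator D.comm D.fpf x hx
    set w := ⁅a, z'⁆⁻¹ * x with hwdef
    have hwv : ρ w v ∈ S' := hH'.inv.1 _ (D.phi.le hw) v hv
    have hGS : ∀ u ∈ S', ρ (g ^ o) u ∈ S' := fun u hu => (hgpS u).mpr hu
    -- on an element of `Q`
    have hGw : ρ (g ^ o) (ρ w v) = ρ w (ρ (g ^ o) v) := by
      have h := (hHgo S' hG').1.2 w
        (centerOn_of_central D.phi.le D.phi.central S' hw) _ (hGS v hv)
      rw [← h, rho_mul_apply, rho_mul_apply, hg, ← pow_mul]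
      congr 2
      group
    -- a scalar twist on a commutator with `a`
    obtain ⟨l, hl⟩ := ((hR' _).mp (hgp z' hz')).2
    have hGz : ∀ u ∈ S', ρ (g ^ o) (ρ z' u) = l • ρ z' (ρ (g ^ o) u) := fun u hu => by
      rw [← hl _ (hH'.inv.1 z' hz' _ (hGS u hu)), rho_mul_apply, rho_mul_apply, rho_mul_apply]
      congr 2
      rw [commutatorElement_def]; group
    have hga : Commute (g ^ o) a := (show Commute a g from hcy _).symm.pow_left o
    have hGa : ∀ u, ρ (g ^ o) (ρ a u) = ρ a (ρ (g ^ o) u) := fun u => by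
      rw [rho_mul_apply, rho_mul_apply, hga.eq]
    have hGai : ∀ u, ρ (g ^ o) (ρ a⁻¹ u) = ρ a⁻¹ (ρ (g ^ o) u) := fun u => by
      rw [rho_mul_apply, rho_mul_apply, hga.inv_right.eq]
    have hGc : ∀ u ∈ S', ρ (g ^ o) (ρ ⁅a, z'⁆ u) = ρ ⁅a, z'⁆ (ρ (g ^ o) u) := by
      intro u hu
      set t := ρ z'⁻¹ u with ht
      have htS : t ∈ S' := hH'.inv.1 _ (Z.inv_mem hz') u hu
      have hat : ρ a⁻¹ t ∈ S' := by
        have h := (Subgroup.inv_mem _ (SFPiece.mem_grp hH')).1 t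
        exact h.mpr htS
      have h1 : ρ (g ^ o) u = l • ρ z' (ρ (g ^ o) t) := by
        rw [← hGz t htS, ht, rho_inv_apply]
      rw [h1, map_smul, commutatorElement_def, ← rho_mul_apply, ← rho_mul_apply, ← rho_mul_apply,
        ← rho_mul_apply, ← rho_mul_apply, ← rho_mul_apply, ← ht, hGa, hGz _ hat, hGai, map_smul,
        rho_apply_inv]
    rw [← rho_mul_apply, ← rho_mul_apply]
    conv_lhs => rw [show x = ⁅a, z'⁆ * w by rw [hwdef]; group, ← rho_mul_apply, hGc _ hwv, hGw,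
      rho_mul_apply, show ⁅a, z'⁆ * w = x by rw [hwdef]; group]
  -- the numbers
  rw [← hg] at hhyp
  have hgx : ∃ x ∈ Z, ¬ IsScalarOn ρ S' ⁅g, x⁆ :=
    ⟨z₁, hz₁, fun h => hgmove (mem_cenSub.mp ((hR' _).mpr ⟨commutator_mem_normal hz₁, h⟩))⟩
  have h3 := (hFH F Γ V ρ q r Z a g S' hH' (mem_normalizer D g) hgS hgx).2 D.q_ne
  have h4 := (hCC F Γ V ρ q r o Z a g S' hH' (mem_normalizer D g) (hcy _) ho
    hor hp hgS hscal).2 (by rcases hhyp with h | ⟨-, h⟩ <;> omega)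
  rw [Nat.mul_self_inj] at hd
  have := D.LZ.prime_r.two_le
  rw [← hd]
  rcases h4 with ⟨-, h⟩ | h | h <;> omega

end CfsgLib.TurullFit.SFBound
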