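import Cfsg.Agent.Lib.TurullFit.SmallFixBasic

/-!
# Turull's bound for the Fitting height: a component whose centre is moved

Under the hypotheses of `StmtSmallFix`, if `Y` fixes `T` a fixed component of `Z` is found such
that `⁅a, X⁆` acts nontrivially modulo its centre and everything preserves this centre.
-/

set_option autoImplicit false

open Module
open scoped commutatorElement
open CfsgLib.FgsC.HallHigman CfsgLib.TurullFit.SFBasic

namespace CfsgLib.TurullFit.SFCentre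

universe u

variable {F F₁ : Type} [Field F] [IsAlgClosed F] [Field F₁] [IsAlgClosed F₁] {Γ V : Type u}
  [Group Γ] [Finite Γ] [AddCommGroup V] [Module F V] [FiniteDimensional F V]
  {ρ : Representation F Γ V} {q r p : ℕ} {Z Q X Y : Subgroup Γ} [Z.Normal] [Q.Normal] {a : Γ}
  {T : Submodule F V} {Ω : Set V}

/-- The hypotheses of `StmtSmallFix`. -/
structure Data (F₁ : Type) [Field F₁] (ρ : Representation F Γ V) (q r p : ℕ)
    (Z Q X Y : Subgroup Γ) [Z.Normal] [Q.Normal] (a : Γ) (T : Submodule F V) (Ω : Set V) :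
    Prop where
  LZ : Layer ρ q r Z a
  hypT : HypT ρ r Z a T Ω
  centralFix : CentralFix ρ Z a
  phi : PhiSpec ρ Z Q
  charP : CharP F₁ q
  q_ne : q ≠ 2
  pow : ∀ z ∈ Z, z ^ q ∈ Q
  comm : ∀ z ∈ Z, ∀ w ∈ Z, ⁅z, w⁆ ∈ Q
  fpf : ∀ z ∈ Z, a * z * a⁻¹ * z⁻¹ ∈ Q → z ∈ Q
  LX : Layer (dualRep F₁ Z Q) 2 r X a
  centralFixX : CentralFix (dualRep F₁ Z Q) X a
  sq : ∀ x ∈ X, ∀ y ∈ X, dualRep F₁ Z Q ⁅x ^ 2, y⁆ = 1
  noGood : ∀ S, ¬ Good (dualRep F₁ Z Q) X a S
  noncentral : ∃ S, Comp (dualRep F₁ Z Q) X a S ∧ Noncentral (dualRep F₁ Z Q) X a S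
  prime_p : p.Prime
  p_ne : p ≠ 2
  p_ne_r : p ≠ r
  isPGroup : IsPGroup p Y
  normY : Y ≤ Subgroup.normalizer (X : Set Γ)
  commY : ∀ g ∈ Y, a * g = g * a
  gen : X ≤ ⁅X, Y⁆ ⊔ (fixer (dualRep F₁ Z Q) ⊤ ⊓ X)
  preserves : ∀ g ∈ Y, Preserves ρ Z a g
  fixTwo : (2 : F) ≠ 0 → ∀ g ∈ ⁅X ⊓ Subgroup.centralizer {a}, Y⁆, T ≤ fixSub ρ g
  fixAll : (2 : F) = 0 → ∀ g ∈ Y, T ≤ fixSub ρ g

variable (D : Data F₁ ρ q r p Z Q X Y a T Ω)
include D

omit [IsAlgClosed F] [IsAlgClosed F₁] [FiniteDimensional F V] in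
theorem exists_pow {g : Γ} (hg : g ∈ Y) : ∃ e, g ^ (p ^ e) = 1 := by
  obtain ⟨e, he⟩ := D.isPGroup ⟨g, hg⟩
  exact ⟨e, congrArg Subtype.val he⟩

omit [IsAlgClosed F] [IsAlgClosed F₁] [FiniteDimensional F V] in
theorem coprime_order {g : Γ} (hg : g ∈ Y) : (orderOf g).Coprime r := by
  obtain ⟨e, he⟩ := exists_pow D hg
  exact Nat.Coprime.coprime_dvd_left (orderOf_dvd_of_pow_eq_one he)
    (Nat.Coprime.pow_left e ((Nat.coprime_primes D.prime_p D.LZ.prime_r).mpr D.p_ne_r))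

omit [IsAlgClosed F] [IsAlgClosed F₁] [FiniteDimensional F V] in
theorem mem_normalizer (g : Γ) : g ∈ Subgroup.normalizer (Z : Set Γ) := by
  rw [Subgroup.normalizer_eq_top]; exact Subgroup.mem_top g

omit [IsAlgClosed F₁] in
/-- Every noncentral component of `Z` is good. -/
theorem good_of_noncentral (hEF : StmtExcFacts.{u}) {S : Submodule F V} (hS : Comp ρ Z a S)
    (hN : Noncentral ρ Z a S) : Good ρ Z a S := by
  refine ⟨hS, hN, fun h => D.q_ne ?_⟩
  exact (hEF F Γ V ρ q r Z a S D.LZ ⟨hS, hN, h⟩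
    fun z hz => centerOn_of_central D.phi.le D.phi.central S (D.pow z hz)).1

omit [IsAlgClosed F] [IsAlgClosed F₁] [FiniteDimensional F V] in
/-- On a central component `Z` acts like `Q`. -/
theorem central_like {S : Submodule F V} (hS : Comp ρ Z a S) (hN : ¬ Noncentral ρ Z a S) {z : Γ}
    (hz : z ∈ Z) : ∃ w ∈ Q, ∀ v ∈ S, ρ z v = ρ w v := by
  obtain ⟨z', hz', hw⟩ := exists_commutator D.comm D.fpf z hz
  refine ⟨_, hw, fun v hv => ?_⟩
  have hu : ρ (⁅a, z'⁆⁻¹ * z) v ∈ S := hS.2.1.1 _ (D.phi.le hw) v hv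
  have hfix : ∀ u ∈ S, ρ ⁅a, z'⁆ u = u := by
    intro u hu
    by_contra hne
    refine hN ⟨z', hz', ρ z'⁻¹ u, hS.2.1.1 _ (Z.inv_mem hz') u hu, fun h => hne ?_⟩
    rw [rho_inv_apply, rho_mul_apply] at h
    rw [commutatorElement_def]
    exact h
  conv_lhs => rw [show z = ⁅a, z'⁆ * (⁅a, z'⁆⁻¹ * z) by group]
  rw [← rho_mul_apply, hfix _ hu]

omit [IsAlgClosed F] [IsAlgClosed F₁] [FiniteDimensional F V] in
theorem central_centerOn {S : Submodule F V} (hS : Comp ρ Z a S) (hN : ¬ Noncentral ρ Z a S)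
    {z : Γ} (hz : z ∈ Z) : CenterOn ρ Z S z := by
  refine ⟨hz, fun y hy v hv => ?_⟩
  obtain ⟨w, hw, hzw⟩ := central_like D hS hN hz
  rw [← rho_mul_apply, ← rho_mul_apply, hzw _ (hS.2.1.1 y hy v hv), hzw v hv, rho_mul_apply,
    rho_mul_apply, D.phi.central w hw y hy]

omit [IsAlgClosed F] [IsAlgClosed F₁] [FiniteDimensional F V] in
/-- An element preserving the action of the centre preserves the centre. -/
theorem centerOn_conj {S : Submodule F V} (hS : StableUnder ρ Z S) {g : Γ}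
    (h : ∀ x, CenterOn ρ Z S x → ∀ v ∈ S, ρ (g * x * g⁻¹) v = ρ x v) {z : Γ}
    (hz : CenterOn ρ Z S z) : CenterOn ρ Z S (g * z * g⁻¹) := by
  refine ⟨(inferInstance : Z.Normal).conj_mem z hz.1 g, fun y hy v hv => ?_⟩
  rw [← rho_mul_apply (g * z * g⁻¹) y, ← rho_mul_apply y (g * z * g⁻¹),
    h z hz _ (hS y hy v hv), h z hz v hv, rho_mul_apply, rho_mul_apply, hz.2 y hy v hv]

omit [IsAlgClosed F₁] in
/-- An element fixing the moved components and central on the fixed ones centralises `Z / Q`. -/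
theorem commutator_mem_radical (hSS : StmtSemisimple.{u}) (hEF : StmtExcFacts.{u}) {g : Γ}
    (hmoved : ∀ S, Good ρ Z a S → ¬ FixedType ρ Z S → S ≤ fixSub ρ g)
    (hfixed : ∀ S, Good ρ Z a S → FixedType ρ Z S → ∀ z ∈ Z, CenterOn ρ Z S ⁅g, z⁆) :
    ∀ z ∈ Z, ⁅g, z⁆ ∈ Q := by
  intro z hz
  have hmov : ∀ S, Comp ρ Z a S → Noncentral ρ Z a S → ¬ FixedType ρ Z S →
      ∀ v ∈ S, ρ ⁅g, z⁆ v = v := by
    intro S hS hN hnF v hv
    have hfix : ∀ w ∈ S, ρ g w = w := fun w hw =>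
      hmoved S (good_of_noncentral D hEF hS hN) hnF hw
    have hinv : ∀ w ∈ S, ρ g⁻¹ w = w := fun w hw => by
      conv_lhs => rw [← hfix w hw]
      rw [rho_apply_inv]
    rw [commutatorElement_def, ← rho_mul_apply, ← rho_mul_apply, ← rho_mul_apply,
      hinv _ (hS.2.1.1 _ (Z.inv_mem hz) v hv), rho_inv_apply, hfix v hv]
  rcases D.phi.spec with ⟨hab, hQ1⟩ | h
  · refine D.phi.ker _ (commutator_mem_normal hz) (LinearMap.ext fun v => ?_)
    have htop : (⊤ : Submodule F V) ≤ LinearMap.eqLocus (ρ ⁅g, z⁆) (1 : End F V) := by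
      rw [← (hSS F Γ V ρ q r Z a D.LZ).2]
      refine sSup_le fun S hS v hv => ?_
      show ρ ⁅g, z⁆ v = v
      by_cases hN : Noncentral ρ Z a S
      · refine hmov S hS hN ?_ v hv
        intro hF
        obtain ⟨x, hx, u, hu, hne⟩ := hN
        obtain ⟨c, hc⟩ := hF x ⟨hx, fun y hy w _ => by rw [hab x hx y hy]⟩
        refine hne ?_
        have hr : ρ a⁻¹ u ∈ S := by
          have hpow : ∀ n : ℕ, ρ (a ^ n) u ∈ S := by
            intro n
            induction n with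
            | zero => rwa [pow_zero, map_one, End.one_apply]
            | succ n ih => rw [pow_succ', map_mul, End.mul_apply]; exact hS.2.1.2 _ ih
          have hinv : a⁻¹ = a ^ (r - 1) := by
            rw [inv_eq_of_mul_eq_one_right (a := a) (b := a ^ (r - 1))
              (by rw [← pow_succ', Nat.sub_add_cancel D.LZ.prime_r.pos, D.LZ.pow_eq_one])]
          rw [hinv]; exact hpow _
        rw [← rho_mul_apply, ← rho_mul_apply, hc _ hr, map_smul, rho_inv_apply, hc u hu]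
      · obtain ⟨w, hw, hzw⟩ := central_like D hS hN (commutator_mem_normal (g := g) hz)
        rw [hzw v hv, hQ1 w hw, End.one_apply]
    exact htop Submodule.mem_top
  · refine h _ (commutator_mem_normal hz) fun y hy => LinearMap.ext fun v => ?_
    have htop : (⊤ : Submodule F V) ≤
        LinearMap.eqLocus (ρ (⁅g, z⁆ * y)) (ρ (y * ⁅g, z⁆)) := by
      rw [← (hSS F Γ V ρ q r Z a D.LZ).2]
      refine sSup_le fun S hS v hv => ?_
      suffices hcen : CenterOn ρ Z S ⁅g, z⁆ from hcen.2 y hy v hv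
      by_cases hN : Noncentral ρ Z a S
      · by_cases hF : FixedType ρ Z S
        · exact hfixed S (good_of_noncentral D hEF hS hN) hF z hz
        · exact centerOn_of_fix hS.2.1.1 (commutator_mem_normal hz) (hmov S hS hN hF)
      · exact central_centerOn D hS hN (commutator_mem_normal hz)
    exact htop Submodule.mem_top

omit [IsAlgClosed F₁] in
/-- If `Y` fixes `T` then `Z` is not abelian on `V`. -/
theorem spec_right (hSS : StmtSemisimple.{u}) (hEF : StmtExcFacts.{u}) (hHy : StmtHyper.{u})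
    (hfix : ∀ g ∈ Y, T ≤ fixSub ρ g) :
    ∀ z ∈ Z, (∀ y ∈ Z, ρ (z * y) = ρ (y * z)) → z ∈ Q := by
  rcases D.phi.spec with ⟨hab, hQ1⟩ | h
  swap
  · exact h
  exfalso
  have hnoFixed : ∀ S, Good ρ Z a S → FixedType ρ Z S → ∀ g z, z ∈ Z → CenterOn ρ Z S ⁅g, z⁆ :=
    fun S hS _ g z hz => ⟨commutator_mem_normal hz, fun y hy v _ => by
      rw [hab _ (commutator_mem_normal hz) y hy]⟩
  have hX1 : ∀ x ∈ X, dualRep F₁ Z Q x = 1 := by
    intro x hx
    let Kd : Subgroup Γ :=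
      { carrier := {g | dualRep F₁ Z Q g = 1}
        one_mem' := map_one _
        mul_mem' := fun {g h} (hg : _ = _) (hh : _ = _) => by
          show _ = _
          rw [map_mul, hg, hh, one_mul]
        inv_mem' := fun {g} (hg : _ = _) => by
          show _ = _
          calc dualRep F₁ Z Q g⁻¹ = dualRep F₁ Z Q g⁻¹ * dualRep F₁ Z Q g := by rw [hg, mul_one]
            _ = 1 := by rw [← map_mul, inv_mul_cancel, map_one] }
    have hYK : ∀ g ∈ Y, g ∈ Kd := fun g hg => dual_eq_one (commutator_mem_radical D hSS hEF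
      (fun S hS hnF => (hHy F Γ V ρ q r Z a T Ω g D.LZ D.hypT D.centralFix (mem_normalizer D g)
        (D.commY g hg) (hfix g hg) (coprime_order D hg) S hS).2.1 hnF)
      fun S hS hF => hnoFixed S hS hF g)
    have hle : ⁅X, Y⁆ ⊔ (fixer (dualRep F₁ Z Q) ⊤ ⊓ X) ≤ Kd := by
      refine sup_le (Subgroup.commutator_le.mpr fun x hx g hg => ?_) fun k hk => ?_
      · show _ = _
        have h1 : dualRep F₁ Z Q g = 1 := hYK g hg
        have h2 : dualRep F₁ Z Q g⁻¹ = 1 := hYK g⁻¹ (Y.inv_mem hg)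
        rw [commutatorElement_def, map_mul, map_mul, map_mul, h1, h2, mul_one, mul_one, ← map_mul,
          mul_inv_cancel, map_one]
      · exact LinearMap.ext fun f => hk.1 f Submodule.mem_top
    exact hle (D.gen hx)
  obtain ⟨S, -, x, hx, v, -, hne⟩ := D.noncentral
  apply hne
  rw [hX1 x hx, hX1 _ ((Subgroup.mem_normalizer_iff.mp D.LX.mem_normalizer x).mp hx)]

omit [IsAlgClosed F₁] in
/-- A fixed component of `Z`, the centre of which is normalised by `X`, `Y` and `a` and not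
centralised by `⁅a, X⁆`. -/
theorem find_fixed (hSS : StmtSemisimple.{u}) (hFI : StmtFixedIrr.{u}) (hEF : StmtExcFacts.{u})
    (hHy : StmtHyper.{u}) (hfix : ∀ g ∈ Y, T ≤ fixSub ρ g) :
    ∃ S, Good ρ Z a S ∧ FixedType ρ Z S ∧ Heis ρ q r Z a S ∧
      (∃ x ∈ X, ∃ z ∈ Z, ¬ CenterOn ρ Z S ⁅⁅a, x⁆, z⁆) ∧
      ∀ g, g ∈ X ∨ g ∈ Y ∨ g = a → ∀ z, CenterOn ρ Z S z ↔ CenterOn ρ Z S (g * z * g⁻¹) := by
  classical
  have hspec := spec_right D hSS hEF hHy hfix
  have hHg := fun g (hg : g ∈ Y) S hS => hHy F Γ V ρ q r Z a T Ω g D.LZ D.hypT D.centralFix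
    (mem_normalizer D g) (D.commY g hg) (hfix g hg) (coprime_order D hg) S hS
  -- each irreducible subspace: `Y` centralises modulo its centre, or it is a fixed component
  have hcases : ∀ W, Comp ρ Z 1 W → (∀ g ∈ Y, ∀ z ∈ Z, CenterOn ρ Z W ⁅g, z⁆) ∨
      ∃ S, Good ρ Z a S ∧ FixedType ρ Z S ∧ Heis ρ q r Z a S ∧
        ∀ z, CenterOn ρ Z W z ↔ CenterOn ρ Z S z := by
    intro W hW
    obtain ⟨S, W', hS, hle, hW', hiff⟩ := irred_iso hSS D.LZ hW
    by_cases hN : Noncentral ρ Z a S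
    · have hG := good_of_noncentral D hEF hS hN
      by_cases hF : FixedType ρ Z S
      · have hH := hFI F Γ V ρ q r Z a S D.LZ D.centralFix hS hN hF
        have hWS : W' = S := (hH.irred W' hle hW'.2.1.1).resolve_left hW'.1
        exact Or.inr ⟨S, hG, hF, hH, fun z => by rw [hiff, hWS]⟩
      · left
        intro g hg z hz
        rw [hiff]
        refine centerOn_of_fix hW'.2.1.1 (commutator_mem_normal hz) fun v hv => ?_
        have hfix : ∀ w ∈ W', ρ g w = w := fun w hw => (hHg g hg S hG).2.1 hF (hle hw)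
        have hinv : ∀ w ∈ W', ρ g⁻¹ w = w := fun w hw => by
          conv_lhs => rw [← hfix w hw]
          rw [rho_apply_inv]
        rw [commutatorElement_def, ← rho_mul_apply, ← rho_mul_apply, ← rho_mul_apply,
          hinv _ (hW'.2.1.1 _ (Z.inv_mem hz) v hv), rho_inv_apply, hfix v hv]
    · left
      intro g hg z hz
      rw [hiff]
      have h := central_centerOn D hS hN (commutator_mem_normal (g := g) hz)
      exact ⟨h.1, fun y hy v hv => h.2 y hy v (hle hv)⟩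
  have hmem : ∀ {W : Submodule F V}, Comp ρ Z 1 W → StableUnder ρ Z W := fun hW => hW.2.1.1
  -- `Y` normalises the centres
  have hYc : ∀ W, Comp ρ Z 1 W → ∀ g ∈ Y, ∀ z, CenterOn ρ Z W z →
      CenterOn ρ Z W (g * z * g⁻¹) := by
    intro W hW g hg z hz
    rcases hcases W hW with h | ⟨S, hG, -, hH, hiff⟩
    · have h1 := (cenSub ρ Z W (hmem hW)).mul_mem (mem_cenSub.mpr (h g hg z hz.1)) (mem_cenSub.mpr hz)
      rwa [commutatorElement_def, inv_mul_cancel_right] at h1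
    · rw [hiff] at hz ⊢
      exact centerOn_conj D hH.inv.1 (hHg g hg S hG).1.2 hz
  let N : ∀ W : Submodule F V, Comp ρ Z 1 W → Subgroup Γ := fun W hW =>
    Subgroup.normalizer (cenSub ρ Z W (hmem hW) : Set Γ)
  have hN : ∀ {W} (hW : Comp ρ Z 1 W) (g : Γ), g ∈ N W hW ↔
      ∀ z, CenterOn ρ Z W z ↔ CenterOn ρ Z W (g * z * g⁻¹) := fun hW g =>
    Subgroup.mem_normalizer_iff
  have hYN : ∀ {W} (hW : Comp ρ Z 1 W), ∀ g ∈ Y, g ∈ N W hW := fun {W} hW g hg =>
    (hN hW g).mpr fun z => ⟨hYc W hW g hg z, fun h => by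
      have h1 := hYc W hW g⁻¹ (Y.inv_mem hg) _ h
      rwa [show g⁻¹ * (g * z * g⁻¹) * g⁻¹⁻¹ = z by group] at h1⟩
  have hker : ∀ {k : Γ}, k ∈ fixer (dualRep F₁ Z Q) ⊤ → ∀ z ∈ Z, ⁅k, z⁆ ∈ Q := by
    intro k hk z hz
    haveI := D.charP
    haveI := Fact.mk D.LZ.prime_s
    refine (SFDim.dual_section (K := F₁) (q := q) (le_refl Q) D.pow D.comm).1
      ⟨_, commutator_mem_normal hz⟩ fun f hf _ => ?_
    exact apply_commutator (g := k) (f := ⟨f, hf⟩) (hk _ Submodule.mem_top) ⟨z, hz⟩ _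
  have hXN : ∀ {W} (hW : Comp ρ Z 1 W), ∀ x ∈ X, x ∈ N W hW := by
    intro W hW x hx
    refine (show ⁅X, Y⁆ ⊔ (fixer (dualRep F₁ Z Q) ⊤ ⊓ X) ≤ N W hW from
      sup_le (Subgroup.commutator_le.mpr fun x hx g hg => ?_) fun k hk => ?_) (D.gen hx)
    · rw [commutatorElement_def]
      refine mul_mem ?_ (hYN hW _ (Y.inv_mem hg))
      have h := (hN (comp_map hW x⁻¹) g).mp (hYN (comp_map hW x⁻¹) g hg)
      refine (hN hW _).mpr fun z => ?_
      have h1 := h (x⁻¹ * z * x)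
      rw [centerOn_map, centerOn_map, show x⁻¹⁻¹ * (x⁻¹ * z * x) * x⁻¹ = z by group,
        show x⁻¹⁻¹ * (g * (x⁻¹ * z * x) * g⁻¹) * x⁻¹ = x * g * x⁻¹ * z * (x * g * x⁻¹)⁻¹ by group]
        at h1
      exact h1
    · refine (hN hW k).mpr fun z => ⟨fun hz => ?_, fun hz => ?_⟩
      · have h1 := (cenSub ρ Z W (hmem hW)).mul_mem
          (mem_cenSub.mpr (centerOn_of_central D.phi.le D.phi.central W (hker hk.1 z hz.1)))
          (mem_cenSub.mpr hz)
        rwa [commutatorElement_def, inv_mul_cancel_right] at h1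
      · have hzZ : z ∈ Z := by
          simpa [mul_assoc] using (inferInstance : Z.Normal).conj_mem _ hz.1 k⁻¹
        have h1 := (cenSub ρ Z W (hmem hW)).mul_mem
          (Subgroup.inv_mem _
            (mem_cenSub.mpr (centerOn_of_central D.phi.le D.phi.central W (hker hk.1 z hzZ))))
          (mem_cenSub.mpr hz)
        rwa [commutatorElement_def, show (k * z * k⁻¹ * z⁻¹)⁻¹ * (k * z * k⁻¹) = z by group] at h1
  by_contra hno
  -- then `⁅a, X⁆` centralises `Z` modulo every centre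
  have hall : ∀ W, Comp ρ Z 1 W → ∀ x ∈ X, ∀ z ∈ Z, CenterOn ρ Z W ⁅⁅a, x⁆, z⁆ := by
    intro W hW x hx z hz
    rcases hcases W hW with h | ⟨S, hG, hF, hH, hiff⟩
    · let Dw : Subgroup Γ :=
        { carrier := {g | g ∈ N W hW ∧ ∀ z ∈ Z, CenterOn ρ Z W ⁅g, z⁆}
          one_mem' := ⟨one_mem _, fun z hz => by
            rw [commutatorElement_one_left]
            exact mem_cenSub.mp (one_mem (cenSub ρ Z W (hmem hW)))⟩
          mul_mem' := fun {g g'} hg hg' => ⟨mul_mem hg.1 hg'.1, fun z hz => by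
            have h1 := (cenSub ρ Z W (hmem hW)).mul_mem
              (mem_cenSub.mpr (((hN hW g).mp hg.1 _).mp (hg'.2 z hz))) (mem_cenSub.mpr (hg.2 z hz))
            rwa [show g * ⁅g', z⁆ * g⁻¹ * ⁅g, z⁆ = ⁅g * g', z⁆ by
              simp only [commutatorElement_def]; group] at h1⟩
          inv_mem' := fun {g} hg => ⟨inv_mem hg.1, fun z hz => by
            have h1 := ((hN hW g⁻¹).mp (inv_mem hg.1) _).mp
              (Subgroup.inv_mem _ (mem_cenSub.mpr (hg.2 z hz)) : ⁅g, z⁆⁻¹ ∈ cenSub ρ Z W (hmem hW))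
            rwa [show g⁻¹ * ⁅g, z⁆⁻¹ * g⁻¹⁻¹ = ⁅g⁻¹, z⁆ by
              simp only [commutatorElement_def]; group] at h1⟩ }
      have hle : ⁅X, Y⁆ ⊔ (fixer (dualRep F₁ Z Q) ⊤ ⊓ X) ≤ Dw := by
        refine sup_le (Subgroup.commutator_le.mpr fun x hx g hg => ?_) fun k hk =>
          ⟨hXN hW k hk.2, fun z hz =>
            centerOn_of_central D.phi.le D.phi.central W (hker hk.1 z hz)⟩
        rw [commutatorElement_def]
        refine mul_mem (show x * g * x⁻¹ ∈ Dw from ⟨mul_mem (mul_mem (hXN hW x hx) (hYN hW g hg))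
          (inv_mem (hXN hW x hx)), fun z hz => ?_⟩) ⟨hYN hW _ (Y.inv_mem hg), h _ (Y.inv_mem hg)⟩
        have h1 := ((hN hW x).mp (hXN hW x hx) _).mp
          (h g hg (x⁻¹ * z * x) (by simpa using (inferInstance : Z.Normal).conj_mem z hz x⁻¹))
        rwa [show x * ⁅g, x⁻¹ * z * x⁆ * x⁻¹ = ⁅x * g * x⁻¹, z⁆ by
          simp only [commutatorElement_def]; group] at h1
      refine (hle (D.gen (?_ : ⁅a, x⁆ ∈ X))).2 z hz
      rw [commutatorElement_def]
      exact X.mul_mem ((Subgroup.mem_normalizer_iff.mp D.LX.mem_normalizer x).mp hx) (X.inv_mem hx)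
    · rw [hiff]
      by_contra hne
      refine hno ⟨S, hG, hF, hH, ⟨x, hx, z, hz, hne⟩, fun g hg => ?_⟩
      have hS1 : Comp ρ Z 1 S := ⟨hH.ne_bot, ⟨hH.inv.1, fun v hv => by rwa [map_one, End.one_apply]⟩,
        fun U hU hne hUi => (hH.irred U hU hUi.1).resolve_left hne⟩
      rcases hg with hg | hg | rfl
      · exact (hN hS1 g).mp (hXN hS1 g hg)
      · exact (hN hS1 g).mp (hYN hS1 g hg)
      · intro z
        have hgS : S.map (ρ g) = S := hS1.2.2 _ (fun v hv => by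
            obtain ⟨w, hw, rfl⟩ := hv; exact hH.inv.2 w hw)
          (comp_map hS1 g).1 (comp_map hS1 g).2.1
        conv_rhs => rw [← hgS, centerOn_map]
        rw [show g⁻¹ * (g * z * g⁻¹) * g = z by group]
  -- hence `⁅a, X⁆` acts trivially on the dual
  have htriv : ∀ x ∈ X, dualRep F₁ Z Q ⁅a, x⁆ = 1 := by
    intro x hx
    refine dual_eq_one fun z hz => hspec _ (commutator_mem_normal hz) fun y hy => ?_
    refine LinearMap.ext fun v => ?_
    have htop : (⊤ : Submodule F V) ≤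
        LinearMap.eqLocus (ρ (⁅⁅a, x⁆, z⁆ * y)) (ρ (y * ⁅⁅a, x⁆, z⁆)) := by
      rw [← (hSS F Γ V ρ q r Z 1 (layer_one D.LZ)).2]
      exact sSup_le fun W hW v hv => (hall W hW x hx z hz).2 y hy v hv
    exact htop Submodule.mem_top
  obtain ⟨S, -, x, hx, v, -, hne⟩ := D.noncentral
  refine hne ?_
  rw [show a * x * a⁻¹ = ⁅a, x⁆ * x by rw [commutatorElement_def, inv_mul_cancel_right], map_mul,
    htriv x hx, one_mul]

end CfsgLib.TurullFit.SFCentre
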