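import Mathlib

/-!
# Turull's bound for the Fitting height: a fixed point free map of a small elementary abelian group

A map of prime order `r = 2 ^ m + 1` without fixed points and not leaving every cyclic subgroup
invariant has a cyclic vector, if the group has order `q ^ b * q ^ b` with `q ^ b + 3 ≤ 6 * r`;
so the maps commuting with it commute.
-/

set_option autoImplicit false

namespace CfsgLib.TurullFit.SFCyclic

theorem no_sub {q r m b i : ℕ} (hq : q.Prime) (hq2 : q ≠ 2) (hr : r.Prime) (hrm : r = 2 ^ m + 1)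
    (hm : 0 < m) (hqr : q ≠ r) (hb : 2 ≤ b) (hsmall : q ^ b + 3 ≤ 6 * r)
    (h2b : q ^ (2 * b) ≡ 1 [MOD r]) (hi0 : 0 < i) (hi : i < 2 * b) (hqi : q ^ i ≡ 1 [MOD r]) :
    False := by
  haveI := Fact.mk hr
  have hr3 : 3 ≤ r := by
    have : 2 ^ 1 ≤ 2 ^ m := Nat.pow_le_pow_right two_pos hm
    omega
  set x : ZMod r := (q : ZMod r) with hx
  have hx0 : x ≠ 0 := fun h => hqr ((Nat.prime_dvd_prime_iff_eq hr hq).mp
    ((ZMod.natCast_eq_zero_iff q r).mp h)).symm
  have hxb : x ^ (2 * b) = 1 := by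
    have h := (ZMod.natCast_eq_natCast_iff _ _ _).mpr h2b
    rwa [Nat.cast_pow, Nat.cast_one] at h
  have hxi : x ^ i = 1 := by
    have h := (ZMod.natCast_eq_natCast_iff _ _ _).mpr hqi
    rwa [Nat.cast_pow, Nat.cast_one] at h
  have hodd : q % 2 = 1 := Nat.odd_iff.mp (hq.odd_of_ne_two hq2)
  have hro : r % 2 = 1 := Nat.odd_iff.mp (hr.odd_of_ne_two (by omega))
  obtain ⟨j, -, hj⟩ := (Nat.dvd_prime_pow Nat.prime_two).mp
    (show orderOf x ∣ 2 ^ m by
      rw [show 2 ^ m = r - 1 by omega]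
      exact orderOf_dvd_of_pow_eq_one (ZMod.pow_card_sub_one_eq_one hx0))
  rcases Nat.eq_zero_or_pos j with rfl | hj0
  · -- `q ≡ 1`
    rw [pow_zero, orderOf_eq_one_iff] at hj
    have hdvd : r ∣ q - 1 := by
      have h : ((q - 1 : ℕ) : ZMod r) = 0 := by
        rw [Nat.cast_sub hq.one_le, Nat.cast_one, ← hx, hj, sub_self]
      exact (ZMod.natCast_eq_zero_iff _ _).mp h
    obtain ⟨t, ht⟩ := hdvd
    have ht2 : 2 ≤ t := by
      rcases t with _ | _ | t
      · have := hq.two_le; omega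
      · omega
      · omega
    have h1 : 2 * r + 1 ≤ q := by
      have := Nat.mul_le_mul_left r ht2
      omega
    have h2 : q ^ 2 ≤ q ^ b := Nat.pow_le_pow_right hq.pos hb
    nlinarith
  · set h₀ := 2 ^ (j - 1) with hh₀
    have hh : 2 ^ j = 2 * h₀ := by rw [hh₀, ← pow_succ', Nat.sub_add_cancel hj0]
    have hpos : 0 < h₀ := pow_pos two_pos _
    have hneg : x ^ h₀ = -1 := by
      refine ((sq_eq_one_iff).mp ?_).resolve_left fun h1 => ?_
      · rw [← pow_mul, mul_comm, ← hh, ← hj, pow_orderOf_eq_one]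
      · have := Nat.le_of_dvd hpos (orderOf_dvd_of_pow_eq_one h1)
        omega
    have hdvd : r ∣ q ^ h₀ + 1 := by
      have h : ((q ^ h₀ + 1 : ℕ) : ZMod r) = 0 := by
        rw [Nat.cast_add, Nat.cast_pow, Nat.cast_one, ← hx, hneg, neg_add_cancel]
      exact (ZMod.natCast_eq_zero_iff _ _).mp h
    obtain ⟨t, ht⟩ := hdvd
    have hqo : q ^ h₀ % 2 = 1 := Nat.odd_iff.mp ((hq.odd_of_ne_two hq2).pow)
    have ht2 : 2 ≤ t := by
      rcases t with _ | _ | t
      · omega
      · omega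
      · omega
    have h1 : 2 * r ≤ q ^ h₀ + 1 := by
      have := Nat.mul_le_mul_left r ht2
      omega
    have hob : orderOf x ∣ 2 * b := orderOf_dvd_of_pow_eq_one hxb
    have hoi : orderOf x ∣ i := orderOf_dvd_of_pow_eq_one hxi
    rw [hj, hh] at hob hoi
    by_cases hbig : 2 * h₀ ≤ b
    · have h2 : q ^ (2 * h₀) ≤ q ^ b := Nat.pow_le_pow_right hq.pos hbig
      rw [mul_comm, pow_mul] at h2
      nlinarith
    · obtain ⟨u, hu⟩ := hob
      obtain ⟨v, hv⟩ := hoi
      have hv0 : 0 < v := by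
        rcases Nat.eq_zero_or_pos v with rfl | h
        · rw [mul_zero] at hv; omega
        · exact h
      have h3 : 2 * h₀ ≤ i := by rw [hv]; exact Nat.le_mul_of_pos_right _ hv0
      have hu2 : u < 2 := by
        by_contra hu2
        have := Nat.mul_le_mul_left (2 * h₀) (Nat.le_of_not_lt hu2)
        omega
      interval_cases u <;> omega

/-- A fixed point free map of order dividing `r` counts orbits. -/
theorem card_modEq {W : Type*} [CommGroup W] [Finite W] {r : ℕ} [Fact r.Prime] (A : W →* W)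
    (hAr : ∀ w, (⇑A)^[r] w = w) (hfpf : ∀ w, A w = w → w = 1) {H : Subgroup W}
    (hH : ∀ h ∈ H, A h ∈ H) : Nat.card H ≡ 1 [MOD r] := by
  classical
  haveI : Fintype H := Fintype.ofFinite _
  let f : Function.End H := fun h => ⟨A h, hH h h.2⟩
  have hf : ∀ n : ℕ, ∀ h : H, (((f ^ n) h : H) : W) = (⇑A)^[n] (h : W) := by
    intro n
    induction n with
    | zero => intro h; rfl
    | succ n ih =>
      intro h
      rw [Function.iterate_succ_apply', ← ih, pow_succ']
      rfl
  have h := Equiv.Perm.card_fixedPoints_modEq (f := f) (p := r) (n := 1)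
    (funext fun h => Subtype.ext (by rw [pow_one, hf, hAr]; rfl))
  rw [Nat.card_eq_fintype_card]
  refine h.trans ?_
  have h1 : Fintype.card (Function.fixedPoints (f : H → H)) = 1 :=
    Fintype.card_eq_one_iff.mpr ⟨⟨(⟨1, H.one_mem⟩ : H), Subtype.ext (map_one A)⟩, fun h =>
      Subtype.ext (Subtype.ext (hfpf _ (congrArg Subtype.val h.2)))⟩
  show _ % r = _ % r
  exact congrArg (fun n => n % r) h1

/-- The maps commuting with `A` commute. -/
theorem commute_of_small {W : Type*} [CommGroup W] [Finite W] {q r m b : ℕ} (hq : q.Prime)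
    (hq2 : q ≠ 2) (hr : r.Prime) (hrm : r = 2 ^ m + 1) (hm : 0 < m) (hqr : q ≠ r) (A : W →* W)
    (hAr : ∀ w, (⇑A)^[r] w = w) (hfpf : ∀ w, A w = w → w = 1) (hexp : ∀ w : W, w ^ q = 1)
    (hcard : Nat.card W = q ^ b * q ^ b) {z₀ : W} (hz₀ : ∀ k : ℕ, A z₀ ≠ z₀ ^ k)
    (hsmall : q ^ b + 3 ≤ 6 * r) {u v : W →* W} (hu : ∀ w, u (A w) = A (u w))
    (hv : ∀ w, v (A w) = A (v w)) : ∀ w, u (v w) = v (u w) := by
  classical
  haveI := Fact.mk hr
  haveI := Fact.mk hq
  set H : Subgroup W := Subgroup.closure (Set.range fun j : ℕ => (⇑A)^[j] z₀) with hH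
  have horb : ∀ j : ℕ, (⇑A)^[j] z₀ ∈ H := fun j => Subgroup.subset_closure ⟨j, rfl⟩
  have hinv : ∀ h ∈ H, A h ∈ H := fun h hh => by
    refine (Subgroup.closure_le (H.comap A)).mpr ?_ hh
    rintro _ ⟨j, rfl⟩
    show A ((⇑A)^[j] z₀) ∈ H
    rw [← Function.iterate_succ_apply' (⇑A)]
    exact horb _
  have hpW : IsPGroup q W := fun w => ⟨1, by rw [pow_one, hexp]⟩
  have hW2 : Nat.card W = q ^ (2 * b) := by rw [hcard, two_mul, pow_add]
  have htop : H = ⊤ := by
    obtain ⟨i, hi⟩ := IsPGroup.iff_card.mp (hpW.to_subgroup H)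
    have hib : i ≤ 2 * b := by
      have h := Nat.le_of_dvd Nat.card_pos H.card_subgroup_dvd_card
      rw [hi, hW2] at h
      exact (Nat.pow_le_pow_iff_right hq.one_lt).mp h
    have hz1 : z₀ ≠ 1 := fun h => hz₀ 0 (by rw [h, map_one, pow_zero])
    have hlt : Subgroup.zpowers z₀ < H := by
      refine lt_of_le_of_ne (Subgroup.zpowers_le.mpr (horb 0)) fun h => ?_
      have h1 : A z₀ ∈ Subgroup.zpowers z₀ := h ▸ horb 1
      rw [← mem_powers_iff_mem_zpowers] at h1
      obtain ⟨k, hk⟩ := h1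
      exact hz₀ k hk.symm
    have hi2 : 2 ≤ i := by
      by_contra hlt2
      have hle := Subgroup.eq_of_le_of_card_ge hlt.le
      refine hlt.ne (hle ?_)
      rw [Nat.card_zpowers, orderOf_eq_prime (hexp z₀) hz1, hi]
      calc q ^ i ≤ q ^ 1 := Nat.pow_le_pow_right hq.pos (by omega)
        _ = q := pow_one q
    refine H.eq_top_of_card_eq ?_
    rw [hi, hW2]
    congr 1
    by_contra hne
    rcases Nat.lt_or_ge b 2 with hb | hb
    · omega
    have h1 := card_modEq A hAr hfpf hinv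
    have h2 := card_modEq A hAr hfpf (H := ⊤) (fun _ _ => Subgroup.mem_top _)
    rw [hi] at h1
    rw [Subgroup.card_top, hW2] at h2
    exact no_sub hq hq2 hr hrm hm hqr hb hsmall h2 (by omega) (by omega) h1
  -- every image of `z₀` is the value of a central map
  let L : Subgroup W :=
    { carrier := {w | ∃ φ : W →* W, (∀ u : W →* W, (∀ x, u (A x) = A (u x)) →
        ∀ x, u (φ x) = φ (u x)) ∧ φ z₀ = w}
      one_mem' := ⟨1, fun u _ x => by simp, rfl⟩
      mul_mem' := by
        rintro w w' ⟨φ, hφ, rfl⟩ ⟨ψ, hψ, rfl⟩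
        exact ⟨φ * ψ, fun u hu x => by
          simp only [MonoidHom.mul_apply, map_mul, hφ u hu x, hψ u hu x], rfl⟩
      inv_mem' := by
        rintro w ⟨φ, hφ, rfl⟩
        exact ⟨φ⁻¹, fun u hu x => by simp only [MonoidHom.inv_apply, map_inv, hφ u hu x], rfl⟩ }
  have hHL : H ≤ L := by
    refine (Subgroup.closure_le L).mpr ?_
    rintro _ ⟨j, rfl⟩
    induction j with
    | zero => exact ⟨MonoidHom.id W, fun u _ x => rfl, rfl⟩
    | succ j ih =>
      obtain ⟨φ, hφ, hφz⟩ := ih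
      refine ⟨A.comp φ, fun u hu x => ?_, ?_⟩
      · simp only [MonoidHom.comp_apply]
        rw [hu, hφ u hu x]
      · simp only [MonoidHom.comp_apply, hφz, Function.iterate_succ_apply']
  obtain ⟨φ, hφ, hφz⟩ := hHL (htop.symm ▸ Subgroup.mem_top (v z₀) : v z₀ ∈ H)
  have hvφ : ∀ w, v w = φ w := by
    intro w
    have hw : w ∈ H := htop.symm ▸ Subgroup.mem_top w
    refine (Subgroup.closure_le (MonoidHom.eqLocus v φ)).mpr ?_ hw
    rintro _ ⟨j, rfl⟩
    show v ((⇑A)^[j] z₀) = φ ((⇑A)^[j] z₀)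
    induction j with
    | zero => exact hφz.symm
    | succ j ih => rw [Function.iterate_succ_apply', hv, ih, hφ A (fun x => rfl)]
  intro w
  rw [hvφ, hvφ, hφ u hu]

end CfsgLib.TurullFit.SFCyclic
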