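import Cfsg.Agent.Lib.TurullFit.SmallFixBound
import Cfsg.Agent.Lib.TurullFit.SmallFixCyclic

/-!
# Turull's bound for the Fitting height: the fixed points of `a` commuted with `Y`

In characteristic not two, the commutators of fixed points of `a` in `X` with `Y` centralise a
fixed component modulo its centre: otherwise the dimension is small, so the centraliser of `a`
there is abelian, and a `2`-element which is a product of two commuting elements of odd order is
trivial.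
-/

set_option autoImplicit false

open Module
open scoped commutatorElement
open CfsgLib.FgsC.HallHigman CfsgLib.TurullFit.SFBasic CfsgLib.TurullFit.SFCentre

namespace CfsgLib.TurullFit.SFTorus

universe u

variable {F F₁ : Type} [Field F] [IsAlgClosed F] [Field F₁] [IsAlgClosed F₁] {Γ V : Type u}
  [Group Γ] [Finite Γ] [AddCommGroup V] [Module F V] [FiniteDimensional F V]
  {ρ : Representation F Γ V} {q r p : ℕ} {Z Q X Y : Subgroup Γ} [Z.Normal] [Q.Normal] {a : Γ}
  {T : Submodule F V} {Ω : Set V}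

variable (D : Data F₁ ρ q r p Z Q X Y a T Ω)
include D

omit [IsAlgClosed F] [IsAlgClosed F₁] [FiniteDimensional F V] in
/-- The commutators of fixed points of `a` with `Y` are fixed points of `a` in `X`. -/
theorem commutator_le_fixed : ⁅X ⊓ Subgroup.centralizer {a}, Y⁆ ≤ X ⊓ Subgroup.centralizer {a} := by
  refine Subgroup.commutator_le.mpr fun c hc g hg => ?_
  have hga : g ∈ Subgroup.centralizer {a} := Subgroup.mem_centralizer_singleton_iff.mpr
    (D.commY g hg).symm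
  refine ⟨?_, ?_⟩
  · rw [commutatorElement_def, mul_assoc, mul_assoc, ← mul_assoc g]
    exact X.mul_mem hc.1 ((Subgroup.mem_normalizer_iff.mp (D.normY hg) _).mp (X.inv_mem hc.1))
  · rw [commutatorElement_def]
    have hc2 : c ∈ Subgroup.centralizer {a} := (Subgroup.mem_inf.mp hc).2
    show c * g * c⁻¹ * g⁻¹ ∈ Subgroup.centralizer {a}
    exact mul_mem (mul_mem (mul_mem hc2 hga) (inv_mem hc2)) (inv_mem hga)

omit [IsAlgClosed F₁] in
/-- The commutators of fixed points of `a` with `Y` centralise a fixed component modulo its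
centre. -/
theorem centralised (hC : StmtCount.{u}) (hHy : StmtHyper.{u}) (hCC : StmtCommCount.{u})
    (hFH : StmtFixHalf.{u}) (h2 : (2 : F) ≠ 0) {m : ℕ} (hm : 0 < m) (hrm : r = 2 ^ m + 1)
    {S : Submodule F V} (hG : Good ρ Z a S) (hF : FixedType ρ Z S) (hH : Heis ρ q r Z a S) :
    ∀ g ∈ ⁅X ⊓ Subgroup.centralizer {a}, Y⁆, ∀ z ∈ Z, CenterOn ρ Z S ⁅g, z⁆ := by
  classical
  set A₂ := ⁅X ⊓ Subgroup.centralizer {a}, Y⁆ with hA₂
  have hAa : ∀ g ∈ A₂, a * g = g * a := fun g hg =>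
    (Subgroup.mem_centralizer_singleton_iff.mp (commutator_le_fixed D hg).2).symm
  have hA2pow : ∀ g ∈ A₂, ∃ e, g ^ (2 ^ e) = 1 := fun g hg => by
    obtain ⟨e, he⟩ := D.LX.isPGroup ⟨g, (commutator_le_fixed D hg).1⟩
    exact ⟨e, congrArg Subtype.val he⟩
  have hr2 : 2 ≠ r := D.LX.s_ne_r
  have hord : ∀ g ∈ A₂, (orderOf g).Coprime r := fun g hg => by
    obtain ⟨e, he⟩ := hA2pow g hg
    exact Nat.Coprime.coprime_dvd_left (orderOf_dvd_of_pow_eq_one he)
      (Nat.Coprime.pow_left e ((Nat.coprime_primes Nat.prime_two D.LZ.prime_r).mpr hr2))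
  set R := cenSub ρ Z S hH.inv.1 with hRdef
  have hR : ∀ x, x ∈ R ↔ x ∈ Z ∧ IsScalarOn ρ S x := fun x =>
    ⟨fun h => ⟨h.1, hF x h⟩, fun h => centerOn_of_scalar hH.inv.1 h.1 h.2⟩
  have hQR : Q ≤ R := fun z hz => centerOn_of_central D.phi.le D.phi.central S hz
  -- who normalises the centre
  let Nrm : Subgroup Γ := Subgroup.centralizer {a} ⊓ Subgroup.normalizer (R : Set Γ)
  have hnorm : ∀ g, (∀ x, CenterOn ρ Z S x → CenterOn ρ Z S (g * x * g⁻¹)) →
      (∀ x, CenterOn ρ Z S x → CenterOn ρ Z S (g⁻¹ * x * g)) →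
      g ∈ Subgroup.normalizer (R : Set Γ) := fun g h h' =>
    Subgroup.mem_normalizer_iff.mpr fun w => ⟨h w, fun hw => by
      have := h' _ hw
      rwa [show g⁻¹ * (g * w * g⁻¹) * g = w by group] at this⟩
  have hYN : Y ≤ Nrm := fun g hg => ⟨Subgroup.mem_centralizer_singleton_iff.mpr
    (D.commY g hg).symm, hnorm g
      (fun x hx => centerOn_conj D hH.inv.1 (D.preserves g hg S hG hF).2 hx)
      (fun x hx => by
        simpa using centerOn_conj D hH.inv.1 (D.preserves g⁻¹ (Y.inv_mem hg) S hG hF).2 hx)⟩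
  have hAN : A₂ ≤ Nrm := fun g hg => by
    have hh := fun g' (hg' : g' ∈ A₂) x (hx : CenterOn ρ Z S x) =>
      centerOn_conj D hH.inv.1 (g := g')
        ((hHy F Γ V ρ q r Z a T Ω g' D.LZ D.hypT D.centralFix (mem_normalizer D g') (hAa g' hg')
          (D.fixTwo h2 g' hg') (hord g' hg') S hG).1.2) hx
    exact ⟨(commutator_le_fixed D hg).2, hnorm g (fun x hx => hh g hg x hx)
      (fun x hx => by simpa using hh g⁻¹ (A₂.inv_mem hg) x hx)⟩
  have hS1 : Comp ρ Z 1 S := ⟨hH.ne_bot, ⟨hH.inv.1, fun v hv => by rwa [map_one, End.one_apply]⟩,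
    fun U hU hne hUi => (hH.irred U hU hUi.1).resolve_left hne⟩
  have haN : a ∈ Nrm := by
    refine ⟨Subgroup.mem_centralizer_singleton_iff.mpr rfl, Subgroup.mem_normalizer_iff.mpr ?_⟩
    intro z
    have hgS : S.map (ρ a) = S := hS1.2.2 _ (fun v hv => by
        obtain ⟨w, hw, rfl⟩ := hv; exact hH.inv.2 w hw)
      (comp_map hS1 a).1 (comp_map hS1 a).2.1
    show CenterOn ρ Z S z ↔ CenterOn ρ Z S (a * z * a⁻¹)
    conv_rhs => rw [← hgS, centerOn_map]
    rw [show a⁻¹ * (a * z * a⁻¹) * a = z by group]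
  -- the quotient
  haveI hRn : (R.subgroupOf Z).Normal := ⟨fun x hx z => by
    rw [Subgroup.mem_subgroupOf] at hx ⊢
    have h := R.mul_mem (hQR (D.comm z z.2 x x.2)) hx
    rwa [commutatorElement_def, inv_mul_cancel_right] at h⟩
  letI : CommGroup (↥Z ⧸ R.subgroupOf Z) :=
    { (inferInstance : Group (↥Z ⧸ R.subgroupOf Z)) with
      mul_comm := fun u v => by
        obtain ⟨x, rfl⟩ := QuotientGroup.mk_surjective u
        obtain ⟨y, rfl⟩ := QuotientGroup.mk_surjective v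
        rw [← QuotientGroup.mk_mul, ← QuotientGroup.mk_mul, QuotientGroup.eq,
          Subgroup.mem_subgroupOf]
        have h := hQR (D.comm _ (Z.inv_mem y.2) _ (Z.inv_mem x.2))
        rw [commutatorElement_def, inv_inv, inv_inv] at h
        simpa [mul_assoc] using h }
  have hmap : ∀ k : Nrm, (R.subgroupOf Z).map
      ((MulAut.conjNormal (k : Γ) : MulAut Z) : Z ≃* Z).toMonoidHom = R.subgroupOf Z := by
    intro k
    ext z
    constructor
    · rintro ⟨w, hw, rfl⟩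
      show ((MulAut.conjNormal (k : Γ) : MulAut Z) w : Γ) ∈ R
      rw [MulAut.conjNormal_apply]
      exact (Subgroup.mem_normalizer_iff.mp k.2.2 _).mp hw
    · intro hz
      refine ⟨(MulAut.conjNormal (k : Γ) : MulAut Z).symm z, ?_, MulEquiv.apply_symm_apply _ z⟩
      show ((MulAut.conjNormal (k : Γ) : MulAut Z).symm z : Γ) ∈ R
      rw [MulAut.conjNormal_symm_apply]
      exact (Subgroup.mem_normalizer_iff''.mp k.2.2 _).mp hz
  let Θ : Nrm →* MulAut (↥Z ⧸ R.subgroupOf Z) := MonoidHom.mk'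
    (fun k => QuotientGroup.congr _ _ (MulAut.conjNormal (k : Γ) : MulAut Z) (hmap k))
    (fun k l => MulEquiv.ext fun u => by
      obtain ⟨z, rfl⟩ := QuotientGroup.mk_surjective u
      show QuotientGroup.mk ((MulAut.conjNormal ((k : Γ) * l) : MulAut Z) z) = _
      rw [map_mul]
      rfl)
  have hΘ : ∀ (k : Nrm) (z : Z), Θ k (QuotientGroup.mk z) =
      QuotientGroup.mk ((MulAut.conjNormal (k : Γ) : MulAut Z) z) := fun k z => rfl
  have hkill : ∀ k : Nrm, Θ k = 1 → ∀ z ∈ Z, CenterOn ρ Z S ⁅(k : Γ), z⁆ := by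
    intro k hk z hz
    have h := hΘ k ⟨z, hz⟩
    rw [hk, MulAut.one_apply, QuotientGroup.eq, Subgroup.mem_subgroupOf, Subgroup.coe_mul,
      Subgroup.coe_inv, MulAut.conjNormal_apply] at h
    have h1 := R.mul_mem (hQR (D.comm z hz _ (Z.mul_mem (Z.inv_mem hz)
      ((inferInstance : Z.Normal).conj_mem z hz (k : Γ))))) h
    rw [show ⁅z, z⁻¹ * ((k : Γ) * z * (k : Γ)⁻¹)⁆ * (z⁻¹ * ((k : Γ) * z * (k : Γ)⁻¹)) =
      ⁅(k : Γ), z⁆ by simp only [commutatorElement_def]; group] at h1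
    exact h1
  intro g hg
  by_contra hmove
  push Not at hmove
  obtain ⟨z₁, hz₁, hmove⟩ := hmove
  obtain ⟨b, hb, hdb⟩ := (hC F Γ V ρ q r Z a S hH).1
  obtain ⟨e, he⟩ := hA2pow g hg
  have hsmall : q ^ b + 3 ≤ 6 * r := by
    rw [← hdb]
    exact SFBound.dim_bound D hC hHy hCC hFH hG hF hH Nat.prime_two hr2 (by exact_mod_cast h2) he
      (hAa g hg) (D.fixTwo h2 g hg) ⟨z₁, hz₁, hmove⟩
  have hcard : Nat.card (↥Z ⧸ R.subgroupOf Z) = q ^ b * q ^ b := by
    rw [← hdb]
    exact (hC F Γ V ρ q r Z a S hH).2.2.2 R hR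
  set A : (↥Z ⧸ R.subgroupOf Z) →* (↥Z ⧸ R.subgroupOf Z) := (Θ ⟨a, haN⟩).toMonoidHom with hA
  have hAn : ∀ (n : ℕ) w, (⇑A)^[n] w = (Θ (⟨a, haN⟩ ^ n)) w := by
    intro n
    induction n with
    | zero => intro w; rw [pow_zero, map_one, MulAut.one_apply]; rfl
    | succ n ih =>
      intro w
      rw [Function.iterate_succ_apply', ih, pow_succ', map_mul, MulAut.mul_apply]
      rfl
  have hAr : ∀ w, (⇑A)^[r] w = w := fun w => by
    rw [hAn, show (⟨a, haN⟩ : Nrm) ^ r = 1 from Subtype.ext D.LZ.pow_eq_one, map_one,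
      MulAut.one_apply]
  have hfpf : ∀ w, A w = w → w = 1 := by
    intro w hw
    obtain ⟨⟨z, hz⟩, rfl⟩ := QuotientGroup.mk_surjective w
    have h := (hΘ ⟨a, haN⟩ ⟨z, hz⟩).symm.trans hw
    rw [QuotientGroup.eq, Subgroup.mem_subgroupOf, Subgroup.coe_mul, Subgroup.coe_inv,
      MulAut.conjNormal_apply] at h
    rw [QuotientGroup.eq_one_iff, Subgroup.mem_subgroupOf]
    refine (hR z).mpr ⟨hz, hH.fpf z hz ((hR _).mp ?_).2⟩
    have h1 := R.inv_mem h
    rwa [mul_inv_rev, inv_inv] at h1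
  have hexp : ∀ w : ↥Z ⧸ R.subgroupOf Z, w ^ q = 1 := fun w => by
    obtain ⟨z, rfl⟩ := QuotientGroup.mk_surjective w
    rw [← QuotientGroup.mk_pow, QuotientGroup.eq_one_iff, Subgroup.mem_subgroupOf]
    exact hQR (D.pow z z.2)
  -- `a` does not leave every cyclic subgroup invariant
  obtain ⟨w₀, hw₀⟩ : ∃ w : ↥Z ⧸ R.subgroupOf Z, ∀ k : ℕ, A w ≠ w ^ k := by
    by_contra hall
    push Not at hall
    let P : Γ → Γ → F → Prop := fun u v l => ∀ w ∈ S, ρ (u * v) w = l • ρ (v * u) w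
    have hin : ∀ {x}, x ∈ Z → ∀ w ∈ S, ρ x w ∈ S := fun hx => hH.inv.1 _ hx
    have hPmul : ∀ {u u' v l l'}, u' ∈ Z → P u v l → P u' v l' → P (u * u') v (l * l') := by
      intro u u' v l l' hu' h h' w hw
      rw [mul_assoc, ← rho_mul_apply, h' w hw, map_smul, rho_mul_apply, ← mul_assoc,
        ← rho_mul_apply, h _ (hin hu' w hw), rho_mul_apply, smul_smul, mul_comm l', mul_assoc v]
    have hPR : ∀ {u v}, u ∈ R → v ∈ Z → P u v 1 := fun hu hv w hw => by
      rw [one_smul]; exact hu.2 _ hv w hw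
    have hPswap : ∀ {u v l}, l ≠ 0 → P u v l → P v u l⁻¹ := fun hl h w hw => by
      rw [h w hw, smul_smul, inv_mul_cancel₀ hl, one_smul]
    obtain ⟨v₀, hv₀, hv₀0⟩ := Submodule.exists_mem_ne_zero_of_ne_bot hH.ne_bot
    have hPuniq : ∀ {u v l l'}, P u v l → P u v l' → l = l' := by
      intro u v l l' h h'
      exact smul_left_injective F (rho_ne_zero (g := v * u) hv₀0)
        ((h v₀ hv₀).symm.trans (h' v₀ hv₀))
    have hPpow : ∀ {u v l}, u ∈ Z → v ∈ Z → P u v l → ∀ k : ℕ, P (u ^ k) v (l ^ k) := by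
      intro u v l hu hv h k
      induction k with
      | zero => rw [pow_zero, pow_zero]; exact hPR (one_mem R) hv
      | succ k ih => rw [pow_succ, pow_succ]; exact hPmul hu ih h
    have hPcong : ∀ {u u' : Z} {v l}, v ∈ Z →
        (QuotientGroup.mk u : ↥Z ⧸ R.subgroupOf Z) = QuotientGroup.mk u' →
        P u v l → P u' v l := by
      intro u u' v l hv he h
      rw [QuotientGroup.eq, Subgroup.mem_subgroupOf, Subgroup.coe_mul, Subgroup.coe_inv] at he
      have h1 := hPmul (Z.mul_mem (Z.inv_mem u.2) u'.2) h (hPR he hv)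
      rwa [mul_inv_cancel_left, mul_one] at h1
    obtain ⟨x, hx, hxn⟩ := hH.nonscalar
    obtain ⟨y, hy, hxy⟩ : ∃ y ∈ Z, ¬ CommOn ρ S x y := by
      by_contra h
      push Not at h
      exact hxn (hH.scalar x hx h)
    obtain ⟨l, hl⟩ : ∃ l, P x y l := by
      have h := (hR _).mp (hQR (D.comm x hx y hy))
      obtain ⟨l, hl⟩ := h.2
      refine ⟨l, fun w hw => ?_⟩
      rw [← hl _ (hin (Z.mul_mem hy hx) w hw), rho_mul_apply, commutatorElement_def]
      congr 2
      group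
    have hl0 : l ≠ 0 := fun h => by
      have := hl v₀ hv₀
      rw [h, zero_smul] at this
      exact rho_ne_zero hv₀0 this
    have hl1 : l ≠ 1 := fun h => hxy fun w hw => by rw [hl w hw, h, one_smul]
    have hlq : l ^ q = 1 :=
      hPuniq (hPpow hx hy hl q) (hPR (hQR (D.pow x hx)) hy)
    have hli : l⁻¹ ≠ 0 := inv_ne_zero hl0
    obtain ⟨i, hi⟩ := hall (QuotientGroup.mk ⟨x, hx⟩)
    obtain ⟨j, hj⟩ := hall (QuotientGroup.mk ⟨y, hy⟩)
    obtain ⟨k, hk⟩ := hall (QuotientGroup.mk (⟨x, hx⟩ * ⟨y, hy⟩))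
    have hijk : (QuotientGroup.mk (⟨x, hx⟩ ^ i * ⟨y, hy⟩ ^ j : Z) : ↥Z ⧸ R.subgroupOf Z) =
        QuotientGroup.mk (⟨x, hx⟩ ^ k * ⟨y, hy⟩ ^ k : Z) := by
      rw [QuotientGroup.mk_mul, map_mul, hi, hj, mul_pow] at hk
      simpa only [QuotientGroup.mk_mul, QuotientGroup.mk_pow] using hk
    have hPyy : P y y 1 := fun w _ => by rw [one_smul]
    have hPxx : P x x 1 := fun w _ => by rw [one_smul]
    have h1 : l ^ i = l ^ k := by
      have hL := hPmul (Z.pow_mem hy j) (hPpow hx hy hl i) (hPpow hy hy hPyy j)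
      have hRr := hPmul (Z.pow_mem hy k) (hPpow hx hy hl k) (hPpow hy hy hPyy k)
      rw [one_pow, mul_one] at hL hRr
      exact hPuniq (hPcong hy hijk hL) hRr
    have h2' : l ^ j = l ^ k := by
      have hyx : P y x l⁻¹ := hPswap hl0 hl
      have hL := hPmul (Z.pow_mem hy j) (hPpow hx hx hPxx i) (hPpow hy hx hyx j)
      have hRr := hPmul (Z.pow_mem hy k) (hPpow hx hx hPxx k) (hPpow hy hx hyx k)
      rw [one_pow, one_mul, inv_pow] at hL hRr
      exact inv_injective (hPuniq (hPcong hx hijk hL) hRr)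
    have hxa : a * x * a⁻¹ ∈ Z := (inferInstance : Z.Normal).conj_mem x hx a
    have hya : a * y * a⁻¹ ∈ Z := (inferInstance : Z.Normal).conj_mem y hy a
    have hai : ∀ w ∈ S, ρ a⁻¹ w ∈ S := fun w hw => by
      have h := (Subgroup.inv_mem _ (SFPiece.mem_grp hH)).1 w
      exact h.mpr hw
    have hconj : P (a * x * a⁻¹) (a * y * a⁻¹) l := fun w hw => by
      rw [show a * x * a⁻¹ * (a * y * a⁻¹) = a * (x * y) * a⁻¹ by group,
        show a * y * a⁻¹ * (a * x * a⁻¹) = a * (y * x) * a⁻¹ by group, ← rho_mul_apply,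
        ← rho_mul_apply, hl _ (hai w hw), map_smul, rho_mul_apply a, rho_mul_apply]
    have hxi : (QuotientGroup.mk (⟨a * x * a⁻¹, hxa⟩ : Z) : ↥Z ⧸ R.subgroupOf Z) =
        QuotientGroup.mk (⟨x, hx⟩ ^ i : Z) := by
      rw [QuotientGroup.mk_pow, ← hi]
      exact congrArg _ (Subtype.ext (MulAut.conjNormal_apply a (⟨x, hx⟩ : Z)).symm)
    have hyj : (QuotientGroup.mk (⟨a * y * a⁻¹, hya⟩ : Z) : ↥Z ⧸ R.subgroupOf Z) =
        QuotientGroup.mk (⟨y, hy⟩ ^ j : Z) := by
      rw [QuotientGroup.mk_pow, ← hj]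
      exact congrArg _ (Subtype.ext (MulAut.conjNormal_apply a (⟨y, hy⟩ : Z)).symm)
    have hc1 : P (x ^ i) (a * y * a⁻¹) l := hPcong hya hxi hconj
    have hc2 : P (y ^ j) (x ^ i) l⁻¹ := hPcong (Z.pow_mem hx i) hyj (hPswap hl0 hc1)
    have hpp : P (y ^ j) (x ^ i) ((l⁻¹ ^ i) ^ j) :=
      hPpow hy (Z.pow_mem hx i) (inv_pow l i ▸ hPswap (pow_ne_zero i hl0) (hPpow hx hy hl i)) j
    have hij := hPuniq hpp hc2
    rw [inv_pow, inv_pow, inv_inj, ← pow_mul, mul_comm, pow_mul, h2'.trans h1.symm,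
      ← pow_mul] at hij
    haveI := Fact.mk D.LZ.prime_s
    have hordl : orderOf l = q := orderOf_eq_prime hlq hl1
    have hii : ((i : ZMod q)) * i = 1 := by
      have h := (pow_eq_pow_iff_modEq (x := Units.mk0 l hl0) (n := i * i) (m := 1)).mp
        (Units.ext (by rw [Units.val_pow_eq_pow_val, Units.val_pow_eq_pow_val, Units.val_mk0, pow_one]; exact hij))
      rw [← orderOf_units, Units.val_mk0, hordl] at h
      have h' := (ZMod.natCast_eq_natCast_iff _ _ _).mpr h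
      rwa [Nat.cast_mul, Nat.cast_one] at h'
    set xb : ↥Z ⧸ R.subgroupOf Z := QuotientGroup.mk ⟨x, hx⟩ with hxb
    have hx1 : xb ≠ 1 := fun h => hxy (by
      rw [hxb, QuotientGroup.eq_one_iff, Subgroup.mem_subgroupOf] at h
      exact h.2 y hy)
    refine hx1 (hfpf xb ?_)
    rcases mul_self_eq_one_iff.mp hii with h | h
    · rw [hi, pow_eq_pow_mod i (hexp xb)]
      have h' := (ZMod.natCast_eq_natCast_iff' i 1 q).mp (by rw [h, Nat.cast_one])
      rw [h', Nat.mod_eq_of_lt D.LZ.prime_s.one_lt, pow_one]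
    · have hdvd : q ∣ i + 1 := (ZMod.natCast_eq_zero_iff _ _).mp (by
        rw [Nat.cast_add, Nat.cast_one, h, neg_add_cancel])
      obtain ⟨t, ht⟩ := hdvd
      have hneg : A xb = xb⁻¹ := by
        rw [hi, eq_inv_iff_mul_eq_one, ← pow_succ, ht, pow_mul, hexp, one_pow]
      have hA2 : ∀ n : ℕ, (⇑A)^[2 * n] xb = xb := by
        intro n
        induction n with
        | zero => rfl
        | succ n ih =>
          rw [show 2 * (n + 1) = 2 * n + 1 + 1 by ring, Function.iterate_succ_apply',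
            Function.iterate_succ_apply', ih, hneg, map_inv, hneg, inv_inv]
      have hrodd : r = 2 * (2 ^ (m - 1)) + 1 := by
        rw [← pow_succ', Nat.sub_add_cancel hm, hrm]
      have h3 := hAr xb
      rw [hrodd, Function.iterate_succ_apply', hA2] at h3
      exact h3
  have hcomm : ∀ k l : Nrm, Θ k * Θ l = Θ l * Θ k := by
    intro k l
    have hca : ∀ k : Nrm, ∀ w, (Θ k).toMonoidHom (A w) = A ((Θ k).toMonoidHom w) := by
      intro k w
      show (Θ k * Θ ⟨a, haN⟩) w = (Θ ⟨a, haN⟩ * Θ k) w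
      rw [← map_mul, ← map_mul, show k * ⟨a, haN⟩ = ⟨a, haN⟩ * k from
        Subtype.ext (Subgroup.mem_centralizer_singleton_iff.mp k.2.1)]
    exact MulEquiv.ext fun w => SFCyclic.commute_of_small D.LZ.prime_s D.q_ne D.LZ.prime_r hrm hm
      D.LZ.s_ne_r A hAr hfpf hexp hcard hw₀ hsmall (hca k) (hca l) w
  -- a product of commuting elements of odd order
  have hgen : A₂ ≤ Θ.ker.map Nrm.subtype := by
    rw [hA₂]
    refine Subgroup.commutator_le.mpr fun c hc y hy => ?_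
    have hcy : ⁅c, y⁆ ∈ A₂ := Subgroup.commutator_mem_commutator hc hy
    obtain ⟨e, he⟩ := exists_pow D hy
    obtain ⟨n, hn⟩ := hA2pow _ hcy
    refine ⟨⟨⁅c, y⁆, hAN hcy⟩, ?_, rfl⟩
    set G : Nrm := ⟨⁅c, y⁆, hAN hcy⟩ with hGdef
    set y' : Nrm := ⟨y, hYN hy⟩ with hy'
    show Θ G = 1
    have h1 : Θ G = Θ (G * y') * Θ y'⁻¹ := by rw [← map_mul, mul_inv_cancel_right]
    have hp1 : (Θ G) ^ (p ^ e) = 1 := by
      rw [h1, (show Commute (Θ (G * y')) (Θ y'⁻¹) from hcomm _ _).mul_pow, ← map_pow, ← map_pow, ← map_mul,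
        show ((G * y') ^ (p ^ e) * y'⁻¹ ^ (p ^ e)) = 1 from Subtype.ext (by
          simp only [Subgroup.coe_mul, SubmonoidClass.coe_pow, Subgroup.coe_inv, Subgroup.coe_one,
            hGdef, hy']
          rw [show ⁅c, y⁆ * y = c * y * c⁻¹ by rw [commutatorElement_def, inv_mul_cancel_right],
            conj_pow, inv_pow, he]
          group), map_one]
    have hp2 : (Θ G) ^ (2 ^ n) = 1 := by
      rw [← map_pow, show G ^ (2 ^ n) = 1 from Subtype.ext hn, map_one]
    have hg1 := pow_gcd_eq_one.mpr ⟨hp1, hp2⟩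
    rwa [Nat.Coprime.gcd_eq_one ((Nat.coprime_primes D.prime_p Nat.prime_two).mpr D.p_ne |>.pow e n),
      pow_one] at hg1
  obtain ⟨G, hGker, hGe⟩ := hgen hg
  refine hmove ?_
  rw [← hGe]
  exact hkill G hGker z₁ hz₁

end CfsgLib.TurullFit.SFTorus
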