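import Cfsg.Agent.Lib.TurullFit.Defs

/-!
# Turull's bound for the Fitting height: the statements of the parts of the proof

Each part is stated as a proposition, so that the parts can be proved independently and then put
together.
-/

set_option autoImplicit false

open Module
open scoped commutatorElement

namespace CfsgLib.TurullFit

universe u

/-- Invariant complements exist and the components span. -/
def StmtSemisimple : Prop :=
  ∀ (F : Type) [Field F] (Γ V : Type u) [Group Γ] [Finite Γ] [AddCommGroup V] [Module F V]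
    [FiniteDimensional F V] (ρ : Representation F Γ V) (s r : ℕ) (X : Subgroup Γ) (a : Γ),
    Layer ρ s r X a →
    (∀ W : Submodule F V, Inv ρ X a W → ∃ W', Inv ρ X a W' ∧ IsCompl W W') ∧
    sSup {S | Comp ρ X a S} = ⊤

/-- A component whose centre is not scalar is good. -/
def StmtMovedFix : Prop :=
  ∀ (F : Type) [Field F] [IsAlgClosed F] (Γ V : Type u) [Group Γ] [Finite Γ] [AddCommGroup V]
    [Module F V] [FiniteDimensional F V] (ρ : Representation F Γ V) (s r : ℕ) (X : Subgroup Γ)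
    (a : Γ) (S : Submodule F V),
    Layer ρ s r X a → Comp ρ X a S → ¬ FixedType ρ X S → Good ρ X a S

/-- Fixed points of `a` in `X` commute with `⁅X, a⁆` on components with scalar centre. -/
def StmtFixedCommute : Prop :=
  ∀ (F : Type) [Field F] [IsAlgClosed F] (Γ V : Type u) [Group Γ] [Finite Γ] [AddCommGroup V]
    [Module F V] [FiniteDimensional F V] (ρ : Representation F Γ V) (s r : ℕ) (X : Subgroup Γ)
    (a : Γ) (S : Submodule F V),
    Layer ρ s r X a → Comp ρ X a S → FixedType ρ X S →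
    ∀ x ∈ X, a * x = x * a → ∀ e ∈ ⁅X, Subgroup.zpowers a⁆, CommOn ρ S x e

/-- The irreducible pieces of a fixed noncentral component are of extraspecial type. -/
def StmtFixedPiece : Prop :=
  ∀ (F : Type) [Field F] [IsAlgClosed F] (Γ V : Type u) [Group Γ] [Finite Γ] [AddCommGroup V]
    [Module F V] [FiniteDimensional F V] (ρ : Representation F Γ V) (s r : ℕ) (X : Subgroup Γ)
    (a : Γ) (S U : Submodule F V),
    Layer ρ s r X a → Comp ρ X a S → Noncentral ρ X a S → FixedType ρ X S →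
    U ≤ S → Comp ρ ⁅X, Subgroup.zpowers a⁆ a U → Heis ρ s r ⁅X, Subgroup.zpowers a⁆ a U

/-- With central fixed points a fixed noncentral component is irreducible. -/
def StmtFixedIrr : Prop :=
  ∀ (F : Type) [Field F] [IsAlgClosed F] (Γ V : Type u) [Group Γ] [Finite Γ] [AddCommGroup V]
    [Module F V] [FiniteDimensional F V] (ρ : Representation F Γ V) (s r : ℕ) (X : Subgroup Γ)
    (a : Γ) (S : Submodule F V),
    Layer ρ s r X a → CentralFix ρ X a → Comp ρ X a S → Noncentral ρ X a S → FixedType ρ X S →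
    Heis ρ s r X a S

/-- All invariant subspaces of a fixed or central component have the same fixer. -/
def StmtUniformFixer : Prop :=
  ∀ (F : Type) [Field F] [IsAlgClosed F] (Γ V : Type u) [Group Γ] [Finite Γ] [AddCommGroup V]
    [Module F V] [FiniteDimensional F V] (ρ : Representation F Γ V) (s r : ℕ) (X : Subgroup Γ)
    (a : Γ) (S W : Submodule F V),
    Layer ρ s r X a → Comp ρ X a S → (FixedType ρ X S ∨ ¬ Noncentral ρ X a S) →
    W ≤ S → W ≠ ⊥ → StableUnder ρ X W →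
    ∀ x ∈ X, x ∈ fixer ρ W → x ∈ fixer ρ S

/-- Dimension and fixed points on a piece of extraspecial type. -/
def StmtCount : Prop :=
  ∀ (F : Type) [Field F] [IsAlgClosed F] (Γ V : Type u) [Group Γ] [Finite Γ] [AddCommGroup V]
    [Module F V] [FiniteDimensional F V] (ρ : Representation F Γ V) (s r : ℕ) (E : Subgroup Γ)
    (a : Γ) (U : Submodule F V),
    Heis ρ s r E a U →
    (∃ b, 0 < b ∧ finrank F U = s ^ b) ∧
    (finrank F U + (r - 1) = r * finrank F (U ⊓ fixSub ρ a : Submodule F V) ∨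
      finrank F U = r * finrank F (U ⊓ fixSub ρ a : Submodule F V) + (r - 1) ∨
      finrank F U = r * finrank F (U ⊓ fixSub ρ a : Submodule F V) + 1 ∨
      finrank F U + 1 = r * finrank F (U ⊓ fixSub ρ a : Submodule F V)) ∧
    (U ⊓ fixSub ρ a = ⊥ → s = 2 ∧ finrank F U + 1 = r) ∧
    (∀ Z : Subgroup Γ, (∀ x, x ∈ Z ↔ x ∈ E ∧ IsScalarOn ρ U x) →
      Z.relIndex E = finrank F U * finrank F U)

/-- An element of prime order commuting with `a` and fixing a hyperplane of its fixed points. -/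
def StmtCommCount : Prop :=
  ∀ (F : Type) [Field F] [IsAlgClosed F] (Γ V : Type u) [Group Γ] [Finite Γ] [AddCommGroup V]
    [Module F V] [FiniteDimensional F V] (ρ : Representation F Γ V) (s r o : ℕ) (E : Subgroup Γ)
    (a g : Γ) (U : Submodule F V),
    Heis ρ s r E a U → g ∈ Subgroup.normalizer (E : Set Γ) → a * g = g * a → o.Prime → o ≠ r →
    (o : F) ≠ 0 → g ∈ stabSub ρ U → IsScalarOn ρ U (g ^ o) →
    (∀ c c' : F, ¬ r ∣ finrank F (U ⊓ End.eigenspace (ρ g) c : Submodule F V) →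
      ¬ r ∣ finrank F (U ⊓ End.eigenspace (ρ g) c' : Submodule F V) → c = c') ∧
    (finrank F (U ⊓ fixSub ρ a : Submodule F V) ≤
        finrank F (U ⊓ fixSub ρ a ⊓ fixSub ρ g : Submodule F V) + 1 →
      (finrank F (U ⊓ fixSub ρ g : Submodule F V) =
            r * finrank F (U ⊓ fixSub ρ a ⊓ fixSub ρ g : Submodule F V) ∧
          finrank F U ≤ finrank F (U ⊓ fixSub ρ g : Submodule F V) + (2 * r - 1)) ∨
        finrank F U = finrank F (U ⊓ fixSub ρ g : Submodule F V) + r ∨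
        finrank F U = finrank F (U ⊓ fixSub ρ g : Submodule F V))

/-- The fixed space of an element moving `E` modulo scalars. -/
def StmtFixHalf : Prop :=
  ∀ (F : Type) [Field F] [IsAlgClosed F] (Γ V : Type u) [Group Γ] [Finite Γ] [AddCommGroup V]
    [Module F V] [FiniteDimensional F V] (ρ : Representation F Γ V) (s r : ℕ) (E : Subgroup Γ)
    (a g : Γ) (U : Submodule F V),
    Heis ρ s r E a U → g ∈ Subgroup.normalizer (E : Set Γ) → g ∈ stabSub ρ U →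
    (∃ x ∈ E, ¬ IsScalarOn ρ U ⁅g, x⁆) →
    (∀ o : ℕ, o.Prime → o ≠ 2 → o ≠ s → IsScalarOn ρ U (g ^ o) →
      2 * finrank F (U ⊓ fixSub ρ g : Submodule F V) ≤ finrank F U) ∧
    (s ≠ 2 → 3 * finrank F (U ⊓ fixSub ρ g : Submodule F V) ≤ 2 * finrank F U)

/-- The facts on an exceptional component. -/
def StmtExcFacts : Prop :=
  ∀ (F : Type) [Field F] [IsAlgClosed F] (Γ V : Type u) [Group Γ] [Finite Γ] [AddCommGroup V]
    [Module F V] [FiniteDimensional F V] (ρ : Representation F Γ V) (s r : ℕ) (X : Subgroup Γ)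
    (a : Γ) (S : Submodule F V),
    Layer ρ s r X a → Exc ρ X a S → (∀ x ∈ X, CenterOn ρ X S (x ^ s)) →
    s = 2 ∧ FixedType ρ X S ∧
    (∀ x ∈ X, ∀ y ∈ X, (∀ v ∈ S, ρ ⁅x, y⁆ v = v) ∨ (∀ v ∈ S, ρ ⁅x, y⁆ v = -v)) ∧
    ∃ m, 0 < m ∧ r = 2 ^ m + 1 ∧ ∀ R : Subgroup Γ, (∀ x, x ∈ R ↔ CenterOn ρ X S x) →
      R.relIndex X = 4 ^ m * R.relIndex ((X ⊓ Subgroup.centralizer {a}) ⊔ R)

/-- An element of `X` centralising `a` and `T` fixes every good component. -/
def StmtCore : Prop :=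
  ∀ (F : Type) [Field F] [IsAlgClosed F] (Γ V : Type u) [Group Γ] [Finite Γ] [AddCommGroup V]
    [Module F V] [FiniteDimensional F V] (ρ : Representation F Γ V) (s r : ℕ) (X : Subgroup Γ)
    (a : Γ) (T : Submodule F V) (Ω : Set V),
    Layer ρ s r X a → HypT ρ r X a T Ω → ∀ x ∈ X, a * x = x * a → T ≤ fixSub ρ x →
    ∀ S, Good ρ X a S → S ≤ fixSub ρ x

/-- With a good component `T` is not zero. -/
def StmtTne : Prop :=
  ∀ (F : Type) [Field F] [IsAlgClosed F] (Γ V : Type u) [Group Γ] [Finite Γ] [AddCommGroup V]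
    [Module F V] [FiniteDimensional F V] (ρ : Representation F Γ V) (s r : ℕ) (X : Subgroup Γ)
    (a : Γ) (T : Submodule F V) (Ω : Set V),
    Layer ρ s r X a → HypT ρ r X a T Ω → (∃ S, Good ρ X a S) → T ≠ ⊥

/-- An element commuting with `a` and fixing `T`, when `a` has central fixed points on `X`. -/
def StmtHyper : Prop :=
  ∀ (F : Type) [Field F] [IsAlgClosed F] (Γ V : Type u) [Group Γ] [Finite Γ] [AddCommGroup V]
    [Module F V] [FiniteDimensional F V] (ρ : Representation F Γ V) (s r : ℕ) (X : Subgroup Γ)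
    (a : Γ) (T : Submodule F V) (Ω : Set V) (y : Γ),
    Layer ρ s r X a → HypT ρ r X a T Ω → CentralFix ρ X a →
    y ∈ Subgroup.normalizer (X : Set Γ) → a * y = y * a → T ≤ fixSub ρ y →
    (orderOf y).Coprime r →
    ∀ S, Good ρ X a S →
      ((∀ x ∈ X, x ∈ fixer ρ S → y * x * y⁻¹ ∈ fixer ρ S) ∧
        ∀ x, CenterOn ρ X S x → ∀ v ∈ S, ρ (y * x * y⁻¹) v = ρ x v) ∧
      (¬ FixedType ρ X S → S ≤ fixSub ρ y) ∧
      (FixedType ρ X S → (orderOf y : F) ≠ 0 →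
        ∃ S', Good ρ X a S' ∧ Heis ρ s r X a S' ∧
          (∀ x ∈ X, x ∈ fixer ρ S ↔ x ∈ fixer ρ S') ∧
          (∀ x, CenterOn ρ X S x ↔ CenterOn ρ X S' x) ∧ y ∈ stabSub ρ S' ∧
          (finrank F (S' ⊓ fixSub ρ a : Submodule F V) ≤
              finrank F (S' ⊓ fixSub ρ a ⊓ fixSub ρ y : Submodule F V) ∨
            finrank F S' + (r - 1) = r * finrank F (S' ⊓ fixSub ρ a : Submodule F V) ∧
              finrank F (S' ⊓ fixSub ρ a : Submodule F V) ≤
                finrank F (S' ⊓ fixSub ρ a ⊓ fixSub ρ y : Submodule F V) + 1)) ∧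
      (FixedType ρ X S → ∀ π : End F V, π * π = π → LinearMap.range π = S →
        (∀ x ∈ X, π * ρ x = ρ x * π) → π * ρ a = ρ a * π →
        T.map π ≠ ⊥ ∧
        finrank F (S ⊓ fixSub ρ a : Submodule F V) ≤ finrank F (T.map π) + 1)

/-- The stabiliser of an exceptional kernel acts trivially modulo the centre through `⁅h, a⁆`. -/
def StmtExcStab : Prop :=
  ∀ (Γ : Type u) [Group Γ] [Finite Γ] (X R N H : Subgroup Γ) (a : Γ) (r m p : ℕ),
    r.Prime → 0 < m → r = 2 ^ m + 1 → a ^ r = 1 →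
    N ≤ R → R ≤ X → IsPGroup 2 X →
    X ≤ Subgroup.normalizer (N : Set Γ) → X ≤ Subgroup.normalizer (R : Set Γ) →
    H ≤ Subgroup.normalizer (X : Set Γ) → H ≤ Subgroup.normalizer (R : Set Γ) →
    H ≤ Subgroup.normalizer (N : Set Γ) →
    a ∈ Subgroup.normalizer (X : Set Γ) → a ∈ Subgroup.normalizer (R : Set Γ) →
    a ∈ Subgroup.normalizer (N : Set Γ) → a ∈ Subgroup.normalizer (H : Set Γ) →
    (∀ x ∈ X, x ^ 2 ∈ R) → (∀ x ∈ X, ∀ y ∈ X, ⁅x, y⁆ ∈ R) →
    (∀ x ∈ R, ∀ y ∈ X, ⁅x, y⁆ ∈ N) →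
    (∀ x ∈ X, (∀ y ∈ X, ⁅x, y⁆ ∈ N) → x ∈ R) →
    (∀ x ∈ X, ∀ y ∈ X, ∀ x' ∈ X, ∀ y' ∈ X, ⁅x, y⁆ ∉ N → ⁅x', y'⁆ ∉ N →
      ⁅x, y⁆⁻¹ * ⁅x', y'⁆ ∈ N) →
    R.relIndex X = 4 ^ m * R.relIndex ((X ⊓ Subgroup.centralizer {a}) ⊔ R) →
    p.Prime → p ≠ 2 → p ≠ r → IsPGroup p H →
    (∀ h₁ ∈ H, ∀ h₂ ∈ H, ∀ h₃ ∈ H, ∀ x ∈ X, ⁅⁅⁅h₁, h₂⁆, h₃⁆, x⁆ ∈ R) →
    ∀ h ∈ H, ∀ x ∈ X, ⁅⁅h, a⁆, x⁆ ∈ R

/-- `g` preserves the fixers and the central characters of the fixed good components. -/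
def Preserves {F : Type} [Field F] {Γ V : Type u} [Group Γ] [AddCommGroup V] [Module F V]
    (ρ : Representation F Γ V) (X : Subgroup Γ) (a g : Γ) : Prop :=
  ∀ S, Good ρ X a S → FixedType ρ X S →
    (∀ x ∈ X, x ∈ fixer ρ S → g * x * g⁻¹ ∈ fixer ρ S) ∧
      ∀ x, CenterOn ρ X S x → ∀ v ∈ S, ρ (g * x * g⁻¹) v = ρ x v

/-- Two groups of fixed points commute modulo centres of good components, when one fixes `T` and the
other preserves the central characters, and fixes `T` if its order is prime to the characteristic. -/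
def StmtSmallComm : Prop :=
  ∀ (F : Type) [Field F] [IsAlgClosed F] (Γ V : Type u) [Group Γ] [Finite Γ] [AddCommGroup V]
    [Module F V] [FiniteDimensional F V] (ρ : Representation F Γ V) (s r p p' : ℕ)
    (X Y Z : Subgroup Γ) (a : Γ) (T : Submodule F V) (Ω : Set V),
    Layer ρ s r X a → HypT ρ r X a T Ω → CentralFix ρ X a →
    (∀ x ∈ X, ∀ y ∈ X, ρ ⁅x ^ s, y⁆ = 1) →
    p.Prime → p'.Prime → p ≠ p' → p ≠ s → p ≠ r → p' ≠ r → IsPGroup p Y → IsPGroup p' Z →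
    Y ≤ Subgroup.normalizer (X : Set Γ) → Z ≤ Subgroup.normalizer (X : Set Γ) →
    Z ≤ Subgroup.normalizer (Y : Set Γ) →
    (∀ g ∈ Y, a * g = g * a ∧ T ≤ fixSub ρ g) →
    (∀ g ∈ Z, a * g = g * a ∧ Preserves ρ X a g ∧ ((p' : F) ≠ 0 → T ≤ fixSub ρ g)) →
    ∀ S, Good ρ X a S → ∀ z ∈ Z, ∀ y ∈ Y,
      (FixedType ρ X S → ∀ x ∈ X, CenterOn ρ X S ⁅⁅z, y⁆, x⁆) ∧
      (¬ FixedType ρ X S → S ≤ fixSub ρ ⁅z, y⁆)

/-- Above a level with exceptional components only, some fixed point moves `T`. -/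
def StmtSmallFix : Prop :=
  ∀ (F F₁ : Type) [Field F] [IsAlgClosed F] [Field F₁] [IsAlgClosed F₁] (Γ V : Type u) [Group Γ]
    [Finite Γ] [AddCommGroup V] [Module F V] [FiniteDimensional F V] (ρ : Representation F Γ V)
    (q r p : ℕ) (Z Q X Y : Subgroup Γ) [Z.Normal] [Q.Normal] (a : Γ) (T : Submodule F V)
    (Ω : Set V),
    Layer ρ q r Z a → HypT ρ r Z a T Ω → CentralFix ρ Z a → PhiSpec ρ Z Q → CharP F₁ q →
    q ≠ 2 → (∀ z ∈ Z, z ^ q ∈ Q) → (∀ z ∈ Z, ∀ w ∈ Z, ⁅z, w⁆ ∈ Q) →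
    (∀ z ∈ Z, a * z * a⁻¹ * z⁻¹ ∈ Q → z ∈ Q) →
    Layer (dualRep F₁ Z Q) 2 r X a → CentralFix (dualRep F₁ Z Q) X a →
    (∀ x ∈ X, ∀ y ∈ X, dualRep F₁ Z Q ⁅x ^ 2, y⁆ = 1) →
    (∀ S, ¬ Good (dualRep F₁ Z Q) X a S) →
    (∃ S, Comp (dualRep F₁ Z Q) X a S ∧ Noncentral (dualRep F₁ Z Q) X a S) →
    p.Prime → p ≠ 2 → p ≠ r → IsPGroup p Y → Y ≤ Subgroup.normalizer (X : Set Γ) →
    (∀ g ∈ Y, a * g = g * a) →
    X ≤ ⁅X, Y⁆ ⊔ (fixer (dualRep F₁ Z Q) ⊤ ⊓ X) →
    (∀ g ∈ Y, Preserves ρ Z a g) →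
    ((2 : F) ≠ 0 → ∀ g ∈ ⁅X ⊓ Subgroup.centralizer {a}, Y⁆, T ≤ fixSub ρ g) →
    ((2 : F) = 0 → ∀ g ∈ Y, T ≤ fixSub ρ g) → False

end CfsgLib.TurullFit
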