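import Cfsg.Agent.Lib.TurullFit.Chain
import Cfsg.Agent.Lib.TurullFit.Dual
import Cfsg.Agent.Lib.TurullFit.Stmts

/-!
# Turull's bound for the Fitting height: from one layer to the next

The modules of the tower are the duals of `P j / Q j`, over subgroups normalising both. The
invariant carried from the top of the tower downwards is `BadData`.
-/

set_option autoImplicit false
set_option linter.style.haveILetI false

open Subgroup Module
open scoped commutatorElement

namespace CfsgLib.TurullFit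

open CfsgLib.FgsC.CoprimeWeights

universe u

section Level

variable {Γ : Type u} [Group Γ] {P Q : ℕ → Subgroup Γ}

/-- The group normalising level `j`. -/
def lvlGroup (P Q : ℕ → Subgroup Γ) (j : ℕ) : Subgroup Γ :=
  normalizer (P j : Set Γ) ⊓ normalizer (Q j : Set Γ)

instance lvlP_normal (j : ℕ) : ((P j).subgroupOf (lvlGroup P Q j)).Normal :=
  ⟨fun x hx g => mem_subgroupOf.mpr ((mem_normalizer_iff.mp g.2.1 x).mp hx)⟩

instance lvlQ_normal (j : ℕ) : ((Q j).subgroupOf (lvlGroup P Q j)).Normal :=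
  ⟨fun x hx g => mem_subgroupOf.mpr ((mem_normalizer_iff.mp g.2.2 x).mp hx)⟩

/-- Level `j` of the tower inside its normalising group. -/
abbrev lvlP (P Q : ℕ → Subgroup Γ) (j : ℕ) : Subgroup ↥(lvlGroup P Q j) :=
  (P j).subgroupOf (lvlGroup P Q j)

/-- The radical of level `j` inside its normalising group. -/
abbrev lvlQ (P Q : ℕ → Subgroup Γ) (j : ℕ) : Subgroup ↥(lvlGroup P Q j) :=
  (Q j).subgroupOf (lvlGroup P Q j)

/-- The module of level `j`. -/
noncomputable abbrev lvlRep (F : Type) [Field F] (P Q : ℕ → Subgroup Γ) (j : ℕ) :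
    Representation F ↥(lvlGroup P Q j) ↥(dualSub F (lvlP P Q j) (lvlQ P Q j)) :=
  dualRep F (lvlP P Q j) (lvlQ P Q j)

theorem subgroupOf_normalizer {H A : Subgroup Γ} {g : ↥H} (hg : (g : Γ) ∈ normalizer (A : Set Γ)) :
    g ∈ normalizer (A.subgroupOf H : Set ↥H) :=
  mem_normalizer_iff.mpr fun x => by
    simp only [mem_subgroupOf, Subgroup.coe_mul, InvMemClass.coe_inv]
    exact mem_normalizer_iff.mp hg x

end Level

variable {Γ : Type u} [Group Γ] [Finite Γ] {P Q : ℕ → Subgroup Γ} {p : ℕ → ℕ} {G : Subgroup Γ}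
  {a : Γ} {r h : ℕ}

/-- What level `j + 1` tells level `j`: a part `G0` above the kernel, and bad radicals `R` whose
translates by level `j` are either harmless or fixed. -/
def BadData (P Q : ℕ → Subgroup Γ) (a : Γ) (h j : ℕ) : Prop :=
  ∃ (G0 : Subgroup Γ) (Rs : Set (Subgroup Γ)),
    kerAt P Q a h (j + 1) ≤ G0 ∧ Q (j + 1) ≤ G0 ∧ G0 ≤ P (j + 1) ∧
    a ∈ normalizer (G0 : Set Γ) ∧
    (∀ R ∈ Rs, Q (j + 1) ≤ R ∧ R ≤ P (j + 1) ∧ a ∈ normalizer (R : Set Γ)) ∧
    G0 ⊓ sInf Rs = Q (j + 1) ∧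
    ∀ R ∈ Rs, ∀ y ∈ P j, (∀ x ∈ kerAt P Q a h (j + 1), y⁻¹ * x * y ∈ R) ∨
      ∀ x ∈ P (j + 1), ⁅y⁻¹ * (a * y * a⁻¹), x⁆ ∈ R

omit [Finite Γ] in
theorem Tower.badData_top (T : Tower G a r h P Q p) {j : ℕ} (hj : j + 2 = h) :
    BadData P Q a h j := by
  refine ⟨Q (j + 1), ∅, ?_, le_rfl, T.Q_le _ (by omega), T.a_normQ _ (by omega), ?_, ?_, ?_⟩
  · rw [show j + 1 = h - 1 by omega, kerAt_top]; exact bot_le
  · simp
  · simp
  · simp

omit [Finite Γ] in
theorem Tower.mem_lvlGroup (T : Tower G a r h P Q p) {i j : ℕ} (hij : i ≤ j) (hj : j < h) {x : Γ}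
    (hx : x ∈ P i) : x ∈ lvlGroup P Q j :=
  ⟨T.norm i j hij hj hx, T.normQ i j hij hj hx⟩

omit [Finite Γ] in
theorem Tower.a_mem_lvlGroup (T : Tower G a r h P Q p) {j : ℕ} (hj : j < h) :
    a ∈ lvlGroup P Q j :=
  ⟨T.a_norm j hj, T.a_normQ j hj⟩

variable {F : Type} [Field F]

omit [Finite Γ] in
theorem Tower.elemSection (T : Tower G a r h P Q p) {j : ℕ} (hj : j < h) [hF : CharP F (p j)] :
    ElemSection F (p j) (lvlP P Q j) (lvlQ P Q j) where
  prime := T.prime j hj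
  char := hF
  le := fun x hx => T.Q_le j hj hx
  pow := fun z hz => mem_subgroupOf.mpr (by
    simpa using T.pow j hj z (mem_subgroupOf.mp hz))
  comm := fun z hz w hw => mem_subgroupOf.mpr (by
    simpa [commutatorElement_def] using T.comm j hj z (mem_subgroupOf.mp hz) w (mem_subgroupOf.mp hw))

omit [Finite Γ] in
theorem natCast_ne_zero_of_ne {q s : ℕ} [CharP F q] (hq : q.Prime) (hs : s.Prime) (hne : s ≠ q) :
    (s : F) ≠ 0 := fun h0 =>
  hne ((Nat.prime_dvd_prime_iff_eq hq hs).mp ((CharP.cast_eq_zero_iff F q s).mp h0)).symm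

/-- `x` is trivial on the module of level `j` if it fixes `P j` modulo `Q j`. -/
theorem Tower.lvlRep_eq_one (T : Tower G a r h P Q p) {j : ℕ} (hj : j < h) [CharP F (p j)]
    (x : ↥(lvlGroup P Q j)) :
    lvlRep F P Q j x = 1 ↔ ∀ d ∈ P j, ⁅(x : Γ), d⁆ ∈ Q j := by
  rw [rho_eq_one_iff (T.elemSection hj)]
  constructor
  · intro h1 d hd
    have hdG : d ∈ lvlGroup P Q j := T.mem_lvlGroup le_rfl hj hd
    simpa [mem_subgroupOf, commutatorElement_def] using h1 ⟨d, hdG⟩ hd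
  · intro h1 d hd
    simpa [mem_subgroupOf, commutatorElement_def] using h1 (d : Γ) (mem_subgroupOf.mp hd)

/-- The layer of level `j` on the module of level `j + 1`. -/
theorem Tower.layer (T : Tower G a r h P Q p) (hr : r.Prime) (har : a ^ r = 1) {j : ℕ}
    (hj : j + 1 < h) [CharP F (p (j + 1))] :
    Layer (lvlRep F P Q (j + 1)) (p j) r ((P j).subgroupOf (lvlGroup P Q (j + 1)))
      ⟨a, T.a_mem_lvlGroup hj⟩ where
  prime_s := T.prime j (by omega)
  prime_r := hr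
  s_ne_r := T.ne_r j (by omega)
  s_ne_zero := natCast_ne_zero_of_ne (T.prime _ hj) (T.prime j (by omega)) (T.p_ne j hj)
  r_ne_zero := natCast_ne_zero_of_ne (T.prime _ hj) hr (T.ne_r _ hj).symm
  isPGroup := (T.isPGroup j (by omega)).comap_of_injective _ Subtype.coe_injective
  mem_normalizer := subgroupOf_normalizer (T.a_norm j (by omega))
  pow_eq_one := Subtype.ext (by simpa using har)
  classTwo := fun x hx y hy z hz => (T.lvlRep_eq_one hj _).mpr fun d hd => by
    have h1 := T.cent j hj _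
      (T.comm j (by omega) (x : Γ) (mem_subgroupOf.mp hx) (y : Γ) (mem_subgroupOf.mp hy)) (z : Γ)
      (mem_subgroupOf.mp hz) d hd
    simpa only [commutatorElement_def, Subgroup.coe_mul, InvMemClass.coe_inv] using h1

/-- The functionals seen from level `j + 1`. -/
def lvlT (F : Type) [Field F] (P Q : ℕ → Subgroup Γ) (a : Γ) (h j : ℕ) :
    Submodule F ↥(dualSub F (lvlP P Q j) (lvlQ P Q j)) :=
  annih F (lvlP P Q j) (lvlQ P Q j) ((wAt P Q a h j).subgroupOf (lvlGroup P Q j))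

/-- `x` fixes the functionals seen from level `j` iff it fixes `P j` modulo `wAt`. -/
theorem Tower.lvlT_le_fixSub (T : Tower G a r h P Q p) {j : ℕ} (hj : j < h) [CharP F (p j)]
    (x : ↥(lvlGroup P Q j)) :
    lvlT F P Q a h j ≤ fixSub (lvlRep F P Q j) x ↔ ∀ d ∈ P j, ⁅(x : Γ), d⁆ ∈ wAt P Q a h j := by
  rw [lvlT, (T.elemSection hj).annih_le_fixSub (fun y hy => T.Q_le_wAt hy)
    (fun y hy => T.wAt_le hj hy)]
  constructor
  · intro h1 d hd
    have hdG : d ∈ lvlGroup P Q j := T.mem_lvlGroup le_rfl hj hd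
    simpa [mem_subgroupOf, commutatorElement_def] using h1 ⟨d, hdG⟩ hd
  · intro h1 d hd
    simpa [mem_subgroupOf, commutatorElement_def] using h1 (d : Γ) (mem_subgroupOf.mp hd)

theorem Tower.commutator_subgroupOf_le (T : Tower G a r h P Q p) {j : ℕ} (hj : j < h) :
    ⁅lvlP P Q j, zpowers (⟨a, T.a_mem_lvlGroup hj⟩ : ↥(lvlGroup P Q j))⁆ =
      (⁅P j, zpowers a⁆).subgroupOf (lvlGroup P Q j) := by
  refine Subgroup.map_injective (lvlGroup P Q j).subtype_injective ?_
  have hP : P j ≤ lvlGroup P Q j := fun x hx => T.mem_lvlGroup le_rfl hj hx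
  rw [map_commutator, MonoidHom.map_zpowers, map_subgroupOf_eq_of_le hP]
  rw [map_subgroupOf_eq_of_le ((Coprime.commutator_le_of_le_normalizer
      (T.zpowers_le_norm hj)).trans hP)]
  rfl

/-- Fixed functionals seen from level `j`. -/
theorem Tower.mem_lvlT (T : Tower G a r h P Q p) {j : ℕ} (hj : j < h)
    {f : ↥(dualSub F (lvlP P Q j) (lvlQ P Q j))} :
    f ∈ lvlT F P Q a h j ↔ lvlRep F P Q j ⟨a, T.a_mem_lvlGroup hj⟩ f = f ∧
      ∀ z : lvlP P Q j, ((z : ↥(lvlGroup P Q j)) : Γ) ∈ kerAt P Q a h j →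
        (f : ↥(lvlP P Q j) → F) z = 0 := by
  have hP : P j ≤ lvlGroup P Q j := fun x hx => T.mem_lvlGroup le_rfl hj hx
  have hK : kerAt P Q a h j ≤ P j := (T.kerAt_le_fix hj).trans inf_le_left
  have hA : ⁅P j, zpowers a⁆ ≤ P j :=
    Coprime.commutator_le_of_le_normalizer (T.zpowers_le_norm hj)
  have e : (wAt P Q a h j).subgroupOf (lvlGroup P Q j) =
      (kerAt P Q a h j).subgroupOf (lvlGroup P Q j) ⊔
        (⁅P j, zpowers a⁆).subgroupOf (lvlGroup P Q j) ⊔ lvlQ P Q j := by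
    rw [wAt, subgroupOf_sup ((sup_le hK hA).trans hP) ((T.Q_le j hj).trans hP),
      subgroupOf_sup (hK.trans hP) (hA.trans hP)]
  rw [lvlT, e]
  rw [annih_sup ((kerAt P Q a h j).subgroupOf (lvlGroup P Q j) ⊔
      (⁅P j, zpowers a⁆).subgroupOf (lvlGroup P Q j)) (lvlQ P Q j)
      (sup_le (fun y hy => hK hy) (fun y hy => hA hy)) (fun y hy => T.Q_le j hj hy),
    annih_self, inf_top_eq,
    annih_sup ((kerAt P Q a h j).subgroupOf (lvlGroup P Q j))
      ((⁅P j, zpowers a⁆).subgroupOf (lvlGroup P Q j)) (fun y hy => hK hy) (fun y hy => hA hy),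
    Submodule.mem_inf, ← T.commutator_subgroupOf_le hj, ← fixSub_eq_annih, mem_fixSub, and_comm]
  rfl

/-- The fixed part of an invariant space of functionals. -/
theorem Tower.normEnd_mem_annih (T : Tower G a r h P Q p) {j : ℕ} (hj : j < h) {R : Subgroup Γ}
    (hR : a ∈ normalizer (R : Set Γ)) {f : ↥(dualSub F (lvlP P Q j) (lvlQ P Q j))}
    (hf : f ∈ annih F (lvlP P Q j) (lvlQ P Q j) (R.subgroupOf (lvlGroup P Q j))) :
    normEnd (lvlRep F P Q j) ⟨a, T.a_mem_lvlGroup hj⟩ r f ∈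
      annih F (lvlP P Q j) (lvlQ P Q j) (R.subgroupOf (lvlGroup P Q j)) := by
  rw [normEnd, LinearMap.sum_apply]
  refine Submodule.sum_mem _ fun i _ => ?_
  have h1 := rho_mem_annih ((⟨a, T.a_mem_lvlGroup hj⟩ : ↥(lvlGroup P Q j)) ^ i) hf
  rwa [show (R.subgroupOf (lvlGroup P Q j)).map
      (MulAut.conj ((⟨a, T.a_mem_lvlGroup hj⟩ : ↥(lvlGroup P Q j)) ^ i)).toMonoidHom =
      R.subgroupOf (lvlGroup P Q j) from
    mem_normalizer_iff_map_conj_eq.mp (subgroupOf_normalizer (by simpa using pow_mem hR i))] at h1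

/-- The hypothesis on `T` for level `j` from the data of level `j + 1`. -/
theorem Tower.hypT (T : Tower G a r h P Q p) (hr : r.Prime) (har : a ^ r = 1) {j : ℕ}
    (hj : j + 1 < h) [CharP F (p (j + 1))] (hB : BadData P Q a h j) :
    ∃ Ω, HypT (lvlRep F P Q (j + 1)) r ((P j).subgroupOf (lvlGroup P Q (j + 1)))
      ⟨a, T.a_mem_lvlGroup hj⟩ (lvlT F P Q a h (j + 1)) Ω := by
  obtain ⟨G0, Rs, hK0, hQ0, hG0, ha0, hRs, hint, hmove⟩ := hB
  have hP : P (j + 1) ≤ lvlGroup P Q (j + 1) := fun x hx => T.mem_lvlGroup le_rfl hj hx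
  set H := lvlGroup P Q (j + 1) with hH
  set ρ := lvlRep F P Q (j + 1) with hρ
  set aH : ↥H := ⟨a, T.a_mem_lvlGroup hj⟩ with haH
  let Ann : Subgroup Γ → Submodule F ↥(dualSub F (lvlP P Q (j + 1)) (lvlQ P Q (j + 1))) :=
    fun R => annih F (lvlP P Q (j + 1)) (lvlQ P Q (j + 1)) (R.subgroupOf H)
  have har' : aH ^ r = 1 := Subtype.ext (by simpa [haH] using har)
  have hrF : (r : F) ≠ 0 := natCast_ne_zero_of_ne (T.prime _ hj) hr (T.ne_r _ hj).symm
  have hfix : ∀ f, ρ aH (normEnd ρ aH r f) = normEnd ρ aH r f := fun f => by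
    have := LinearMap.congr_fun (pow_mul_normEnd (ρ := ρ) har' 1) f
    simpa using this
  refine ⟨{χ | ρ aH χ = χ ∧ ∃ R ∈ Rs, χ ∈ Ann R}, ⟨fun f hf => ((T.mem_lvlT hj).mp hf).1,
    fun χ hχ => hχ.1, fun f hf => ?_, ?_⟩⟩
  · -- averaging
    have hiota : f ∈ Ann G0 ⊔ ⨆ R : Rs, Ann R := by
      let Rf : Option Rs → Subgroup ↥H := fun o => o.elim (G0.subgroupOf H) fun R => (R : Subgroup Γ).subgroupOf H
      have hQR : ∀ o, lvlQ P Q (j + 1) ≤ Rf o := by
        rintro (_ | R)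
        · exact fun y hy => hQ0 hy
        · exact fun y hy => (hRs R R.2).1 hy
      have hinf : lvlP P Q (j + 1) ⊓ ⨅ o, Rf o = lvlQ P Q (j + 1) := by
        refine le_antisymm (fun y hy => ?_) (le_inf (fun y hy => T.Q_le _ hj hy) (le_iInf hQR))
        rw [mem_subgroupOf, ← hint, Subgroup.mem_inf]
        have h2 := Subgroup.mem_iInf.mp hy.2
        refine ⟨h2 none, Subgroup.mem_sInf.mpr fun R hR => h2 (some ⟨R, hR⟩)⟩
      have h1 := (T.elemSection hj).annih_iInf (F := F) Rf hQR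
      rw [hinf, annih_self] at h1
      have h2 : f ∈ ⨆ o, annih F (lvlP P Q (j + 1)) (lvlQ P Q (j + 1))
          (lvlP P Q (j + 1) ⊓ Rf o) := h1 ▸ Submodule.mem_top
      suffices hsup : (⨆ o, annih F (lvlP P Q (j + 1)) (lvlQ P Q (j + 1))
          (lvlP P Q (j + 1) ⊓ Rf o)) ≤ Ann G0 ⊔ ⨆ R : Rs, Ann R from hsup h2
      refine iSup_le fun o => ?_
      rcases o with _ | R
      · refine le_sup_of_le_left ?_
        rw [inf_eq_right.mpr (show Rf none ≤ lvlP P Q (j + 1) from fun y hy => hG0 hy)]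
        exact le_rfl
      · refine le_sup_of_le_right (le_iSup_of_le R ?_)
        rw [inf_eq_right.mpr
          (show Rf (some R) ≤ lvlP P Q (j + 1) from fun y hy => (hRs R R.2).2.1 hy)]
        exact le_rfl
    have hle : (Ann G0 ⊔ ⨆ R : Rs, Ann R) ≤
        (lvlT F P Q a h (j + 1) ⊔
          Submodule.span F {χ | ρ aH χ = χ ∧ ∃ R ∈ Rs, χ ∈ Ann R}).comap (normEnd ρ aH r) := by
      refine sup_le (fun g hg => Submodule.mem_sup_left ((T.mem_lvlT hj).mpr ⟨hfix g, fun z hz =>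
          T.normEnd_mem_annih hj ha0 hg z (hK0 hz)⟩)) (iSup_le fun R g hg => ?_)
      exact Submodule.mem_sup_right (Submodule.subset_span
        ⟨hfix g, R, R.2, T.normEnd_mem_annih hj (hRs R R.2).2.2 hg⟩)
    have h3 : normEnd ρ aH r f ∈ lvlT F P Q a h (j + 1) ⊔
        Submodule.span F {χ | ρ aH χ = χ ∧ ∃ R ∈ Rs, χ ∈ Ann R} := hle hiota
    have h4 : normEnd ρ aH r f = (r : F) • f := by
      rw [normEnd_apply]
      have hp : ∀ i : ℕ, ρ (aH ^ i) f = f := by
        intro i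
        induction i with
        | zero => rw [pow_zero, map_one, End.one_apply]
        | succ i ih => rw [pow_succ, map_mul, End.mul_apply, (mem_fixSub.mp hf : ρ aH f = f), ih]
      simp only [hp, Finset.sum_const, Finset.card_univ, Fintype.card_fin,
        ← Nat.cast_smul_eq_nsmul F]
    rw [h4] at h3
    exact (Submodule.smul_mem_iff _ hrF).mp h3
  · rintro χ ⟨hχa, R, hR, hχR⟩ y hy hmv
    have hyP : (y : Γ) ∈ P j := mem_subgroupOf.mp hy
    rcases hmove R hR y hyP with h1 | h1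
    · refine (T.mem_lvlT hj).mpr ⟨hfix _, fun z hz => ?_⟩
      rw [normEnd_apply, AddSubmonoidClass.coe_finsetSum, Finset.sum_apply]
      refine Finset.sum_eq_zero fun i _ => ?_
      rw [← End.mul_apply, ← map_mul, dualRep_apply]
      refine hχR _ (mem_subgroupOf.mpr ?_)
      have hza : Commute a ((z : ↥H) : Γ) :=
        (mem_fixPart.mp (T.kerAt_le_fix hj hz)).2
      have := h1 _ hz
      simp only [mul_inv_rev, Subgroup.coe_mul, InvMemClass.coe_inv, SubgroupClass.coe_pow,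
        haH]
      rwa [show (y : Γ)⁻¹ * (a ^ (i : ℕ))⁻¹ * ((z : ↥H) : Γ) * (a ^ (i : ℕ) * (y : Γ)) =
        (y : Γ)⁻¹ * ((z : ↥H) : Γ) * (y : Γ) by
          rw [show (y : Γ)⁻¹ * (a ^ (i : ℕ))⁻¹ * ((z : ↥H) : Γ) * (a ^ (i : ℕ) * (y : Γ)) =
            (y : Γ)⁻¹ * ((a ^ (i : ℕ))⁻¹ * (((z : ↥H) : Γ) * a ^ (i : ℕ))) * (y : Γ) by group,
            (hza.symm.pow_right _).eq, inv_mul_cancel_left]]
    · refine absurd ?_ hmv
      set g : ↥H := y⁻¹ * (aH * y * aH⁻¹) with hg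
      have hgfix : ρ g χ = χ := by
        refine mem_fixSub.mp ((((T.elemSection hj).annih_le_fixSub
          (fun x hx => (hRs R hR).1 hx) (fun x hx => (hRs R hR).2.1 hx) g).mpr fun x hx => ?_) hχR)
        have := h1 (x : Γ) (mem_subgroupOf.mp hx)
        simpa [mem_subgroupOf, hg, haH, commutatorElement_def] using this
      rw [← End.mul_apply, ← map_mul, show aH * y = y * g * aH by rw [hg]; group, map_mul,
        End.mul_apply, hχa, map_mul, End.mul_apply, hgfix]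

/-- The elements of the kernel fix the good components. -/
theorem Tower.kerAt_fix (hCore : StmtCore.{u}) (T : Tower G a r h P Q p) (hr : r.Prime)
    (har : a ^ r = 1) {j : ℕ} (hj : j + 1 < h) [IsAlgClosed F] [CharP F (p (j + 1))]
    (hB : BadData P Q a h j) :
    ∀ S, Good (lvlRep F P Q (j + 1)) ((P j).subgroupOf (lvlGroup P Q (j + 1)))
        ⟨a, T.a_mem_lvlGroup hj⟩ S →
      (kerAt P Q a h j).subgroupOf (lvlGroup P Q (j + 1)) ≤ fixer (lvlRep F P Q (j + 1)) S := by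
  obtain ⟨Ω, hT⟩ := T.hypT (F := F) hr har hj hB
  intro S hS x hx
  rw [mem_subgroupOf, kerAt_eq hj, mem_moverKer] at hx
  intro v hv
  exact hCore F _ _ _ (p j) r _ _ _ Ω (T.layer hr har hj) hT x
    (mem_subgroupOf.mpr (mem_fixPart.mp hx.1).1) (Subtype.ext (mem_fixPart.mp hx.1).2)
    ((T.lvlT_le_fixSub hj x).mpr hx.2.2) S hS hv

end CfsgLib.TurullFit
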