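import Cfsg.Agent.Lib.FgsB.FixedPointHeight

/-!
# Turull's bound for the Fitting height: towers

A tower of height `h` for `a` in a solvable normal subgroup `G`: `P j` for `j < h` are subgroups of
prime power order, each normalised by `a` and by the earlier ones, each acting nontrivially on the
next modulo `Q`, and minimal with this property.
-/

set_option autoImplicit false

open scoped commutatorElement

namespace CfsgLib.TurullFit

universe u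

variable {Γ : Type u} [Group Γ]

/-- `x` acts trivially on `P (j + 1)` modulo `Q (j + 1)`. -/
def InKer (P Q : ℕ → Subgroup Γ) (j : ℕ) (x : Γ) : Prop :=
  ∀ d ∈ P (j + 1), ⁅x, d⁆ ∈ Q (j + 1)

/-- A tower of height `h`. -/
structure Tower (G : Subgroup Γ) (a : Γ) (r h : ℕ) (P Q : ℕ → Subgroup Γ) (p : ℕ → ℕ) : Prop where
  prime : ∀ j, j < h → (p j).Prime
  ne_r : ∀ j, j < h → p j ≠ r
  isPGroup : ∀ j, j < h → IsPGroup (p j) (P j)
  le : ∀ j, j < h → P j ≤ G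
  Q_le : ∀ j, j < h → Q j ≤ P j
  ne : ∀ j, j < h → ¬ P j ≤ Q j
  a_norm : ∀ j, j < h → a ∈ Subgroup.normalizer (P j : Set Γ)
  a_normQ : ∀ j, j < h → a ∈ Subgroup.normalizer (Q j : Set Γ)
  norm : ∀ i j, i ≤ j → j < h → P i ≤ Subgroup.normalizer (P j : Set Γ)
  normQ : ∀ i j, i ≤ j → j < h → P i ≤ Subgroup.normalizer (Q j : Set Γ)
  pow : ∀ j, j < h → ∀ x ∈ P j, x ^ p j ∈ Q j
  comm : ∀ j, j < h → ∀ x ∈ P j, ∀ y ∈ P j, ⁅x, y⁆ ∈ Q j
  p_ne : ∀ j, j + 1 < h → p j ≠ p (j + 1)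
  ker_le : ∀ j, j + 1 < h → ∀ x ∈ P j, InKer P Q j x → x ∈ Q j
  cent : ∀ j, j + 1 < h → ∀ x ∈ Q j, ∀ y ∈ P j, InKer P Q j ⁅x, y⁆
  spec : ∀ j, j + 1 < h → (∀ x ∈ Q j, InKer P Q j x) ∨
    ∀ x ∈ P j, (∀ y ∈ P j, InKer P Q j ⁅x, y⁆) → x ∈ Q j
  irred : ∀ j, j < h → ∀ U : Subgroup Γ, Q j ≤ U → U ≤ P j →
    a ∈ Subgroup.normalizer (U : Set Γ) →
    (∀ i, i < j → P i ≤ Subgroup.normalizer (U : Set Γ)) → U = Q j ∨ U = P j
  minimal : ∀ j, j + 1 < h → ∀ U : Subgroup Γ, U ≤ P j →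
    a ∈ Subgroup.normalizer (U : Set Γ) →
    (∀ i, i < j → P i ≤ Subgroup.normalizer (U : Set Γ)) → U ≤ Q j ∨ U = P j

/-- A solvable group with nontrivial iterated residual has a tower. -/
def StmtTower : Prop :=
  ∀ (Γ : Type u) [Group Γ] [Finite Γ] (G : Subgroup Γ) (a : Γ) (r h : ℕ),
    G.Normal → Group.IsSolvable G → r.Prime → a ^ r = 1 → ¬ r ∣ Nat.card G →
    CfsgLib.FgsB.FixedPointHeight.res G h ≠ ⊥ →
    ∃ (P Q : ℕ → Subgroup Γ) (p : ℕ → ℕ), Tower G a r (h + 1) P Q p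

end CfsgLib.TurullFit
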