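import Cfsg.Agent.Lib.TurullFit.TowerPart
import Cfsg.Agent.Lib.PGroups.MinimalAction

/-!
# One layer of a tower: a minimal section inside a primary part
-/

set_option autoImplicit false
set_option linter.style.haveILetI false
set_option linter.unusedSectionVars false
set_option linter.unusedVariables false

open scoped commutatorElement

namespace CfsgLib.TurullFit

universe u

variable {Γ : Type u} [Group Γ] [Finite Γ]

/-- A section `P / Q` of `D` above `C`, irreducible for `B`. -/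
structure LayerPair (B D C : Subgroup Γ) (p : ℕ) (P Q : Subgroup Γ) : Prop where
  le : P ≤ D
  Q_le : Q ≤ P
  not_le : ¬ P ≤ Q
  B_norm : B ≤ Subgroup.normalizer (P : Set Γ)
  B_normQ : B ≤ Subgroup.normalizer (Q : Set Γ)
  self_normQ : P ≤ Subgroup.normalizer (Q : Set Γ)
  inf_le : P ⊓ C ≤ Q
  pow : ∀ x ∈ P, x ^ p ∈ Q
  comm : ∀ x ∈ P, ∀ y ∈ P, ⁅x, y⁆ ∈ Q
  cent : ∀ x ∈ Q, ∀ y ∈ P, ⁅x, y⁆ ∈ C
  spec : Q ≤ C ∨ ∀ x ∈ P, (∀ y ∈ P, ⁅x, y⁆ ∈ C) → x ∈ Q
  irred : ∀ U : Subgroup Γ, Q ≤ U → U ≤ P → B ≤ Subgroup.normalizer (U : Set Γ) → U = Q ∨ U = P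
  gen : ∀ U : Subgroup Γ, U ≤ P → P ≤ U ⊔ Q → P ≤ U ⊔ (P ⊓ C)

section Quot

variable {M N : Subgroup Γ}

/-- The image of a subgroup in `M / N`. -/
def sect (M N : Subgroup Γ) [(N.subgroupOf M).Normal] (H : Subgroup Γ) :
    Subgroup (M ⧸ N.subgroupOf M) :=
  (H.subgroupOf M).map (QuotientGroup.mk' (N.subgroupOf M))

/-- The preimage in `Γ` of a subgroup of `M / N`. -/
def lift' (M N : Subgroup Γ) [(N.subgroupOf M).Normal] (U : Subgroup (M ⧸ N.subgroupOf M)) :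
    Subgroup Γ :=
  (U.comap (QuotientGroup.mk' (N.subgroupOf M))).map M.subtype

variable [(N.subgroupOf M).Normal]

theorem mem_lift' {U : Subgroup (M ⧸ N.subgroupOf M)} {x : Γ} :
    x ∈ lift' M N U ↔ ∃ h : x ∈ M, QuotientGroup.mk' (N.subgroupOf M) ⟨x, h⟩ ∈ U := by
  constructor
  · rintro ⟨⟨y, hy⟩, hu, rfl⟩
    exact ⟨hy, hu⟩
  · rintro ⟨h, hu⟩
    exact ⟨⟨x, h⟩, hu, rfl⟩

theorem sect_mono {H H' : Subgroup Γ} (h : H ≤ H') : sect M N H ≤ sect M N H' :=
  Subgroup.map_mono fun _ hx => h hx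

theorem lift'_mono {U U' : Subgroup (M ⧸ N.subgroupOf M)} (h : U ≤ U') :
    lift' M N U ≤ lift' M N U' :=
  Subgroup.map_mono (Subgroup.comap_mono h)

theorem le_lift' (hN : N ≤ M) (U : Subgroup (M ⧸ N.subgroupOf M)) : N ≤ lift' M N U := fun x hx =>
  mem_lift'.2 ⟨hN hx, by
    have : QuotientGroup.mk' (N.subgroupOf M) ⟨x, hN hx⟩ = 1 :=
      (QuotientGroup.eq_one_iff _).2 hx
    rw [this]; exact U.one_mem⟩

theorem lift'_sect {H : Subgroup Γ} (hH : H ≤ M) (hN : N ≤ M) :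
    lift' M N (sect M N H) = H ⊔ N := by
  rw [lift', sect, Subgroup.comap_map_eq, QuotientGroup.ker_mk', Subgroup.map_sup,
    Subgroup.map_subgroupOf_eq_of_le hH, Subgroup.map_subgroupOf_eq_of_le hN]

theorem sect_lift' (U : Subgroup (M ⧸ N.subgroupOf M)) : sect M N (lift' M N U) = U := by
  show ((((U.comap (QuotientGroup.mk' (N.subgroupOf M))).map M.subtype).comap M.subtype)).map
    (QuotientGroup.mk' (N.subgroupOf M)) = U
  rw [Subgroup.comap_map_eq_self_of_injective M.subtype_injective,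
    Subgroup.map_comap_eq_self_of_surjective (QuotientGroup.mk'_surjective _)]

theorem mem_normalizer_sect {g : Γ} (hgM : g ∈ M) {H : Subgroup Γ}
    (hg : g ∈ Subgroup.normalizer (H : Set Γ)) :
    QuotientGroup.mk' (N.subgroupOf M) ⟨g, hgM⟩ ∈ Subgroup.normalizer (sect M N H : Set _) := by
  refine mem_normalizer_of_conj_mem ?_
  rintro _ ⟨⟨y, hy⟩, hyH, rfl⟩
  refine ⟨⟨g, hgM⟩ * ⟨y, hy⟩ * ⟨g, hgM⟩⁻¹, conj_mem_of_mem_normalizer hg hyH, ?_⟩
  simp only [map_mul, map_inv]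

theorem mem_normalizer_lift' {g : Γ} (hgM : g ∈ M) {U : Subgroup (M ⧸ N.subgroupOf M)}
    (hg : QuotientGroup.mk' (N.subgroupOf M) ⟨g, hgM⟩ ∈ Subgroup.normalizer (U : Set _)) :
    g ∈ Subgroup.normalizer (lift' M N U : Set Γ) := by
  refine mem_normalizer_of_conj_mem fun x hx => ?_
  obtain ⟨hxM, hxU⟩ := mem_lift'.1 hx
  refine mem_lift'.2 ⟨mul_mem (mul_mem hgM hxM) (inv_mem hgM), ?_⟩
  have h := conj_mem_of_mem_normalizer hg hxU
  rwa [← map_inv, ← map_mul, ← map_mul] at h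

theorem mem_sect_iff {H : Subgroup Γ} (hH : H ≤ M) (hNH : N ≤ H) {x : M} :
    QuotientGroup.mk' (N.subgroupOf M) x ∈ sect M N H ↔ (x : Γ) ∈ H := by
  refine ⟨fun h => ?_, fun h => ⟨x, h, rfl⟩⟩
  have h1 : (x : Γ) ∈ lift' M N (sect M N H) := mem_lift'.2 ⟨x.2, h⟩
  rwa [lift'_sect hH (hNH.trans hH), sup_eq_left.2 hNH] at h1

end Quot

variable {p : ℕ} [Fact p.Prime]

/-- A minimal invariant subgroup moved by `A` gives a layer. -/
theorem exists_layerPair {B A D C : Subgroup Γ} (hD : IsPGroup p D) (hC : C ≤ D)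
    (hAB : A ≤ B) (hBA : B ≤ Subgroup.normalizer (A : Set Γ))
    (hBD : B ≤ Subgroup.normalizer (D : Set Γ)) (hBC : B ≤ Subgroup.normalizer (C : Set Γ))
    (hDC : D ≤ Subgroup.normalizer (C : Set Γ)) (hA : (Nat.card A).Coprime p)
    (hnt : ¬ ⁅D, A⁆ ≤ C) :
    ∃ P Q, LayerPair B D C p P Q ∧ ¬ ⁅P, A⁆ ≤ Q := by
  classical
  obtain ⟨P, ⟨hPD, hBP, hPA⟩, hminP⟩ := (Set.toFinite
    {U : Subgroup Γ | U ≤ D ∧ B ≤ Subgroup.normalizer (U : Set Γ) ∧ ¬ ⁅U, A⁆ ≤ C}).exists_minimal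
    ⟨D, le_rfl, hBD, hnt⟩
  set N := P ⊓ C with hNdef
  set M := Subgroup.normalizer (P : Set Γ) ⊓ Subgroup.normalizer (N : Set Γ) with hMdef
  have hBM : B ≤ M := fun g hg => ⟨hBP hg, mem_normalizer_inf (hBP hg) (hBC hg)⟩
  have hPM : P ≤ M := fun g hg => ⟨Subgroup.le_normalizer hg,
    mem_normalizer_inf (Subgroup.le_normalizer hg) (hDC (hPD hg))⟩
  have hNP : N ≤ P := inf_le_left
  haveI hNn : (N.subgroupOf M).Normal :=
    Subgroup.normal_subgroupOf_of_le_normalizer inf_le_right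
  set P' := sect M N P with hP'
  set A' := sect M N A with hA'
  set B' := sect M N B with hB'
  have hP'p : IsPGroup p P' :=
    ((hD.to_le hPD).comap_of_injective M.subtype M.subtype_injective).map _
  have hB'P : B' ≤ Subgroup.normalizer (P' : Set _) := by
    rintro _ ⟨⟨g, hg⟩, hgB, rfl⟩
    exact mem_normalizer_sect hg (hBP hgB)
  have hB'A : B' ≤ Subgroup.normalizer (A' : Set _) := by
    rintro _ ⟨⟨g, hg⟩, hgB, rfl⟩
    exact mem_normalizer_sect hg (hBA hgB)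
  have hA'p : (Nat.card A').Coprime p := by
    refine hA.coprime_dvd_left ((Subgroup.card_map_dvd _ _).trans ?_)
    rw [CfsgLib.Base.card_subgroupOf (hAB.trans hBM)]
  -- commutators
  have hcomm : ∀ U : Subgroup Γ, U ≤ P → (⁅sect M N U, A'⁆ = ⊥ ↔ ⁅U, A⁆ ≤ C) := by
    intro U hU
    rw [hA', sect, sect, ← Subgroup.map_commutator, Subgroup.map_eq_bot_iff,
      QuotientGroup.ker_mk']
    have hm : (⁅U.subgroupOf M, A.subgroupOf M⁆).map M.subtype = ⁅U, A⁆ := by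
      rw [Subgroup.map_commutator, Subgroup.map_subgroupOf_eq_of_le (hU.trans hPM),
        Subgroup.map_subgroupOf_eq_of_le (hAB.trans hBM)]
    have hUP : ⁅U, A⁆ ≤ P := (Subgroup.commutator_mono hU le_rfl).trans
      (CfsgLib.Coprime.commutator_le_of_le_normalizer (hAB.trans hBP))
    constructor
    · intro h
      rw [← hm]
      exact ((Subgroup.map_mono h).trans (Subgroup.map_subgroupOf_eq_of_le
        (hNP.trans hPM)).le).trans inf_le_right
    · intro h x hx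
      show (x : Γ) ∈ N
      have hx' : (x : Γ) ∈ ⁅U, A⁆ := hm ▸ Subgroup.mem_map_of_mem _ hx
      exact ⟨hUP hx', h hx'⟩
  have hnt' : ⁅P', A'⁆ ≠ ⊥ := fun h => hPA ((hcomm P le_rfl).1 h)
  have hliftP : ∀ U ≤ P', lift' M N U ≤ P := fun U hU => by
    refine (lift'_mono hU).trans (le_of_eq ?_)
    rw [hP', lift'_sect hPM (hNP.trans hPM), sup_eq_left.2 hNP]
  have hnormLift : ∀ U : Subgroup (M ⧸ N.subgroupOf M), B' ≤ Subgroup.normalizer (U : Set _) →
      B ≤ Subgroup.normalizer (lift' M N U : Set Γ) := fun U hU g hg =>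
    mem_normalizer_lift' (hBM hg) (hU ⟨⟨g, hBM hg⟩, hg, rfl⟩)
  have hmin' : ∀ U, U < P' → B' ≤ Subgroup.normalizer (U : Set _) → ⁅U, A'⁆ = ⊥ := by
    intro U hU hBU
    rw [← sect_lift' (M := M) (N := N) U, hcomm _ (hliftP U hU.le)]
    by_contra hn
    have := hminP ⟨(hliftP U hU.le).trans hPD, hnormLift U hBU, hn⟩ (hliftP U hU.le)
    refine hU.not_ge ?_
    rw [← sect_lift' (M := M) (N := N) U]
    exact sect_mono this
  obtain ⟨hPA', hES, hirr, -⟩ :=
    CfsgLib.PGroups.minimal_action B' A' P' hP'p hB'P (sect_mono hAB) hB'A hA'p hnt' hmin'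
  set Φ := (frattini ↥P').map P'.subtype with hΦ
  set Q := lift' M N Φ with hQ
  have hΦP : Φ ≤ P' := Subgroup.map_subtype_le _
  have hQP : Q ≤ P := hliftP Φ hΦP
  have hNQ : N ≤ Q := le_lift' (hNP.trans hPM) Φ
  have hB'Φ : B' ≤ Subgroup.normalizer (Φ : Set _) :=
    hB'P.trans (CfsgLib.Base.normalizer_le_normalizer_map_subtype P' _)
  have hBQ : B ≤ Subgroup.normalizer (Q : Set Γ) := hnormLift Φ hB'Φ
  haveI : Nontrivial P' := (Subgroup.nontrivial_iff_ne_bot P').2 fun h => hnt' (by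
    rw [h, Subgroup.commutator_bot_left])
  have hΦne : ¬ P' ≤ Φ := fun h => CfsgLib.PGroups.frattini_ne_top (G := P') (by
    rw [eq_top_iff]
    intro x _
    obtain ⟨y, hy, hyx⟩ := h x.2
    rwa [← show y = x from Subtype.ext hyx])
  have hmemΦ : ∀ (x : Γ) (hx : x ∈ P),
      x ∈ Q ↔ (⟨QuotientGroup.mk' (N.subgroupOf M) ⟨x, hPM hx⟩,
        ⟨⟨x, hPM hx⟩, hx, rfl⟩⟩ : P') ∈ frattini P' := by
    intro x hx
    rw [hQ, mem_lift']
    constructor
    · rintro ⟨h, y, hy, hyx⟩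
      refine (congrArg (· ∈ frattini P') (Subtype.ext ?_ : y = _)).mp hy
      exact hyx
    · intro h
      exact ⟨hPM hx, _, h, rfl⟩
  refine ⟨P, Q, ⟨hPD, hQP, fun h => hΦne ?_, hBP, hBQ, fun g hg => ?_, hNQ, fun x hx => ?_,
    fun x hx y hy => ?_, fun x hx y hy => ?_, ?_, fun U hQU hUP hBU => ?_,
    fun U hUP hU => ?_⟩, fun h => ?_⟩
  · calc P' ≤ sect M N Q := sect_mono h
      _ = Φ := sect_lift' Φ
  · refine mem_normalizer_lift' (hPM hg) ?_
    exact CfsgLib.Base.normalizer_le_normalizer_map_subtype P' _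
      (Subgroup.le_normalizer (⟨⟨g, hPM hg⟩, hg, rfl⟩ : _ ∈ P'))
  · rw [hmemΦ _ (P.pow_mem hx p)]
    convert CfsgLib.PGroups.pow_mem_frattini hP'p
      (⟨QuotientGroup.mk' (N.subgroupOf M) ⟨x, hPM hx⟩, ⟨⟨x, hPM hx⟩, hx, rfl⟩⟩ : P') using 1
    exact Subtype.ext rfl
  · have hxy : ⁅x, y⁆ ∈ P := by
      rw [commutatorElement_def]
      exact P.mul_mem (P.mul_mem (P.mul_mem hx hy) (P.inv_mem hx)) (P.inv_mem hy)
    rw [hmemΦ _ hxy]
    refine (Eq.mpr ?_ (CfsgLib.PGroups.commutator_le_frattini hP'p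
      (Subgroup.commutator_mem_commutator
        (Subgroup.mem_top (⟨QuotientGroup.mk' (N.subgroupOf M) ⟨x, hPM hx⟩,
          ⟨⟨x, hPM hx⟩, hx, rfl⟩⟩ : P'))
        (Subgroup.mem_top (⟨QuotientGroup.mk' (N.subgroupOf M) ⟨y, hPM hy⟩,
          ⟨⟨y, hPM hy⟩, hy, rfl⟩⟩ : P')))))
    rfl
  · -- the Frattini subgroup is central
    have hx' := (hmemΦ x (hQP hx)).1 hx
    have hxy : ⁅x, y⁆ ∈ P := by
      rw [commutatorElement_def]
      exact P.mul_mem (P.mul_mem (P.mul_mem (hQP hx) hy) (P.inv_mem (hQP hx))) (P.inv_mem hy)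
    set x' : P' := ⟨QuotientGroup.mk' (N.subgroupOf M) ⟨x, hPM (hQP hx)⟩,
      ⟨⟨x, hPM (hQP hx)⟩, hQP hx, rfl⟩⟩
    set y' : P' := ⟨QuotientGroup.mk' (N.subgroupOf M) ⟨y, hPM hy⟩, ⟨⟨y, hPM hy⟩, hy, rfl⟩⟩
    have h1 : ⁅x', y'⁆ = 1 := by
      rw [commutatorElement_eq_one_iff_mul_comm]
      rcases hES with hE | hS
      · exact hE.1.is_comm.comm x' y'
      · exact (Subgroup.mem_center_iff.1 (hS.2.1 ▸ hx') y').symm
    have h2 : QuotientGroup.mk' (N.subgroupOf M) ⟨⁅x, y⁆, hPM hxy⟩ = 1 :=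
      congrArg Subtype.val h1
    exact ((QuotientGroup.eq_one_iff (N := N.subgroupOf M) _).1 h2 :
      (⟨⁅x, y⁆, hPM hxy⟩ : M) ∈ N.subgroupOf M).2
  · rcases hES with hE | hS
    · left
      intro x hx
      haveI := hE.1
      have hb : frattini P' ≤ ⊥ := CfsgLib.PGroups.frattini_le_of_elementary_quotient
        (p := p) (N := ⊥) (by
          rw [commutator_def, Subgroup.commutator_le]
          intro g _ g' _
          rw [Subgroup.mem_bot, commutatorElement_eq_one_iff_mul_comm]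
          exact mul_comm' g g')
        fun g => Subgroup.mem_bot.2 (Subtype.ext (hE.2 (g : _) g.2))
      have h1 := congrArg Subtype.val (Subgroup.mem_bot.1 (hb ((hmemΦ x (hQP hx)).1 hx)))
      exact ((QuotientGroup.eq_one_iff (N := N.subgroupOf M) _).1 h1 :
        (⟨x, hPM (hQP hx)⟩ : M) ∈ N.subgroupOf M).2
    · right
      intro x hx hc
      rw [hmemΦ x hx, hS.2.1, Subgroup.mem_center_iff]
      rintro ⟨_, ⟨y, hy⟩, hyP, rfl⟩
      refine Subtype.ext ?_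
      show QuotientGroup.mk' (N.subgroupOf M) ⟨y, hy⟩ *
          QuotientGroup.mk' (N.subgroupOf M) ⟨x, hPM hx⟩ =
        QuotientGroup.mk' (N.subgroupOf M) ⟨x, hPM hx⟩ *
          QuotientGroup.mk' (N.subgroupOf M) ⟨y, hy⟩
      refine (commutatorElement_eq_one_iff_mul_comm.1 ?_).symm
      rw [← map_commutatorElement]
      refine (QuotientGroup.eq_one_iff _).2 (?_ : ⁅x, y⁆ ∈ N)
      exact ⟨by
        rw [commutatorElement_def]
        exact P.mul_mem (P.mul_mem (P.mul_mem hx hyP) (P.inv_mem hx)) (P.inv_mem hyP), hc y hyP⟩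
  · have hUM : U ≤ M := hUP.trans hPM
    rcases hirr (sect M N U) ((sect_lift' Φ).ge.trans (sect_mono hQU)) (sect_mono hUP) (by
      rintro _ ⟨⟨g, hg⟩, hgB, rfl⟩
      exact mem_normalizer_sect hg (hBU hgB)) with h | h
    · left
      rw [hQ, ← h, lift'_sect hUM (hNP.trans hPM), sup_eq_left.2 (hNQ.trans hQU)]
    · right
      have h' := congrArg (lift' M N) h
      rwa [hP', lift'_sect hUM (hNP.trans hPM), lift'_sect hPM (hNP.trans hPM),
        sup_eq_left.2 (hNQ.trans hQU), sup_eq_left.2 hNP] at h'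
  · have h1 : P' ≤ sect M N U ⊔ Φ := by
      refine (sect_mono hU).trans (le_of_eq ?_)
      rw [sect, Subgroup.subgroupOf_sup (hUP.trans hPM) (hQP.trans hPM), Subgroup.map_sup]
      exact congrArg (fun t => sect M N U ⊔ t) (sect_lift' Φ)
    have hUP' : sect M N U ≤ P' := sect_mono hUP
    have h2 : (sect M N U).subgroupOf P' = ⊤ := by
      refine frattini_nongenerating ?_
      rw [eq_top_iff]
      have h3 : ((sect M N U).subgroupOf P' ⊔ frattini P').map P'.subtype =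
          sect M N U ⊔ Φ := by
        rw [Subgroup.map_sup, Subgroup.map_subgroupOf_eq_of_le hUP']
      intro x _
      obtain ⟨y, hy, hyx⟩ := h3.ge (h1 x.2)
      rwa [← show y = x from Subtype.ext hyx]
    have h4 := lift'_mono (M := M) (N := N) (Subgroup.subgroupOf_eq_top.1 h2)
    rwa [hP', lift'_sect hPM (hNP.trans hPM), sup_eq_left.2 hNP,
      lift'_sect (hUP.trans hPM) (hNP.trans hPM)] at h4
  · refine hΦne ?_
    rw [← hPA', hA', hP']
    have : sect M N ⁅P, A⁆ ≤ Φ := (sect_mono h).trans (sect_lift' Φ).le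
    refine le_trans (le_of_eq ?_) this
    rw [sect, sect, sect, ← Subgroup.map_commutator]
    congr 1
    apply Subgroup.map_injective M.subtype_injective
    rw [Subgroup.map_commutator, Subgroup.map_subgroupOf_eq_of_le hPM,
      Subgroup.map_subgroupOf_eq_of_le (hAB.trans hBM),
      Subgroup.map_subgroupOf_eq_of_le ((CfsgLib.Coprime.commutator_le_of_le_normalizer
        (hAB.trans hBP)).trans hPM)]

/-- The bottom layer: a minimal invariant subgroup outside `C`. -/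
theorem exists_layerPair_bottom {B D C : Subgroup Γ} (hD : IsPGroup p D) (hC : C ≤ D)
    (hBD : B ≤ Subgroup.normalizer (D : Set Γ)) (hBC : B ≤ Subgroup.normalizer (C : Set Γ))
    (hDC : D ≤ Subgroup.normalizer (C : Set Γ)) (hne : ¬ D ≤ C) :
    ∃ P Q, LayerPair B D C p P Q := by
  classical
  obtain ⟨P, ⟨hPD, hBP, hPC⟩, hminP⟩ := (Set.toFinite
    {U : Subgroup Γ | U ≤ D ∧ B ≤ Subgroup.normalizer (U : Set Γ) ∧ ¬ U ≤ C}).exists_minimal
    ⟨D, le_rfl, hBD, hne⟩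
  haveI : Nontrivial P := (Subgroup.nontrivial_iff_ne_bot P).2 fun h => hPC (h ▸ bot_le)
  have hΦ : (frattini P).map P.subtype ≤ C := by
    by_contra hn
    have h := hminP ⟨(Subgroup.map_subtype_le _).trans hPD,
      hBP.trans (CfsgLib.Base.normalizer_le_normalizer_map_subtype P _), hn⟩
      (Subgroup.map_subtype_le _)
    refine CfsgLib.PGroups.frattini_ne_top (G := P) ?_
    rw [eq_top_iff]
    intro x _
    obtain ⟨y, hy, hyx⟩ := h x.2
    rwa [← show y = x from Subtype.ext hyx]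
  have hPp : IsPGroup p P := hD.to_le hPD
  refine ⟨P, P ⊓ C, hPD, inf_le_left, fun h => hPC (h.trans inf_le_right), hBP,
    fun g hg => mem_normalizer_inf (hBP hg) (hBC hg),
    fun g hg => mem_normalizer_inf (Subgroup.le_normalizer hg) (hDC (hPD hg)), le_rfl,
    fun x hx => ⟨P.pow_mem hx p,
      hΦ ⟨(⟨x, hx⟩ : P) ^ p, CfsgLib.PGroups.pow_mem_frattini hPp _, rfl⟩⟩,
    fun x hx y hy => ⟨(⁅(⟨x, hx⟩ : P), ⟨y, hy⟩⁆ : P).2,
      hΦ ⟨⁅(⟨x, hx⟩ : P), ⟨y, hy⟩⁆, CfsgLib.PGroups.commutator_le_frattini hPp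
        (Subgroup.commutator_mem_commutator (Subgroup.mem_top _) (Subgroup.mem_top _)), rfl⟩⟩,
    fun x hx y hy => ?_, Or.inl inf_le_right, fun U hQU hUP hBU => ?_, fun U _ hU => hU⟩
  · rw [commutatorElement_def, show x * y * x⁻¹ * y⁻¹ = x * (y * x⁻¹ * y⁻¹) by group]
    exact C.mul_mem hx.2 (conj_mem_of_mem_normalizer (hDC (hPD hy)) (C.inv_mem hx.2))
  · by_cases hUC : U ≤ C
    · exact Or.inl (le_antisymm (le_inf hUP hUC) hQU)
    · exact Or.inr (le_antisymm hUP (hminP ⟨hUP.trans hPD, hBU, hUC⟩ hUP))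

end CfsgLib.TurullFit
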