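import Cfsg.Agent.Lib.TurullFit.TowerNorm
import Cfsg.Agent.Lib.TurullFit.TowerLayer
import Cfsg.Agent.Lib.TurullFit.TowerDef

/-!
# Towers relative to the system normalisers, built from the top
-/

set_option autoImplicit false
set_option linter.style.haveILetI false
set_option linter.unusedSectionVars false

open CfsgLib.FgsB.FixedPointHeight
open scoped commutatorElement

namespace CfsgLib.TurullFit

universe u

variable {Γ : Type u} [Group Γ] [Finite Γ]
  {G : Subgroup Γ} {a : Γ} {r : ℕ} {K : Nat.Primes → Subgroup Γ}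

/-- The operators acting on level `k`. -/
def opsAt (G : Subgroup Γ) (K : Nat.Primes → Subgroup Γ) (a : Γ) (k : ℕ) : Subgroup Γ :=
  Subgroup.zpowers a ⊔ ⨆ i : ℕ, ⨆ _ : i < k, Dn G K i

theorem a_mem_opsAt (k : ℕ) : a ∈ opsAt G K a k :=
  (le_sup_left : Subgroup.zpowers a ≤ opsAt G K a k) (Subgroup.mem_zpowers a)

theorem Dn_le_opsAt {i k : ℕ} (h : i < k) : Dn G K i ≤ opsAt G K a k :=
  le_sup_of_le_right (le_iSup₂ (f := fun (j : ℕ) (_ : j < k) => Dn G K j) i h)

theorem opsAt_le {k : ℕ} {H : Subgroup Γ} (ha : a ∈ H) (h : ∀ i, i < k → Dn G K i ≤ H) :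
    opsAt G K a k ≤ H :=
  sup_le (Subgroup.zpowers_le.2 ha) (iSup₂_le h)

/-- One level. -/
structure Lvl (G : Subgroup Γ) (K : Nat.Primes → Subgroup Γ) (a : Γ) (r k : ℕ) (P Q : Subgroup Γ)
    (p : ℕ) : Prop where
  prime : p.Prime
  ne_r : p ≠ r
  isPGroup : IsPGroup p P
  le_Dn : P ≤ Dn G K k
  Q_le : Q ≤ P
  not_le : ¬ P ≤ Q
  B_norm : opsAt G K a k ≤ Subgroup.normalizer (P : Set Γ)
  B_normQ : opsAt G K a k ≤ Subgroup.normalizer (Q : Set Γ)
  self_normQ : P ≤ Subgroup.normalizer (Q : Set Γ)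
  pow : ∀ x ∈ P, x ^ p ∈ Q
  comm : ∀ x ∈ P, ∀ y ∈ P, ⁅x, y⁆ ∈ Q
  irred : ∀ U : Subgroup Γ, Q ≤ U → U ≤ P → opsAt G K a k ≤ Subgroup.normalizer (U : Set Γ) →
    U = Q ∨ U = P
  lay : P ⊓ res G (k + 1) ≤ Q

/-- Two successive levels. -/
structure Link (P Q : ℕ → Subgroup Γ) (p : ℕ → ℕ) (k : ℕ) : Prop where
  p_ne : p k ≠ p (k + 1)
  ker_le : ∀ x ∈ P k, InKer P Q k x → x ∈ Q k
  cent : ∀ x ∈ Q k, ∀ y ∈ P k, InKer P Q k ⁅x, y⁆
  spec : (∀ x ∈ Q k, InKer P Q k x) ∨ ∀ x ∈ P k, (∀ y ∈ P k, InKer P Q k ⁅x, y⁆) → x ∈ Q k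
  gen : ∀ U : Subgroup Γ, U ≤ P k → P k ≤ U ⊔ Q k → ∀ x ∈ P k, ∃ u ∈ U, InKer P Q k (u⁻¹ * x)

/-- The data handed down to level `j`. -/
structure Stage (G : Subgroup Γ) (K : Nat.Primes → Subgroup Γ) (a : Γ) (r j p : ℕ) (C : Subgroup Γ) :
    Prop where
  prime : p.Prime
  ne_r : p ≠ r
  le : C ≤ pp p (Dn G K j)
  ne : ¬ pp p (Dn G K j) ≤ C
  a_norm : a ∈ Subgroup.normalizer (C : Set Γ)
  norm : ∀ i, i ≤ j → Dn G K i ≤ Subgroup.normalizer (C : Set Γ)
  lay : pp p (Dn G K j) ⊓ res G (j + 1) ≤ C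

theorem Stage.pp_norm {j p : ℕ} {C : Subgroup Γ} (s : Stage G K a r j p C) :
    pp p (Dn G K j) ≤ Subgroup.normalizer (C : Set Γ) :=
  (pp_le _ _).trans (s.norm j le_rfl)

theorem Stage.opsAt_norm {j p : ℕ} {C : Subgroup Γ} (s : Stage G K a r j p C) :
    opsAt G K a j ≤ Subgroup.normalizer (C : Set Γ) :=
  opsAt_le s.a_norm fun i hi => s.norm i hi.le

theorem Stage.lvl {j p : ℕ} {C P Q : Subgroup Γ} (s : Stage G K a r j p C) (S : Sys G a r K)
    (L : LayerPair (opsAt G K a j) (pp p (Dn G K j)) C p P Q) : Lvl G K a r j P Q p := by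
  haveI : Fact p.Prime := ⟨s.prime⟩
  exact ⟨s.prime, s.ne_r, (isPGroup_pp (S.nilpotent_Dn j)).to_le L.le, L.le.trans (pp_le _ _),
    L.Q_le, L.not_le, L.B_norm, L.B_normQ, L.self_normQ, L.pow, L.comm, L.irred,
    fun x hx => L.inf_le ⟨hx.1, s.lay ⟨L.le hx.1, hx.2⟩⟩⟩

theorem opsAt_pp_norm (S : Sys G a r K) (p j : ℕ) :
    opsAt G K a j ≤ Subgroup.normalizer (pp p (Dn G K j) : Set Γ) :=
  opsAt_le (normalizer_le_pp (S.a_norm_Dn j)) fun _ hi _ hg =>
    normalizer_le_pp (Dn_le_normalizer hi.le hg)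

/-- Existence of a moving part at the previous level. -/
theorem Stage.not_commutator_le {j p : ℕ} {C : Subgroup Γ} (s : Stage G K a r (j + 1) p C)
    (S : Sys G a r K) : ¬ ⁅pp p (Dn G K (j + 1)), np p (Dn G K j)⁆ ≤ C := by
  intro hcomm
  have hp := s.prime
  haveI : Fact p.Prime := ⟨hp⟩
  set D := Dn G K (j + 1) with hD
  set E := Dn G K j with hE
  set M0 := res G (j + 2) ⊔ np p D ⊔ C with hM0
  have hCD : C ≤ D := s.le.trans (pp_le _ _)
  have hM0le : M0 ≤ res G j := by
    refine sup_le (sup_le (res_antitone G (by omega)) ?_) ?_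
    · exact (np_le _ _).trans ((Dn_le _).trans (res_antitone G (by omega)))
    · exact hCD.trans ((Dn_le _).trans (res_antitone G (by omega)))
  have hnorm : ∀ i, i ≤ j + 1 → Dn G K i ≤ Subgroup.normalizer (M0 : Set Γ) := fun i hi g hg =>
    mem_normalizer_sup (mem_normalizer_sup
      (mem_normalizer_res (Subgroup.le_normalizer (Dn_le_self i hg)) _)
      (normalizer_le_np (Dn_le_normalizer hi hg))) (s.norm i hi hg)
  have hres : res G (j + 2) ≤ Subgroup.normalizer (M0 : Set Γ) :=
    (le_sup_left.trans le_sup_left : res G (j + 2) ≤ M0).trans Subgroup.le_normalizer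
  have hLn : res G j ≤ Subgroup.normalizer (M0 : Set Γ) := by
    refine (S.res_le_sup j).trans (sup_le (hnorm j (by omega)) ?_)
    exact (S.res_le_sup (j + 1)).trans (sup_le (hnorm (j + 1) le_rfl) hres)
  set L := res G j with hL
  haveI : (M0.subgroupOf L).Normal := Subgroup.normal_subgroupOf_of_le_normalizer hLn
  set f := QuotientGroup.mk' (M0.subgroupOf L) with hf
  let img : Subgroup Γ → Subgroup (L ⧸ M0.subgroupOf L) := fun H => (H.subgroupOf L).map f
  -- the `p`-part
  have hppD : pp p D ≤ L := (pp_le _ _).trans ((Dn_le _).trans (res_antitone G (by omega)))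
  have hppE : pp p E ≤ L := (pp_le _ _).trans (Dn_le _)
  have hnpE : np p E ≤ L := (np_le _ _).trans (Dn_le _)
  have hDn : pp p E ≤ Subgroup.normalizer (pp p D : Set Γ) := fun g hg =>
    normalizer_le_pp (Dn_le_normalizer (by omega) (pp_le _ _ hg))
  have hT : IsPGroup p (pp p E ⊔ pp p D : Subgroup Γ) :=
    IsPGroup.to_sup_of_normal_right' (isPGroup_pp (S.nilpotent_Dn j))
      (isPGroup_pp (S.nilpotent_Dn (j + 1))) hDn
  set T := img (pp p E ⊔ pp p D) with hTdef
  set R := img (np p E) with hRdef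
  have hTp : IsPGroup p T := (hT.comap_of_injective L.subtype L.subtype_injective).map _
  have hRn : Group.IsNilpotent R := by
    haveI := S.nilpotent_Dn j
    haveI : Group.IsNilpotent (np p E) := CfsgLib.CNGroups.isNilpotent_of_le (np_le p E)
    haveI : Group.IsNilpotent ((np p E).subgroupOf L) :=
      Group.nilpotent_of_surjective (Subgroup.subgroupOfEquivOfLe hnpE).symm.toMonoidHom
        (Subgroup.subgroupOfEquivOfLe hnpE).symm.surjective
    exact Group.nilpotent_of_surjective (f.subgroupMap _) (f.subgroupMap_surjective _)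
  have hcommute : ∀ x : T, ∀ y : R, Commute (x : L ⧸ M0.subgroupOf L) y := by
    have hcent : T ≤ Subgroup.centralizer (R : Set (L ⧸ M0.subgroupOf L)) := by
      rw [hTdef, show img (pp p E ⊔ pp p D) = img (pp p E) ⊔ img (pp p D) by
        show Subgroup.map f _ = Subgroup.map f _ ⊔ Subgroup.map f _
        rw [← Subgroup.map_sup, Subgroup.subgroupOf_sup hppE hppD]]
      refine sup_le ?_ ?_ <;> rintro _ ⟨x, hx, rfl⟩ <;>
        refine Subgroup.mem_centralizer_iff.2 ?_ <;> rintro _ ⟨y, hy, rfl⟩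
      · rw [← map_mul, ← map_mul]
        exact congrArg f (Subtype.ext (commute_pp_np hp (S.nilpotent_Dn j) hx hy).symm)
      · refine (commutatorElement_eq_one_iff_mul_comm.1 ?_).symm
        rw [← map_commutatorElement]
        refine (QuotientGroup.eq_one_iff _).2 (?_ : ⁅(x : Γ), (y : Γ)⁆ ∈ M0)
        exact (le_sup_right : C ≤ M0) (hcomm (Subgroup.commutator_mem_commutator hx hy))
    exact fun x y => (Subgroup.mem_centralizer_iff.1 (hcent x.2) y y.2).symm
  haveI : Group.IsNilpotent (L ⧸ M0.subgroupOf L) := by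
    haveI := hTp.isNilpotent
    haveI := hRn
    refine Group.nilpotent_of_surjective (T.subtype.noncommCoprod R.subtype hcommute) ?_
    rw [← MonoidHom.range_eq_top]
    refine (MonoidHom.noncommCoprod_range _ _ _).trans ?_
    rw [Subgroup.range_subtype, Subgroup.range_subtype, eq_top_iff]
    intro z _
    obtain ⟨⟨z, hz⟩, rfl⟩ := QuotientGroup.mk'_surjective _ z
    have hsup : L ≤ (pp p E ⊔ pp p D) ⊔ np p E ⊔ M0 := by
      refine (S.res_le_sup j).trans (sup_le ?_ ?_)
      · exact (le_pp_sup_np hp E).trans (sup_le ((le_sup_left.trans le_sup_left).trans le_sup_left)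
          (le_sup_right.trans le_sup_left))
      · refine (S.res_le_sup (j + 1)).trans (sup_le ?_ ?_)
        · exact (le_pp_sup_np hp D).trans (sup_le ((le_sup_right.trans le_sup_left).trans le_sup_left)
            ((le_sup_right.trans le_sup_left).trans le_sup_right))
        · exact (le_sup_left.trans le_sup_left).trans le_sup_right
    have h1 : (⟨z, hz⟩ : L) ∈ ((pp p E ⊔ pp p D) ⊔ np p E ⊔ M0).subgroupOf L := hsup hz
    rw [Subgroup.subgroupOf_sup (sup_le (sup_le hppE hppD) hnpE) hM0le,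
      Subgroup.subgroupOf_sup (sup_le hppE hppD) hnpE] at h1
    have h2 := Subgroup.mem_map_of_mem f h1
    rw [Subgroup.map_sup, Subgroup.map_sup, QuotientGroup.map_mk'_self, sup_bot_eq] at h2
    exact h2
  obtain ⟨n, hn⟩ := Subgroup.nilpotent_iff_lowerCentralSeries.1
    (inferInstance : Group.IsNilpotent (L ⧸ M0.subgroupOf L))
  have hle : L.lowerCentralSeries n ≤ M0 := by
    rw [← Subgroup.top_subtype_lowerCentralSeries]
    rintro _ ⟨x, hx, rfl⟩
    have h := Subgroup.mem_map_of_mem f hx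
    rw [Subgroup.map_lowerCentralSeries, Subgroup.map_top_of_surjective f
      (QuotientGroup.mk'_surjective _), hn, Subgroup.mem_bot] at h
    exact (QuotientGroup.eq_one_iff x).1 h
  refine s.ne fun x hx => ?_
  have hxM : x ∈ (res G (j + 2) ⊔ C) ⊔ np p D := by
    rw [sup_right_comm]
    exact hle (res_succ_le_series G j n (Dn_le _ (pp_le _ _ hx)))
  -- a power prime to `p` lies in `res (j + 2) ⊔ C`
  set W := res G (j + 2) ⊔ C with hW
  have hWn : np p D ≤ Subgroup.normalizer (W : Set Γ) := fun g hg => mem_normalizer_sup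
    (mem_normalizer_res (Subgroup.le_normalizer (Dn_le_self _ (np_le _ _ hg))) _)
    (s.norm (j + 1) le_rfl (np_le _ _ hg))
  rw [sup_comm, ← SetLike.mem_coe, Subgroup.coe_mul_of_left_le_normalizer_right _ _ hWn] at hxM
  obtain ⟨v, hv, w, hw, rfl⟩ := hxM
  set m := Nat.card (np p D) with hm
  have hx' : v * w ∈ pp p D := hx
  have hpow : (v * w) ^ m ∈ W := by
    haveI : (W.subgroupOf (Subgroup.normalizer (W : Set Γ))).Normal :=
      Subgroup.normal_in_normalizer
    have hwn : w ∈ Subgroup.normalizer (W : Set Γ) := Subgroup.le_normalizer hw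
    have h1 : QuotientGroup.mk' (W.subgroupOf (Subgroup.normalizer (W : Set Γ)))
        ((⟨v, hWn hv⟩ * ⟨w, hwn⟩) ^ m) = 1 := by
      rw [map_pow, map_mul, show QuotientGroup.mk' (W.subgroupOf (Subgroup.normalizer (W : Set Γ)))
        ⟨w, hwn⟩ = 1 from (QuotientGroup.eq_one_iff _).2 hw, mul_one, ← map_pow]
      refine (QuotientGroup.eq_one_iff _).2 (?_ : v ^ m ∈ W)
      have : v ^ m = 1 := congrArg Subtype.val (pow_card_eq_one' (x := (⟨v, hv⟩ : np p D)))
      rw [this]
      exact W.one_mem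
    exact ((QuotientGroup.eq_one_iff _).1 h1 :)
  obtain ⟨k, hk⟩ := IsPGroup.iff_orderOf.1 (isPGroup_pp (S.nilpotent_Dn (j + 1))) ⟨v * w, hx'⟩
  rw [Subgroup.orderOf_mk] at hk
  obtain ⟨e, he⟩ := exists_pow_eq_self_of_coprime (n := m) (x := v * w) (by
    rw [hk]
    exact Nat.Coprime.pow_right _ ((Nat.Prime.coprime_iff_not_dvd hp).2
      (not_dvd_card_np hp (S.nilpotent_Dn (j + 1)))).symm)
  have hxW : v * w ∈ W := he ▸ pow_mem hpow e
  -- `res (j + 2)` meets the part inside `C`
  have hWeq : W ≤ C ⊔ res G (j + 2) := sup_comm _ _ |>.le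
  have hCn : C ≤ Subgroup.normalizer (res G (j + 2) : Set Γ) := fun g hg =>
    mem_normalizer_res (Subgroup.le_normalizer (Dn_le_self _ (hCD hg))) _
  have hmem := hWeq hxW
  rw [← SetLike.mem_coe, Subgroup.coe_mul_of_left_le_normalizer_right _ _ hCn] at hmem
  obtain ⟨c, hc, l, hl, hcl⟩ := hmem
  have hlD : l ∈ pp p D := by
    have : l = c⁻¹ * (v * w) := by rw [← show c * l = v * w from hcl]; group
    rw [this]
    exact mul_mem (inv_mem (s.le hc)) hx'
  show v * w ∈ C
  rw [← show c * l = v * w from hcl]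
  exact C.mul_mem hc (s.lay ⟨hlD, hl⟩)

theorem update_rel {n : ℕ} {P : ℕ → Subgroup Γ} {X : Subgroup Γ} {k : ℕ} (h : k ≤ n) :
    Function.update P (n + 1) X k = P k :=
  Function.update_of_ne (by omega) _ _

/-- Downward construction. -/
theorem exists_levels (S : Sys G a r K) : ∀ (j p : ℕ) (C : Subgroup Γ), Stage G K a r j p C →
    ∃ (P Q : ℕ → Subgroup Γ) (pr : ℕ → ℕ), pr j = p ∧
      (∀ k, k ≤ j → Lvl G K a r k (P k) (Q k) (pr k)) ∧ (∀ k, k < j → Link P Q pr k) ∧
      LayerPair (opsAt G K a j) (pp p (Dn G K j)) C p (P j) (Q j) := by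
  intro j
  induction j with
  | zero =>
    intro p C s
    haveI : Fact p.Prime := ⟨s.prime⟩
    obtain ⟨P, Q, L⟩ := exists_layerPair_bottom (isPGroup_pp (S.nilpotent_Dn 0)) s.le
      (opsAt_pp_norm S p 0) s.opsAt_norm s.pp_norm s.ne
    refine ⟨fun _ => P, fun _ => Q, fun _ => p, rfl, fun k hk => ?_,
      fun k hk => absurd hk (Nat.not_lt_zero k), L⟩
    rw [Nat.le_zero.1 hk]
    exact s.lvl S L
  | succ j ih =>
    intro p C s
    haveI : Fact p.Prime := ⟨s.prime⟩
    have hnil := S.nilpotent_Dn j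
    have hA : np p (Dn G K j) ≤ opsAt G K a (j + 1) :=
      (np_le _ _).trans (Dn_le_opsAt (Nat.lt_succ_self j))
    have hBA : opsAt G K a (j + 1) ≤ Subgroup.normalizer (np p (Dn G K j) : Set Γ) :=
      opsAt_le (normalizer_le_np (S.a_norm_Dn j)) fun i hi g hg =>
        normalizer_le_np (Dn_le_normalizer (Nat.lt_succ_iff.1 hi) hg)
    obtain ⟨P₁, Q₁, L, hPA⟩ := exists_layerPair (isPGroup_pp (S.nilpotent_Dn (j + 1))) s.le hA hBA
      (opsAt_pp_norm S p (j + 1)) s.opsAt_norm s.pp_norm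
      ((Nat.Prime.coprime_iff_not_dvd s.prime).2 (not_dvd_card_np s.prime hnil)).symm
      (s.not_commutator_le S)
    have hker : ¬ np p (Dn G K j) ≤ kerS (np p (Dn G K j)) P₁ Q₁ := fun h => hPA (by
      rw [Subgroup.commutator_le]
      intro d hd x hx
      rw [← commutatorElement_inv]
      exact Q₁.inv_mem ((h hx).2.2 d hd))
    obtain ⟨q, hq, hqd, hqK⟩ := exists_pp_not_le hker
    haveI : Fact q.Prime := ⟨hq⟩
    have hqp : q ≠ p := by
      rintro rfl
      exact not_dvd_card_np hq hnil hqd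
    set D₁ := pp q (Dn G K j) with hD₁
    have hsub : pp q (np p (Dn G K j)) ≤ D₁ := (Subgroup.closure_le _).2 fun x hx =>
      mem_pp (np_le _ _ hx.1) hx.2.choose_spec
    set C₁ := kerS D₁ P₁ Q₁ with hC₁
    have hne : ¬ D₁ ≤ C₁ := fun h => hqK fun x hx =>
      ⟨pp_le _ _ hx, (h (hsub hx)).2.1, (h (hsub hx)).2.2⟩
    have hqr : q ≠ r := by
      rintro rfl
      exact S.not_dvd (hqd.trans (Subgroup.card_dvd_of_le ((np_le _ _).trans (Dn_le_self j))))
    have s₁ : Stage G K a r j q C₁ := by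
      refine ⟨hq, hqr, fun x hx => hx.1, hne, normalizer_le_kerS (normalizer_le_pp (S.a_norm_Dn j))
        (L.B_norm (a_mem_opsAt _)) (L.B_normQ (a_mem_opsAt _)), fun i hi g hg =>
          normalizer_le_kerS (normalizer_le_pp (Dn_le_normalizer hi hg))
            (L.B_norm (Dn_le_opsAt (Nat.lt_succ_of_le hi) hg))
            (L.B_normQ (Dn_le_opsAt (Nat.lt_succ_of_le hi) hg)), fun x hx => ⟨hx.1,
              L.B_normQ (Dn_le_opsAt (Nat.lt_succ_self j) (pp_le _ _ hx.1)), fun d hd => ?_⟩⟩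
      haveI : Fact q.Prime := ⟨hq⟩
      obtain ⟨e, he⟩ := IsPGroup.iff_orderOf.1 (isPGroup_pp hnil) ⟨x, hx.1⟩
      rw [Subgroup.orderOf_mk] at he
      have hxn : x ∈ pp q (Dn G K (j + 1)) :=
        mem_pp (Dn_inf_le j ⟨pp_le _ _ hx.1, hx.2⟩) he
      have hxd := commute_pp_np s.prime (S.nilpotent_Dn (j + 1)) (L.le hd)
        (mem_np_of_mem_pp s.prime hq hqp (S.nilpotent_Dn (j + 1)) hxn)
      rw [commutatorElement_eq_one_iff_mul_comm.2 hxd.symm]
      exact Q₁.one_mem
    obtain ⟨P, Q, pr, hpr, hlvl, hlink, L₁⟩ := ih q C₁ s₁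
    refine ⟨Function.update P (j + 1) P₁, Function.update Q (j + 1) Q₁,
      Function.update pr (j + 1) p, Function.update_self _ _ _, fun k hk => ?_, fun k hk => ?_, ?_⟩
    · rcases Nat.lt_or_eq_of_le hk with hk' | rfl
      · rw [update_rel (Nat.lt_succ_iff.1 hk'), update_rel (Nat.lt_succ_iff.1 hk'),
          Function.update_of_ne (Nat.ne_of_lt hk')]
        exact hlvl k (Nat.lt_succ_iff.1 hk')
      · rw [Function.update_self, Function.update_self, Function.update_self]
        exact s.lvl S L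
    · rcases Nat.lt_or_eq_of_le (Nat.lt_succ_iff.1 hk) with hk' | rfl
      · obtain ⟨h1, h2, h3, h4, h5⟩ := hlink k hk'
        constructor
        · rwa [Function.update_of_ne (by omega), Function.update_of_ne (by omega)]
        all_goals
          simp only [InKer, update_rel (n := j) (show k ≤ j by omega),
            update_rel (n := j) (show k + 1 ≤ j by omega)]
        exacts [h2, h3, h4, h5]
      · have hmemC : ∀ x, x ∈ C₁ → InKer (Function.update P (k + 1) P₁)
            (Function.update Q (k + 1) Q₁) k x := fun x hx d hd => by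
          rw [Function.update_self] at hd ⊢
          exact hx.2.2 d hd
        have hofker : ∀ x ∈ P k, InKer (Function.update P (k + 1) P₁)
            (Function.update Q (k + 1) Q₁) k x → x ∈ C₁ := fun x hx h => ⟨L₁.le hx,
          L.B_normQ (Dn_le_opsAt (Nat.lt_succ_self k) (pp_le _ _ (L₁.le hx))), fun d hd => by
            have := h d (by rwa [Function.update_self])
            rwa [Function.update_self] at this⟩
        refine ⟨?_, ?_, ?_, ?_, ?_⟩
        · rw [Function.update_of_ne (Nat.ne_of_lt (Nat.lt_succ_self k)), Function.update_self, hpr]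
          exact hqp
        all_goals rw [update_rel le_rfl]
        · intro x hx h
          rw [update_rel le_rfl]
          exact L₁.inf_le ⟨hx, hofker x hx h⟩
        · rw [update_rel le_rfl]
          exact fun x hx y hy => hmemC _ (L₁.cent x hx y hy)
        · rw [update_rel le_rfl]
          refine L₁.spec.imp (fun h x hx => hmemC x (h hx)) fun h x hx hc =>
            h x hx fun y hy => hofker _ ?_ (hc y hy)
          rw [commutatorElement_def]
          exact (P k).mul_mem ((P k).mul_mem ((P k).mul_mem hx hy) ((P k).inv_mem hx))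
            ((P k).inv_mem hy)
        · rw [update_rel le_rfl]
          intro U hU hUQ x hx
          have h := L₁.gen U hU hUQ hx
          have hUn : U ≤ Subgroup.normalizer ((P k ⊓ C₁ : Subgroup Γ) : Set Γ) := fun g hg =>
            mem_normalizer_inf (Subgroup.le_normalizer (hU hg)) (s₁.pp_norm (L₁.le (hU hg)))
          rw [← SetLike.mem_coe, Subgroup.coe_mul_of_left_le_normalizer_right _ _ hUn] at h
          obtain ⟨u, hu, c, hc, rfl⟩ := h
          refine ⟨u, hu, ?_⟩
          simp only [inv_mul_cancel_left]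
          exact hmemC c hc.2
    · rw [Function.update_self, Function.update_self]
      exact L

/-- The levels of a group whose `h`-th residual is nontrivial. -/
theorem Sys.exists_levels_top (S : Sys G a r K) {h : ℕ} (hh : res G h ≠ ⊥) :
    ∃ (P Q : ℕ → Subgroup Γ) (pr : ℕ → ℕ), (∀ k, k ≤ h → Lvl G K a r k (P k) (Q k) (pr k)) ∧
      ∀ k, k < h → Link P Q pr k := by
  have hne : ¬ Dn G K h ≤ res G (h + 1) := fun hle => S.res_succ_ne hh le_rfl
    (le_antisymm (res_succ_le G h) ((S.res_le_sup h).trans (sup_le hle le_rfl)))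
  obtain ⟨p, hp, hpd, hpne⟩ := exists_pp_not_le hne
  have s : Stage G K a r h p (pp p (Dn G K h) ⊓ res G (h + 1)) :=
    ⟨hp, fun e => S.not_dvd (e ▸ hpd.trans (Subgroup.card_dvd_of_le (Dn_le_self h))), inf_le_left,
      fun hle => hpne (hle.trans inf_le_right),
      mem_normalizer_inf (normalizer_le_pp (S.a_norm_Dn h)) (mem_normalizer_res S.a_norm _),
      fun i hi g hg => mem_normalizer_inf (normalizer_le_pp (Dn_le_normalizer hi hg))
        (mem_normalizer_res (Subgroup.le_normalizer (Dn_le_self i hg)) _), le_rfl⟩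
  obtain ⟨P, Q, pr, -, h1, h2, -⟩ := exists_levels S h p _ s
  exact ⟨P, Q, pr, h1, h2⟩

end CfsgLib.TurullFit
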