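import Cfsg.Agent.Lib.TurullFit.TowerPart
import Cfsg.Agent.Lib.FgsB.FixedPointHeight
import Cfsg.Agent.Lib.SolvStruct.SystemNormalizer4

/-!
# System normalisers of the iterated nilpotent residuals
-/

set_option autoImplicit false
set_option linter.style.haveILetI false
set_option linter.unusedSectionVars false

open CfsgLib.FgsB.FixedPointHeight
open scoped commutatorElement

namespace CfsgLib.TurullFit

universe u

variable {Γ : Type u} [Group Γ] [Finite Γ]

omit [Finite Γ] in
theorem res_antitone (X : Subgroup Γ) {i j : ℕ} (h : i ≤ j) : res X j ≤ res X i := by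
  induction j, h using Nat.le_induction with
  | base => exact le_rfl
  | succ j _ ih => exact (res_succ_le X j).trans ih

theorem mem_normalizer_res {X : Subgroup Γ} {g : Γ} (hg : g ∈ Subgroup.normalizer (X : Set Γ))
    (i : ℕ) : g ∈ Subgroup.normalizer (res X i : Set Γ) :=
  mem_normalizer_of_conj_mem fun _ hx => conj_mem_res hg hx

/-- A solvable group with an operator of coprime prime order, and an invariant complement system. -/
structure Sys (G : Subgroup Γ) (a : Γ) (r : ℕ) (K : Nat.Primes → Subgroup Γ) : Prop where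
  a_norm : a ∈ Subgroup.normalizer (G : Set Γ)
  solvable : Group.IsSolvable G
  prime_r : r.Prime
  pow_r : a ^ r = 1
  not_dvd : ¬ r ∣ Nat.card G
  hall : ∀ p : Nat.Primes, Cfsg.IsPiHallOf ({(p : ℕ)}ᶜ : Set ℕ) (K p) G
  a_normK : ∀ p : Nat.Primes, a ∈ Subgroup.normalizer (K p : Set Γ)

theorem exists_sys {G : Subgroup Γ} {a : Γ} {r : ℕ} (ha : a ∈ Subgroup.normalizer (G : Set Γ))
    (hs : Group.IsSolvable G) (hr : r.Prime) (hpow : a ^ r = 1) (hnd : ¬ r ∣ Nat.card G) :
    ∃ K, Sys G a r K := by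
  haveI := hs
  have hAG : Subgroup.zpowers a ≤ Subgroup.normalizer (G : Set Γ) := Subgroup.zpowers_le.2 ha
  have hcop : (Nat.card (Subgroup.zpowers a)).Coprime (Nat.card G) := by
    rw [Nat.card_zpowers]
    exact ((Nat.Prime.coprime_iff_not_dvd hr).2 hnd).coprime_dvd_left
      (orderOf_dvd_of_pow_eq_one hpow)
  choose K h1 h2 using fun p : Nat.Primes =>
    CfsgLib.Coprime.exists_invariant_piHall hAG hcop (Or.inr hs)
      (CfsgLib.Coprime.hallD_of_solvable (G := G) ({(p : ℕ)}ᶜ : Set ℕ))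
  exact ⟨K, ⟨ha, hs, hr, hpow, hnd, h1, fun p => h2 p (Subgroup.mem_zpowers a)⟩⟩

/-- The system normaliser in the `i`-th residual. -/
def Dn (G : Subgroup Γ) (K : Nat.Primes → Subgroup Γ) (i : ℕ) : Subgroup Γ :=
  res G i ⊓ ⨅ p : Nat.Primes, Subgroup.normalizer ((K p ⊓ res G i : Subgroup Γ) : Set Γ)

variable {G : Subgroup Γ} {a : Γ} {r : ℕ} {K : Nat.Primes → Subgroup Γ}

omit [Finite Γ] in
theorem Dn_le (i : ℕ) : Dn G K i ≤ res G i := inf_le_left

omit [Finite Γ] in
theorem Dn_le_self (i : ℕ) : Dn G K i ≤ G := (Dn_le i).trans (res_le G i)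

theorem mem_normalizer_Dn {g : Γ} {j : ℕ} (hG : g ∈ Subgroup.normalizer (G : Set Γ))
    (hK : ∀ p, g ∈ Subgroup.normalizer ((K p ⊓ res G j : Subgroup Γ) : Set Γ)) :
    g ∈ Subgroup.normalizer (Dn G K j : Set Γ) := by
  refine mem_normalizer_of_conj_mem fun x hx => ⟨conj_mem_res hG hx.1, ?_⟩
  exact (Subgroup.mem_iInf.2 fun p => mul_mem (mul_mem (hK p) (Subgroup.mem_iInf.1 hx.2 p))
    (inv_mem (hK p)))

theorem Sys.a_norm_Dn (S : Sys G a r K) (j : ℕ) : a ∈ Subgroup.normalizer (Dn G K j : Set Γ) :=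
  mem_normalizer_Dn S.a_norm fun p =>
    mem_normalizer_inf (S.a_normK p) (mem_normalizer_res S.a_norm j)

theorem Dn_le_normalizer {i j : ℕ} (hij : i ≤ j) :
    Dn G K i ≤ Subgroup.normalizer (Dn G K j : Set Γ) := by
  intro g hg
  have hG : g ∈ Subgroup.normalizer (G : Set Γ) := Subgroup.le_normalizer (res_le G i hg.1)
  refine mem_normalizer_Dn hG fun p => ?_
  have h := mem_normalizer_inf (Subgroup.mem_iInf.1 hg.2 p) (mem_normalizer_res hG j)
  rwa [inf_assoc, inf_eq_right.2 (res_antitone G hij)] at h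

theorem Dn_inf_le (i : ℕ) : Dn G K i ⊓ res G (i + 1) ≤ Dn G K (i + 1) := by
  rintro g ⟨hg, hg'⟩
  have hG : g ∈ Subgroup.normalizer (G : Set Γ) := Subgroup.le_normalizer (res_le G i hg.1)
  refine ⟨hg', Subgroup.mem_iInf.2 fun p => ?_⟩
  have h := mem_normalizer_inf (Subgroup.mem_iInf.1 hg.2 p) (mem_normalizer_res hG (i + 1))
  rwa [inf_assoc, inf_eq_right.2 (res_succ_le G i)] at h

omit [Finite Γ] in
theorem mem_normalizer_subgroupOf {H L : Subgroup Γ} (hHL : H ≤ L) (x : L) :
    x ∈ Subgroup.normalizer ((H.subgroupOf L : Subgroup L) : Set L) ↔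
      (x : Γ) ∈ Subgroup.normalizer (H : Set Γ) := by
  simp only [Subgroup.mem_normalizer_iff, Subgroup.mem_subgroupOf, Subgroup.coe_mul,
    Subgroup.coe_inv]
  refine ⟨fun h y => ?_, fun h y => h y⟩
  by_cases hy : y ∈ L
  · exact h ⟨y, hy⟩
  · refine iff_of_false (fun h' => hy (hHL h')) fun h' => hy ?_
    have := L.mul_mem (L.mul_mem (L.inv_mem x.2) (hHL h')) x.2
    rwa [show (x : Γ)⁻¹ * (x * y * (x : Γ)⁻¹) * x = y by group] at this

theorem Sys.isComplementSystem (S : Sys G a r K) (i : ℕ) :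
    Cfsg.IsComplementSystem fun p => (K p ⊓ res G i).subgroupOf (res G i) := by
  intro p
  refine CfsgLib.Base.index_eq_ordProj p.2 _ (fun q hq hd => ?_) fun hd => ?_
  · haveI : ((res G i).subgroupOf G).Normal :=
      Subgroup.normal_subgroupOf_of_le_normalizer fun g hg =>
        mem_normalizer_res (Subgroup.le_normalizer hg) i
    by_contra hne
    refine (S.hall p).2.2 q hq hne (hd.trans ?_)
    show (K p ⊓ res G i).relIndex (res G i) ∣ (K p).relIndex G
    rw [Subgroup.inf_relIndex_right, ← Subgroup.relIndex_subgroupOf (res_le G i) (H := K p)]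
    exact CfsgLib.SolvStruct.relIndex_dvd_index_of_normal_right _ _
  · refine (S.hall p).2.1 p p.2 (hd.trans ?_) rfl
    rw [CfsgLib.Base.card_subgroupOf inf_le_right]
    exact Subgroup.card_dvd_of_le inf_le_left

omit [Finite Γ] in
theorem Dn_subgroupOf (i : ℕ) :
    Cfsg.systemNormalizer (fun p => (K p ⊓ res G i).subgroupOf (res G i)) =
      (Dn G K i).subgroupOf (res G i) := by
  ext x
  rw [Cfsg.systemNormalizer, Subgroup.mem_iInf, Subgroup.mem_subgroupOf, Dn, Subgroup.mem_inf,
    Subgroup.mem_iInf]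
  exact ⟨fun h => ⟨x.2, fun p => (mem_normalizer_subgroupOf inf_le_right x).1 (h p)⟩,
    fun h p => (mem_normalizer_subgroupOf inf_le_right x).2 (h.2 p)⟩

theorem Sys.solvable_res (S : Sys G a r K) (i : ℕ) : Group.IsSolvable (res G i) := by
  haveI := S.solvable
  exact Group.isSolvable_of_isSolvable_injective (Subgroup.inclusion_injective (res_le G i))

theorem Sys.nilpotent_Dn (S : Sys G a r K) (i : ℕ) : Group.IsNilpotent (Dn G K i) := by
  haveI := S.solvable_res i
  have h := CfsgLib.SolvStruct.isNilpotent_systemNormalizer (S.isComplementSystem i)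
  rw [Dn_subgroupOf] at h
  haveI := h
  exact Group.nilpotent_of_surjective
    (Subgroup.subgroupOfEquivOfLe (Dn_le (G := G) (K := K) i)).toMonoidHom
    (Subgroup.subgroupOfEquivOfLe (Dn_le (G := G) (K := K) i)).surjective

/-- The system normaliser covers the top nilpotent quotient. -/
theorem Sys.res_le_sup (S : Sys G a r K) (i : ℕ) : res G i ≤ Dn G K i ⊔ res G (i + 1) := by
  haveI := S.solvable_res i
  set L := res G i with hL
  haveI hN : ((res G (i + 1)).subgroupOf L).Normal :=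
    Subgroup.normal_subgroupOf_of_le_normalizer fun g hg =>
      mem_normalizer_res (Subgroup.le_normalizer (res_le G i hg)) (i + 1)
  set N := (res G (i + 1)).subgroupOf L
  obtain ⟨k, hk⟩ := exists_series_eq G i
  haveI : Group.IsNilpotent (L ⧸ N) := by
    refine Subgroup.nilpotent_iff_lowerCentralSeries.2 ⟨k, ?_⟩
    rw [← Subgroup.map_top_of_surjective (QuotientGroup.mk' N) (QuotientGroup.mk'_surjective N),
      ← Subgroup.map_lowerCentralSeries, Subgroup.map_eq_bot_iff, QuotientGroup.ker_mk']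
    intro x hx
    show (x : Γ) ∈ res G (i + 1)
    rw [← hk k le_rfl, ← Subgroup.top_subtype_lowerCentralSeries]
    exact ⟨x, hx, rfl⟩
  have h1 := CfsgLib.SolvStruct.systemNormalizer_map (S.isComplementSystem i) N
  rw [CfsgLib.SolvStruct.systemNormalizer_eq_top_of_nilpotent
    (CfsgLib.SolvStruct.isComplementSystem_map (S.isComplementSystem i) N), Dn_subgroupOf] at h1
  intro x hx
  obtain ⟨d, hd, hdx⟩ := h1.le (Subgroup.mem_top (QuotientGroup.mk' N ⟨x, hx⟩))
  have hm : d⁻¹ * ⟨x, hx⟩ ∈ N := QuotientGroup.eq.1 hdx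
  have := Subgroup.mul_mem_sup (show (d : Γ) ∈ Dn G K i from hd)
    (show ((d⁻¹ * ⟨x, hx⟩ : L) : Γ) ∈ res G (i + 1) from hm)
  simpa using this

theorem Sys.res_succ_ne (S : Sys G a r K) {h i : ℕ} (hh : res G h ≠ ⊥) (hi : i ≤ h) :
    res G (i + 1) ≠ res G i := by
  intro heq
  haveI := S.solvable_res i
  have hne : res G i ≠ ⊥ := fun h0 => hh (le_bot_iff.1 (h0 ▸ res_antitone G hi))
  haveI : Nontrivial (res G i) := (Subgroup.nontrivial_iff_ne_bot _).2 hne
  have h1 : res G i ≤ (res G i).lowerCentralSeries 1 := heq.ge.trans (res_succ_le_series G i 1)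
  rw [← Subgroup.top_subtype_lowerCentralSeries] at h1
  refine (Group.IsSolvable.commutator_lt_top_of_nontrivial (res G i)).ne ?_
  rw [eq_top_iff]
  intro x _
  obtain ⟨y, hy, hyx⟩ := h1 x.2
  rw [Subgroup.top_lowerCentralSeries_one] at hy
  rwa [← show y = x from Subtype.ext hyx]

end CfsgLib.TurullFit
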