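import Cfsg.Agent.Lib.CNGroups.Basic
import Cfsg.Agent.Lib.Base.Transport
import Cfsg.Agent.Lib.Base.Carter
import Cfsg.Agent.Lib.SolvStruct.SystemNormalizer

/-!
# Primary parts of nilpotent subgroups and kernels of actions on sections
-/

set_option autoImplicit false
set_option linter.style.haveILetI false

open scoped commutatorElement

namespace CfsgLib.TurullFit

universe u

variable {Γ : Type u} [Group Γ]

theorem mem_normalizer_of_conj_mem [Finite Γ] {H : Subgroup Γ} {g : Γ}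
    (h : ∀ x ∈ H, g * x * g⁻¹ ∈ H) : g ∈ Subgroup.normalizer (H : Set Γ) := by
  rw [← CfsgLib.Base.map_conj_eq_self_iff]
  refine Subgroup.eq_of_le_of_card_ge ?_ (le_of_eq (CfsgLib.Base.card_map_conj g H).symm)
  rintro _ ⟨x, hx, rfl⟩
  exact h x hx

theorem conj_mem_of_mem_normalizer {H : Subgroup Γ} {g x : Γ}
    (hg : g ∈ Subgroup.normalizer (H : Set Γ)) (hx : x ∈ H) : g * x * g⁻¹ ∈ H :=
  (Subgroup.mem_normalizer_iff.1 hg x).1 hx

theorem mem_normalizer_iSup {ι : Sort*} {H : ι → Subgroup Γ} {g : Γ}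
    (h : ∀ i, g ∈ Subgroup.normalizer (H i : Set Γ)) :
    g ∈ Subgroup.normalizer ((⨆ i, H i : Subgroup Γ) : Set Γ) := by
  rw [← CfsgLib.Base.map_conj_eq_self_iff, Subgroup.map_iSup]
  exact iSup_congr fun i => CfsgLib.Base.map_conj_eq_self_iff.2 (h i)

theorem mem_normalizer_sup {H K : Subgroup Γ} {g : Γ}
    (h1 : g ∈ Subgroup.normalizer (H : Set Γ)) (h2 : g ∈ Subgroup.normalizer (K : Set Γ)) :
    g ∈ Subgroup.normalizer ((H ⊔ K : Subgroup Γ) : Set Γ) := by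
  rw [← CfsgLib.Base.map_conj_eq_self_iff, Subgroup.map_sup,
    CfsgLib.Base.map_conj_eq_self_iff.2 h1, CfsgLib.Base.map_conj_eq_self_iff.2 h2]

theorem mem_normalizer_inf {H K : Subgroup Γ} {g : Γ}
    (h1 : g ∈ Subgroup.normalizer (H : Set Γ)) (h2 : g ∈ Subgroup.normalizer (K : Set Γ)) :
    g ∈ Subgroup.normalizer ((H ⊓ K : Subgroup Γ) : Set Γ) := by
  refine Subgroup.mem_normalizer_iff.2 fun x => ?_
  exact and_congr (Subgroup.mem_normalizer_iff.1 h1 x) (Subgroup.mem_normalizer_iff.1 h2 x)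

theorem mem_normalizer_closure [Finite Γ] {S : Set Γ} {g : Γ} (h : ∀ x ∈ S, g * x * g⁻¹ ∈ S) :
    g ∈ Subgroup.normalizer ((Subgroup.closure S : Subgroup Γ) : Set Γ) := by
  refine mem_normalizer_of_conj_mem fun x hx => ?_
  induction hx using Subgroup.closure_induction with
  | mem x hx => exact Subgroup.subset_closure (h x hx)
  | one => simp
  | mul x y _ _ hx hy =>
    have := mul_mem hx hy
    rwa [show g * x * g⁻¹ * (g * y * g⁻¹) = g * (x * y) * g⁻¹ by group] at this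
  | inv x _ hx =>
    have := inv_mem hx
    rwa [show (g * x * g⁻¹)⁻¹ = g * x⁻¹ * g⁻¹ by group] at this

theorem orderOf_conj_eq (g x : Γ) : orderOf (g * x * g⁻¹) = orderOf x :=
  orderOf_injective (MulAut.conj g).toMonoidHom (MulAut.conj g).injective x

/-- The subgroup generated by the `p`-elements of `D`. -/
def pp (p : ℕ) (D : Subgroup Γ) : Subgroup Γ :=
  Subgroup.closure {x | x ∈ D ∧ ∃ k, orderOf x = p ^ k}

/-- The subgroup generated by the elements of `D` of order prime to `p`. -/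
def np (p : ℕ) (D : Subgroup Γ) : Subgroup Γ :=
  Subgroup.closure {x | x ∈ D ∧ ¬ p ∣ orderOf x}

theorem pp_le (p : ℕ) (D : Subgroup Γ) : pp p D ≤ D :=
  (Subgroup.closure_le _).2 fun _ hx => hx.1

theorem np_le (p : ℕ) (D : Subgroup Γ) : np p D ≤ D :=
  (Subgroup.closure_le _).2 fun _ hx => hx.1

theorem mem_pp {p : ℕ} {D : Subgroup Γ} {x : Γ} (hx : x ∈ D) {k : ℕ} (h : orderOf x = p ^ k) :
    x ∈ pp p D := Subgroup.subset_closure ⟨hx, k, h⟩

theorem mem_np {p : ℕ} {D : Subgroup Γ} {x : Γ} (hx : x ∈ D) (h : ¬ p ∣ orderOf x) :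
    x ∈ np p D := Subgroup.subset_closure ⟨hx, h⟩

theorem normalizer_le_pp [Finite Γ] {p : ℕ} {D : Subgroup Γ} {g : Γ}
    (hg : g ∈ Subgroup.normalizer (D : Set Γ)) : g ∈ Subgroup.normalizer (pp p D : Set Γ) :=
  mem_normalizer_closure fun x hx =>
    ⟨conj_mem_of_mem_normalizer hg hx.1, by rw [orderOf_conj_eq]; exact hx.2⟩

theorem normalizer_le_np [Finite Γ] {p : ℕ} {D : Subgroup Γ} {g : Γ}
    (hg : g ∈ Subgroup.normalizer (D : Set Γ)) : g ∈ Subgroup.normalizer (np p D : Set Γ) :=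
  mem_normalizer_closure fun x hx =>
    ⟨conj_mem_of_mem_normalizer hg hx.1, by rw [orderOf_conj_eq]; exact hx.2⟩

variable [Finite Γ]

theorem isPGroup_pp {p : ℕ} [Fact p.Prime] {D : Subgroup Γ} (hD : Group.IsNilpotent D) :
    IsPGroup p (pp p D) := by
  haveI := hD
  let P : Sylow p D := default
  have hall : ∀ (q : ℕ) (_ : Fact q.Prime) (S : Sylow q D), (S : Subgroup D).Normal :=
    ((Group.isNilpotent_of_finite_tfae (G := D)).out 0 3 rfl rfl).1 hD
  haveI hn : (P : Subgroup D).Normal := hall p inferInstance P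
  refine (P.2.map D.subtype).to_le ((Subgroup.closure_le _).2 ?_)
  rintro x ⟨hx, k, hk⟩
  have hpg : IsPGroup p (Subgroup.zpowers (⟨x, hx⟩ : D)) :=
    IsPGroup.of_card (n := k) (by rw [Nat.card_zpowers, Subgroup.orderOf_mk, hk])
  obtain ⟨S, hS⟩ := hpg.exists_le_sylow
  letI := Sylow.unique_of_normal P hn
  rw [Subsingleton.elim S P] at hS
  exact ⟨⟨x, hx⟩, hS (Subgroup.mem_zpowers _), rfl⟩

theorem not_dvd_card_np {p : ℕ} (hp : p.Prime) {D : Subgroup Γ} (hD : Group.IsNilpotent D) :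
    ¬ p ∣ Nat.card (np p D) := by
  haveI := hD
  haveI : Group.IsSolvable D := inferInstance
  obtain ⟨H, hH⟩ := CfsgLib.Base.exists_pComplement (G := D) hp
  have hcard := CfsgLib.SolvStruct.not_dvd_card_of_index hp hH
  haveI : H.Normal := CfsgLib.Base.normal_of_coprime_index (by
    rw [hH]
    exact Nat.Coprime.pow_right _ ((Nat.Prime.coprime_iff_not_dvd hp).2 hcard).symm)
  have hle : np p D ≤ H.map D.subtype := by
    refine (Subgroup.closure_le _).2 ?_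
    rintro x ⟨hx, hord⟩
    refine ⟨⟨x, hx⟩, ?_, rfl⟩
    show (⟨x, hx⟩ : D) ∈ H
    rw [← QuotientGroup.eq_one_iff, ← orderOf_eq_one_iff]
    have h1 : orderOf (((⟨x, hx⟩ : D)) : D ⧸ H) ∣ orderOf x := by
      have := orderOf_map_dvd (QuotientGroup.mk' H) (⟨x, hx⟩ : D)
      rwa [Subgroup.orderOf_mk] at this
    have h2 : orderOf (((⟨x, hx⟩ : D)) : D ⧸ H) ∣ p ^ (Nat.card D).factorization p := by
      rw [← hH, Subgroup.index_eq_card]
      exact orderOf_dvd_natCard _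
    obtain ⟨i, -, hi⟩ := (Nat.dvd_prime_pow hp).1 h2
    rcases i with _ | i
    · simpa using hi
    · exact absurd ((dvd_pow_self p (Nat.succ_ne_zero i)).trans (hi ▸ h1)) hord
  intro hdvd
  refine hcard (hdvd.trans ((Subgroup.card_dvd_of_le hle).trans ?_))
  rw [CfsgLib.Base.card_map_subtype]

theorem commute_pp_np {p : ℕ} (hp : p.Prime) {D : Subgroup Γ} (hD : Group.IsNilpotent D) {x y : Γ}
    (hx : x ∈ pp p D) (hy : y ∈ np p D) : x * y = y * x := by
  haveI : Fact p.Prime := ⟨hp⟩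
  obtain ⟨k, hk⟩ := IsPGroup.iff_orderOf.1 (isPGroup_pp hD) ⟨x, hx⟩
  rw [Subgroup.orderOf_mk] at hk
  have hyo : ¬ p ∣ orderOf y := fun h => not_dvd_card_np hp hD (h.trans (by
    rw [← Subgroup.orderOf_mk y hy]; exact orderOf_dvd_natCard _))
  exact CfsgLib.CNGroups.commute_of_coprime hD (pp_le _ _ hx) (np_le _ _ hy) (by
    rw [hk]
    exact Nat.Coprime.pow_left _ ((Nat.Prime.coprime_iff_not_dvd hp).2 hyo))

theorem mem_np_of_mem_pp {p q : ℕ} (hp : p.Prime) (hq : q.Prime) (hne : q ≠ p) {D : Subgroup Γ}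
    (hD : Group.IsNilpotent D) {x : Γ} (hx : x ∈ pp q D) : x ∈ np p D := by
  haveI : Fact q.Prime := ⟨hq⟩
  obtain ⟨k, hk⟩ := IsPGroup.iff_orderOf.1 (isPGroup_pp hD) ⟨x, hx⟩
  rw [Subgroup.orderOf_mk] at hk
  refine mem_np (pp_le _ _ hx) fun h => hne ?_
  rw [hk] at h
  exact ((Nat.prime_dvd_prime_iff_eq hp hq).1 (hp.dvd_of_dvd_pow h)).symm

/-- A nilpotent subgroup is generated by two complementary parts. -/
theorem le_pp_sup_np {p : ℕ} (hp : p.Prime) (D : Subgroup Γ) : D ≤ pp p D ⊔ np p D := by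
  intro x hx
  obtain ⟨m, hm, hmul⟩ : ∃ m, ¬ p ∣ m ∧ p ^ (orderOf x).factorization p * m = orderOf x :=
    ⟨orderOf x / p ^ (orderOf x).factorization p,
      Nat.not_dvd_ordCompl hp (orderOf_pos x).ne',
      Nat.ordProj_mul_ordCompl_eq_self _ _⟩
  set e := (orderOf x).factorization p
  have hm0 : m ≠ 0 := by rintro rfl; exact hm (dvd_zero p)
  have hpe : p ^ e ≠ 0 := pow_ne_zero _ hp.ne_zero
  have h1 : x ^ m ∈ pp p D := mem_pp (D.pow_mem hx m) (k := e) (by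
    rw [orderOf_pow_of_dvd hm0 ⟨p ^ e, by rw [← hmul, mul_comm]⟩, ← hmul,
      Nat.mul_div_cancel _ (Nat.pos_of_ne_zero hm0)])
  have h2 : x ^ p ^ e ∈ np p D := mem_np (D.pow_mem hx _) (by
    rw [orderOf_pow_of_dvd hpe ⟨m, hmul.symm⟩, ← hmul,
      Nat.mul_div_cancel_left _ (Nat.pos_of_ne_zero hpe)]
    exact hm)
  have hg : Nat.gcd m (p ^ e) = 1 :=
    Nat.Coprime.pow_right _ ((Nat.Prime.coprime_iff_not_dvd hp).2 hm).symm
  have hz : x ^ (1 : ℤ) ∈ pp p D ⊔ np p D := by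
    rw [show (1 : ℤ) = ((Nat.gcd m (p ^ e) : ℕ) : ℤ) by rw [hg]; rfl, Nat.gcd_eq_gcd_ab m (p ^ e),
      zpow_add, zpow_mul, zpow_mul, zpow_natCast, zpow_natCast]
    exact mul_mem (Subgroup.zpow_mem _ (le_sup_left (b := np p D) h1) _)
      (Subgroup.zpow_mem _ (le_sup_right (a := pp p D) h2) _)
  simpa using hz

/-- A subgroup containing all primary parts contains the group. -/
theorem exists_pp_not_le {D K : Subgroup Γ} (h : ¬ D ≤ K) :
    ∃ q : ℕ, q.Prime ∧ q ∣ Nat.card D ∧ ¬ pp q D ≤ K := by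
  by_contra hno
  push Not at hno
  refine h ?_
  have hdvd : Nat.card D ∣ Nat.card (K ⊓ D : Subgroup Γ) := by
    rw [Nat.dvd_iff_prime_pow_dvd_dvd]
    intro q k hq hqk
    rcases k with _ | k
    · simp
    haveI : Fact q.Prime := ⟨hq⟩
    let P : Sylow q D := default
    have hle : (P : Subgroup D).map D.subtype ≤ K ⊓ D := by
      rintro _ ⟨x, hx, rfl⟩
      refine ⟨hno q hq ((dvd_pow_self q (Nat.succ_ne_zero k)).trans hqk) ?_, x.2⟩
      obtain ⟨i, hi⟩ := IsPGroup.iff_orderOf.1 P.2 ⟨x, hx⟩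
      exact mem_pp x.2 (k := i) (by
        rw [Subgroup.coe_subtype, Subgroup.orderOf_coe]
        rw [Subgroup.orderOf_mk] at hi
        exact hi)
    refine dvd_trans ?_ (Subgroup.card_dvd_of_le hle)
    rw [CfsgLib.Base.card_map_subtype, P.card_eq_multiplicity]
    exact pow_dvd_pow q ((Nat.Prime.pow_dvd_iff_le_factorization hq Nat.card_pos.ne').1 hqk)
  have heq : K ⊓ D = D := Subgroup.eq_of_le_of_card_ge inf_le_right
    (Nat.le_of_dvd Nat.card_pos hdvd)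
  exact heq.ge.trans inf_le_left

omit [Finite Γ] in
/-- The elements of `X` normalising `P` and `Q` and acting trivially on `P` modulo `Q`. -/
def kerS (X P Q : Subgroup Γ) : Subgroup Γ where
  carrier := {x | x ∈ X ∧ x ∈ Subgroup.normalizer (Q : Set Γ) ∧ ∀ d ∈ P, ⁅x, d⁆ ∈ Q}
  one_mem' := ⟨X.one_mem, one_mem _, fun d _ => by simp⟩
  mul_mem' := fun {x y} hx hy => ⟨X.mul_mem hx.1 hy.1, mul_mem hx.2.1 hy.2.1, fun d hd => by
    rw [show ⁅x * y, d⁆ = x * ⁅y, d⁆ * x⁻¹ * ⁅x, d⁆ by simp only [commutatorElement_def]; group]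
    exact Q.mul_mem (conj_mem_of_mem_normalizer hx.2.1 (hy.2.2 d hd)) (hx.2.2 d hd)⟩
  inv_mem' := fun {x} hx => ⟨X.inv_mem hx.1, inv_mem hx.2.1, fun d hd => by
    rw [show ⁅x⁻¹, d⁆ = x⁻¹ * ⁅x, d⁆⁻¹ * (x⁻¹)⁻¹ by simp only [commutatorElement_def]; group]
    exact conj_mem_of_mem_normalizer (inv_mem hx.2.1) (Q.inv_mem (hx.2.2 d hd))⟩

theorem normalizer_le_kerS {X P Q : Subgroup Γ} {g : Γ}
    (hX : g ∈ Subgroup.normalizer (X : Set Γ)) (hP : g ∈ Subgroup.normalizer (P : Set Γ))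
    (hQ : g ∈ Subgroup.normalizer (Q : Set Γ)) :
    g ∈ Subgroup.normalizer (kerS X P Q : Set Γ) := by
  refine mem_normalizer_of_conj_mem fun x hx => ⟨conj_mem_of_mem_normalizer hX hx.1,
    mul_mem (mul_mem hQ hx.2.1) (inv_mem hQ), fun d hd => ?_⟩
  have h1 : g⁻¹ * d * g ∈ P := by simpa using conj_mem_of_mem_normalizer (inv_mem hP) hd
  rw [show ⁅g * x * g⁻¹, d⁆ = g * ⁅x, g⁻¹ * d * g⁆ * g⁻¹ by
    simp only [commutatorElement_def]; group]
  exact conj_mem_of_mem_normalizer hQ (hx.2.2 _ h1)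

end CfsgLib.TurullFit
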